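import Cfsg.Agent.Lib.Invol.JankoWard.CaseATau

/-!
Case A of the field part: lifting from `C(b)/⟨b⟩`, `b` in the field part.
-/

set_option autoImplicit false
set_option linter.unusedSectionVars false
set_option linter.style.haveILetI false

open scoped Classical

namespace Cfsg.Agent.Invol.JankoWard

open Subgroup

universe u v

variable {G : Type u} [Group G] [Finite G] {b : G}

theorem quot_ker (x : ↥(centralizer ({b} : Set G))) : quotMk b x = 1 ↔ (x : G) ∈ zpowers b :=
  QuotientGroup.eq_one_iff x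

/-- The order of the quotient. -/
theorem card_quot (b : G) : Nat.card (QuotR b) * orderOf b = Nat.card ↥(centralizer ({b} : Set G)) := by
  rw [← Nat.card_zpowers b, ← Nat.card_congr (Subgroup.subgroupOfEquivOfLe
    (zpowers_le.2 (mem_centralizer_singleton_iff.2 rfl : b ∈ centralizer ({b} : Set G)))).toEquiv]
  exact ((zpowers b).subgroupOf (centralizer ({b} : Set G))).card_eq_card_quotient_mul_card_subgroup.symm

/-- Elements whose images commute commute, if the order of one is prime to that of `b`. -/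
theorem lift_commute {x y : ↥(centralizer ({b} : Set G))} {m : ℕ} (hy : (y : G) ^ m = 1)
    (hco : m.Coprime (orderOf b)) (h : Commute (quotMk b x) (quotMk b y)) : Commute (x : G) y := by
  have h1 : quotMk b (x * y * x⁻¹ * y⁻¹) = 1 := by
    rw [map_mul, map_mul, map_mul, map_inv, map_inv, h.eq, mul_inv_cancel_right, mul_inv_cancel]
  obtain ⟨i, hi⟩ := mem_zpowers_iff.1 ((quot_ker _).1 h1)
  have hib : (x : G) * y * (x : G)⁻¹ = b ^ i * y := by
    rw [hi]
    show (x : G) * y * (x : G)⁻¹ = (x : G) * y * (x : G)⁻¹ * (y : G)⁻¹ * y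
    group
  have hc : Commute (b ^ i) (y : G) :=
    ((show Commute (y : G) b from mem_centralizer_singleton_iff.1 y.2).symm.zpow_left i)
  have h2 : (b ^ i) ^ m = 1 := by
    have h3 := congrArg (fun z => z ^ m) hib
    simp only [conj_pow, hc.mul_pow, hy, mul_one, mul_inv_cancel] at h3
    exact h3.symm
  have h4 : b ^ i = 1 := orderOf_eq_one_iff.1 (Nat.dvd_one.1 (hco ▸ Nat.dvd_gcd (orderOf_dvd_of_pow_eq_one h2)
    (Nat.card_zpowers b ▸ (zpowers b).orderOf_dvd_natCard (zpow_mem (mem_zpowers b) i))))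
  rw [h4, one_mul] at hib
  exact mul_inv_eq_iff_eq_mul.1 hib

/-- A `2`-element of the quotient is the image of a `2`-element. -/
theorem lift_two (hb : Odd (orderOf b)) (x : QuotR b) {k : ℕ} (hx : x ^ 2 ^ k = 1) :
    ∃ c : ↥(centralizer ({b} : Set G)), quotMk b c = x ∧ (c : G) ^ 2 ^ k = 1 := by
  obtain ⟨c, rfl⟩ := QuotientGroup.mk'_surjective _ x
  obtain ⟨i, hi⟩ := mem_zpowers_iff.1 ((quot_ker _).1 (show quotMk b (c ^ 2 ^ k) = 1 by rw [map_pow]; exact hx))
  have hco : (orderOf b).Coprime (orderOf (quotMk b c)) :=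
    Nat.Coprime.coprime_dvd_right (orderOf_dvd_of_pow_eq_one hx) ((Nat.coprime_two_right.2 hb).pow_right k)
  obtain ⟨m, hm⟩ := exists_pow_eq_self_of_coprime hco
  refine ⟨(c ^ orderOf b) ^ m, by rw [map_pow, map_pow]; exact hm, ?_⟩
  rw [Subgroup.coe_pow, Subgroup.coe_pow, ← pow_mul, ← pow_mul,
    show orderOf b * (m * 2 ^ k) = 2 ^ k * (orderOf b * m) by ring, pow_mul, ← Subgroup.coe_pow, ← hi,
    ← zpow_natCast, ← zpow_mul, mul_comm, zpow_mul, zpow_natCast, pow_mul, pow_orderOf_eq_one, one_pow, one_zpow]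

namespace ExtBase

variable {P : Type v} [Group P] [Finite P] (S : ExtBase G P)

theorem t_cent {b : G} (hb : b ∈ S.Fld) : S.t ∈ centralizer ({b} : Set G) :=
  mem_centralizer_singleton_iff.2 (S.Ft b hb).symm

/-- The image of `t`. -/
abbrev tq {b : G} (hb : b ∈ S.Fld) : QuotR b := quotMk b ⟨S.t, S.t_cent hb⟩

theorem tq_ord {b : G} (hb : b ∈ S.Fld) : orderOf (S.tq hb) = 2 := by
  refine orderOf_eq_prime (by rw [← map_pow, show (⟨S.t, S.t_cent hb⟩ : ↥(centralizer ({b} : Set G))) ^ 2 = 1 from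
    Subtype.ext (by rw [Subgroup.coe_pow, pow_two]; exact S.tt), map_one]) fun h => ?_
  obtain ⟨i, hi⟩ := mem_zpowers_iff.1 ((quot_ker _).1 h)
  obtain ⟨m, hm⟩ := S.F_odd_order hb
  have h1 : (b ^ i) ^ (2 * m + 1) = 1 := by
    rw [← hm, ← zpow_natCast, ← zpow_mul, mul_comm, zpow_mul, zpow_natCast, pow_orderOf_eq_one, one_zpow]
  rw [hi, pow_succ, pow_mul, pow_two, S.tt, one_pow, one_mul] at h1
  exact S.t_ne h1

theorem quot_sq (A : Amb G) {b : G} (hb : b ∈ S.Fld) (x : QuotR b) (hx : ∃ k, x ^ 2 ^ k = 1) : x * x = 1 := by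
  obtain ⟨k, hk⟩ := hx
  obtain ⟨c, rfl, hc⟩ := lift_two (S.F_odd_order hb) x hk
  rw [← map_mul, show c * c = 1 from Subtype.ext (A.sq2 _ ⟨k, hc⟩), map_one]

/-- An involution commuting with `t` and with an element `ι k`, whose centraliser in `C_P(b)` has no involution, is
`t`, if `b` generates the field part. -/
theorem quot_only {b : G} (hb : b ∈ S.Fld) (hgen : S.Fld ≤ zpowers b) {k : P}
    (hkb : S.ι k ∈ centralizer ({b} : Set G)) {m : ℕ} (hk : k ^ m = 1) (hco : m.Coprime (orderOf b))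
    (hfact : ∀ k' : P, S.ι k' ∈ centralizer ({b} : Set G) → k' * k' = 1 → k' * k = k * k' → k' = 1)
    (s : QuotR b) (hs : s * s = 1) (hs1 : s ≠ 1) (hst : Commute s (S.tq hb))
    (hsy : Commute s (quotMk b ⟨S.ι k, hkb⟩)) : s = S.tq hb := by
  obtain ⟨c, rfl, hc⟩ := lift_two (S.F_odd_order hb) s (k := 1) (by rw [pow_one, pow_two]; exact hs)
  rw [pow_one, pow_two] at hc
  have hct : Commute (c : G) S.t := lift_commute (y := ⟨S.t, S.t_cent hb⟩) (m := 2)
    (by rw [pow_two]; exact S.tt) (Nat.coprime_two_left.2 (S.F_odd_order hb)) hst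
  have hcy : Commute (c : G) (S.ι k) := lift_commute (y := ⟨S.ι k, hkb⟩) (m := m)
    (by rw [← map_pow, hk, map_one]) hco hsy
  obtain ⟨k', f, hf, e⟩ := S.cover (c : G) hct.eq
  have hfb : ∀ x ∈ centralizer ({b} : Set G), Commute x f := fun x hx => by
    obtain ⟨i, rfl⟩ := mem_zpowers_iff.1 (hgen hf)
    exact (show Commute x b from mem_centralizer_singleton_iff.1 hx).zpow_right i
  have hk'X : S.ι k' ∈ centralizer ({b} : Set G) := by
    have hfX : f ∈ centralizer ({b} : Set G) := mem_centralizer_singleton_iff.2 (S.F_comm hf hb)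
    rcases e with e | e
    · rw [show S.ι k' = (c : G) * f⁻¹ by rw [e, mul_inv_cancel_right]]
      exact mul_mem c.2 (inv_mem hfX)
    · rw [show S.ι k' = S.t⁻¹ * (c : G) * f⁻¹ by rw [e]; group]
      exact mul_mem (mul_mem (inv_mem (S.t_cent hb)) c.2) (inv_mem hfX)
  have hkf : Commute (S.ι k') f := hfb _ hk'X
  have htf : Commute S.t f := (S.Ft f hf).symm
  have hkt : Commute S.t (S.ι k') := (S.tc k').symm
  have key : ∀ w : G, w = S.ι k' * f → w * w = 1 → Commute w (S.ι k) → k' = 1 ∧ f = 1 := by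
    intro w hw hw2 hwk
    rw [hw, hkf.symm.mul_mul_mul_comm, ← map_mul] at hw2
    have hff : f * f = S.ι (k' * k')⁻¹ := by rw [map_inv]; exact eq_inv_of_mul_eq_one_right hw2
    have hf2 := S.F_disj _ (mul_mem hf hf) _ hff
    have hf1 : f = 1 := by
      refine eq_one_of_two_odd ⟨1, by rw [pow_one, pow_two, hf2]⟩ (S.F_odd_order hf) (pow_orderOf_eq_one f)
    rw [hf1, mul_one, mul_one] at hw2
    rw [hw, hf1, mul_one] at hwk
    refine ⟨hfact k' hk'X (S.inj (hw2.trans (map_one _).symm)) (S.inj ?_), hf1⟩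
    rw [map_mul, map_mul]; exact hwk.eq
  rcases e with e | e
  · exfalso
    obtain ⟨rfl, rfl⟩ := key _ e hc hcy
    exact hs1 (by rw [show c = 1 from Subtype.ext (by rw [e, map_one, one_mul]; rfl), map_one])
  · have hw2 : (S.ι k' * f) * (S.ι k' * f) = 1 := by
      rw [e] at hc
      rwa [((hkt.mul_right htf)).symm.mul_mul_mul_comm, S.tt, one_mul] at hc
    have hwk : Commute (S.ι k' * f) (S.ι k) := by
      have h1 : Commute S.t (S.ι k) := (S.tc k).symm
      rw [show S.ι k' * f = S.t⁻¹ * (c : G) by rw [e]; group]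
      exact h1.inv_left.mul_left hcy
    obtain ⟨rfl, rfl⟩ := key _ rfl hw2 hwk
    exact congrArg (quotMk b) (Subtype.ext (by rw [e, map_one, one_mul, mul_one]))

end ExtBase

end Cfsg.Agent.Invol.JankoWard
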