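import Cfsg.Agent.Lib.Invol.JankoWard.CaseDModule
import Cfsg.Agent.Lib.Grp.Solvable
import Cfsg.Agent.Lib.Grp.PComponents
import Cfsg.Agent.S0205

/-!
Case D of the field part of the Janko–Thompson–Ward theorem, the soluble step: in a group
of odd order with an involutory automorphism whose fixed points are generated by `u` and
`φ`, and with a small centralizer of `φ`, the element `φ` is not in the derived group.
-/

set_option autoImplicit false
set_option linter.unusedSectionVars false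

namespace Cfsg.Agent.Invol.JankoWard.CaseD

open Subgroup
open scoped commutatorElement

universe u

variable {K : Type u} [Group K] [Finite K]

theorem map_mem_char (H : Subgroup K) [H.Characteristic] (τ : K ≃* K) {x : K} (hx : x ∈ H) :
    τ x ∈ H := by
  have h := Subgroup.mem_map_of_mem τ.toMonoidHom hx
  rwa [Subgroup.characteristic_iff_map_eq.1 inferInstance τ] at h

theorem card_map_quot (N : Subgroup K) [N.Normal] {M : Subgroup K} (h : N ≤ M) :
    Nat.card (M.map (QuotientGroup.mk' N)) * Nat.card N = Nat.card M := by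
  have hidx : (M.map (QuotientGroup.mk' N)).index = M.index :=
    Subgroup.index_map_eq _ (QuotientGroup.mk'_surjective _) (by simpa using h)
  have h1 := M.card_mul_index
  rw [Subgroup.card_eq_card_quotient_mul_card_subgroup N,
    ← (M.map (QuotientGroup.mk' N)).card_mul_index, hidx] at h1
  exact Nat.eq_of_mul_eq_mul_right (Nat.pos_of_ne_zero M.index_ne_zero_of_finite) (by linarith)

theorem zmod_five_cube : ∀ a : ZMod 5, 1 = a * (a * a) → a = 1 := by decide

/-- The automorphism induced on a quotient. -/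
theorem exists_quot_aut (N : Subgroup K) [N.Normal] (τ : K ≃* K) (hτ : ∀ x, τ (τ x) = x)
    (hN : ∀ x ∈ N, τ x ∈ N) :
    ∃ σ : (K ⧸ N) ≃* (K ⧸ N), (∀ x : K, σ x = (τ x : K)) ∧ ∀ y, σ (σ y) = y := by
  have hmap : N.map (τ : K ≃* K).toMonoidHom = N := by
    refine le_antisymm (Subgroup.map_le_iff_le_comap.2 fun x hx => hN x hx) fun x hx => ?_
    exact ⟨τ x, hN x hx, hτ x⟩
  refine ⟨QuotientGroup.congr N N τ hmap, fun x => rfl, fun y => ?_⟩
  obtain ⟨x, rfl⟩ := QuotientGroup.mk_surjective y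
  show ((τ (τ x) : K) : K ⧸ N) = x
  rw [hτ]

/-- An inverted element of prime order in a quotient by a `3`-group is inverted upstairs. -/
theorem inverted_lift (N : Subgroup K) [N.Normal] (hN3 : IsPGroup 3 N) (τ : K ≃* K)
    (hτ : ∀ x, τ (τ x) = x) {g : K} {r : ℕ} (hr : r.Prime) (hr2 : r ≠ 2) (hr3 : r ≠ 3)
    (hgr : g ^ r ∈ N) (hg : g ∉ N) (hgτ : ((τ g : K) : K ⧸ N) = (g : K ⧸ N)⁻¹) :
    ∃ z, τ z = z⁻¹ ∧ z ^ r = 1 ∧ z ∉ N ∧ (z : K ⧸ N) ∈ Subgroup.zpowers (g : K ⧸ N) := by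
  set k := g⁻¹ * τ g with hk
  have hτk : τ k = k⁻¹ := by simp [hk, hτ]
  have hkb : (k : K ⧸ N) = ((g : K ⧸ N) ^ 2)⁻¹ := by
    rw [hk, QuotientGroup.mk_mul, QuotientGroup.mk_inv, hgτ, pow_two, mul_inv_rev]
  have hgr' : (g : K ⧸ N) ^ r = 1 := by
    rw [← QuotientGroup.mk_pow]; exact (QuotientGroup.eq_one_iff _).2 hgr
  have hkr : k ^ r ∈ N := by
    rw [← QuotientGroup.eq_one_iff, QuotientGroup.mk_pow, hkb, inv_pow, ← pow_mul, mul_comm,
      pow_mul, hgr', one_pow, inv_one]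
  obtain ⟨a, ha⟩ := hN3 ⟨k ^ r, hkr⟩
  have ha' : (k ^ r) ^ 3 ^ a = 1 := congrArg Subtype.val ha
  refine ⟨k ^ 3 ^ a, by rw [map_pow, hτk, inv_pow],
    by rw [← pow_mul, mul_comm, pow_mul]; exact ha', fun h => hg ?_, ?_⟩
  · rw [← QuotientGroup.eq_one_iff] at h ⊢
    rw [QuotientGroup.mk_pow, hkb, inv_pow, inv_eq_one, ← pow_mul] at h
    have hco : Nat.Coprime (2 * 3 ^ a) r :=
      Nat.Coprime.mul_left ((Nat.coprime_primes Nat.prime_two hr).2 (Ne.symm hr2))
        (Nat.Coprime.pow_left _ ((Nat.coprime_primes Nat.prime_three hr).2 (Ne.symm hr3)))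
    exact orderOf_eq_one_iff.1 (Nat.eq_one_of_dvd_one ((Nat.dvd_gcd (orderOf_dvd_of_pow_eq_one h)
      (orderOf_dvd_of_pow_eq_one hgr')).trans (dvd_of_eq hco)))
  · rw [QuotientGroup.mk_pow, hkb]
    exact pow_mem (inv_mem (pow_mem (Subgroup.mem_zpowers _) 2)) _

/-- The Fitting subgroup when the fixed points form a `3`-group. -/
theorem fitting_facts (hodd : Odd (Nat.card K)) [Group.IsSolvable K] (h3 : Cfsg.pCore 3 K = ⊥)
    (τ : K ≃* K) (hτ : ∀ x, τ (τ x) = x) {F : Subgroup K} (hF : IsPGroup 3 F)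
    (hfix : ∀ x, τ x = x → x ∈ F) :
    (∀ x ∈ Cfsg.fittingSubgroup K, ∀ n : ℕ, x ^ 3 ^ n = 1 → x = 1) ∧
      (∀ x ∈ Cfsg.fittingSubgroup K, τ x = x⁻¹) ∧
      ∀ g, ∃ f ∈ F, ∃ e ∈ Cfsg.fittingSubgroup K, g = f * e := by
  haveI : Fact (Nat.Prime 3) := ⟨Nat.prime_three⟩
  haveI : (Cfsg.fittingSubgroup K).Normal := Grp.fittingSubgroup_isNormal
  haveI : (Cfsg.fittingSubgroup K).Characteristic := Grp.instCharFitting
  haveI hnil : Group.IsNilpotent (Cfsg.fittingSubgroup K) := Grp.fittingSubgroup_isNilpotent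
  have htriv : ∀ x ∈ Cfsg.fittingSubgroup K, ∀ n : ℕ, x ^ 3 ^ n = 1 → x = 1 := by
    intro x hx n hn
    obtain ⟨P⟩ : Nonempty (Sylow 3 (Cfsg.fittingSubgroup K)) := Sylow.nonempty
    have hPn : (P : Subgroup (Cfsg.fittingSubgroup K)).Normal :=
      (Grp.isNilpotent_iff_sylow_normal.1 hnil) 3 inferInstance P
    haveI : (P : Subgroup (Cfsg.fittingSubgroup K)).Characteristic := P.characteristic_of_normal hPn
    have hxP : (⟨x, hx⟩ : Cfsg.fittingSubgroup K) ∈ (P : Subgroup (Cfsg.fittingSubgroup K)) := by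
      have hzp : IsPGroup 3 (Subgroup.zpowers (⟨x, hx⟩ : Cfsg.fittingSubgroup K)) := by
        obtain ⟨i, -, hi⟩ := (Nat.dvd_prime_pow Nat.prime_three).1 (orderOf_dvd_of_pow_eq_one
          (show (⟨x, hx⟩ : Cfsg.fittingSubgroup K) ^ 3 ^ n = 1 from Subtype.ext hn))
        exact IsPGroup.of_card (n := i) (by rw [Nat.card_zpowers, hi])
      obtain ⟨S, hS⟩ := hzp.exists_le_sylow
      haveI := P.unique_of_normal hPn
      rw [Subsingleton.elim P S]
      exact hS (Subgroup.mem_zpowers _)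
    have hle : (P : Subgroup (Cfsg.fittingSubgroup K)).map (Cfsg.fittingSubgroup K).subtype ≤
        Cfsg.pCore 3 K := Grp.le_pCore inferInstance (P.isPGroup'.map _)
    rw [h3] at hle
    exact Subgroup.mem_bot.1 (hle ⟨_, hxP, rfl⟩)
  have hinv : ∀ x ∈ Cfsg.fittingSubgroup K, τ x = x⁻¹ := by
    intro x hx
    obtain ⟨f, e, rfl, hf, he, hmem⟩ := exists_split_odd hodd τ hτ x
    have he1 : e ∈ Cfsg.fittingSubgroup K :=
      (Subgroup.zpowers_le.2 (mul_mem (inv_mem hx) (map_mem_char _ τ hx))) hmem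
    have hf1 : f ∈ Cfsg.fittingSubgroup K := by simpa using mul_mem hx (inv_mem he1)
    obtain ⟨n, hn⟩ := hF ⟨f, hfix f hf⟩
    rw [htriv f hf1 n (congrArg Subtype.val hn), one_mul]
    exact he
  refine ⟨htriv, hinv, fun g => ?_⟩
  obtain ⟨f, e, rfl, hf, he, -⟩ := exists_split_odd hodd τ hτ g
  refine ⟨f, hfix f hf, e, ?_, rfl⟩
  have hcen : ∀ x ∈ Cfsg.fittingSubgroup K, Commute x (e * e) := by
    intro x hx
    have hy : e * x * e⁻¹ ∈ Cfsg.fittingSubgroup K := Subgroup.Normal.conj_mem inferInstance x hx e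
    have h := hinv _ hy
    rw [map_mul, map_mul, map_inv, he, inv_inv, hinv x hx] at h
    have h2 : e⁻¹ * x⁻¹ * e = e * x⁻¹ * e⁻¹ := by rw [h]; group
    refine Commute.inv_left_iff.1 ?_
    show x⁻¹ * (e * e) = e * e * x⁻¹
    calc x⁻¹ * (e * e) = e * (e⁻¹ * x⁻¹ * e) * e := by group
      _ = e * (e * x⁻¹ * e⁻¹) * e := by rw [h2]
      _ = e * e * x⁻¹ := by group
  have hee : e * e ∈ Cfsg.fittingSubgroup K :=
    Grp.centralizer_fittingSubgroup_le (Subgroup.mem_centralizer_iff.2 fun x hx => (hcen x hx).eq)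
  obtain ⟨m, hm⟩ : Odd (orderOf e) := hodd.of_dvd_nat (orderOf_dvd_natCard e)
  have : e = ((e * e) ^ m)⁻¹ := by
    rw [eq_inv_iff_mul_eq_one, ← pow_two, ← pow_mul, ← pow_succ', ← hm, pow_orderOf_eq_one]
  rw [this]
  exact inv_mem (pow_mem hee m)

/-! ## The layers of a normal `3`-subgroup -/

/-- The step from one term of a series to the next. -/
theorem layer (hodd : Odd (Nat.card K)) (M N : Subgroup K) [M.Normal] [N.Normal] (hNM : N ≤ M)
    (hab : ⁅M, M⁆ ≤ N) (hM3 : IsPGroup 3 M) (τ : K ≃* K) (hτ : ∀ x, τ (τ x) = x)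
    (hMτ : ∀ x ∈ M, τ x ∈ M) (hNτ : ∀ x ∈ N, τ x ∈ N) {z : K} (hzτ : τ z = z⁻¹) {r : ℕ}
    (hr : r.Prime) (hr2 : r ≠ 2) (hr3 : r ≠ 3) (hzr : z ^ r = 1)
    (hne : ∃ v ∈ M, ⁅z, v⁆ ∉ N) (hc : Nat.card M ≤ 81 * Nat.card N) :
    r = 5 ∧ Nat.card M = 81 * Nat.card N ∧ (∀ v ∈ M, ⁅z, v⁆ ∈ N → v ∈ N) ∧
      ∀ w ∈ M, ∃ v ∈ M, ((⁅z, v⁆ : K) : K ⧸ N) = w := by
  obtain ⟨σ, hσ, hσσ⟩ := exists_quot_aut N τ hτ hNτ
  set V := M.map (QuotientGroup.mk' N) with hV
  haveI : V.Normal := Subgroup.Normal.map inferInstance _ (QuotientGroup.mk'_surjective N)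
  have hcard := card_map_quot N hNM
  rw [← hV] at hcard
  have hcomm : ∀ v : K, ⁅(z : K ⧸ N), (v : K ⧸ N)⁆ = ((⁅z, v⁆ : K) : K ⧸ N) := fun v =>
    (map_commutatorElement (QuotientGroup.mk' N) z v).symm
  obtain ⟨h5, h81, hfree, hsurj⟩ := module_step (G := K ⧸ N)
    (hodd.of_dvd_nat (Subgroup.card_quotient_dvd_card N)) V (by
      rintro _ ⟨a, ha, rfl⟩ _ ⟨b, hb, rfl⟩
      exact mem_modC_iff.1 (comm_mem_iff.1 (hab (Subgroup.commutator_mem_commutator ha hb))))
    (hM3.map _) σ hσσ (by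
      rintro _ ⟨x, hx, rfl⟩
      exact ⟨τ x, hMτ x hx, (hσ x).symm⟩)
    (z := (z : K ⧸ N)) (by rw [hσ, hzτ, QuotientGroup.mk_inv]) hr hr2 hr3
    (by rw [← QuotientGroup.mk_pow, hzr, QuotientGroup.mk_one]) (by
      obtain ⟨v, hv, hvN⟩ := hne
      refine ⟨v, ⟨v, hv, rfl⟩, fun hcv => hvN ?_⟩
      exact comm_mem_iff.2 (mem_modC_iff.2 hcv))
    (Nat.le_of_mul_le_mul_right (by rw [hcard]; exact hc) Nat.card_pos)
  refine ⟨h5, by rw [← hcard, h81], fun v hv hvN => ?_, fun w hw => ?_⟩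
  · exact (QuotientGroup.eq_one_iff _).1 (hfree _ ⟨v, hv, rfl⟩ (mem_modC_iff.1 (comm_mem_iff.1 hvN)))
  · obtain ⟨_, ⟨v, hv, rfl⟩, hv'⟩ := hsurj w ⟨w, hw, rfl⟩
    exact ⟨v, hv, (hcomm v).symm.trans hv'⟩

theorem lcs_sub_commutator (Q : Subgroup K) (i j : ℕ) :
    ⁅Q.lowerCentralSeries i, Q.lowerCentralSeries j⁆ ≤ Q.lowerCentralSeries (i + j + 1) := by
  rw [← Subgroup.top_subtype_lowerCentralSeries Q i, ← Subgroup.top_subtype_lowerCentralSeries Q j,
    ← Subgroup.top_subtype_lowerCentralSeries Q (i + j + 1), ← Subgroup.map_commutator]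
  exact Subgroup.map_mono (AssocLie.lcs_commutator j i)

theorem lcs_sub_eq_bot (Q : Subgroup K) (hQ : IsPGroup 3 Q) {i : ℕ}
    (h : Q.lowerCentralSeries i ≤ Q.lowerCentralSeries (i + 1)) : Q.lowerCentralSeries i = ⊥ := by
  haveI : Fact (Nat.Prime 3) := ⟨Nat.prime_three⟩
  haveI : Group.IsNilpotent Q := hQ.isNilpotent
  by_contra hne
  have hne' : (⊤ : Subgroup Q).lowerCentralSeries i ≠ ⊥ := fun e => hne (by
    rw [← Subgroup.top_subtype_lowerCentralSeries Q i, e, Subgroup.map_bot])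
  refine (Transfer.MaxClass.lcs_succ_lt hne').not_ge ?_
  rw [← Subgroup.top_subtype_lowerCentralSeries Q i,
    ← Subgroup.top_subtype_lowerCentralSeries Q (i + 1)] at h
  exact (Subgroup.map_le_map_iff_of_injective Q.subtype_injective).1 h

/-- An element acting trivially on `Q / Q'` centralizes the `3`-group `Q`. -/
theorem stable (Q : Subgroup K) [Q.Characteristic] (hQ : IsPGroup 3 Q) {z : K} {r : ℕ}
    (hr : r.Prime) (hr3 : r ≠ 3) (hzr : z ^ r = 1)
    (h : ∀ v ∈ Q, ⁅z, v⁆ ∈ Q.lowerCentralSeries 1) : ∀ v ∈ Q, Commute z v := by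
  haveI : ∀ i, (Q.lowerCentralSeries i).Normal := fun i => inferInstance
  have hstep : ∀ i, ⁅Q.lowerCentralSeries i, Subgroup.zpowers z⁆ ≤ Q.lowerCentralSeries (i + 1) := by
    intro i
    induction i with
    | zero =>
      exact Subgroup.commutator_le.2 fun v hv w hw => comm_mem_iff.2 (modC_symm.1
        ((Subgroup.zpowers_le.2 (comm_mem_iff.1 (h v hv))) hw))
    | succ i ih =>
      show ⁅⁅Q.lowerCentralSeries i, Q⁆, Subgroup.zpowers z⁆ ≤ _
      refine AssocLie.three_subgroups _ _ _ _ ?_ ?_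
      · refine (Subgroup.commutator_mono (K₁ := Q.lowerCentralSeries 1) ?_ le_rfl).trans
          ((lcs_sub_commutator Q 1 i).trans (Q.lowerCentralSeries_antitone (by omega)))
        exact Subgroup.commutator_le.2 fun v hv w hw => comm_mem_iff.2 (modC_symm.1
          ((Subgroup.zpowers_le.2 (comm_mem_iff.1 (h v hv))) hw))
      · refine (Subgroup.commutator_mono (K₁ := Q.lowerCentralSeries (i + 1)) ?_ le_rfl).trans le_rfl
        rw [Subgroup.commutator_comm]
        exact ih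
  haveI : Fact (Nat.Prime 3) := ⟨Nat.prime_three⟩
  obtain ⟨n, hn⟩ := Subgroup.nilpotent_iff_lowerCentralSeries.1 hQ.isNilpotent
  have hall : ∀ i, ∀ v ∈ Q, ⁅z, v⁆ ∈ Q.lowerCentralSeries (i + 1) := by
    intro i
    induction i with
    | zero => exact h
    | succ i ih =>
      intro v hv
      rw [← QuotientGroup.eq_one_iff]
      obtain ⟨k, hk⟩ := hQ ⟨⁅z, v⁆, Q.lowerCentralSeries_le_self _ (ih v hv)⟩
      have hc : Commute (z : K ⧸ Q.lowerCentralSeries (i + 1 + 1)) (⁅z, v⁆ : K) :=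
        (mem_modC_iff.1 (comm_mem_iff.1 (hstep (i + 1)
          (Subgroup.commutator_mem_commutator (ih v hv) (Subgroup.mem_zpowers z))))).symm
      rw [show ((⁅z, v⁆ : K) : K ⧸ Q.lowerCentralSeries (i + 1 + 1))
          = ⁅(z : K ⧸ Q.lowerCentralSeries (i + 1 + 1)), (v : K ⧸ Q.lowerCentralSeries (i + 1 + 1))⁆
        from map_commutatorElement (QuotientGroup.mk' _) z v] at hc ⊢
      refine comm_eq_one (by rw [← QuotientGroup.mk_pow, hzr, QuotientGroup.mk_one]) (k := k)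
        (Nat.Coprime.pow_left _ ((Nat.coprime_primes Nat.prime_three hr).2 (Ne.symm hr3))) ?_ hc
      rw [show ⁅(z : K ⧸ Q.lowerCentralSeries (i + 1 + 1)), (v : K ⧸ Q.lowerCentralSeries (i + 1 + 1))⁆
          = ((⁅z, v⁆ : K) : K ⧸ Q.lowerCentralSeries (i + 1 + 1))
        from (map_commutatorElement (QuotientGroup.mk' _) z v).symm, ← QuotientGroup.mk_pow,
        show ⁅z, v⁆ ^ 3 ^ k = 1 from congrArg Subtype.val hk, QuotientGroup.mk_one]
  intro v hv
  rw [← commutatorElement_eq_one_iff_commute]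
  have hle : Q.lowerCentralSeries n = ⊥ := by
    rw [← Subgroup.top_subtype_lowerCentralSeries Q n, hn, Subgroup.map_bot]
  exact Subgroup.mem_bot.1 (hle ▸ Q.lowerCentralSeries_antitone (by omega) (hall n v hv))

theorem three_mul_le_of_le {S : Subgroup K} (hS : IsPGroup 3 S) {H L : Subgroup K} (h : H < L)
    (hL : L ≤ S) : 3 * Nat.card H ≤ Nat.card L := by
  have h2 : H.subgroupOf S < L.subgroupOf S := by
    refine lt_of_le_of_ne (Subgroup.comap_mono h.le) fun e => h.ne ?_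
    have := congrArg (Subgroup.map S.subtype) e
    rwa [Subgroup.map_subgroupOf_eq_of_le (h.le.trans hL), Subgroup.map_subgroupOf_eq_of_le hL] at this
  have h3 := three_mul_le hS h2
  rwa [Nat.card_congr (Subgroup.subgroupOfEquivOfLe (h.le.trans hL)).toEquiv,
    Nat.card_congr (Subgroup.subgroupOfEquivOfLe hL).toEquiv] at h3

/-- The soluble step, with trivial `3'`-core. -/
theorem kCore (hodd : Odd (Nat.card K)) (hO : Cfsg.pPrimeCore 3 K = ⊥) (τ : K ≃* K)
    (hτ : ∀ x, τ (τ x) = x) {φ u : K} (hφ3 : φ ^ 3 = 1) (hu3 : u ^ 3 = 1) (hφτ : τ φ = φ)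
    (huτ : τ u = u) (hfix : ∀ x, τ x = x → x ∈ Subgroup.closure ({u, φ} : Set K))
    (hF3 : IsPGroup 3 (Subgroup.closure ({u, φ} : Set K)))
    (hh : ⁅⁅u, φ⁆, φ⁆ ≠ 1)
    (hmin : ∀ N : Subgroup K, N ≤ Subgroup.closure ({u, φ} : Set K) →
      (∀ f ∈ Subgroup.closure ({u, φ} : Set K), ∀ x ∈ N, f * x * f⁻¹ ∈ N) → N ≠ ⊥ → ⁅⁅u, φ⁆, φ⁆ ∈ N)
    (hb81 : Nat.card (Subgroup.centralizer ({φ} : Set K)) ≤ 81)
    (hy : Nat.card (Subgroup.centralizer ({φ} : Set K)) ≤ 9 ∨
      ∃ y, Commute y φ ∧ ¬ Commute y ⁅⁅u, φ⁆, φ⁆) :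
    φ ∉ commutator K := by
  haveI : Fact (Nat.Prime 3) := ⟨Nat.prime_three⟩
  haveI : Group.IsSolvable K := Cfsg.Agent.S0205.result hodd
  intro hφc
  set F0 := Subgroup.closure ({u, φ} : Set K) with hF0
  have hφF : φ ∈ F0 := Subgroup.subset_closure (by simp)
  have huF : u ∈ F0 := Subgroup.subset_closure (by simp)
  have hφ1 : φ ≠ 1 := fun e => hh (by rw [e]; simp)
  set Q := Cfsg.pCore 3 K with hQdef
  haveI : Q.Characteristic := Grp.instCharPCore
  have hQ3 : IsPGroup 3 Q := Grp.pCore_isPGroup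
  have hQc : Subgroup.centralizer (Q : Set K) ≤ Q := Grp.centralizer_pCore_le hO
  obtain ⟨σ, hσ, hσσ⟩ := exists_quot_aut Q τ hτ fun x hx => map_mem_char Q τ hx
  set Fb := F0.map (QuotientGroup.mk' Q) with hFb
  have hFb3 : IsPGroup 3 Fb := hF3.map _
  have hfixb : ∀ y, σ y = y → y ∈ Fb := by
    intro y
    obtain ⟨g, rfl⟩ := QuotientGroup.mk_surjective y
    intro hy
    obtain ⟨f, e, rfl, hf, he, hmem⟩ := exists_split_odd hodd τ hτ g
    rw [hσ] at hy
    have heQ : e ∈ Q := (Subgroup.zpowers_le.2 (QuotientGroup.eq.1 hy.symm)) hmem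
    refine ⟨f, hfix f hf, ?_⟩
    rw [QuotientGroup.mk'_apply, QuotientGroup.mk_mul, (QuotientGroup.eq_one_iff e).2 heQ, mul_one]
  have hoddb : Odd (Nat.card (K ⧸ Q)) := hodd.of_dvd_nat (Subgroup.card_quotient_dvd_card Q)
  have hcore : Cfsg.pCore 3 (K ⧸ Q) = ⊥ := by
    refine sSup_eq_bot.2 fun M ⟨hMn, hMp⟩ => ?_
    haveI := hMn
    have hker : IsPGroup 3 (QuotientGroup.mk' Q).ker := by rwa [QuotientGroup.ker_mk']
    have hle : M.comap (QuotientGroup.mk' Q) ≤ Q :=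
      Grp.le_pCore inferInstance (hMp.comap_of_ker_isPGroup _ hker)
    rw [eq_bot_iff]
    intro q hq
    obtain ⟨g, rfl⟩ := QuotientGroup.mk'_surjective Q q
    exact (QuotientGroup.eq_one_iff g).2 (hle hq)
  obtain ⟨htriv, hinv, hfact⟩ := fitting_facts hoddb hcore σ hσσ hFb3 hfixb
  haveI : (Cfsg.fittingSubgroup (K ⧸ Q)).Normal := Grp.fittingSubgroup_isNormal
  have htriv' : ∀ x ∈ Cfsg.fittingSubgroup (K ⧸ Q), x ∈ Fb → x = 1 := fun x hx hxF => by
    obtain ⟨n, hn⟩ := hFb3 ⟨x, hxF⟩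
    exact htriv x hx n (congrArg Subtype.val hn)
  -- `φ` lies in `Q`
  have hφQ : φ ∈ Q := by
    rw [← QuotientGroup.eq_one_iff]
    have hD : commutator (K ⧸ Q) ≤ ⁅Fb, Fb⁆ ⊔ Cfsg.fittingSubgroup (K ⧸ Q) := by
      refine Subgroup.commutator_le.2 fun a _ b _ => ?_
      obtain ⟨f, hf, e, he, rfl⟩ := hfact a
      obtain ⟨f', hf', e', he', rfl⟩ := hfact b
      have hq : ((⁅f * e, f' * e'⁆ : K ⧸ Q) : (K ⧸ Q) ⧸ Cfsg.fittingSubgroup (K ⧸ Q))
          = ((⁅f, f'⁆ : K ⧸ Q) : (K ⧸ Q) ⧸ Cfsg.fittingSubgroup (K ⧸ Q)) := by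
        rw [← QuotientGroup.mk'_apply, ← QuotientGroup.mk'_apply, map_commutatorElement,
          map_commutatorElement, map_mul, map_mul, QuotientGroup.mk'_apply, QuotientGroup.mk'_apply,
          QuotientGroup.mk'_apply, QuotientGroup.mk'_apply, (QuotientGroup.eq_one_iff e).2 he,
          (QuotientGroup.eq_one_iff e').2 he', mul_one, mul_one]
      have h1 := QuotientGroup.eq.1 hq.symm
      have := mul_mem (Subgroup.mem_sup_left (T := Cfsg.fittingSubgroup (K ⧸ Q))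
        (Subgroup.commutator_mem_commutator hf hf')) (Subgroup.mem_sup_right (S := ⁅Fb, Fb⁆) h1)
      rwa [mul_inv_cancel_left] at this
    have hφb : (φ : K ⧸ Q) ∈ commutator (K ⧸ Q) := by
      have h := Subgroup.mem_map_of_mem (QuotientGroup.mk' Q) hφc
      rwa [_root_.commutator_def, Subgroup.map_commutator,
        Subgroup.map_top_of_surjective _ (QuotientGroup.mk'_surjective Q)] at h
    obtain ⟨d, hd, x, hx, hdx⟩ := Subgroup.mem_sup_of_normal_right.1 (hD hφb)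
    have hdF : d ∈ Fb := Subgroup.commutator_le_self Fb hd
    have hx1 : x = 1 := htriv' x hx (by
      have : x = d⁻¹ * (φ : K ⧸ Q) := by rw [← hdx, inv_mul_cancel_left]
      rw [this]
      exact mul_mem (inv_mem hdF) ⟨φ, hφF, rfl⟩)
    rw [hx1, mul_one] at hdx
    have hφd : (φ : K ⧸ Q) ∈ ⁅Fb, Fb⁆ := hdx ▸ hd
    have hd' : (commutator Fb).map Fb.subtype = ⁅Fb, Fb⁆ := by
      rw [_root_.commutator_def, Subgroup.map_commutator, ← MonoidHom.range_eq_map, Subgroup.range_subtype]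
    haveI : Finite Fb := Subtype.finite
    have hubF : (u : K ⧸ Q) ∈ Fb := ⟨u, huF, rfl⟩
    have htop : Subgroup.zpowers (⟨(u : K ⧸ Q), hubF⟩ : Fb) = ⊤ := by
      refine frattini_nongenerating (eq_top_iff.2 fun w _ => ?_)
      have hle : Fb ≤ (Subgroup.zpowers (⟨(u : K ⧸ Q), hubF⟩ : Fb) ⊔ frattini Fb).map Fb.subtype := by
        have heq : Fb = Subgroup.closure {(u : K ⧸ Q), (φ : K ⧸ Q)} := by
          rw [hFb, hF0, MonoidHom.map_closure, Set.image_pair]
          rfl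
        refine heq.le.trans ?_
        rw [Subgroup.closure_le]
        rintro v (rfl | rfl)
        · exact ⟨_, Subgroup.mem_sup_left (Subgroup.mem_zpowers _), rfl⟩
        · rw [← hd'] at hφd
          obtain ⟨v, hv, hv'⟩ := hφd
          exact ⟨v, Subgroup.mem_sup_right (Grp.pGroup_commutator_le_frattini hFb3 hv), hv'⟩
      obtain ⟨v, hv, hvw⟩ := hle w.2
      rwa [Subtype.ext hvw] at hv
    have hbot : ⁅Fb, Fb⁆ ≤ ⊥ := Subgroup.commutator_le.2 fun a ha b hb => by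
      obtain ⟨i, hi⟩ := Subgroup.mem_zpowers_iff.1 (htop ▸ Subgroup.mem_top (⟨a, ha⟩ : Fb))
      obtain ⟨j, hj⟩ := Subgroup.mem_zpowers_iff.1 (htop ▸ Subgroup.mem_top (⟨b, hb⟩ : Fb))
      rw [Subgroup.mem_bot, commutatorElement_eq_one_iff_commute,
        show a = (u : K ⧸ Q) ^ i from (congrArg Subtype.val hi).symm,
        show b = (u : K ⧸ Q) ^ j from (congrArg Subtype.val hj).symm]
      exact Commute.zpow_zpow_self _ i j
    exact Subgroup.mem_bot.1 (hbot hφd)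
  -- the group is not a `3`-group
  by_cases hQtop : Q = ⊤
  · have hK3 : IsPGroup 3 K := by
      rw [hQtop] at hQ3
      exact hQ3.of_equiv Subgroup.topEquiv
    exact pLemma hK3 τ hτ hφ3 hu3 hφτ huτ hfix hh hmin hb81 hy hφc
  set g1 := Q.lowerCentralSeries 1 with hg1def
  have hgle : ∀ i, Q.lowerCentralSeries i ≤ Q := fun i => Q.lowerCentralSeries_le_self i
  have hgτ : ∀ i, ∀ x ∈ Q.lowerCentralSeries i, τ x ∈ Q.lowerCentralSeries i :=
    fun i x hx => map_mem_char _ τ hx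
  have hg11 : ⁅Q, Q⁆ ≤ Q.lowerCentralSeries 1 := le_of_eq rfl
  have hV81 : Nat.card Q ≤ 81 * Nat.card (Q.lowerCentralSeries 1) := by
    rw [← card_map_quot (Q.lowerCentralSeries 1) (hgle 1)]
    refine Nat.mul_le_mul_right _ ((Subgroup.card_le_of_le ?_).trans
      ((Cfsg.Agent.Block.card_centralizer_quotient_le _ φ).trans hb81))
    rintro _ ⟨x, hx, rfl⟩
    exact Subgroup.mem_centralizer_singleton_iff.2
      (mem_modC_iff.1 (comm_mem_iff.1 (hg11 (Subgroup.commutator_mem_commutator hx hφQ))))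
  -- every element of prime order of the Fitting subgroup has order five and acts freely
  have hprime : ∀ g : K, (g : K ⧸ Q) ∈ Cfsg.fittingSubgroup (K ⧸ Q) → ∀ r : ℕ, r.Prime →
      (g : K ⧸ Q) ≠ 1 → (g : K ⧸ Q) ^ r = 1 →
      r = 5 ∧ Nat.card Q = 81 * Nat.card (Q.lowerCentralSeries 1) ∧
      (∀ v ∈ Q, ⁅g, v⁆ ∈ Q.lowerCentralSeries 1 → v ∈ Q.lowerCentralSeries 1) ∧
      ∃ z, τ z = z⁻¹ ∧ z ^ r = 1 ∧ z ∉ Q ∧
        ∀ w ∈ Q, ∃ v ∈ Q, ((⁅z, v⁆ : K) : K ⧸ Q.lowerCentralSeries 1) = w := by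
    intro g hgF r hr hg1 hgr
    have hrdvd : r ∣ Nat.card K := by
      have h1 : orderOf (g : K ⧸ Q) = r := by
        haveI := Fact.mk hr
        exact orderOf_eq_prime hgr hg1
      exact h1 ▸ (_root_.orderOf_dvd_natCard _).trans (Subgroup.card_quotient_dvd_card Q)
    have hr2 : r ≠ 2 := fun e => by
      have := hodd.of_dvd_nat hrdvd
      rw [e] at this
      exact absurd this (by decide)
    have hr3 : r ≠ 3 := fun e => hg1 (htriv _ hgF 1 (by subst e; rw [pow_one]; exact hgr))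
    obtain ⟨z, hzτ, hzr, hzQ, hzg⟩ := inverted_lift Q hQ3 τ hτ hr hr2 hr3
      ((QuotientGroup.eq_one_iff _).1 (by rw [QuotientGroup.mk_pow, hgr]))
      (fun h => hg1 ((QuotientGroup.eq_one_iff _).2 h))
      (by rw [← hσ]; exact hinv _ hgF)
    have hne : ∃ v ∈ Q, ⁅z, v⁆ ∉ Q.lowerCentralSeries 1 := by
      by_contra hno
      push_neg at hno
      exact hzQ (hQc (Subgroup.mem_centralizer_iff.2 fun v hv =>
        ((stable Q hQ3 hr hr3 hzr hno) v hv).symm.eq))
    obtain ⟨h5, h81, hfree, hsurj⟩ := layer hodd Q (Q.lowerCentralSeries 1) (hgle 1) hg11 hQ3 τ hτ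
      (fun x hx => map_mem_char Q τ hx) (hgτ 1) hzτ hr hr2 hr3 hzr hne hV81
    refine ⟨h5, h81, fun v hv hgv => hfree v hv ?_, z, hzτ, hzr, hzQ, hsurj⟩
    obtain ⟨i, hi⟩ := Subgroup.mem_zpowers_iff.1 hzg
    have hq : (g ^ i)⁻¹ * z ∈ Q := QuotientGroup.eq.1 (by rw [QuotientGroup.mk_zpow, hi])
    have hz : z ∈ modC (Q.lowerCentralSeries 1) v := by
      rw [show z = g ^ i * ((g ^ i)⁻¹ * z) by rw [mul_inv_cancel_left]]
      exact mul_mem (zpow_mem (comm_mem_iff.1 hgv) i)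
        (comm_mem_iff.1 (hg11 (Subgroup.commutator_mem_commutator hq hv)))
    exact comm_mem_iff.2 hz
  -- the Fitting subgroup is nontrivial
  have hFne : Cfsg.fittingSubgroup (K ⧸ Q) ≠ ⊥ := fun e => by
    refine hQtop (top_unique fun g _ => ?_)
    have hle : (⊤ : Subgroup (K ⧸ Q)) ≤ Fb := fun y _ => by
      obtain ⟨f, hf, e', he', rfl⟩ := hfact y
      rw [e, Subgroup.mem_bot] at he'
      rwa [he', mul_one]
    have h3 : IsPGroup 3 (⊤ : Subgroup (K ⧸ Q)) := hFb3.to_le hle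
    have := Grp.le_pCore (p := 3) (N := (⊤ : Subgroup (K ⧸ Q))) inferInstance h3
    rw [hcore] at this
    exact (QuotientGroup.eq_one_iff g).1 (Subgroup.mem_bot.1 (this (Subgroup.mem_top _)))
  obtain ⟨r0, hr0, hr0d⟩ := Nat.exists_prime_and_dvd
    (fun h => hFne (Subgroup.card_eq_one.1 h) : Nat.card (Cfsg.fittingSubgroup (K ⧸ Q)) ≠ 1)
  haveI := Fact.mk hr0
  obtain ⟨⟨xb, hxbF⟩, hxbo⟩ := exists_prime_orderOf_dvd_card' r0 hr0d
  replace hxbo : orderOf xb = r0 := (Subgroup.orderOf_coe (⟨xb, hxbF⟩ : Cfsg.fittingSubgroup (K ⧸ Q))).trans hxbo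
  obtain ⟨g0, rfl⟩ := QuotientGroup.mk_surjective xb
  have hg0ne : (g0 : K ⧸ Q) ≠ 1 := fun e => by
    rw [e, orderOf_one] at hxbo
    exact hr0.ne_one hxbo.symm
  obtain ⟨hr5, h81, -, z, hzτ, hzr, hzQ, hsurj⟩ :=
    hprime g0 hxbF r0 hr0 hg0ne (hxbo ▸ pow_orderOf_eq_one _)
  subst hr5
  -- `u` lies in `Q`
  have hF5 : IsPGroup 5 (Cfsg.fittingSubgroup (K ⧸ Q)) := by
    haveI : Fact (Nat.Prime 5) := ⟨Nat.prime_five⟩
    rw [IsPGroup.iff_card]
    refine ⟨(Nat.card (Cfsg.fittingSubgroup (K ⧸ Q))).primeFactorsList.length,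
      Nat.eq_prime_pow_of_unique_prime_dvd Nat.card_pos.ne' fun {q} hq hqd => ?_⟩
    haveI := Fact.mk hq
    obtain ⟨⟨yb, hybF⟩, hybo⟩ := exists_prime_orderOf_dvd_card' q hqd
    replace hybo : orderOf yb = q := (Subgroup.orderOf_coe (⟨yb, hybF⟩ : Cfsg.fittingSubgroup (K ⧸ Q))).trans hybo
    obtain ⟨g, rfl⟩ := QuotientGroup.mk_surjective yb
    exact (hprime g hybF q hq (fun e => by
      rw [e, orderOf_one] at hybo; exact hq.ne_one hybo.symm) (hybo ▸ pow_orderOf_eq_one _)).1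
  haveI : Fact (Nat.Prime 5) := ⟨Nat.prime_five⟩
  have hFcard : Nat.card (Cfsg.fittingSubgroup (K ⧸ Q)) = 5 := by
    set M := (Cfsg.fittingSubgroup (K ⧸ Q)).comap (QuotientGroup.mk' Q) with hMdef
    obtain ⟨S⟩ : Nonempty (Sylow 5 M) := Sylow.nonempty
    set S' := (S : Subgroup M).map M.subtype with hS'
    have hS5 : IsPGroup 5 S' := S.isPGroup'.map _
    obtain ⟨j, hj⟩ := IsPGroup.iff_card.1 hF5
    have hMc : Nat.card M = 5 ^ j * Nat.card Q := by
      rw [← card_map_quot Q (fun q hq => by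
          refine Subgroup.mem_comap.2 ?_
          rw [QuotientGroup.mk'_apply, (QuotientGroup.eq_one_iff q).2 hq]
          exact one_mem _ : Q ≤ M),
        Subgroup.map_comap_eq_self_of_surjective (QuotientGroup.mk'_surjective Q), hj]
    have hSc : Nat.card S' = 5 ^ j := by
      rw [hS', Nat.card_congr ((S : Subgroup M).equivMapOfInjective M.subtype M.subtype_injective).symm.toEquiv,
        S.card_eq_multiplicity, hMc]
      congr 1
      obtain ⟨k, hk⟩ := IsPGroup.iff_card.1 hQ3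
      rw [hk, Nat.factorization_mul (by positivity) (by positivity), Finsupp.add_apply,
        Nat.prime_five.factorization_pow, Nat.prime_three.factorization_pow,
        Finsupp.single_eq_same, Finsupp.single_eq_of_ne (by norm_num), add_zero]
    -- the free action of `S'` on the nontrivial elements of the top factor
    set N1 := Q.lowerCentralSeries 1 with hN1
    set V := Q.map (QuotientGroup.mk' N1) with hVdef
    haveI : V.Normal := Subgroup.Normal.map inferInstance _ (QuotientGroup.mk'_surjective _)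
    let X := {v : V // v ≠ 1}
    letI : MulAction S' X :=
      { smul := fun s v => ⟨⟨((s : K) : K ⧸ N1) * (v.1 : K ⧸ N1) * ((s : K) : K ⧸ N1)⁻¹,
            Subgroup.Normal.conj_mem inferInstance _ v.1.2 _⟩, fun e => v.2 (Subtype.ext (by
            have h := congrArg Subtype.val e
            have h2 : ((s : K) : K ⧸ N1) * (v.1 : K ⧸ N1) * ((s : K) : K ⧸ N1)⁻¹ = 1 := h
            simpa using h2))⟩
        one_smul := fun v => Subtype.ext (Subtype.ext (by
          show (((1 : S') : K) : K ⧸ N1) * (v.1 : K ⧸ N1) * (((1 : S') : K) : K ⧸ N1)⁻¹ = v.1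
          simp))
        mul_smul := fun a b v => Subtype.ext (Subtype.ext (by
          show (((a * b : S') : K) : K ⧸ N1) * (v.1 : K ⧸ N1) * (((a * b : S') : K) : K ⧸ N1)⁻¹
            = ((a : K) : K ⧸ N1) * (((b : K) : K ⧸ N1) * (v.1 : K ⧸ N1) * ((b : K) : K ⧸ N1)⁻¹)
              * ((a : K) : K ⧸ N1)⁻¹
          simp [mul_assoc])) }
    have hdvd : Nat.card S' ∣ Nat.card X := by
      refine card_dvd_of_free fun v => ?_
      rw [Subgroup.eq_bot_iff_forall]
      intro s hs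
      by_contra hs1
      obtain ⟨n, hn⟩ := hS5 s
      obtain ⟨i, -, hi⟩ := (Nat.dvd_prime_pow Nat.prime_five).1 (orderOf_dvd_of_pow_eq_one hn)
      obtain ⟨i', rfl⟩ : ∃ i', i = i' + 1 := ⟨i - 1, by
        rcases i with _ | i
        · exact absurd (orderOf_eq_one_iff.1 (by simpa using hi)) hs1
        · rfl⟩
      set t := s ^ 5 ^ i' with ht
      have hto : orderOf t = 5 := by
        rw [ht, orderOf_pow, hi, pow_succ, Nat.gcd_eq_right (Dvd.intro _ rfl),
          Nat.mul_div_cancel_left _ (by positivity)]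
      have htv : t • v = v := MulAction.mem_stabilizer_iff.1 (pow_mem hs _)
      have htF : ((t : K) : K ⧸ Q) ∈ Cfsg.fittingSubgroup (K ⧸ Q) := by
        obtain ⟨⟨x, hx⟩, -, hxt⟩ := t.2
        rw [show (t : K) = x from hxt.symm]
        exact hx
      have ht5 : (t : K) ^ 5 = 1 := by
        rw [← SubmonoidClass.coe_pow, ← hto, pow_orderOf_eq_one]; rfl
      have htQ : ((t : K) : K ⧸ Q) ≠ 1 := fun e => by
        obtain ⟨k, hk⟩ := hQ3 ⟨t, (QuotientGroup.eq_one_iff _).1 e⟩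
        have hd := Nat.dvd_gcd (orderOf_dvd_of_pow_eq_one (show (t : K) ^ 3 ^ k = 1 from congrArg Subtype.val hk))
          (orderOf_dvd_of_pow_eq_one ht5)
        rw [(Nat.Coprime.pow_left k (show Nat.Coprime 3 5 by norm_num)).gcd_eq_one] at hd
        rw [Subgroup.orderOf_coe, hto] at hd
        norm_num at hd
      have hfree := (hprime (t : K) htF 5 Nat.prime_five htQ
        (by rw [← QuotientGroup.mk_pow, ht5, QuotientGroup.mk_one])).2.2.1
      obtain ⟨⟨_, ⟨w, hw, rfl⟩⟩, hv1⟩ := v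
      refine hv1 (Subtype.ext ((QuotientGroup.eq_one_iff w).2 (hfree w hw ?_)))
      have h := congrArg (fun x : X => ((x.1 : V) : K ⧸ N1)) htv
      exact comm_mem_iff.2 (mem_modC_iff.2 (mul_inv_eq_iff_eq_mul.1 h))
    have hX : Nat.card X = 80 := by
      have hVc : Nat.card V = 81 := by
        have := card_map_quot N1 (hgle 1)
        rw [← hVdef, h81] at this
        exact Nat.eq_of_mul_eq_mul_right Nat.card_pos this
      classical
      haveI := Fintype.ofFinite V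
      rw [Nat.card_eq_fintype_card, Fintype.card_subtype_compl, Fintype.card_subtype_eq,
        ← Nat.card_eq_fintype_card, hVc]
    rw [hSc, hX] at hdvd
    have hj1 : j ≤ 1 := by
      by_contra hlt
      have h25 : 5 ^ 2 ∣ 80 := (pow_dvd_pow 5 (by omega : 2 ≤ j)).trans hdvd
      norm_num at h25
    have hj0 : j ≠ 0 := fun e => hFne (Subgroup.card_eq_one.1 (by rw [hj, e, pow_zero]))
    rw [hj, show j = 1 by omega, pow_one]
  have huQ : u ∈ Q := by
    rw [← QuotientGroup.eq_one_iff]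
    haveI : IsCyclic (Cfsg.fittingSubgroup (K ⧸ Q)) := isCyclic_of_prime_card hFcard
    obtain ⟨⟨x, hx⟩, hgen⟩ := IsCyclic.exists_generator (α := Cfsg.fittingSubgroup (K ⧸ Q))
    have hpow : ∀ w ∈ Cfsg.fittingSubgroup (K ⧸ Q), ∃ i : ℕ, x ^ i = w := by
      intro w hw
      obtain ⟨i, hi⟩ := Subgroup.mem_zpowers_iff.1 (hgen ⟨w, hw⟩)
      have hi' : x ^ i = w := congrArg Subtype.val hi
      exact ⟨(i % (orderOf x : ℤ)).toNat, by
        rw [← hi', ← zpow_natCast, Int.toNat_of_nonneg (Int.emod_nonneg _ (by exact_mod_cast (orderOf_pos x).ne')),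
          zpow_mod_orderOf]⟩
    set ub := (u : K ⧸ Q) with hub
    obtain ⟨i, hi⟩ := hpow _ (Subgroup.Normal.conj_mem inferInstance x hx ub)
    have hx5 : x ^ 5 = 1 := by
      have := pow_card_eq_one' (x := (⟨x, hx⟩ : Cfsg.fittingSubgroup (K ⧸ Q)))
      rw [hFcard] at this
      exact congrArg Subtype.val this
    have hu3b : ub ^ 3 = 1 := by rw [hub, ← QuotientGroup.mk_pow, hu3, QuotientGroup.mk_one]
    have hc : ∀ n : ℕ, ub * x ^ n * ub⁻¹ = x ^ (i * n) := fun n => by rw [← conj_pow, ← hi, ← pow_mul]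
    have h3 : x = x ^ (i * (i * i)) := by
      calc x = ub ^ 3 * x * (ub ^ 3)⁻¹ := by rw [hu3b, one_mul, inv_one, mul_one]
        _ = ub * (ub * (ub * x * ub⁻¹) * ub⁻¹) * ub⁻¹ := by simp [pow_succ, mul_assoc]
        _ = x ^ (i * (i * i)) := by rw [← hi, hc, hc]
    have hxo : orderOf x = 5 := by
      refine orderOf_eq_prime hx5 fun e => hFne ?_
      rw [Subgroup.eq_bot_iff_forall]
      intro w hw
      obtain ⟨n, hn⟩ := hpow w hw
      rw [← hn, e, one_pow]
    have hi1 : x ^ i = x := by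
      have h := pow_eq_pow_iff_modEq.1 ((pow_one x).trans h3)
      rw [hxo, ← ZMod.natCast_eq_natCast_iff] at h
      push_cast at h
      conv_rhs => rw [← pow_one x]
      rw [pow_eq_pow_iff_modEq, hxo, ← ZMod.natCast_eq_natCast_iff]
      simpa using zmod_five_cube _ h
    have hcF : ub ∈ Cfsg.fittingSubgroup (K ⧸ Q) :=
      Grp.centralizer_fittingSubgroup_le (Subgroup.mem_centralizer_iff.2 fun w hw => by
        obtain ⟨n, rfl⟩ := hpow w hw
        have hcx : Commute ub x := mul_inv_eq_iff_eq_mul.1 (hi.symm.trans hi1)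
        exact (hcx.pow_right n).symm.eq)
    exact htriv _ hcF 1 (by rw [pow_one, hu3b])
  have hu2 : ⁅u, φ⁆ ∈ Q.lowerCentralSeries 1 := hg11 (Subgroup.commutator_mem_commutator huQ hφQ)
  have hh2 : ⁅⁅u, φ⁆, φ⁆ ∈ Q.lowerCentralSeries 2 := Subgroup.commutator_mem_commutator hu2 hφQ
  -- `φ` is outside the derived group of `Q`
  have hφ1' : φ ∉ Q.lowerCentralSeries 1 := fun hφ' => by
    have hle : Nat.card Q ≤ 81 * Nat.card (Q.lowerCentralSeries 2) := by
      rw [← card_map_quot (Q.lowerCentralSeries 2) (hgle 2)]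
      refine Nat.mul_le_mul_right _ ((Subgroup.card_le_of_le ?_).trans
        ((Cfsg.Agent.Block.card_centralizer_quotient_le _ φ).trans hb81))
      rintro _ ⟨x, hx, rfl⟩
      refine Subgroup.mem_centralizer_singleton_iff.2 (mem_modC_iff.1 (comm_mem_iff.1 ?_))
      rw [← commutatorElement_inv]
      exact inv_mem (Subgroup.commutator_mem_commutator hφ' hx)
    have heq : Q.lowerCentralSeries 1 = ⊥ := lcs_sub_eq_bot Q hQ3
      (Subgroup.eq_of_le_of_card_ge
        (Q.lowerCentralSeries_antitone (show 1 ≤ 2 by norm_num)) (by omega)).ge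
    exact hφ1 (Subgroup.mem_bot.1 (heq ▸ hφ'))
  -- `z` is trivial on the next two factors
  have htwo : ∀ i, 1 ≤ i → ∀ v ∈ Q.lowerCentralSeries i, ⁅z, v⁆ ∈ Q.lowerCentralSeries (i + 1) := by
    intro i hi
    by_contra hno
    push_neg at hno
    have hφi : φ ∉ Q.lowerCentralSeries i := fun h => hφ1' (Q.lowerCentralSeries_antitone hi h)
    set S := Q.lowerCentralSeries i ⊔ Subgroup.zpowers φ with hS
    have hSQ : S ≤ Q := sup_le (hgle i) (Subgroup.zpowers_le.2 hφQ)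
    have h3 : 3 * Nat.card (Q.lowerCentralSeries i) ≤ Nat.card S := three_mul_le_of_le hQ3
      (lt_of_le_of_ne le_sup_left fun e => hφi (by
        rw [e]; exact Subgroup.mem_sup_right (Subgroup.mem_zpowers φ))) hSQ
    have hS81 : Nat.card S ≤ 81 * Nat.card (Q.lowerCentralSeries (i + 1)) := by
      rw [← card_map_quot (Q.lowerCentralSeries (i + 1))
        ((Q.lowerCentralSeries_antitone (Nat.le_succ i)).trans le_sup_left : _ ≤ S)]
      refine Nat.mul_le_mul_right _ ((Subgroup.card_le_of_le ?_).trans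
        ((Cfsg.Agent.Block.card_centralizer_quotient_le _ φ).trans hb81))
      rintro _ ⟨x, hx, rfl⟩
      refine Subgroup.mem_centralizer_singleton_iff.2 (mem_modC_iff.1 ?_)
      exact (sup_le (fun v hv => comm_mem_iff.1 (Subgroup.commutator_mem_commutator hv hφQ))
        (Subgroup.zpowers_le.2 (self_mem_modC _ φ))) hx
    have h := layer hodd (Q.lowerCentralSeries i) (Q.lowerCentralSeries (i + 1))
      (Q.lowerCentralSeries_antitone (Nat.le_succ i))
      ((lcs_sub_commutator Q i i).trans (Q.lowerCentralSeries_antitone (by omega)))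
      (hQ3.to_le (hgle i)) τ hτ (hgτ i) (hgτ (i + 1)) hzτ Nat.prime_five (by norm_num) (by norm_num)
      hzr hno (by omega)
    have := h.2.1
    have hpos : 0 < Nat.card (Q.lowerCentralSeries (i + 1)) := Nat.card_pos
    omega
  -- the three subgroups lemma
  have hZ : ∀ i, 1 ≤ i →
      ⁅Q.lowerCentralSeries i, Subgroup.zpowers z⁆ ≤ Q.lowerCentralSeries (i + 1) := fun i hi =>
    Subgroup.commutator_le.2 fun v hv w hw => comm_mem_iff.2 (modC_symm.1
      ((Subgroup.zpowers_le.2 (comm_mem_iff.1 (htwo i hi v hv))) hw))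
  have h3sub : ⁅⁅Q, Subgroup.zpowers z⁆, Q.lowerCentralSeries 1⁆ ≤ Q.lowerCentralSeries 3 := by
    refine AssocLie.three_subgroups _ _ _ _ ?_ ?_
    · refine (Subgroup.commutator_mono (K₁ := Q.lowerCentralSeries 2) ?_ le_rfl).trans (le_of_eq rfl)
      rw [Subgroup.commutator_comm]
      exact hZ 1 le_rfl
    · exact hZ 2 (by norm_num)
  have h23 : Q.lowerCentralSeries 2 ≤ Q.lowerCentralSeries (2 + 1) := by
    show ⁅Q.lowerCentralSeries 1, Q⁆ ≤ _
    refine Subgroup.commutator_le.2 fun w hw v hv => comm_mem_iff.2 (modC_symm.1 ?_)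
    obtain ⟨v', hv', hvv⟩ := hsurj v hv
    have hn : ⁅z, v'⁆⁻¹ * v ∈ Q.lowerCentralSeries 1 := QuotientGroup.eq.1 hvv
    rw [show v = ⁅z, v'⁆ * (⁅z, v'⁆⁻¹ * v) by rw [mul_inv_cancel_left]]
    refine mul_mem (comm_mem_iff.1 (h3sub (Subgroup.commutator_mem_commutator ?_ hw)))
      (comm_mem_iff.1 ((lcs_sub_commutator Q 1 1).trans le_rfl (Subgroup.commutator_mem_commutator hn hw)))
    rw [← commutatorElement_inv]
    exact inv_mem (Subgroup.commutator_mem_commutator hv' (Subgroup.mem_zpowers z))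
  exact hh (Subgroup.mem_bot.1 (lcs_sub_eq_bot Q hQ3 h23 ▸ hh2))

/-- The soluble step: `φ` is not in the derived group. -/
theorem kLemma (hodd : Odd (Nat.card K)) (τ : K ≃* K) (hτ : ∀ x, τ (τ x) = x) {φ u : K}
    (hφ3 : φ ^ 3 = 1) (hu3 : u ^ 3 = 1) (hφτ : τ φ = φ) (huτ : τ u = u)
    (hfix : ∀ x, τ x = x → x ∈ Subgroup.closure ({u, φ} : Set K))
    (hF3 : IsPGroup 3 (Subgroup.closure ({u, φ} : Set K)))
    (hh : ⁅⁅u, φ⁆, φ⁆ ≠ 1)
    (hmin : ∀ N : Subgroup K, N ≤ Subgroup.closure ({u, φ} : Set K) →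
      (∀ f ∈ Subgroup.closure ({u, φ} : Set K), ∀ x ∈ N, f * x * f⁻¹ ∈ N) → N ≠ ⊥ → ⁅⁅u, φ⁆, φ⁆ ∈ N)
    (hb81 : Nat.card (Subgroup.centralizer ({φ} : Set K)) ≤ 81)
    (hC3 : IsPGroup 3 (Subgroup.centralizer ({φ} : Set K)))
    (hy : Nat.card (Subgroup.centralizer ({φ} : Set K)) ≤ 9 ∨
      ∃ y, Commute y φ ∧ ¬ Commute y ⁅⁅u, φ⁆, φ⁆) :
    φ ∉ commutator K := by
  haveI : Fact (Nat.Prime 3) := ⟨Nat.prime_three⟩
  intro hφc
  set F0 := Subgroup.closure ({u, φ} : Set K) with hF0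
  set h := ⁅⁅u, φ⁆, φ⁆ with hhdef
  have hφF : φ ∈ F0 := Subgroup.subset_closure (by simp)
  have huF : u ∈ F0 := Subgroup.subset_closure (by simp)
  have hhF : h ∈ F0 := Subgroup.commutator_le_self F0 (Subgroup.commutator_mem_commutator
    (Subgroup.commutator_le_self F0 (Subgroup.commutator_mem_commutator huF hφF)) hφF)
  have hhφ : Commute h φ := by
    haveI : Nontrivial F0 := ⟨⟨⟨h, hhF⟩, 1, fun e => hh (congrArg Subtype.val e)⟩⟩
    haveI : Nontrivial (Subgroup.center F0) := hF3.center_nontrivial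
    obtain ⟨c, hc, hch⟩ := hmin ((Subgroup.center F0).map F0.subtype) (Subgroup.map_subtype_le _) (by
        rintro f hf _ ⟨c, hc, rfl⟩
        have h1 := congrArg Subtype.val (Subgroup.mem_center_iff.1 hc ⟨f, hf⟩)
        refine ⟨c, hc, ?_⟩
        show (c : K) = f * (c : K) * f⁻¹
        have h2 : f * (c : K) = (c : K) * f := h1
        rw [h2, mul_inv_cancel_right]) (fun e => by
        rw [Subgroup.map_eq_bot_iff_of_injective _ F0.subtype_injective] at e
        exact (Subgroup.nontrivial_iff_ne_bot _).1 inferInstance e)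
    rw [← hch]
    exact (congrArg Subtype.val (Subgroup.mem_center_iff.1 hc ⟨φ, hφF⟩)).symm
  set M := Cfsg.pPrimeCore 3 K with hM
  haveI : M.Characteristic := Grp.instCharPPrimeCore
  have hMtriv : ∀ x ∈ M, ∀ n : ℕ, x ^ 3 ^ n = 1 → x = 1 := fun x hx n hn => by
    have h1 : orderOf x ∣ Nat.card M := Subgroup.orderOf_dvd_natCard M hx
    have hd := Nat.dvd_gcd h1 (orderOf_dvd_of_pow_eq_one hn)
    rw [((Grp.pPrimeCore_coprime (p := 3) (G := K)).pow_right n).gcd_eq_one] at hd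
    exact orderOf_eq_one_iff.1 (Nat.dvd_one.1 hd)
  obtain ⟨σ, hσ, hσσ⟩ := exists_quot_aut M τ hτ fun x hx => map_mem_char M τ hx
  have hu' : ((⁅⁅u, φ⁆, φ⁆ : K) : K ⧸ M) = ⁅⁅(u : K ⧸ M), (φ : K ⧸ M)⁆, (φ : K ⧸ M)⁆ := by
    rw [← QuotientGroup.mk'_apply, map_commutatorElement, map_commutatorElement]
    rfl
  have hmap : F0.map (QuotientGroup.mk' M) =
      Subgroup.closure ({(u : K ⧸ M), (φ : K ⧸ M)} : Set (K ⧸ M)) := by
    rw [hF0, MonoidHom.map_closure, Set.image_pair]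
    rfl
  refine kCore (hodd.of_dvd_nat (Subgroup.card_quotient_dvd_card M))
    (Grp.pPrimeCore_quotient_bot) σ hσσ
    (φ := (φ : K ⧸ M)) (u := (u : K ⧸ M))
    (by rw [← QuotientGroup.mk_pow, hφ3, QuotientGroup.mk_one])
    (by rw [← QuotientGroup.mk_pow, hu3, QuotientGroup.mk_one])
    (by rw [hσ, hφτ]) (by rw [hσ, huτ]) ?_ (hmap ▸ hF3.map _) ?_ ?_
    ((Cfsg.Agent.Block.card_centralizer_quotient_le M φ).trans hb81) ?_ ?_
  · intro y hy'
    obtain ⟨g, rfl⟩ := QuotientGroup.mk_surjective y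
    obtain ⟨f, e, rfl, hf, he, hmem⟩ := exists_split_odd hodd τ hτ g
    rw [hσ] at hy'
    have heM : e ∈ M := (Subgroup.zpowers_le.2 (QuotientGroup.eq.1 hy'.symm)) hmem
    rw [← hmap]
    refine ⟨f, hfix f hf, ?_⟩
    rw [QuotientGroup.mk'_apply, QuotientGroup.mk_mul, (QuotientGroup.eq_one_iff e).2 heM, mul_one]
  · intro e
    rw [← hu', QuotientGroup.eq_one_iff] at e
    obtain ⟨n, hn⟩ := hF3 ⟨h, hhF⟩
    exact hh (hMtriv h e n (congrArg Subtype.val hn))
  · intro N hN hNn hN1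
    rw [← hu']
    rw [← hmap] at hN hNn
    refine (hmin (N.comap (QuotientGroup.mk' M) ⊓ F0) inf_le_right ?_ ?_).1
    · intro f hf x hx
      refine ⟨?_, F0.mul_mem (F0.mul_mem hf hx.2) (F0.inv_mem hf)⟩
      have h2 := hNn _ (Subgroup.mem_map_of_mem (QuotientGroup.mk' M) hf) _ hx.1
      simpa using h2
    · intro e
      refine hN1 ((Subgroup.eq_bot_iff_forall _).2 fun w hw => ?_)
      obtain ⟨f, hf, rfl⟩ := hN hw
      have hmem : f ∈ N.comap (QuotientGroup.mk' M) ⊓ F0 := ⟨hw, hf⟩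
      rw [e] at hmem
      rw [Subgroup.mem_bot.1 hmem, map_one]
  · rcases hy with h9 | ⟨y, hyφ, hyh⟩
    · exact Or.inl ((Cfsg.Agent.Block.card_centralizer_quotient_le M φ).trans h9)
    · refine Or.inr ⟨(y : K ⧸ M), hyφ.map (QuotientGroup.mk' M), fun hc => ?_⟩
      rw [← hu', ← hhdef, ← commutatorElement_eq_one_iff_commute] at hc
      have hc' : ⁅y, h⁆ ∈ M := by
        rw [← QuotientGroup.eq_one_iff, ← QuotientGroup.mk'_apply, map_commutatorElement]
        exact hc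
      obtain ⟨n, hn⟩ := hC3 ⟨⁅y, h⁆, Subgroup.commutator_le_self _ (Subgroup.commutator_mem_commutator
        (Subgroup.mem_centralizer_singleton_iff.2 hyφ.eq)
        (Subgroup.mem_centralizer_singleton_iff.2 hhφ.eq))⟩
      exact hyh (commutatorElement_eq_one_iff_commute.1 (hMtriv _ hc' n (congrArg Subtype.val hn)))
  · have h1 := Subgroup.mem_map_of_mem (QuotientGroup.mk' M) hφc
    rwa [_root_.commutator_def, Subgroup.map_commutator,
      Subgroup.map_top_of_surjective _ (QuotientGroup.mk'_surjective M)] at h1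

end Cfsg.Agent.Invol.JankoWard.CaseD
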