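import Cfsg.Agent.Lib.Invol.JankoWard.CaseDL27
import Cfsg.Agent.Lib.Invol.JankoWard.CaseDSolv

/-!
Case D of the field part of the Janko–Thompson–Ward theorem: a group `E` with a normal subgroup
`L ≅ L2(27)` of index three and trivial centralizer.  All facts used later are collected in
`EData`; they follow by counting from the facts on `L2(27)`.
-/

set_option autoImplicit false
set_option linter.unusedSectionVars false
set_option linter.style.haveILetI false

namespace Cfsg.Agent.Invol.JankoWard.CaseD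

open Subgroup
open scoped commutatorElement Pointwise

universe u

/-- The facts on `L2(27):3`. -/
structure EData (E : Type u) [Group E] where
  /-- a four-group -/
  V : Subgroup E
  /-- an element of order three outside `L2(27)`, centralizing `V` -/
  φ : E
  /-- an element of order three with `[u, φ, φ] ≠ 1` -/
  u : E
  card_E : Nat.card E = 4 * 7371
  klein : IsKleinFour V
  φ3 : φ ^ 3 = 1
  u3 : u ^ 3 = 1
  φ1 : φ ≠ 1
  φ_comm : ∀ v ∈ V, Commute φ v
  card_centV : Nat.card (centralizer (V : Set E)) = 12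
  card_centφ : Nat.card (centralizer ({φ} : Set E)) = 36
  card_F0 : Nat.card (Subgroup.closure ({u, φ} : Set E)) = 81
  h_ne : ⁅⁅u, φ⁆, φ⁆ ≠ 1
  h3 : ⁅⁅u, φ⁆, φ⁆ ^ 3 = 1
  h_min : ∀ N : Subgroup E, N ≤ Subgroup.closure ({u, φ} : Set E) →
    (∀ f ∈ Subgroup.closure ({u, φ} : Set E), ∀ x ∈ N, f * x * f⁻¹ ∈ N) → N ≠ ⊥ → ⁅⁅u, φ⁆, φ⁆ ∈ N
  h_φ : Commute φ ⁅⁅u, φ⁆, φ⁆
  h_norm : ∀ v ∈ V, ⁅⁅u, φ⁆, φ⁆ * v * ⁅⁅u, φ⁆, φ⁆⁻¹ ∈ V
  h_move : ∀ v ∈ V, v ≠ 1 → ⁅⁅u, φ⁆, φ⁆ * v * ⁅⁅u, φ⁆, φ⁆⁻¹ ≠ v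
  cent_h : centralizer ({⁅⁅u, φ⁆, φ⁆} : Set E) = Subgroup.closure ({u, φ} : Set E)
  classes : ∀ x : E, x ^ 3 = 1 → x ≠ 1 → IsConj x φ ∨ IsConj x φ⁻¹ ∨ IsConj x ⁅⁅u, φ⁆, φ⁆ ∨
    IsConj x ⁅⁅u, φ⁆, φ⁆⁻¹
  h_nonreal : ∀ g : E, g * ⁅⁅u, φ⁆, φ⁆ * g⁻¹ ≠ ⁅⁅u, φ⁆, φ⁆⁻¹
  odd_over : ∀ O : Subgroup E, Odd (Nat.card O) → Subgroup.closure ({u, φ} : Set E) ≤ O →
    O ≠ Subgroup.closure ({u, φ} : Set E) →
      ∃ y ∈ O, orderOf y = 13 ∧ ∃ w : E, orderOf w = 2 ∧ w * y * w⁻¹ = y⁻¹
  thirteen : ∀ y : E, orderOf y = 13 → ∀ w : E, w * w = 1 → Commute w y → w = 1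

variable {E : Type u} [Group E] [Finite E]

theorem card_eq_inf_mul (L : Subgroup E) [L.Normal] (N : Subgroup E) :
    Nat.card N = Nat.card ↥(N ⊓ L) * Nat.card (N.map (QuotientGroup.mk' L)) := by
  set f := (QuotientGroup.mk' L).comp N.subtype with hf
  rw [Subgroup.card_eq_card_quotient_mul_card_subgroup f.ker, mul_comm]
  congr 1
  · rw [show f.ker = (N ⊓ L).subgroupOf N by
      rw [hf, ← MonoidHom.comap_ker, QuotientGroup.ker_mk', Subgroup.inf_subgroupOf_left]; rfl]
    exact Nat.card_congr (Subgroup.subgroupOfEquivOfLe inf_le_left).toEquiv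
  · rw [Nat.card_congr (QuotientGroup.quotientKerEquivRange f).toEquiv, hf, MonoidHom.range_comp,
      Subgroup.range_subtype]

section Facts

variable (L : Subgroup E) [L.Normal] (H : L27 L)
include H

theorem centL {x : E} (hxL : x ∈ L) (hx3 : x ^ 3 = 1) (hx1 : x ≠ 1) :
    Nat.card ↥(centralizer ({x} : Set E) ⊓ L) = 27 ∧
      ∀ a ∈ centralizer ({x} : Set E) ⊓ L, a ^ 3 = 1 ∧
        ∀ b ∈ centralizer ({x} : Set E) ⊓ L, Commute a b := by
  obtain ⟨h27, hab⟩ := H.cent_three ⟨x, hxL⟩ (Subtype.ext hx3) (fun e => hx1 (congrArg Subtype.val e))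
  have hmem : ∀ a : L, a ∈ centralizer ({(⟨x, hxL⟩ : L)} : Set L) ↔
      (a : E) ∈ centralizer ({x} : Set E) := fun a => by
    rw [mem_centralizer_singleton_iff, mem_centralizer_singleton_iff, Subtype.ext_iff]; rfl
  have hmap : (centralizer ({(⟨x, hxL⟩ : L)} : Set L)).map L.subtype =
      centralizer ({x} : Set E) ⊓ L := by
    ext a
    constructor
    · rintro ⟨b, hb, rfl⟩; exact ⟨(hmem b).1 hb, b.2⟩
    · rintro ⟨ha, haL⟩; exact ⟨⟨a, haL⟩, (hmem _).2 ha, rfl⟩
  refine ⟨by rw [← hmap, Subgroup.card_map_of_injective L.subtype_injective, h27], ?_⟩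
  rintro a ⟨ha, haL⟩
  obtain ⟨h3, hc⟩ := hab ⟨a, haL⟩ ((hmem _).2 ha)
  exact ⟨congrArg Subtype.val h3, fun b hb => congrArg Subtype.val (hc ⟨b, hb.2⟩ ((hmem _).2 hb.1))⟩

theorem eq_centL {U : Subgroup E} (hUL : U ≤ L) (hU : Nat.card U = 27) {x : E} (hx : x ∈ U)
    (hx1 : x ≠ 1) : U = centralizer ({x} : Set E) ⊓ L ∧ x ^ 3 = 1 := by
  obtain ⟨he, h3⟩ := H.eq_centralizer (U := U.subgroupOf L)
    ((Nat.card_congr (Subgroup.subgroupOfEquivOfLe hUL).toEquiv).trans hU) (x := ⟨x, hUL hx⟩) hx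
    (fun e => hx1 (congrArg Subtype.val e))
  have hx3 : x ^ 3 = 1 := congrArg Subtype.val h3
  refine ⟨Subgroup.eq_of_le_of_card_ge (fun v hv => ⟨?_, hUL hv⟩) ?_, hx3⟩
  · have h := he.le (show (⟨v, hUL hv⟩ : L) ∈ U.subgroupOf L from hv)
    exact mem_centralizer_singleton_iff.2 (congrArg Subtype.val (mem_centralizer_singleton_iff.1 h))
  · rw [(centL L H (hUL hx) hx3 hx1).1, hU]

theorem sylow_of_card {U : Subgroup E} (hUL : U ≤ L) (hU : Nat.card U = 27) :
    ∃ P : Sylow 3 L, (P : Subgroup L) = U.subgroupOf L := by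
  haveI : Fact (Nat.Prime 3) := ⟨Nat.prime_three⟩
  have hc : Nat.card (U.subgroupOf L) = 27 :=
    (Nat.card_congr (Subgroup.subgroupOfEquivOfLe hUL).toEquiv).trans hU
  have hp : IsPGroup 3 (U.subgroupOf L) := IsPGroup.of_card (n := 3) (by rw [hc]; norm_num)
  obtain ⟨P, hP⟩ := hp.exists_le_sylow
  exact ⟨P, (Subgroup.eq_of_le_of_card_ge hP (by rw [H.card_sylow_three P, hc])).symm⟩

/-- The normalizer in `L` of a subgroup of order `27`. -/
theorem normU {U : Subgroup E} (hUL : U ≤ L) (hU : Nat.card U = 27) :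
    Nat.card ↥(normalizer (U : Set E) ⊓ L) = 351 ∧
      (∀ g ∈ L, g ∈ normalizer (U : Set E) → g ^ 3 = 1 → g ∈ U) := by
  haveI : Fact (Nat.Prime 3) := ⟨Nat.prime_three⟩
  obtain ⟨P, hP⟩ := sylow_of_card L H hUL hU
  have hmem : ∀ g : L, g ∈ normalizer ((P : Subgroup L) : Set L) ↔ (g : E) ∈ normalizer (U : Set E) := by
    intro g
    rw [mem_normalizer_iff, mem_normalizer_iff, hP]
    constructor
    · intro h x
      constructor
      · intro hx
        exact (h ⟨x, hUL hx⟩).1 hx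
      · intro hx
        have hxL : x ∈ L := by
          have := (inferInstance : L.Normal).conj_mem _ (hUL hx) (g : E)⁻¹
          simpa [mul_assoc] using this
        exact (h ⟨x, hxL⟩).2 hx
    · intro h x
      exact h x
  constructor
  · have hmap : (normalizer ((P : Subgroup L) : Set L)).map L.subtype = normalizer (U : Set E) ⊓ L := by
      ext a
      constructor
      · rintro ⟨b, hb, rfl⟩; exact ⟨(hmem b).1 hb, b.2⟩
      · rintro ⟨ha, haL⟩; exact ⟨⟨a, haL⟩, (hmem _).2 ha, rfl⟩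
    rw [← hmap, Subgroup.card_map_of_injective L.subtype_injective, (H.card_normalizer_sylow P).2]
  · intro g hgL hg hg3
    have hz : IsPGroup 3 (Subgroup.zpowers (⟨g, hgL⟩ : L)) := by
      obtain ⟨i, -, hi⟩ := (Nat.dvd_prime_pow Nat.prime_three).1 (orderOf_dvd_of_pow_eq_one
        (show (⟨g, hgL⟩ : L) ^ 3 ^ 1 = 1 from Subtype.ext (by simpa using hg3)))
      exact IsPGroup.of_card (n := i) (by rw [Nat.card_zpowers, hi])
    have h := ((IsPGroup.inf_normalizer_sylow hz P).le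
      ⟨Subgroup.mem_zpowers _, (hmem ⟨g, hgL⟩).2 hg⟩).2
    exact hP.le h

theorem normU_odd {U : Subgroup E} (hUL : U ≤ L) (hU : Nat.card U = 27) {g : E} (hgL : g ∈ L)
    (hg : g ∈ normalizer (U : Set E)) (hg2 : g * g = 1) : g = 1 := by
  have hd : orderOf g ∣ 351 := (normU L H hUL hU).1 ▸ Subgroup.orderOf_dvd_natCard _ ⟨hg, hgL⟩
  have h2 : orderOf g ∣ 2 := orderOf_dvd_of_pow_eq_one (by rw [pow_two, hg2])
  exact orderOf_eq_one_iff.1 (Nat.eq_one_of_dvd_coprimes (by norm_num) h2 hd)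

/-- The subgroups of order `27` of `L`. -/
abbrev Pts : Type u := {U : Subgroup E // U ≤ L ∧ Nat.card U = 27}

theorem card_Pts : Nat.card (Pts L) = 28 := by
  haveI : Fact (Nat.Prime 3) := ⟨Nat.prime_three⟩
  obtain ⟨P⟩ : Nonempty (Sylow 3 L) := Sylow.nonempty
  rw [← (H.card_normalizer_sylow P).1]
  symm
  refine Nat.card_eq_of_bijective (fun Q : Sylow 3 L => (⟨(Q : Subgroup L).map L.subtype,
    Subgroup.map_subtype_le _, by
      rw [Subgroup.card_map_of_injective L.subtype_injective, H.card_sylow_three Q]⟩ : Pts L)) ⟨?_, ?_⟩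
  · intro Q Q' h
    exact Sylow.ext (Subgroup.map_injective L.subtype_injective (congrArg Subtype.val h))
  · rintro ⟨U, hUL, hU⟩
    obtain ⟨Q, hQ⟩ := sylow_of_card L H hUL hU
    exact ⟨Q, Subtype.ext (by
      show (Q : Subgroup L).map L.subtype = U
      rw [hQ, Subgroup.map_subgroupOf_eq_of_le hUL])⟩

end Facts

/-- The action of `E` on the subgroups of order `27` of `L`. -/
instance ptsAction (L : Subgroup E) [L.Normal] : MulAction E (Pts L) where
  smul g U := ⟨MulAut.conj g • U.1, by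
    rintro _ ⟨x, hx, rfl⟩
    exact (inferInstance : L.Normal).conj_mem x (U.2.1 hx) g, by
    exact (Nat.card_congr (Subgroup.equivSMul (MulAut.conj g) U.1).symm.toEquiv).trans U.2.2⟩
  one_smul U := Subtype.ext (show MulAut.conj (1 : E) • U.1 = U.1 by rw [map_one, one_smul])
  mul_smul a b U := Subtype.ext (show MulAut.conj (a * b) • U.1 = MulAut.conj a • MulAut.conj b • U.1 by
    rw [map_mul, mul_smul])

theorem pts_smul_eq {L : Subgroup E} [L.Normal] {g : E} {U : Pts L} :
    g • U = U ↔ g ∈ normalizer (U.1 : Set E) := by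
  rw [Subtype.ext_iff]
  show MulAut.conj g • U.1 = U.1 ↔ _
  constructor
  · intro h
    rw [mem_normalizer_iff]
    intro x
    constructor
    · intro hx
      exact h.le ⟨x, hx, rfl⟩
    · intro hx
      obtain ⟨y, hy, hxy⟩ := h.ge hx
      have : y = x := (MulAut.conj g).injective hxy
      exact this ▸ hy
  · intro h
    refine Subgroup.eq_of_le_of_card_ge ?_
      (le_of_eq (Nat.card_congr (Subgroup.equivSMul (MulAut.conj g) U.1).toEquiv))
    rintro _ ⟨x, hx, rfl⟩
    exact (mem_normalizer_iff.1 h x).1 hx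

/-- A normal subgroup of index three with an element outside: the quotient facts. -/
theorem quot_three (L : Subgroup E) [L.Normal] (hind : L.index = 3) (N : Subgroup E) :
    Nat.card (N.map (QuotientGroup.mk' L)) ∣ 3 ∧ ∀ a b : E, ⁅a, b⁆ ∈ L := by
  haveI : Fact (Nat.Prime 3) := ⟨Nat.prime_three⟩
  have hc : Nat.card (E ⧸ L) = 3 := by rw [← Subgroup.index_eq_card]; exact hind
  refine ⟨hc ▸ Subgroup.card_subgroup_dvd_card _, fun a b => ?_⟩
  haveI := isCyclic_of_prime_card hc
  let := IsCyclic.commGroup (α := E ⧸ L)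
  rw [← QuotientGroup.eq_one_iff, ← QuotientGroup.mk'_apply, map_commutatorElement,
    commutatorElement_eq_one_iff_mul_comm]
  exact mul_comm _ _

set_option maxHeartbeats 2000000 in
-- one long counting proof
theorem exists_eData (L : Subgroup E) [L.Normal] (H : L27 L) (hind : L.index = 3)
    (hC : centralizer (L : Set E) = ⊥) : Nonempty (EData E) := by
  haveI : Fact (Nat.Prime 3) := ⟨Nat.prime_three⟩
  haveI : Fact (Nat.Prime 2) := ⟨Nat.prime_two⟩
  have hcardE : Nat.card E = 4 * 7371 := by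
    rw [← L.card_mul_index, hind, H.card]
  -- a four-group
  obtain ⟨Q2⟩ : Nonempty (Sylow 2 L) := Sylow.nonempty
  have hQ2 : Nat.card (Q2 : Subgroup L) = 4 := by
    rw [Q2.card_eq_multiplicity, H.card, show (9828 : ℕ) = 2 ^ 2 * 2457 by norm_num,
      Nat.factorization_mul (by norm_num) (by norm_num), Finsupp.add_apply,
      Nat.prime_two.factorization_pow, Finsupp.single_eq_same,
      Nat.factorization_eq_zero_of_not_dvd (by norm_num : ¬ (2 ∣ 2457))]
    norm_num
  have hV0 : IsKleinFour (Q2 : Subgroup L) := by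
    refine ⟨hQ2, Nat.dvd_antisymm (Monoid.exponent_dvd_of_forall_pow_eq_one fun x => ?_) ?_⟩
    · have hd : orderOf x ∣ 2 ^ 2 := by
        have := _root_.orderOf_dvd_natCard x
        rwa [hQ2] at this
      obtain ⟨i, hi, hio⟩ := (Nat.dvd_prime_pow Nat.prime_two).1 hd
      interval_cases i
      · rw [pow_zero] at hio
        rw [orderOf_eq_one_iff.1 hio, one_pow]
      · exact orderOf_dvd_iff_pow_eq_one.1 (by rw [hio]; norm_num)
      · exact absurd (show orderOf (x : L) = 4 by rw [Subgroup.orderOf_coe, hio]; norm_num) (H.no_four _)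
    · obtain ⟨x, hx⟩ := exists_prime_orderOf_dvd_card' (G := (Q2 : Subgroup L)) 2 (by rw [hQ2]; norm_num)
      exact (dvd_of_eq hx.symm).trans (Monoid.order_dvd_exponent x)
  set V : Subgroup E := (Q2 : Subgroup L).map L.subtype with hV
  have hVL : V ≤ L := Subgroup.map_subtype_le _
  have eV : ↥(Q2 : Subgroup L) ≃* ↥V := Subgroup.equivMapOfInjective _ L.subtype L.subtype_injective
  have hVK : IsKleinFour V := ⟨(Nat.card_congr eV.symm.toEquiv).trans hQ2,
    (Monoid.exponent_eq_of_mulEquiv eV.symm).trans hV0.exponent_two⟩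
  have hVcard : Nat.card V = 4 := hVK.card_four
  obtain ⟨hVcent, hVnorm⟩ := H.four (Q2 : Subgroup L) hV0
  have hVcentE : ∀ g ∈ L, (∀ v ∈ V, Commute g v) → g ∈ V := fun g hgL hg =>
    ⟨⟨g, hgL⟩, hVcent ⟨g, hgL⟩ (fun v hv => Subtype.ext (hg v ⟨v, hv, rfl⟩).eq), rfl⟩
  have hNL : normalizer (V : Set E) ⊓ L = (normalizer ((Q2 : Subgroup L) : Set L)).map L.subtype := by
    ext g
    constructor
    · rintro ⟨hg, hgL⟩
      refine ⟨⟨g, hgL⟩, mem_normalizer_iff.2 fun x => ?_, rfl⟩
      have h := mem_normalizer_iff.1 hg (x : E)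
      constructor
      · intro hx
        obtain ⟨y, hy, hyx⟩ := h.1 ⟨x, hx, rfl⟩
        rwa [show (⟨g, hgL⟩ : L) * x * (⟨g, hgL⟩ : L)⁻¹ = y from Subtype.ext hyx.symm]
      · intro hx
        obtain ⟨y, hy, hyx⟩ := h.2 ⟨_, hx, rfl⟩
        rwa [show x = y from Subtype.ext hyx.symm]
    · rintro ⟨b, hb, rfl⟩
      refine ⟨mem_normalizer_iff.2 fun x => ?_, b.2⟩
      constructor
      · rintro ⟨y, hy, rfl⟩; exact ⟨b * y * b⁻¹, (mem_normalizer_iff.1 hb y).1 hy, rfl⟩
      · rintro ⟨y, hy, hyx⟩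
        refine ⟨b⁻¹ * y * b, (mem_normalizer_iff.1 hb _).2 (by
          rw [show b * (b⁻¹ * y * b) * b⁻¹ = y by group]; exact hy), ?_⟩
        show (b : E)⁻¹ * y * b = x
        rw [show (y : E) = (b : E) * x * (b : E)⁻¹ from hyx]
        group
  have hNLcard : Nat.card ↥(normalizer (V : Set E) ⊓ L) = 12 := by
    rw [hNL, Subgroup.card_map_of_injective L.subtype_injective, hVnorm]
  set N := normalizer (V : Set E) with hNdef
  have hsup : N ⊔ L = ⊤ := by
    have h := Sylow.normalizer_sup_eq_top Q2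
    rwa [← hV] at h
  have hNmap : Nat.card (N.map (QuotientGroup.mk' L)) = 3 := by
    have : N.map (QuotientGroup.mk' L) = ⊤ := by
      have h := congrArg (Subgroup.map (QuotientGroup.mk' L)) hsup
      rwa [Subgroup.map_sup, QuotientGroup.map_mk'_self, sup_bot_eq,
        Subgroup.map_top_of_surjective _ (QuotientGroup.mk'_surjective L)] at h
    rw [this, Subgroup.card_top, ← Subgroup.index_eq_card]
    exact hind
  have hNcard : Nat.card N = 36 := by rw [card_eq_inf_mul L N, hNLcard, hNmap]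
  -- the centralizer of the four-group
  set C := centralizer (V : Set E) with hCdef
  have hCN : C ≤ N := fun c hc => mem_normalizer_iff.2 fun x => by
    constructor
    · intro hx
      rwa [show c * x * c⁻¹ = x by rw [← mem_centralizer_iff.1 hc x hx, mul_inv_cancel_right]]
    · intro hx
      have h := mem_centralizer_iff.1 hc _ hx
      have hx2 : c * x * c⁻¹ = x := by
        calc c * x * c⁻¹ = c⁻¹ * (c * x * c⁻¹ * c) := by rw [h]; group
          _ = x := by group
      rwa [← hx2]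
  have hCL : C ⊓ L = V := le_antisymm
    (fun g hg => hVcentE g hg.2 fun v hv => ((mem_centralizer_iff.1 hg.1 v hv) : Commute v g).symm)
    (fun v hv => ⟨mem_centralizer_iff.2 fun a ha => congrArg Subtype.val
      (mul_comm_of_exponent_two hVK.exponent_two (⟨a, ha⟩ : V) ⟨v, hv⟩), hVL hv⟩)
  have hC12 : Nat.card C = 12 := by
    have h1 := card_eq_inf_mul L C
    rw [hCL, hVcard] at h1
    have h6 : Nat.card N ≤ 6 * Nat.card C := by
      classical
      haveI : Fintype V := Fintype.ofFinite _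
      have hV' : ∀ (g : N) (v : V), (g : E) * v * (g : E)⁻¹ ∈ V := fun g v =>
        (mem_normalizer_iff.1 g.2 v).1 v.2
      let f : N → Equiv.Perm {v : V // v ≠ 1} := fun g => Equiv.ofBijective
        (fun v => ⟨⟨_, hV' g v.1⟩, fun e => v.2 (Subtype.ext (conj_eq_one_iff.1 (congrArg Subtype.val e)))⟩)
        (Finite.injective_iff_bijective.1 fun a b h => Subtype.ext (Subtype.ext ((MulAut.conj (g : E)).injective
          (congrArg (fun w : {v : V // v ≠ 1} => ((w.1 : V) : E)) h))))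
      refine (Cfsg.Agent.Block.card_le_fiber_mul f (Nat.card C) fun b => ?_).trans (le_of_eq ?_)
      · rcases isEmpty_or_nonempty {g // f g = b} with he | he
        · simp
        obtain ⟨g₀, hg₀⟩ := he
        refine Nat.card_le_card_of_injective (fun g => (⟨((g₀ : N) : E)⁻¹ * (g.1 : E), ?_⟩ : C)) ?_
        · refine mem_centralizer_iff.2 fun v hv => ?_
          by_cases hv1 : v = 1
          · subst hv1; simp
          have h := congrArg (fun π : Equiv.Perm {v : V // v ≠ 1} =>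
            (((π ⟨⟨v, hv⟩, fun e => hv1 (congrArg Subtype.val e)⟩).1 : V) : E)) (g.2.trans hg₀.symm)
          have h' : (g.1 : E) * v * (g.1 : E)⁻¹ = (g₀ : E) * v * (g₀ : E)⁻¹ := h
          calc v * ((g₀ : E)⁻¹ * (g.1 : E)) = (g₀ : E)⁻¹ * ((g₀ : E) * v * (g₀ : E)⁻¹) * (g.1 : E) := by
                group
            _ = (g₀ : E)⁻¹ * ((g.1 : E) * v * (g.1 : E)⁻¹) * (g.1 : E) := by rw [h']
            _ = (g₀ : E)⁻¹ * (g.1 : E) * v := by group
        · intro a b hab
          exact Subtype.ext (Subtype.ext (mul_left_cancel (congrArg Subtype.val hab)))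
      · rw [Nat.card_eq_fintype_card, Fintype.card_perm, Fintype.card_subtype_compl,
          Fintype.card_subtype_eq, ← Nat.card_eq_fintype_card, hVcard]
        rfl
    rcases (Nat.dvd_prime Nat.prime_three).1 (quot_three L hind C).1 with h | h
    · rw [h, mul_one] at h1; omega
    · rw [h] at h1; omega
  obtain ⟨⟨φ, hφC⟩, hφo⟩ := exists_prime_orderOf_dvd_card' (G := C) 3 (by rw [hC12]; norm_num)
  replace hφo : orderOf φ = 3 := (Subgroup.orderOf_coe (⟨φ, hφC⟩ : C)).trans hφo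
  have hφ3 : φ ^ 3 = 1 := by rw [← hφo, pow_orderOf_eq_one]
  have hφ1 : φ ≠ 1 := fun e => by rw [e, orderOf_one] at hφo; omega
  have hφV : ∀ v ∈ V, Commute φ v := fun v hv => (mem_centralizer_iff.1 hφC v hv).symm
  have hφL : φ ∉ L := fun h => by
    have hv := Subgroup.orderOf_dvd_natCard V (hCL.le ⟨hφC, h⟩)
    rw [hφo, hVcard] at hv; norm_num at hv
  have hφpow : ∀ j : ℕ, φ ^ j ∈ L → φ ^ j = 1 := fun j hj => by
    have hj3 : φ ^ j = φ ^ (j % 3) := by rw [← hφo, pow_mod_orderOf]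
    rw [hj3] at hj ⊢
    have : j % 3 = 0 ∨ j % 3 = 1 ∨ j % 3 = 2 := by omega
    rcases this with h | h | h <;> rw [h] at hj ⊢
    · rw [pow_zero]
    · exact absurd (by simpa using hj) hφL
    · exfalso
      refine hφL ?_
      have h4 : φ ^ 4 = φ := by rw [show 4 = 3 + 1 by rfl, pow_succ, hφ3, one_mul]
      rw [← h4, show φ ^ 4 = (φ ^ 2) ^ 2 by rw [← pow_mul]]
      exact pow_mem hj 2
  -- the normalizer of the four-group centralizes `φ`
  have hNφ : ∀ n ∈ N, Commute n φ := by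
    intro n hn
    have hCeq : V ⊔ Subgroup.zpowers φ = C := by
      refine Subgroup.eq_of_le_of_card_ge (sup_le (hCL ▸ inf_le_left) (Subgroup.zpowers_le.2 hφC)) ?_
      have h1 := card_eq_inf_mul L (V ⊔ Subgroup.zpowers φ)
      have h4 : 4 ≤ Nat.card ↥((V ⊔ Subgroup.zpowers φ) ⊓ L) :=
        hVcard ▸ Subgroup.card_le_of_le (le_inf le_sup_left hVL)
      rcases (Nat.dvd_prime Nat.prime_three).1 (quot_three L hind (V ⊔ Subgroup.zpowers φ)).1 with h | h
      · exfalso
        rw [Subgroup.card_eq_one, Subgroup.map_eq_bot_iff, QuotientGroup.ker_mk'] at h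
        exact hφL (h (Subgroup.mem_sup_right (Subgroup.mem_zpowers φ)))
      · rw [h] at h1; omega
    have hnC : n * φ * n⁻¹ ∈ C := mem_centralizer_iff.2 fun v hv => by
      have hv' : n⁻¹ * v * n ∈ V := by simpa using (mem_normalizer_iff.1 (inv_mem hn) v).1 hv
      have h := (hφV _ hv').eq
      calc v * (n * φ * n⁻¹) = n * ((n⁻¹ * v * n) * φ) * n⁻¹ := by group
        _ = n * (φ * (n⁻¹ * v * n)) * n⁻¹ := by rw [h]
        _ = n * φ * n⁻¹ * v := by group
    have hCn : Subgroup.zpowers φ ≤ normalizer (V : Set E) := (Subgroup.zpowers_le.2 (hCN hφC))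
    rw [← hCeq, ← SetLike.mem_coe, Subgroup.coe_mul_of_right_le_normalizer_left _ _ hCn] at hnC
    obtain ⟨v, hv, x, hx, hvx⟩ := hnC
    obtain ⟨i, rfl⟩ := Subgroup.mem_zpowers_iff.1 hx
    have hvc : Commute v (φ ^ i) := ((hφV v hv).symm).zpow_right i
    have hv1 : v = 1 := by
      have h3 : (n * φ * n⁻¹) ^ 3 = 1 := by rw [conj_pow, hφ3, mul_one, mul_inv_cancel]
      rw [← hvx] at h3
      change (v * φ ^ i) ^ 3 = 1 at h3
      rw [hvc.mul_pow, ← zpow_natCast (φ ^ i), zpow_comm, zpow_natCast, hφ3, one_zpow, mul_one] at h3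
      have h2 : v * v = 1 := congrArg Subtype.val (IsKleinFour.mul_self (⟨v, hv⟩ : V))
      calc v = v ^ 3 := by rw [pow_succ, pow_two, h2, one_mul]
        _ = 1 := h3
    rw [hv1] at hvx
    have hni : φ ^ i = n * φ * n⁻¹ := (one_mul (φ ^ i)).symm.trans hvx
    have hmem : φ ^ (i - 1) ∈ L := by
      rw [zpow_sub, zpow_one, hni]
      simpa [commutatorElement_def] using (quot_three L hind N).2 n φ
    have hone : φ ^ (i - 1) = 1 := by
      obtain ⟨j, hj⟩ : ∃ j : ℕ, φ ^ (i - 1) = φ ^ j := ⟨((i - 1) % 3).toNat, by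
        rw [← zpow_natCast, Int.toNat_of_nonneg (Int.emod_nonneg _ (by norm_num)),
          show (3 : ℤ) = (orderOf φ : ℤ) by rw [hφo]; rfl, zpow_mod_orderOf]⟩
      rw [hj] at hmem ⊢
      exact hφpow j hmem
    rw [zpow_sub, zpow_one, hni, mul_inv_eq_one] at hone
    exact mul_inv_eq_iff_eq_mul.1 hone
  -- an element of order three cycling `V`
  obtain ⟨⟨w, hwN, hwL⟩, hwo⟩ :=
    exists_prime_orderOf_dvd_card' (G := ↥(N ⊓ L)) 3 (by rw [hNLcard]; norm_num)
  replace hwo : orderOf w = 3 := (Subgroup.orderOf_coe (⟨w, hwN, hwL⟩ : ↥(N ⊓ L))).trans hwo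
  have hw3 : w ^ 3 = 1 := by rw [← hwo, pow_orderOf_eq_one]
  have hw1 : w ≠ 1 := fun e => by rw [e, orderOf_one] at hwo; omega
  have hwφ : Commute w φ := hNφ w hwN
  have hwnc : ∀ v ∈ V, v ≠ 1 → ¬ Commute w v := fun v hv hv1 hc => by
    obtain ⟨h27, -⟩ := centL L H hwL hw3 hw1
    have h := Subgroup.orderOf_dvd_natCard _
      (show v ∈ centralizer ({w} : Set E) ⊓ L from ⟨mem_centralizer_singleton_iff.2 hc.symm.eq, hVL hv⟩)
    rw [h27] at h
    have h2 : orderOf v ∣ 2 := orderOf_dvd_of_pow_eq_one (by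
      rw [pow_two]; exact congrArg Subtype.val (IsKleinFour.mul_self (⟨v, hv⟩ : V)))
    exact hv1 (orderOf_eq_one_iff.1 (Nat.eq_one_of_dvd_coprimes (by norm_num) h2 h))
  set U := centralizer ({w} : Set E) ⊓ L with hUdef
  obtain ⟨hU27, hUab⟩ := centL L H hwL hw3 hw1
  rw [← hUdef] at hU27 hUab
  have hUL : U ≤ L := inf_le_right
  have hwU : w ∈ U := ⟨mem_centralizer_singleton_iff.2 rfl, hwL⟩
  let U0 : Pts L := ⟨U, hUL, hU27⟩
  set A := centralizer ({φ} : Set E) ⊓ L with hAdef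
  have hwA : w ∈ A := ⟨mem_centralizer_singleton_iff.2 hwφ.eq, hwL⟩
  have hVA : V ≤ A := fun v hv => ⟨mem_centralizer_singleton_iff.2 (hφV v hv).symm.eq, hVL hv⟩
  have hφU : φ • U0 = U0 := pts_smul_eq.2 (mem_normalizer_iff.2 fun x => by
    constructor
    · intro hx
      refine ⟨mem_centralizer_singleton_iff.2 ?_, (inferInstance : L.Normal).conj_mem x (hUL hx) φ⟩
      have h := mem_centralizer_singleton_iff.1 hx.1
      calc φ * x * φ⁻¹ * w = φ * x * (φ⁻¹ * w) := by group
        _ = φ * (x * w) * φ⁻¹ := by rw [← (hwφ.inv_right).eq]; group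
        _ = φ * (w * x) * φ⁻¹ := by rw [h]
        _ = φ * w * (x * φ⁻¹) := by group
        _ = w * φ * (x * φ⁻¹) := by rw [hwφ.eq]
        _ = w * (φ * x * φ⁻¹) := by group
    · intro hx
      have hxL : x ∈ L := by simpa [mul_assoc] using (inferInstance : L.Normal).conj_mem _ hx.2 φ⁻¹
      refine ⟨mem_centralizer_singleton_iff.2 ?_, hxL⟩
      have h := mem_centralizer_singleton_iff.1 hx.1
      calc x * w = φ⁻¹ * (φ * x * φ⁻¹) * (φ * w) := by group
        _ = φ⁻¹ * (φ * x * φ⁻¹) * (w * φ) := by rw [hwφ.eq]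
        _ = φ⁻¹ * (φ * x * φ⁻¹ * w) * φ := by group
        _ = φ⁻¹ * (w * (φ * x * φ⁻¹)) * φ := by rw [h]
        _ = φ⁻¹ * w * φ * x := by group
        _ = w * x := by rw [(hwφ.inv_right).symm.eq, mul_assoc w, inv_mul_cancel, mul_one])
  -- `φ` does not fix every point
  have hnotall : ∃ U' : Pts L, φ • U' ≠ U' := by
    by_contra hall
    push Not at hall
    set K0 : Subgroup E := (MulAction.toPermHom E (Pts L)).ker with hK0
    have hφK : φ ∈ K0 := MonoidHom.mem_ker.2 (Equiv.ext hall)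
    haveI := H.simple
    rcases ((inferInstance : (K0.subgroupOf L).Normal)).eq_bot_or_eq_top with h | h
    · have hcent : K0 ≤ centralizer (L : Set E) := fun k hk => mem_centralizer_iff.2 fun l hl => by
        have hm : ⁅k, l⁆ ∈ K0 ⊓ L := by
          refine Subgroup.mem_inf.2 ⟨?_, ?_⟩
          · rw [commutatorElement_def, mul_assoc, mul_assoc, ← mul_assoc l]
            exact mul_mem hk ((inferInstance : K0.Normal).conj_mem _ (inv_mem hk) l)
          · rw [commutatorElement_def]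
            exact mul_mem ((inferInstance : L.Normal).conj_mem l hl k) (inv_mem hl)
        have h1 : (⟨⁅k, l⁆, hm.2⟩ : L) ∈ K0.subgroupOf L := hm.1
        rw [h, Subgroup.mem_bot] at h1
        exact (commutatorElement_eq_one_iff_mul_comm.1 (congrArg Subtype.val h1)).symm
      exact hφ1 (Subgroup.mem_bot.1 (hC ▸ hcent hφK))
    · have hLK : L ≤ K0 := Subgroup.subgroupOf_eq_top.1 h
      have hle : L ≤ normalizer (U : Set E) := fun l hl =>
        pts_smul_eq.1 (show l • U0 = U0 from Equiv.congr_fun (MonoidHom.mem_ker.1 (hLK hl)) U0)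
      have h351 := (normU L H hUL hU27).1
      rw [inf_eq_right.2 hle, H.card] at h351
      norm_num at h351
  -- the fixed points of `φ`
  let Fix := {U' : Pts L // φ • U' = U'}
  letI : MulAction A Fix :=
    { smul := fun a U' => ⟨(a : E) • U'.1, by
        rw [smul_smul, ← mem_centralizer_singleton_iff.1 a.2.1, mul_smul, U'.2]⟩
      one_smul := fun U' => Subtype.ext (one_smul E U'.1)
      mul_smul := fun a b U' => Subtype.ext (mul_smul (a : E) (b : E) U'.1) }
  have hFixlt : Nat.card Fix < 28 := by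
    obtain ⟨U', hU'⟩ := hnotall
    rw [← card_Pts L H]
    haveI := Fintype.ofFinite (Pts L)
    classical
    rw [Nat.card_eq_fintype_card, Nat.card_eq_fintype_card]
    exact Fintype.card_subtype_lt hU'
  have hVfree : 4 ∣ Nat.card Fix := by
    letI : MulAction V Fix := MulAction.compHom Fix (Subgroup.inclusion hVA)
    refine hVcard ▸ card_dvd_of_free fun U' => (Subgroup.eq_bot_iff_forall _).2 fun v hv => ?_
    have h : (v : E) • U'.1 = U'.1 := congrArg Subtype.val (MulAction.mem_stabilizer_iff.1 hv)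
    exact Subtype.ext (normU_odd L H U'.1.2.1 U'.1.2.2 (hVL v.2) (pts_smul_eq.1 h)
      (congrArg Subtype.val (IsKleinFour.mul_self v)))
  -- the fixed points of `φ` on `U`
  have hW : Nat.card ↥(U ⊓ A) = 3 := by
    have hd : Nat.card ↥(U ⊓ A) ∣ 3 ^ 3 := by
      have := Subgroup.card_dvd_of_le (inf_le_left : U ⊓ A ≤ U)
      rw [hU27] at this; exact this
    obtain ⟨k, hk, hkc⟩ := (Nat.dvd_prime_pow Nat.prime_three).1 hd
    have hk1 : k ≠ 0 := fun e => by
      rw [e, pow_zero, Subgroup.card_eq_one] at hkc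
      exact hw1 (Subgroup.mem_bot.1 (hkc ▸ ⟨hwU, hwA⟩))
    by_contra hne
    have hk2 : 2 ≤ k := by
      rcases (show k = 1 ∨ 2 ≤ k by omega) with rfl | h
      · exact absurd (by simpa using hkc) hne
      · exact h
    -- such a subgroup acts freely outside `U`
    classical
    letI : MulAction ↥(U ⊓ A) Fix :=
      MulAction.compHom Fix (Subgroup.inclusion (inf_le_right : U ⊓ A ≤ A))
    let O := {U' : Fix // U'.1 ≠ U0}
    letI : MulAction ↥(U ⊓ A) O :=
      { smul := fun a U' => ⟨a • U'.1, fun e => U'.2 (by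
          have hfix : (a : E) • U0 = U0 := pts_smul_eq.2 (le_normalizer a.2.1)
          have e' : (a : E) • U'.1.1 = U0 := e
          exact MulAction.injective (a : E) (e'.trans hfix.symm))⟩
        one_smul := fun U' => Subtype.ext (one_smul _ U'.1)
        mul_smul := fun a b U' => Subtype.ext (mul_smul a b U'.1) }
    have hdvd : Nat.card ↥(U ⊓ A) ∣ Nat.card O := card_dvd_of_free fun U' =>
      (Subgroup.eq_bot_iff_forall _).2 fun a ha => by
        have h : (a : E) • U'.1.1 = U'.1.1 :=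
          congrArg (fun x : O => x.1.1) (MulAction.mem_stabilizer_iff.1 ha)
        by_contra ha1
        have ha1' : (a : E) ≠ 1 := fun e => ha1 (Subtype.ext e)
        have haU' : (a : E) ∈ U'.1.1.1 :=
          (normU L H U'.1.1.2.1 U'.1.1.2.2).2 _ (hUL a.2.1) (pts_smul_eq.1 h) (hUab _ a.2.1).1
        exact U'.2 (Subtype.ext ((eq_centL L H U'.1.1.2.1 U'.1.1.2.2 haU' ha1').1.trans
          (eq_centL L H hUL hU27 a.2.1 ha1').1.symm))
    haveI := Fintype.ofFinite Fix
    have hOc : Nat.card O = Nat.card Fix - 1 := by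
      rw [Nat.card_eq_fintype_card, Nat.card_eq_fintype_card, Fintype.card_subtype_compl]
      congr 1
      exact Fintype.card_eq_one_iff.2 ⟨⟨⟨U0, hφU⟩, rfl⟩, fun y => Subtype.ext (Subtype.ext y.2)⟩
    have h9 : 9 ∣ Nat.card Fix - 1 := hOc ▸ ((pow_dvd_pow 3 hk2).trans (hkc ▸ hdvd))
    have hpos : 0 < Nat.card Fix := Nat.card_pos_iff.2 ⟨⟨⟨U0, hφU⟩⟩, inferInstance⟩
    omega
  have hWw : U ⊓ A = Subgroup.zpowers w := (Subgroup.eq_of_le_of_card_ge
    (Subgroup.zpowers_le.2 (Subgroup.mem_inf.2 ⟨hwU, hwA⟩)) (by rw [hW, Nat.card_zpowers, hwo])).symm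
  -- the centralizer of `φ` in `L`
  have hstab : MulAction.stabilizer A (⟨U0, hφU⟩ : Fix) = (U ⊓ A).subgroupOf A := by
    ext a
    rw [MulAction.mem_stabilizer_iff, Subgroup.mem_subgroupOf]
    constructor
    · intro h
      have hn : (a : E) ∈ normalizer (U : Set E) := pts_smul_eq.1 (congrArg Subtype.val h)
      have hwm : (a : E) * w * (a : E)⁻¹ ∈ U ⊓ A :=
        Subgroup.mem_inf.2 ⟨(mem_normalizer_iff.1 hn w).1 hwU, A.mul_mem (A.mul_mem a.2 hwA) (A.inv_mem a.2)⟩
      rw [hWw] at hwm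
      obtain ⟨i, hi⟩ := Subgroup.mem_zpowers_iff.1 hwm
      obtain ⟨m, hm⟩ : Odd (orderOf (a : E)) := Odd.of_dvd_nat (by decide : Odd 351)
        ((normU L H hUL hU27).1 ▸ Subgroup.orderOf_dvd_natCard _ ⟨hn, a.2.2⟩)
      -- the square centralizes `w`
      have h2 : (a : E) * ((a : E) * w * (a : E)⁻¹) * (a : E)⁻¹ = w ^ (i * i) := by
        rw [← hi, ← conj_zpow, ← hi, ← zpow_mul]
      have hii : w ^ (i * i) = w := by
        have h3 : i % 3 = 1 ∨ i % 3 = 2 := by
          rcases (show i % 3 = 0 ∨ i % 3 = 1 ∨ i % 3 = 2 by omega) with h | h | h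
          · exfalso
            have : w ^ i = 1 := orderOf_dvd_iff_zpow_eq_one.1 (by rw [hwo]; exact Int.dvd_of_emod_eq_zero h)
            rw [hi, conj_eq_one_iff] at this
            exact hw1 this
          · exact Or.inl h
          · exact Or.inr h
        rw [← zpow_mod_orderOf, hwo]
        rcases h3 with h | h <;> rw [Int.mul_emod, show ((3 : ℕ) : ℤ) = 3 from rfl, h] <;> norm_num
      rw [hii] at h2
      have hc2 : Commute ((a : E) * (a : E)) w :=
        mul_inv_eq_iff_eq_mul.1 ((show (a : E) * a * w * ((a : E) * a)⁻¹ = _ by group).trans h2)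
      have hc : Commute (a : E) w := by
        have hh := hc2.pow_left (m + 1)
        rw [← pow_two, ← pow_mul, show 2 * (m + 1) = orderOf (a : E) + 1 by omega, pow_succ,
          pow_orderOf_eq_one, one_mul] at hh
        exact hh
      exact ⟨⟨mem_centralizer_singleton_iff.2 hc.eq, a.2.2⟩, a.2⟩
    · intro h
      exact Subtype.ext (show (a : E) • U0 = U0 from pts_smul_eq.2 (le_normalizer h.1))
  have hA12 : Nat.card A = 12 := by
    classical
    set orb := MulAction.orbit A (⟨U0, hφU⟩ : Fix) with horb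
    have h1 := (MulAction.stabilizer A (⟨U0, hφU⟩ : Fix)).card_mul_index
    rw [MulAction.index_stabilizer, hstab,
      Nat.card_congr (Subgroup.subgroupOfEquivOfLe (inf_le_right : U ⊓ A ≤ A)).toEquiv, hW, ← horb] at h1
    have hle : orb.ncard ≤ Nat.card Fix := by
      rw [← Set.ncard_univ]; exact Set.ncard_le_ncard (Set.subset_univ _)
    have h4 : 4 ∣ 3 * orb.ncard := h1 ▸ hVcard ▸ Subgroup.card_dvd_of_le hVA
    have h9828 : 3 * orb.ncard ∣ 9828 := h1 ▸ H.card ▸ Subgroup.card_dvd_of_le (inf_le_right : A ≤ L)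
    have h3 : ¬ 3 ∣ orb.ncard := fun h => by
      obtain ⟨P, hP⟩ := (IsPGroup.of_card (n := 1) (by
        rw [Nat.card_zpowers, pow_one, ← Subgroup.orderOf_coe]; exact hwo) :
        IsPGroup 3 (Subgroup.zpowers (⟨w, hwA⟩ : A)) ).exists_le_sylow
      have h9 : 3 ^ 2 ∣ Nat.card (P : Subgroup A) := P.pow_dvd_card_of_pow_dvd_card (by
        rw [← h1]
        exact (show 3 ^ 2 = 3 * 3 by norm_num) ▸ Nat.mul_dvd_mul_left 3 h)
      set R := (P : Subgroup A).map A.subtype with hR
      have hR3 : IsPGroup 3 R := P.isPGroup'.map _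
      haveI : Nontrivial (P : Subgroup A) := ⟨⟨⟨⟨w, hwA⟩, hP (Subgroup.mem_zpowers _)⟩, 1, fun e =>
        hw1 (congrArg (fun x : (P : Subgroup A) => ((x : A) : E)) e)⟩⟩
      haveI : Nontrivial (Subgroup.center (P : Subgroup A)) := P.isPGroup'.center_nontrivial
      obtain ⟨c, hc⟩ := exists_ne (1 : Subgroup.center (P : Subgroup A))
      set ce := (((c : (P : Subgroup A)) : A) : E) with hce
      have hce1 : ce ≠ 1 := fun e => hc (Subtype.ext (Subtype.ext (Subtype.ext e)))
      have hwR : Commute w ce := congrArg (fun x : (P : Subgroup A) => ((x : A) : E))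
        (Subgroup.mem_center_iff.1 c.2 ⟨⟨w, hwA⟩, hP (Subgroup.mem_zpowers _)⟩)
      have hcU : ce ∈ U := ⟨mem_centralizer_singleton_iff.2 hwR.symm.eq, ((c : (P : Subgroup A)) : A).2.2⟩
      have hRU : R ≤ U ⊓ A := by
        rintro _ ⟨x, hx, rfl⟩
        refine ⟨?_, x.2⟩
        rw [(eq_centL L H hUL hU27 hcU hce1).1]
        exact ⟨mem_centralizer_singleton_iff.2 (congrArg (fun z : (P : Subgroup A) => ((z : A) : E))
          (Subgroup.mem_center_iff.1 c.2 ⟨x, hx⟩)), x.2.2⟩
      have h4' := Subgroup.card_le_of_le hRU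
      rw [hW, hR, Subgroup.card_map_of_injective A.subtype_injective] at h4'
      have := Nat.le_of_dvd Nat.card_pos h9
      omega
    obtain ⟨b, hb⟩ : 4 ∣ orb.ncard := (Nat.Coprime.dvd_of_dvd_mul_left (by norm_num) h4)
    have hb7 : b < 7 := by omega
    rw [hb] at h9828 h3 h1
    interval_cases b <;> first | omega | norm_num at h9828 h3
  have hcardφ : Nat.card (centralizer ({φ} : Set E)) = 36 := by
    have h1 := card_eq_inf_mul L (centralizer ({φ} : Set E))
    rw [← hAdef, hA12] at h1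
    rcases (Nat.dvd_prime Nat.prime_three).1 (quot_three L hind (centralizer ({φ} : Set E))).1 with h | h
    · exfalso
      rw [Subgroup.card_eq_one, Subgroup.map_eq_bot_iff, QuotientGroup.ker_mk'] at h
      exact hφL (h (mem_centralizer_singleton_iff.2 rfl))
    · rw [h] at h1; exact h1
  -- the action of `φ` on `U`
  have hconjU : ∀ x ∈ U, φ * x * φ⁻¹ ∈ U := fun x hx =>
    (mem_normalizer_iff.1 (pts_smul_eq.1 hφU) x).1 hx
  have hδmem : ∀ x ∈ U, ⁅x, φ⁆ ∈ U := fun x hx => by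
    rw [show ⁅x, φ⁆ = x * (φ * x⁻¹ * φ⁻¹) by rw [commutatorElement_def]; group]
    exact mul_mem hx (hconjU _ (inv_mem hx))
  have hUcomm : ∀ a ∈ U, ∀ b ∈ U, Commute a b := fun a ha b hb => (hUab a ha).2 b hb
  have hUcube : ∀ a ∈ U, a ^ 3 = 1 := fun a ha => (hUab a ha).1
  let δ : U →* U := MonoidHom.mk' (fun x => ⟨⁅(x : E), φ⁆, hδmem x x.2⟩) fun a b => Subtype.ext (by
    show ⁅(a : E) * b, φ⁆ = ⁅(a : E), φ⁆ * ⁅(b : E), φ⁆
    calc ⁅(a : E) * b, φ⁆ = (a : E) * ⁅(b : E), φ⁆ * (a : E)⁻¹ * ⁅(a : E), φ⁆ := by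
          simp only [commutatorElement_def]; group
      _ = ⁅(b : E), φ⁆ * ⁅(a : E), φ⁆ := by
          rw [(hUcomm _ a.2 _ (hδmem _ b.2)).eq, mul_inv_cancel_right]
      _ = ⁅(a : E), φ⁆ * ⁅(b : E), φ⁆ := (hUcomm _ (hδmem _ b.2) _ (hδmem _ a.2)).eq)
  have hδker : δ.ker = (U ⊓ A).subgroupOf U := by
    ext x
    rw [MonoidHom.mem_ker, Subgroup.mem_subgroupOf, Subtype.ext_iff]
    show ⁅(x : E), φ⁆ = 1 ↔ _
    rw [commutatorElement_eq_one_iff_mul_comm]
    constructor
    · exact fun h => ⟨x.2, mem_centralizer_singleton_iff.2 h, hUL x.2⟩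
    · exact fun h => mem_centralizer_singleton_iff.1 h.2.1
  have hker3 : Nat.card δ.ker = 3 := by
    rw [hδker, Nat.card_congr (Subgroup.subgroupOfEquivOfLe (inf_le_left : U ⊓ A ≤ U)).toEquiv, hW]
  have hrange : Nat.card δ.range = 9 := by
    have h1 := Subgroup.card_eq_card_quotient_mul_card_subgroup δ.ker
    rw [hker3, Nat.card_congr (QuotientGroup.quotientKerEquivRange δ).toEquiv, hU27] at h1
    omega
  have hδ3 : ∀ x : U, δ (δ (δ x)) = 1 := fun x => Subtype.ext (by
    show ⁅⁅⁅(x : E), φ⁆, φ⁆, φ⁆ = 1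
    have hT : ∀ y ∈ U, ⁅y, φ⁆ = y * (φ * y * φ⁻¹)⁻¹ := fun y _ => by
      rw [commutatorElement_def]; group
    set a := (x : E) with ha
    set b := φ * a * φ⁻¹ with hb
    set c := φ * b * φ⁻¹ with hcdef
    have haU : a ∈ U := x.2
    have hbU : b ∈ U := hconjU a haU
    have hcU : c ∈ U := hconjU b hbU
    have hda : φ * c * φ⁻¹ = a := by
      rw [hcdef, hb, show φ * (φ * (φ * a * φ⁻¹) * φ⁻¹) * φ⁻¹ = φ ^ 3 * a * (φ ^ 3)⁻¹ by
        simp [pow_succ, mul_assoc], hφ3, one_mul, inv_one, mul_one]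
    have e1 : ⁅a, φ⁆ = a * b⁻¹ := hT a haU
    have e2 : ⁅a * b⁻¹, φ⁆ = a * b⁻¹ * (b * c⁻¹)⁻¹ := by
      rw [hT _ (mul_mem haU (inv_mem hbU)),
        show φ * (a * b⁻¹) * φ⁻¹ = φ * a * φ⁻¹ * (φ * b * φ⁻¹)⁻¹ by group, ← hb, ← hcdef]
    have e3 : a * b⁻¹ * (b * c⁻¹)⁻¹ = a * (b * c) := by
      have hbb : (b * b)⁻¹ = b := inv_eq_of_mul_eq_one_right (by
        rw [← hUcube b hbU]; simp [pow_succ, mul_assoc])
      calc a * b⁻¹ * (b * c⁻¹)⁻¹ = a * ((b⁻¹ * c) * b⁻¹) := by group
        _ = a * (c * b⁻¹ * b⁻¹) := by rw [(hUcomm _ (inv_mem hbU) _ hcU).eq]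
        _ = a * (c * (b * b)⁻¹) := by group
        _ = a * (b * c) := by rw [hbb, (hUcomm _ hcU _ hbU).eq]
    rw [e1, e2, e3, hT _ (mul_mem haU (mul_mem hbU hcU)),
      show φ * (a * (b * c)) * φ⁻¹ = φ * a * φ⁻¹ * ((φ * b * φ⁻¹) * (φ * c * φ⁻¹)) by group,
      ← hb, ← hcdef, hda, mul_inv_eq_one, ← mul_assoc b c a,
      (hUcomm _ (mul_mem hbU hcU) _ haU).eq])
  -- the element `u`
  obtain ⟨uu, huu⟩ : ∃ x : U, δ (δ x) ≠ 1 := by
    by_contra hno
    push Not at hno
    have hle : δ.range ≤ δ.ker := by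
      rintro _ ⟨x, rfl⟩; exact MonoidHom.mem_ker.2 (hno x)
    have := Subgroup.card_le_of_le hle
    rw [hker3, hrange] at this
    omega
  set uE := (uu : E) with huE
  set h := ⁅⁅uE, φ⁆, φ⁆ with hhdef
  have hh1 : h ≠ 1 := fun e => huu (Subtype.ext e)
  have hhU : h ∈ U := hδmem _ (hδmem _ uu.2)
  have hhW : h ∈ Subgroup.zpowers w := by
    have : δ (δ uu) ∈ δ.ker := MonoidHom.mem_ker.2 (hδ3 uu)
    rw [hδker] at this
    exact hWw ▸ this
  have hzh : Subgroup.zpowers h = Subgroup.zpowers w := by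
    refine Subgroup.eq_of_le_of_card_ge (Subgroup.zpowers_le.2 hhW) ?_
    rw [Nat.card_zpowers, Nat.card_zpowers, hwo]
    rcases (Nat.dvd_prime Nat.prime_three).1 (orderOf_dvd_of_pow_eq_one (hUcube h hhU)) with e | e
    · exact absurd (orderOf_eq_one_iff.1 e) hh1
    · omega
  have hwh : w ∈ Subgroup.zpowers h := hzh ▸ Subgroup.mem_zpowers w
  have hhφ : Commute φ h := by
    obtain ⟨i, hi⟩ := Subgroup.mem_zpowers_iff.1 hhW
    rw [← hi]
    exact hwφ.symm.zpow_right i
  set F0 := Subgroup.closure ({uE, φ} : Set E) with hF0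
  have huF : uE ∈ F0 := Subgroup.subset_closure (by simp)
  have hφF : φ ∈ F0 := Subgroup.subset_closure (by simp)
  have hu2F : ⁅uE, φ⁆ ∈ F0 :=
    Subgroup.commutator_le_self F0 (Subgroup.commutator_mem_commutator huF hφF)
  have hhF : h ∈ F0 := Subgroup.commutator_le_self F0 (Subgroup.commutator_mem_commutator hu2F hφF)
  have hU3 : IsPGroup 3 U := IsPGroup.of_card (n := 3) (by rw [hU27]; norm_num)
  have hUF : U ≤ F0 := by
    have hR : U ⊓ F0 = U := by
      refine Subgroup.eq_of_le_of_card_ge inf_le_left ?_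
      rw [hU27]
      obtain ⟨S1, hS1⟩ : ∃ S, S = Subgroup.zpowers h := ⟨_, rfl⟩
      set S2 := S1 ⊔ Subgroup.zpowers ⁅uE, φ⁆ with hS2
      have hS1le : S1 ≤ U := hS1 ▸ Subgroup.zpowers_le.2 hhU
      have hS2le : S2 ≤ U := sup_le hS1le (Subgroup.zpowers_le.2 (hδmem _ uu.2))
      have h12 : S1 < S2 := lt_of_le_of_ne le_sup_left fun e => by
        have hm : ⁅uE, φ⁆ ∈ S1 := e ▸ Subgroup.mem_sup_right (Subgroup.mem_zpowers _)
        rw [hS1] at hm
        rw [hzh, ← hWw] at hm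
        exact hh1 (commutatorElement_eq_one_iff_mul_comm.2 (mem_centralizer_singleton_iff.1 hm.2.1))
      have h23 : S2 < U ⊓ F0 := by
        refine lt_of_le_of_ne (le_inf hS2le (sup_le (hS1 ▸ Subgroup.zpowers_le.2 hhF)
          (Subgroup.zpowers_le.2 hu2F))) fun e => ?_
        have hm : uE ∈ S2 := e ▸ (⟨uu.2, huF⟩ : uE ∈ U ⊓ F0)
        have hsub : S2.subgroupOf U ≤ (δ.comp δ).ker := by
          have : S2 ≤ ((δ.comp δ).ker).map U.subtype := by
            refine sup_le (hS1 ▸ Subgroup.zpowers_le.2 ⟨δ (δ uu), MonoidHom.mem_ker.2 ?_, rfl⟩)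
              (Subgroup.zpowers_le.2 ⟨δ uu, MonoidHom.mem_ker.2 (hδ3 uu), rfl⟩)
            show δ (δ (δ (δ uu))) = 1
            exact hδ3 _
          rintro x hx
          obtain ⟨y, hy, hyx⟩ := this hx
          exact Subtype.ext hyx ▸ hy
        exact huu (MonoidHom.mem_ker.1 (hsub (show uu ∈ S2.subgroupOf U from hm)))
      have a1 := three_mul_le_of_le hU3 h12 hS2le
      have a2 := three_mul_le_of_le hU3 h23 inf_le_left
      have a0 : 3 ≤ Nat.card S1 := le_of_eq (by
        rw [hS1, hzh, Nat.card_zpowers, hwo])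
      omega
    exact hR ▸ inf_le_right
  set UF := U ⊔ Subgroup.zpowers φ with hUFdef
  have hφN : Subgroup.zpowers φ ≤ normalizer (U : Set E) :=
    Subgroup.zpowers_le.2 (pts_smul_eq.1 hφU)
  have hF0eq : F0 = UF := le_antisymm (by
      rw [hF0, Subgroup.closure_le]
      rintro x (e | e) <;> rw [e]
      exacts [Subgroup.mem_sup_left uu.2, Subgroup.mem_sup_right (Subgroup.mem_zpowers φ)])
    (sup_le hUF (Subgroup.zpowers_le.2 hφF))
  have hUFmem : ∀ x ∈ F0, ∃ a ∈ U, ∃ j : ℕ, j < 3 ∧ x = a * φ ^ j := by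
    intro x hx
    rw [hF0eq, hUFdef, ← SetLike.mem_coe, Subgroup.coe_mul_of_right_le_normalizer_left _ _ hφN] at hx
    obtain ⟨a, ha, b, hb, rfl⟩ := hx
    obtain ⟨i, rfl⟩ := Subgroup.mem_zpowers_iff.1 hb
    refine ⟨a, ha, (i % 3).toNat, by omega, ?_⟩
    show a * φ ^ i = _
    rw [← zpow_natCast, Int.toNat_of_nonneg (Int.emod_nonneg _ (by norm_num)),
      show (3 : ℤ) = (orderOf φ : ℤ) by rw [hφo]; rfl, zpow_mod_orderOf]
  have hF0L : F0 ⊓ L = U := by
    refine le_antisymm (fun x hx => ?_) (le_inf hUF hUL)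
    obtain ⟨a, ha, j, -, rfl⟩ := hUFmem x hx.1
    have : φ ^ j ∈ L := by simpa using mul_mem (inv_mem (hUL ha)) hx.2
    rw [hφpow j this, mul_one]
    exact ha
  have hF0card : Nat.card F0 = 81 := by
    have h1 := card_eq_inf_mul L F0
    rw [hF0L, hU27] at h1
    rcases (Nat.dvd_prime Nat.prime_three).1 (quot_three L hind F0).1 with h | h
    · exfalso
      rw [Subgroup.card_eq_one, Subgroup.map_eq_bot_iff, QuotientGroup.ker_mk'] at h
      exact hφL (h hφF)
    · rw [h] at h1; exact h1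
  have hF03 : IsPGroup 3 F0 := IsPGroup.of_card (n := 4) (by rw [hF0card]; norm_num)
  have hhL : h ∈ L := hUL hhU
  have hcent_h : centralizer ({h} : Set E) = F0 := by
    symm
    have hUeq : centralizer ({h} : Set E) ⊓ L = U := ((eq_centL L H hUL hU27 hhU hh1).1).symm
    refine Subgroup.eq_of_le_of_card_ge ?_ ?_
    · rw [hF0eq]
      exact sup_le (hUeq ▸ inf_le_left)
        (Subgroup.zpowers_le.2 (mem_centralizer_singleton_iff.2 hhφ.eq))
    · rw [hF0card, card_eq_inf_mul L (centralizer ({h} : Set E)), hUeq, hU27]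
      have := Nat.le_of_dvd (by norm_num) (quot_three L hind (centralizer ({h} : Set E))).1
      omega
  have hh3 : h ^ 3 = 1 := hUcube h hhU
  have hNUodd : Odd (Nat.card (normalizer (U : Set E))) := by
    rw [card_eq_inf_mul L (normalizer (U : Set E)), (normU L H hUL hU27).1]
    exact Nat.odd_mul.2 ⟨by decide, Odd.of_dvd_nat (by decide : Odd 3) (quot_three L hind _).1⟩
  refine ⟨{
    V := V
    φ := φ
    u := uE
    card_E := hcardE
    klein := hVK
    φ3 := hφ3
    u3 := hUcube _ uu.2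
    φ1 := hφ1
    φ_comm := hφV
    card_centV := hC12
    card_centφ := hcardφ
    card_F0 := hF0card
    h_ne := hh1
    h3 := hh3
    h_min := ?hmin
    h_φ := hhφ
    h_norm := ?hnorm
    h_move := ?hmove
    cent_h := hcent_h
    classes := ?classes
    h_nonreal := ?nonreal
    odd_over := ?oddover
    thirteen := ?thirteen }⟩
  case thirteen =>
    intro y hy v hv hc
    have hmemL : ∀ x : E, ¬ 3 ∣ orderOf x → x ∈ L := fun x hx => by
      have h1 := orderOf_map_dvd (QuotientGroup.mk' L) x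
      have h2 : orderOf (QuotientGroup.mk' L x) ∣ 3 := by
        rw [← hind, Subgroup.index_eq_card]; exact _root_.orderOf_dvd_natCard _
      rcases (Nat.dvd_prime Nat.prime_three).1 h2 with e | e
      · exact (QuotientGroup.eq_one_iff x).1 (orderOf_eq_one_iff.1 e)
      · exact absurd (e ▸ h1) hx
    have hyL : y ∈ L := hmemL y (by rw [hy]; norm_num)
    have hv2 : orderOf v ∣ 2 := orderOf_dvd_of_pow_eq_one (by rw [pow_two]; exact hv)
    have hvL : v ∈ L := hmemL v fun h => by have := h.trans hv2; norm_num at this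
    have h13 := H.cent_thirteen ⟨y, hyL⟩ ((Subgroup.orderOf_coe (⟨y, hyL⟩ : L)).symm.trans hy)
    have hd := Subgroup.orderOf_dvd_natCard _ (show (⟨v, hvL⟩ : L) ∈ centralizer ({(⟨y, hyL⟩ : L)} : Set L) from
      mem_centralizer_singleton_iff.2 (Subtype.ext hc.eq))
    rw [h13, ← Subgroup.orderOf_coe] at hd
    exact orderOf_eq_one_iff.1 (Nat.eq_one_of_dvd_coprimes (by norm_num) hv2 hd)
  case hmin =>
    intro M hM hMn hM1
    -- a fixed point of `F0` in `M`
    letI : MulAction F0 M :=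
      { smul := fun f x => ⟨(f : E) * x * (f : E)⁻¹, hMn f f.2 x x.2⟩
        one_smul := fun x => Subtype.ext (by show (1 : E) * x * (1 : E)⁻¹ = x; simp)
        mul_smul := fun a b x => Subtype.ext (by
          show ((a : E) * b) * x * ((a : E) * b)⁻¹ = (a : E) * ((b : E) * x * (b : E)⁻¹) * (a : E)⁻¹
          group) }
    obtain ⟨n, hn⟩ := IsPGroup.iff_card.1 (hF03.to_le hM)
    have hn0 : n ≠ 0 := fun e => hM1 (Subgroup.card_eq_one.1 (by rw [hn, e, pow_zero]))
    have hone : (1 : M) ∈ MulAction.fixedPoints F0 M := fun f =>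
      Subtype.ext (by show (f : E) * 1 * (f : E)⁻¹ = 1; simp)
    obtain ⟨c, hc, hc1⟩ := hF03.exists_fixed_point_of_prime_dvd_card_of_fixed_point M
      (hn ▸ dvd_pow_self 3 hn0) hone
    have hcomm : ∀ f ∈ F0, Commute f (c : E) := fun f hf =>
      mul_inv_eq_iff_eq_mul.1 (congrArg Subtype.val (hc ⟨f, hf⟩))
    obtain ⟨a, ha, j, hj, hcaj⟩ := hUFmem c (hM c.2)
    have hφjU : ∀ b ∈ U, Commute b (φ ^ j) := fun b hb => by
      have h1 := hcomm b (hUF hb)
      rw [hcaj] at h1
      have h2 : Commute b a := hUcomm b hb a ha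
      have := h1.symm
      show b * φ ^ j = φ ^ j * b
      calc b * φ ^ j = a⁻¹ * (b * (a * φ ^ j)) := by rw [← mul_assoc b, h2.eq]; group
        _ = a⁻¹ * (a * φ ^ j * b) := by rw [h1.eq]
        _ = φ ^ j * b := by group
    have hj0 : j = 0 := by
      by_contra hj0
      have hbig : U ≤ A := fun b hb => by
        refine ⟨mem_centralizer_singleton_iff.2 ?_, hUL hb⟩
        rcases (show j = 1 ∨ j = 2 by omega) with rfl | rfl
        · simpa using (hφjU b hb).eq
        · have h4 : φ = φ ^ 2 * φ ^ 2 := by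
            rw [← pow_add, show 2 + 2 = 3 + 1 by rfl, pow_succ, hφ3, one_mul]
          rw [h4]
          exact ((hφjU b hb).mul_right (hφjU b hb)).eq
      have := hW
      rw [inf_eq_left.2 hbig, hU27] at this
      omega
    rw [hj0, pow_zero, mul_one] at hcaj
    have hcW : (c : E) ∈ Subgroup.zpowers w :=
      hWw ▸ ⟨hcaj ▸ ha, mem_centralizer_singleton_iff.2 (hcomm φ hφF).symm.eq, hUL (hcaj ▸ ha)⟩
    rw [← hzh] at hcW
    have hc1' : (c : E) ≠ 1 := fun e => hc1 (Subtype.ext e).symm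
    have hzc : Subgroup.zpowers (c : E) = Subgroup.zpowers h := by
      refine Subgroup.eq_of_le_of_card_ge (Subgroup.zpowers_le.2 hcW) ?_
      rw [Nat.card_zpowers, Nat.card_zpowers]
      have hd := Subgroup.orderOf_dvd_natCard _ hcW
      rw [Nat.card_zpowers] at hd
      have h3' : orderOf h = 3 := orderOf_eq_prime hh3 hh1
      rw [h3'] at hd ⊢
      rcases (Nat.dvd_prime Nat.prime_three).1 hd with e | e
      · exact absurd (orderOf_eq_one_iff.1 e) hc1'
      · omega
    exact (Subgroup.zpowers_le.2 c.2 : Subgroup.zpowers (c : E) ≤ M) (hzc ▸ Subgroup.mem_zpowers h)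
  case hnorm =>
    intro v hv
    exact (mem_normalizer_iff.1 ((Subgroup.zpowers_le.2 hwN) hhW) v).1 hv
  case hmove =>
    intro v hv hv1 e
    refine hwnc v hv hv1 ?_
    obtain ⟨i, hi⟩ := Subgroup.mem_zpowers_iff.1 hwh
    rw [← hi]
    exact (show Commute h v from mul_inv_eq_iff_eq_mul.1 e).zpow_left i
  case classes =>
    intro x hx3 hx1
    obtain ⟨P, hP⟩ := hF03.exists_le_sylow
    have hPeq : (P : Subgroup E) = F0 := (Subgroup.eq_of_le_of_card_ge hP (by
      rw [hF0card, P.card_eq_multiplicity, hcardE, show (4 * 7371 : ℕ) = 3 ^ 4 * 364 by norm_num,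
        Nat.factorization_mul (by norm_num) (by norm_num), Finsupp.add_apply,
        Nat.prime_three.factorization_pow, Finsupp.single_eq_same,
        Nat.factorization_eq_zero_of_not_dvd (by norm_num : ¬ (3 ∣ 364))]
      norm_num)).symm
    obtain ⟨g, hg⟩ := Invol.exists_conj_mem_sylow (n := 1) (x := x)
      (by rw [pow_one]; exact orderOf_eq_prime hx3 hx1) P
    replace hg : g * x * g⁻¹ ∈ F0 := hPeq.le hg
    obtain ⟨a, ha, j, hj, hgx⟩ := hUFmem _ hg
    have hxc : IsConj x (g * x * g⁻¹) := isConj_iff.2 ⟨g, rfl⟩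
    have hcube : (g * x * g⁻¹) ^ 3 = 1 := by rw [conj_pow, hx3, mul_one, mul_inv_cancel]
    -- conjugates of `φ`
    have key : ∀ b ∈ U, (b * φ) ^ 3 = 1 → IsConj φ (b * φ) := by
      intro b hb hb3
      have hN : b * (φ * b * φ⁻¹) * (φ * (φ * b * φ⁻¹) * φ⁻¹) = 1 := by
        calc b * (φ * b * φ⁻¹) * (φ * (φ * b * φ⁻¹) * φ⁻¹) = (b * φ) ^ 3 * (φ ^ 3)⁻¹ := by
              simp [pow_succ, mul_assoc]
          _ = 1 := by rw [hb3, hφ3, inv_one, mul_one]
      have hmemr : (⟨b, hb⟩ : U) ∈ δ.range := by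
        have hle : δ.range ≤ (δ.comp δ).ker := by
          rintro _ ⟨y, rfl⟩; exact MonoidHom.mem_ker.2 (hδ3 y)
        have hne : (δ.comp δ).ker ≠ ⊤ := fun e =>
          huu (MonoidHom.mem_ker.1 (show uu ∈ (δ.comp δ).ker by rw [e]; exact Subgroup.mem_top uu))
        have h3le := three_mul_le hU3 (lt_top_iff_ne_top.2 hne)
        rw [Subgroup.card_top, hU27] at h3le
        rw [Subgroup.eq_of_le_of_card_ge hle (by rw [hrange]; omega)]
        refine MonoidHom.mem_ker.2 (Subtype.ext ?_)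
        show ⁅⁅b, φ⁆, φ⁆ = 1
        set b1 := φ * b * φ⁻¹ with hb1
        set b2 := φ * b1 * φ⁻¹ with hb2
        have hb1U : b1 ∈ U := hconjU b hb
        have hb2U : b2 ∈ U := hconjU b1 hb1U
        have e1 : ⁅b, φ⁆ = b * b1⁻¹ := by rw [commutatorElement_def, hb1]; group
        have e2 : ⁅b * b1⁻¹, φ⁆ = b * b1⁻¹ * (b1 * b2⁻¹)⁻¹ := by
          rw [hb2, hb1, commutatorElement_def]; group
        have e3 : b * b1⁻¹ * (b1 * b2⁻¹)⁻¹ = b * b1 * b2 := by
          have hbb : (b1 * b1)⁻¹ = b1 := inv_eq_of_mul_eq_one_right (by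
            rw [← hUcube b1 hb1U]; simp [pow_succ, mul_assoc])
          calc b * b1⁻¹ * (b1 * b2⁻¹)⁻¹ = b * ((b1⁻¹ * b2) * b1⁻¹) := by group
            _ = b * (b2 * b1⁻¹ * b1⁻¹) := by rw [(hUcomm _ (inv_mem hb1U) _ hb2U).eq]
            _ = b * (b2 * (b1 * b1)⁻¹) := by group
            _ = b * (b1 * b2) := by rw [hbb, (hUcomm _ hb2U _ hb1U).eq]
            _ = b * b1 * b2 := (mul_assoc _ _ _).symm
        rw [e1, e2, e3]
        exact hN
      obtain ⟨c, hc⟩ := hmemr
      have hc' : ⁅(c : E), φ⁆ = b := congrArg Subtype.val hc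
      exact isConj_iff.2 ⟨(c : E), by rw [← hc', commutatorElement_def]; group⟩
    rcases (show j = 0 ∨ j = 1 ∨ j = 2 by omega) with rfl | rfl | rfl
    · -- inside `U`
      rw [pow_zero, mul_one] at hgx
      have ha1 : a ≠ 1 := fun e => hx1 (conj_eq_one_iff.1 (hgx.trans e))
      classical
      set NU := normalizer (U : Set E) ⊓ L with hNU
      let X := {b : U // b ≠ 1}
      letI : MulAction NU X :=
        { smul := fun n b => ⟨⟨(n : E) * b.1 * (n : E)⁻¹, (mem_normalizer_iff.1 n.2.1 b.1).1 b.1.2⟩,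
            fun e => b.2 (Subtype.ext (conj_eq_one_iff.1 (congrArg Subtype.val e)))⟩
          one_smul := fun b => Subtype.ext (Subtype.ext (by show (1 : E) * _ * (1 : E)⁻¹ = _; simp))
          mul_smul := fun m n b => Subtype.ext (Subtype.ext (by
            show ((m : E) * n) * (b.1 : E) * ((m : E) * n)⁻¹ =
              (m : E) * ((n : E) * (b.1 : E) * (n : E)⁻¹) * (m : E)⁻¹
            group)) }
      have horbit : ∀ b : X, (MulAction.orbit NU b).ncard = 13 := by
        intro b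
        rw [← MulAction.index_stabilizer]
        have hst : MulAction.stabilizer NU b = U.subgroupOf NU := by
          ext n
          rw [MulAction.mem_stabilizer_iff, Subgroup.mem_subgroupOf]
          constructor
          · intro e
            have hc : (n : E) * (b.1 : E) * (n : E)⁻¹ = (b.1 : E) :=
              congrArg (fun z : X => ((z.1 : U) : E)) e
            rw [(eq_centL L H hUL hU27 b.1.2 fun e => b.2 (Subtype.ext e)).1]
            exact ⟨mem_centralizer_singleton_iff.2 (mul_inv_eq_iff_eq_mul.1 hc), n.2.2⟩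
          · intro hn
            refine Subtype.ext (Subtype.ext ?_)
            show (n : E) * (b.1 : E) * (n : E)⁻¹ = (b.1 : E)
            rw [(hUcomm _ hn _ b.1.2).eq, mul_inv_cancel_right]
        have h1 := (MulAction.stabilizer NU b).card_mul_index
        rw [hst, Nat.card_congr (Subgroup.subgroupOfEquivOfLe (le_inf le_normalizer hUL : U ≤ NU)).toEquiv,
          hU27, (normU L H hUL hU27).1] at h1
        rw [hst]
        omega
      let b1 : X := ⟨⟨h, hhU⟩, fun e => hh1 (congrArg Subtype.val e)⟩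
      let b2 : X := ⟨⟨h⁻¹, inv_mem hhU⟩, fun e => hh1 (inv_eq_one.1 (congrArg Subtype.val e))⟩
      have hdisj : Disjoint (MulAction.orbit NU b1) (MulAction.orbit NU b2) := by
        rw [Set.disjoint_left]
        rintro b ⟨n, rfl⟩ ⟨m, hm⟩
        have e : (m : E) * h⁻¹ * (m : E)⁻¹ = (n : E) * h * (n : E)⁻¹ :=
          congrArg (fun z : X => ((z.1 : U) : E)) hm
        set q := (n : E)⁻¹ * (m : E) with hq
        have e' : q * h⁻¹ * q⁻¹ = h := by
          calc q * h⁻¹ * q⁻¹ = (n : E)⁻¹ * ((m : E) * h⁻¹ * (m : E)⁻¹) * (n : E) := by rw [hq]; group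
            _ = h := by rw [e]; group
        have e'' : q * h * q⁻¹ = h⁻¹ := by
          calc q * h * q⁻¹ = (q * h⁻¹ * q⁻¹)⁻¹ := by group
            _ = h⁻¹ := by rw [e']
        have hqN : q ∈ normalizer (U : Set E) := mul_mem (inv_mem n.2.1) m.2.1
        obtain ⟨k, hk⟩ : Odd (orderOf q) :=
          hNUodd.of_dvd_nat (Subgroup.orderOf_dvd_natCard _ hqN)
        have hq2 : Commute (q * q) h := mul_inv_eq_iff_eq_mul.1 (by
          calc q * q * h * (q * q)⁻¹ = q * (q * h * q⁻¹) * q⁻¹ := by group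
            _ = h := by rw [e'', show q * h⁻¹ * q⁻¹ = (q * h * q⁻¹)⁻¹ by group, e'', inv_inv])
        have hqc := hq2.pow_left (k + 1)
        rw [← pow_two, ← pow_mul, show 2 * (k + 1) = orderOf q + 1 by omega, pow_succ,
          pow_orderOf_eq_one, one_mul] at hqc
        rw [hqc.eq, mul_inv_cancel_right] at e''
        have hsq : h ^ 2 = 1 := by rw [pow_two]; exact eq_inv_iff_mul_eq_one.1 e''
        exact hh1 (by
          calc h = h ^ 3 * (h ^ 2)⁻¹ := by group
            _ = 1 := by rw [hh3, hsq, inv_one, mul_one])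
      have hX : Nat.card X = 26 := by
        haveI := Fintype.ofFinite U
        rw [Nat.card_eq_fintype_card, Fintype.card_subtype_compl, Fintype.card_subtype_eq,
          ← Nat.card_eq_fintype_card, hU27]
      have hcover : MulAction.orbit NU b1 ∪ MulAction.orbit NU b2 = Set.univ := by
        refine Set.eq_of_subset_of_ncard_le (Set.subset_univ _) ?_
        rw [Set.ncard_univ, Set.ncard_union_eq hdisj, horbit, horbit, hX]
      have hax : (⟨⟨a, ha⟩, fun e => ha1 (congrArg Subtype.val e)⟩ : X) ∈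
          MulAction.orbit NU b1 ∪ MulAction.orbit NU b2 := hcover ▸ Set.mem_univ _
      rw [hgx] at hxc
      rcases hax with ⟨n, hn⟩ | ⟨n, hn⟩
      · exact Or.inr (Or.inr (Or.inl (hxc.trans
          (isConj_iff.2 ⟨(n : E), congrArg (fun z : X => ((z.1 : U) : E)) hn⟩).symm)))
      · exact Or.inr (Or.inr (Or.inr (hxc.trans
          (isConj_iff.2 ⟨(n : E), congrArg (fun z : X => ((z.1 : U) : E)) hn⟩).symm)))
    · rw [pow_one] at hgx
      exact Or.inl (hxc.trans (by rw [hgx]; exact (key a ha (hgx ▸ hcube)).symm))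
    · refine Or.inr (Or.inl (hxc.trans ?_))
      rw [hgx] at hcube ⊢
      have hb : φ * a⁻¹ * φ⁻¹ ∈ U := hconjU _ (inv_mem ha)
      have he : (a * φ ^ 2)⁻¹ = φ * a⁻¹ * φ⁻¹ * φ := by
        rw [mul_inv_rev, inv_mul_cancel_right, show (φ ^ 2)⁻¹ = φ from
          inv_eq_of_mul_eq_one_right (by rw [← pow_succ, hφ3])]
      have h2 := key _ hb (by rw [← he, inv_pow, hcube, inv_one])
      rw [← he] at h2
      obtain ⟨c, hc⟩ := isConj_iff.1 h2
      refine (isConj_iff.2 ⟨c, ?_⟩).symm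
      rw [← conj_inv, hc, inv_inv]
  case nonreal =>
    intro g hg
    have hgC : ∀ y, y ∈ F0 → g * y * g⁻¹ ∈ F0 := fun y hy => by
      rw [← hcent_h, mem_centralizer_singleton_iff] at hy ⊢
      have h' : g * h⁻¹ * g⁻¹ = h := by rw [← conj_inv, hg, inv_inv]
      calc g * y * g⁻¹ * h = g * y * g⁻¹ * (g * h⁻¹ * g⁻¹) := by rw [h']
        _ = g * (y * h⁻¹) * g⁻¹ := by group
        _ = g * (h⁻¹ * y) * g⁻¹ := by
          rw [show y * h⁻¹ = h⁻¹ * y from ((show Commute y h from hy).inv_right).eq]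
        _ = g * h⁻¹ * g⁻¹ * (g * y * g⁻¹) := by group
        _ = h * (g * y * g⁻¹) := by rw [h']
    have hgU : g ∈ normalizer (U : Set E) := by
      refine pts_smul_eq.1 (Subtype.ext (Subgroup.eq_of_le_of_card_ge ?_
        (le_of_eq (Nat.card_congr (Subgroup.equivSMul (MulAut.conj g) U).toEquiv)))
        : g • U0 = U0)
      rintro _ ⟨y, hy, rfl⟩
      exact hF0L.le ⟨hgC y (hUF hy), (inferInstance : L.Normal).conj_mem y (hUL hy) g⟩
    obtain ⟨k, hk⟩ : Odd (orderOf g) := hNUodd.of_dvd_nat (Subgroup.orderOf_dvd_natCard _ hgU)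
    have hg2 : Commute (g * g) h := mul_inv_eq_iff_eq_mul.1 (by
      calc g * g * h * (g * g)⁻¹ = g * (g * h * g⁻¹) * g⁻¹ := by group
        _ = h := by rw [hg, show g * h⁻¹ * g⁻¹ = (g * h * g⁻¹)⁻¹ by group, hg, inv_inv])
    have hgc := hg2.pow_left (k + 1)
    rw [← pow_two, ← pow_mul, show 2 * (k + 1) = orderOf g + 1 by omega, pow_succ,
      pow_orderOf_eq_one, one_mul] at hgc
    rw [hgc.eq, mul_inv_cancel_right] at hg
    have hsq : h ^ 2 = 1 := by rw [pow_two]; exact eq_inv_iff_mul_eq_one.1 hg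
    exact hh1 (by
          calc h = h ^ 3 * (h ^ 2)⁻¹ := by group
            _ = 1 := by rw [hh3, hsq, inv_one, mul_one])
  case oddover =>
    intro O hO hFO hne
    set B := O ⊓ L with hB
    have hUB : U ≤ B := le_inf (hUF.trans hFO) hUL
    have hOc : 81 < Nat.card O := hF0card ▸ lt_of_le_of_ne (Subgroup.card_le_of_le hFO)
      fun e => hne (Subgroup.eq_of_le_of_card_ge hFO e.ge).symm
    have hBc : 27 < Nat.card B := by
      have h1 := card_eq_inf_mul L O
      have h2 := Nat.le_of_dvd (by norm_num) (quot_three L hind O).1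
      rw [← hB] at h1
      nlinarith
    have hBodd : Odd (Nat.card B) := hO.of_dvd_nat (Subgroup.card_dvd_of_le inf_le_left)
    by_cases hBN : B ≤ normalizer (U : Set E)
    · have hd : Nat.card B ∣ 351 :=
        (normU L H hUL hU27).1 ▸ Subgroup.card_dvd_of_le (le_inf hBN inf_le_right)
      obtain ⟨k, hk⟩ : 27 ∣ Nat.card B := hU27 ▸ Subgroup.card_dvd_of_le hUB
      rw [hk, show 351 = 27 * 13 by norm_num] at hd
      have hk13 := (Nat.dvd_prime (by norm_num : Nat.Prime 13)).1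
        (Nat.dvd_of_mul_dvd_mul_left (by norm_num : 0 < 27) hd)
      have h13 : 13 ∣ Nat.card B := by
        rcases hk13 with rfl | rfl
        · omega
        · rw [hk]; norm_num
      haveI : Fact (Nat.Prime 13) := ⟨by norm_num⟩
      obtain ⟨⟨y, hy⟩, hyo⟩ := exists_prime_orderOf_dvd_card' (G := B) 13 h13
      replace hyo : orderOf y = 13 := (Subgroup.orderOf_coe (⟨y, hy⟩ : B)).trans hyo
      obtain ⟨v, hv, hvy⟩ := H.exists_inverter (y := ⟨y, hy.2⟩) (by rw [Subgroup.orderOf_mk, hyo])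
      exact ⟨y, hy.1, hyo, v, by rw [Subgroup.orderOf_coe, hv], congrArg Subtype.val hvy⟩
    · exfalso
      obtain ⟨g, hgB, hgN⟩ := SetLike.not_le_iff_exists.1 hBN
      classical
      set orb := MulAction.orbit B U0 with horb
      have hodd : Odd orb.ncard := hBodd.of_dvd_nat (by
        rw [horb, ← MulAction.index_stabilizer]; exact Subgroup.index_dvd_card _)
      let O' := {U' : orb // (U' : Pts L) ≠ U0}
      letI : MulAction U O' :=
        { smul := fun a U' => ⟨⟨(a : E) • (U'.1 : Pts L), by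
            obtain ⟨b, hb⟩ := U'.1.2
            exact ⟨(⟨a, hUB a.2⟩ : B) * b, by rw [← hb]; exact mul_smul (⟨a, hUB a.2⟩ : B) b U0⟩⟩,
            fun e => U'.2 (MulAction.injective (a : E) (e.trans (pts_smul_eq.2 (le_normalizer a.2)).symm))⟩
          one_smul := fun U' => Subtype.ext (Subtype.ext (one_smul E (U'.1 : Pts L)))
          mul_smul := fun a b U' => Subtype.ext (Subtype.ext (mul_smul (a : E) (b : E) (U'.1 : Pts L))) }
      have hdvd : Nat.card U ∣ Nat.card O' := card_dvd_of_free fun U' =>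
        (Subgroup.eq_bot_iff_forall _).2 fun a ha => by
          have hfix : (a : E) • (U'.1 : Pts L) = (U'.1 : Pts L) :=
            congrArg (fun z : O' => (z.1 : Pts L)) (MulAction.mem_stabilizer_iff.1 ha)
          by_contra ha1
          have ha1' : (a : E) ≠ 1 := fun e => ha1 (Subtype.ext e)
          have haU' : (a : E) ∈ (U'.1 : Pts L).1 :=
            (normU L H (U'.1 : Pts L).2.1 (U'.1 : Pts L).2.2).2 _ (hUL a.2) (pts_smul_eq.1 hfix)
              (hUcube _ a.2)
          exact U'.2 (Subtype.ext ((eq_centL L H (U'.1 : Pts L).2.1 (U'.1 : Pts L).2.2 haU' ha1').1.trans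
            (eq_centL L H hUL hU27 a.2 ha1').1.symm))
      haveI := Fintype.ofFinite orb
      have hOc' : Nat.card O' = orb.ncard - 1 := by
        rw [← Nat.card_coe_set_eq, Nat.card_eq_fintype_card, Nat.card_eq_fintype_card,
          Fintype.card_subtype_compl]
        congr 1
        exact Fintype.card_eq_one_iff.2 ⟨⟨⟨U0, MulAction.mem_orbit_self _⟩, rfl⟩,
          fun z => Subtype.ext (Subtype.ext z.2)⟩
      rw [hU27, hOc'] at hdvd
      have hle : orb.ncard ≤ 28 := by
        rw [← card_Pts L H, ← Set.ncard_univ]; exact Set.ncard_le_ncard (Set.subset_univ _)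
      have h2 : 2 ≤ orb.ncard := by
        refine (Set.one_lt_ncard).2 ⟨U0, MulAction.mem_orbit_self _, g • U0, ⟨⟨g, hgB⟩, rfl⟩, fun e => ?_⟩
        exact hgN (pts_smul_eq.1 e.symm)
      rw [Nat.odd_iff] at hodd
      omega

end Cfsg.Agent.Invol.JankoWard.CaseD
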