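import Cfsg.Agent.Lib.Invol.AbelTwo.Walter
import Cfsg.Agent.Lib.Classical.DicksonCentral
import Cfsg.Agent.Lib.Invol.GW.Consumers.DGroupEven
import Cfsg.Agent.Lib.Invol.GW.Klein.ThreeClassBasic
import Cfsg.Agent.Lib.Invol.JankoWard.CaseDExt

/-!
Case D of the field part of the Janko–Thompson–Ward theorem: a group `R` with elementary Sylow
2-subgroups of order eight, one class of involutions and involution centralizers of order 24
inside the Sylow normalizer.  Either the Sylow subgroup is normal and `|R| = 168`, or `R` has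
a normal subgroup `L2(8)` of index three (Bender).
-/

set_option autoImplicit false
set_option linter.unusedSectionVars false
set_option linter.style.haveILetI false

namespace Cfsg.Agent.Invol.JankoWard.CaseD

open Subgroup
open scoped commutatorElement Pointwise

universe u

variable {R : Type u} [Group R]

/-- The hypotheses on `R`. -/
structure RHyp (T : Subgroup R) (h t : R) : Prop where
  T8 : Nat.card T = 8
  Tsq : ∀ x ∈ T, x * x = 1
  no16 : ¬ 16 ∣ Nat.card R
  cent : ∀ s ∈ T, s ≠ 1 → Nat.card (centralizer ({s} : Set R)) = 24 ∧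
    centralizer ({s} : Set R) ≤ normalizer (T : Set R)
  centT : centralizer (T : Set R) = T
  one_class : ∀ a ∈ T, ∀ b ∈ T, a ≠ 1 → b ≠ 1 → IsConj a b
  tT : t ∈ T
  t1 : t ≠ 1
  h3 : h ^ 3 = 1
  h1 : h ≠ 1
  hcomm : Commute h t
  hcard : Nat.card ↥(centralizer ({h} : Set R) ⊓ centralizer ({t} : Set R)) = 6

/-- What is used in the nonsolvable case. -/
structure RTwo (h t : R) where
  /-- an element of order three inverted by `t` and centralized by `h` -/
  z : R
  /-- the centralizer of `z` in `L2(8)` -/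
  Q : Subgroup R
  card_R : Nat.card R = 1512
  z3 : z ^ 3 = 1
  z1 : z ≠ 1
  zh : Commute z h
  tz : t * z * t⁻¹ = z⁻¹
  zQ : z ∈ Q
  hQ' : h ∉ Q
  Q9 : Nat.card Q = 9
  Qgen : ∃ a ∈ Q, orderOf a = 9
  tQ : ∀ a ∈ Q, t * a * t⁻¹ = a⁻¹
  hQ : Subgroup.zpowers h ≤ normalizer (Q : Set R)
  hnot : ∀ a ∈ Q, orderOf a = 9 → ¬ Commute h a
  cent_z : centralizer ({z} : Set R) ≤ Q ⊔ Subgroup.zpowers h
  odd_h : ∀ x : R, Commute x h → Odd (orderOf x) → x ∈ Subgroup.zpowers h ⊔ Subgroup.zpowers z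

/-- The facts used on `L2(8)`. -/
theorem l8_facts {M : Type u} [Group M] [Finite M] [IsSimpleGroup M] (hna : ¬ IsMulCommutative M)
    {H : Subgroup M} (hH : Cfsg.IsStronglyEmbedded H) (h8 : 8 ∣ Nat.card M) (h16 : ¬ 16 ∣ Nat.card M) :
    Nat.card M = 504 ∧ (∀ x : M, x * x = 1 → x ≠ 1 → Nat.card (centralizer ({x} : Set M)) = 8) ∧
      ∀ x : M, x ^ 3 = 1 → x ≠ 1 →
        Nat.card (centralizer ({x} : Set M)) = 9 ∧ IsCyclic (centralizer ({x} : Set M)) := by
  haveI : Fact (Nat.Prime 2) := ⟨Nat.prime_two⟩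
  have hpow : ∀ n : ℕ, 2 ^ n ∣ Nat.card M → n ≤ 3 := fun n hn => by
    by_contra hlt
    exact h16 ((pow_dvd_pow 2 (show 4 ≤ n by omega)).trans hn)
  rcases (Fus.Gold.bender_of_se hna hH).1 with ⟨F, i1, i2, hc, h4, ⟨e₀⟩⟩ | ⟨K, i1, i2, q, hq, h4, hK, ⟨e⟩⟩ |
    ⟨F, i1, i2, m, hm, hF, ⟨e⟩⟩
  · classical
    haveI := hc
    let e := e₀.trans (Invol.GW.SLTwoEquivPSL (F := F))
    obtain ⟨k, hk⟩ := FiniteField.card F 2
    have heven : Even (Fintype.card F) := by rw [hk.2]; exact even_two.pow_of_ne_zero k.pos.ne'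
    have hd : Cfsg.Agent.Dickson.del F = 1 := by
      rcases Cfsg.Agent.Dickson.del_cases F with ⟨hd, -⟩ | ⟨-, he⟩
      · exact hd
      · exact absurd he (Nat.not_odd_iff_even.2 heven)
    have hcard := Cfsg.Agent.Dickson.card_psl (F := F)
    rw [hd, mul_one, ← Nat.card_congr e.toEquiv] at hcard
    have hk3 : (k : ℕ) = 3 := by
      refine le_antisymm (hpow _ (by rw [hcard, ← hk.2]; exact dvd_mul_right _ _)) ?_
      have hco : Nat.Coprime (2 ^ 3) ((Fintype.card F - 1) * (Fintype.card F + 1)) := by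
        refine Nat.Coprime.pow_left 3 (Nat.coprime_two_left.2 (Nat.odd_mul.2 ⟨?_, heven.add_one⟩))
        exact Nat.Even.sub_odd (by omega) heven odd_one
      have h2 : 2 ^ 3 ∣ Fintype.card F :=
        hco.dvd_of_dvd_mul_right (hcard ▸ (by simpa using h8 : 2 ^ 3 ∣ Nat.card M))
      rw [hk.2] at h2
      exact (Nat.pow_dvd_pow_iff_le_right (by norm_num)).1 h2
    have hF8 : Fintype.card F = 8 := by rw [hk.2, hk3]; norm_num
    refine ⟨by rw [hcard, hF8], fun x hx hx1 => ?_, fun x hx hx1 => ?_⟩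
    · have hy1 : e x ≠ 1 := fun h => hx1 (e.map_eq_one_iff.1 h)
      have hy2 : (e x) ^ 2 = 1 := by rw [← map_pow, pow_two, hx, map_one]
      have hc : centralizer ({x} : Set M) = (Cfsg.Agent.Dickson.tor (e x)).comap e.toMonoidHom := by
        rw [← Cfsg.Agent.Dickson.centralizer_eq_tor 2 hy1 (Or.inl hy2)]
        ext a
        simp only [Subgroup.mem_comap, mem_centralizer_singleton_iff, MulEquiv.coe_toMonoidHom]
        rw [← map_mul, ← map_mul, e.apply_eq_iff_eq]
      rw [hc, Subgroup.comap_equiv_eq_map_symm', ← (Dickson.card_tor_uni 2 hy1 hy2).trans hF8]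
      exact Nat.card_congr (Subgroup.equivMapOfInjective _ _ e.symm.injective).symm.toEquiv
    have hy1 : e x ≠ 1 := fun h => hx1 (e.map_eq_one_iff.1 h)
    have hy3 : orderOf (e x) = 3 := by
      haveI : Fact (Nat.Prime 3) := ⟨Nat.prime_three⟩
      exact orderOf_eq_prime (by rw [← map_pow, hx, map_one]) hy1
    have hy2 : (e x) ^ 2 ≠ 1 := fun h => by
      have := orderOf_dvd_of_pow_eq_one h; rw [hy3] at this; norm_num at this
    have hc : centralizer ({x} : Set M) = (Cfsg.Agent.Dickson.tor (e x)).comap e.toMonoidHom := by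
      rw [← Cfsg.Agent.Dickson.centralizer_eq_tor 2 hy1 (Or.inr (by rwa [← pow_two]))]
      ext a
      simp only [Subgroup.mem_comap, mem_centralizer_singleton_iff, MulEquiv.coe_toMonoidHom]
      rw [← map_mul, ← map_mul, e.apply_eq_iff_eq]
    have h3d : orderOf (e x) ∣ Nat.card (Cfsg.Agent.Dickson.tor (e x)) :=
      Subgroup.orderOf_dvd_natCard _ ((Dickson.pslData (F := F) 2).self _)
    rw [hy3] at h3d
    have h9 : Nat.card (Cfsg.Agent.Dickson.tor (e x)) = 9 := by
      rcases Dickson.card_tor_semi 2 hy1 hy2 with h | h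
      · rw [h, hF8, hd] at h3d; norm_num at h3d
      · rw [h, hF8, hd]
    haveI : IsCyclic (Cfsg.Agent.Dickson.tor (e x)) := (Dickson.pslData (F := F) 2).semi_cyclic hy1 hy2
    let f : ↥(centralizer ({x} : Set M)) ≃* ↥(Cfsg.Agent.Dickson.tor (e x)) :=
      (MulEquiv.subgroupCongr (by rw [hc, Subgroup.comap_equiv_eq_map_symm'])).trans
        (Subgroup.equivMapOfInjective _ e.symm.toMonoidHom e.symm.injective).symm
    exact ⟨(Nat.card_congr f.toEquiv).trans h9, f.isCyclic.2 inferInstance⟩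
  · exfalso
    obtain ⟨p, hc⟩ := CharP.exists K
    haveI : Fact p.Prime := ⟨CharP.char_is_prime K p⟩
    obtain rfl : p = 2 := Dickson.p_eq_two p (by rw [hK]; exact hq.pow_of_ne_zero two_ne_zero)
    obtain ⟨k, hk⟩ := FiniteField.card K 2
    obtain ⟨j, -, hj⟩ := (Nat.dvd_prime_pow Nat.prime_two).1
      (show q ∣ 2 ^ (k : ℕ) from hk.2 ▸ hK ▸ dvd_pow_self q two_ne_zero)
    have hdvd : q ^ 3 ∣ Nat.card M := by
      rw [Nat.card_congr e.toEquiv]
      have hSU : q ^ 3 ∣ Nat.card (Cfsg.SU 3 K q) := by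
        rw [Classical.UnitMult.natCard_SU3 hK, mul_assoc]
        exact dvd_mul_right _ _
      rw [Subgroup.card_eq_card_quotient_mul_card_subgroup (Subgroup.center (Cfsg.SU 3 K q))] at hSU
      refine Nat.Coprime.dvd_of_dvd_mul_right ?_ hSU
      rw [Classical.natCard_center_SU hK (by norm_num)]
      refine Nat.Coprime.coprime_dvd_right (Nat.gcd_dvd_right _ _) ?_
      exact (Nat.coprime_self_add_right.2 (Nat.coprime_one_right q)).pow_left 3
    rw [hj, ← pow_mul] at hdvd
    have h := hpow _ hdvd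
    rcases j with _ | _ | j
    · simp [hj] at h4
    · simp [hj] at h4
    · omega
  · exfalso
    have h := hpow (2 * (2 * m + 1)) (by
      rw [Nat.card_congr e.toEquiv, Recog.SuzMax.card_lie ⟨hm, hF⟩, Recog.SuzMax.szOrd, mul_assoc, ← pow_mul,
        mul_comm 2 (2 * m + 1)]
      exact dvd_mul_right _ _)
    omega

/-- A group in which three involutions `a`, `b`, `a * b` act without fixed points on an odd
normal subgroup. -/
theorem eq_bot_of_three (N : Subgroup R) [Finite R] (hN : Odd (Nat.card N)) {a b : R} (ha : a * a = 1)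
    (hb : b * b = 1) (hn : ∀ x : R, x ∈ normalizer (N : Set R))
    (h1 : ∀ c ∈ N, Commute a c → c = 1) (h2 : ∀ c ∈ N, Commute b c → c = 1)
    (h3 : ∀ c ∈ N, Commute (a * b) c → c = 1) : N = ⊥ := by
  refine (Subgroup.eq_bot_iff_forall N).2 fun x hx => h3 x hx ?_
  have ea := GW.ThreeClass.inverted_of_fixed_free ha hN (hn a) h1 hx
  have eb := GW.ThreeClass.inverted_of_fixed_free hb hN (hn b) h2 hx
  show a * b * x = x * (a * b)
  calc a * b * x = a * (b * x * b⁻¹) * b := by group
    _ = a * x⁻¹ * b := by rw [eb]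
    _ = a * x⁻¹ * a⁻¹ * (a * b) := by group
    _ = (a * x * a⁻¹)⁻¹ * (a * b) := by group
    _ = x * (a * b) := by rw [ea, inv_inv]

theorem RHyp.sylT [Finite R] {T : Subgroup R} {h t : R} (H : RHyp T h t) :
    ∃ P : Sylow 2 R, (P : Subgroup R) = T := by
  haveI : Fact (Nat.Prime 2) := ⟨Nat.prime_two⟩
  have hT2 : IsPGroup 2 T := IsPGroup.of_card (n := 3) (by rw [H.T8]; norm_num)
  obtain ⟨P, hP⟩ := hT2.exists_le_sylow
  have hPT : (P : Subgroup R) = T := by
    obtain ⟨n, hn⟩ := IsPGroup.iff_card.1 P.isPGroup'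
    have hn3 : n ≤ 3 := by
      by_contra hlt
      exact H.no16 ((pow_dvd_pow 2 (show 4 ≤ n by omega)).trans (hn ▸ Subgroup.card_subgroup_dvd_card _))
    refine (Subgroup.eq_of_le_of_card_ge hP ?_).symm
    rw [H.T8, hn]
    exact (Nat.pow_le_pow_right two_pos hn3).trans (by norm_num)
  exact ⟨P, hPT⟩

theorem RHyp.tComm {T : Subgroup R} {h t : R} (H : RHyp T h t) : ∀ a ∈ T, ∀ b ∈ T, Commute a b := by
  intro a ha b hb
  have h1 := H.Tsq _ (mul_mem ha hb)
  show a * b = b * a
  calc a * b = (a * b)⁻¹ := eq_inv_of_mul_eq_one_left h1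
    _ = b * a := by
      rw [mul_inv_rev, inv_eq_of_mul_eq_one_left (H.Tsq a ha), inv_eq_of_mul_eq_one_left (H.Tsq b hb)]

/-- The normalizer of the Sylow subgroup. -/
theorem RHyp.n168 [Finite R] {T : Subgroup R} {h t : R} (H : RHyp T h t) :
    Nat.card (normalizer (T : Set R)) = 168 := by
  haveI : Fact (Nat.Prime 2) := ⟨Nat.prime_two⟩
  haveI : Fact (Nat.Prime 3) := ⟨Nat.prime_three⟩
  set NT := normalizer (T : Set R) with hNT
  obtain ⟨P, hPT⟩ := H.sylT
  have hTcomm := H.tComm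
  let X := {v : T // v ≠ 1}
  letI : MulAction NT X :=
    { smul := fun n v => ⟨⟨(n : R) * v.1 * (n : R)⁻¹, (mem_normalizer_iff.1 n.2 v.1).1 v.1.2⟩,
        fun e => v.2 (Subtype.ext (conj_eq_one_iff.1 (congrArg Subtype.val e)))⟩
      one_smul := fun v => Subtype.ext (Subtype.ext (by show (1 : R) * _ * (1 : R)⁻¹ = _; simp))
      mul_smul := fun m n v => Subtype.ext (Subtype.ext (by
        show ((m : R) * n) * (v.1 : R) * ((m : R) * n)⁻¹ =
          (m : R) * ((n : R) * (v.1 : R) * (n : R)⁻¹) * (m : R)⁻¹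
        group)) }
  let x0 : X := ⟨⟨t, H.tT⟩, fun e => H.t1 (congrArg Subtype.val e)⟩
  have horb : MulAction.orbit NT x0 = Set.univ := by
    refine Set.eq_univ_of_forall fun v => ?_
    obtain ⟨g, hg⟩ := isConj_iff.1 (H.one_class t H.tT v.1 v.1.2 H.t1 fun e => v.2 (Subtype.ext e))
    haveI : IsMulCommutative (P : Subgroup R) :=
      ⟨⟨fun a b => Subtype.ext (hTcomm a (hPT.le a.2) b (hPT.le b.2)).eq⟩⟩
    obtain ⟨n, hn, hne⟩ := Transfer.exists_normalizer_conj_of_abelian P inferInstance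
      (hPT.ge H.tT) (g := g) (hg ▸ hPT.ge v.1.2)
    have hn' : n ∈ NT := by
      rw [hNT, ← hPT]; exact hn
    exact ⟨⟨n, hn'⟩, Subtype.ext (Subtype.ext (hne.trans hg))⟩
  have hst : MulAction.stabilizer NT x0 = (centralizer ({t} : Set R)).subgroupOf NT := by
    ext n
    rw [MulAction.mem_stabilizer_iff, Subgroup.mem_subgroupOf, mem_centralizer_singleton_iff]
    constructor
    · intro e
      exact mul_inv_eq_iff_eq_mul.1 (congrArg (fun z : X => ((z.1 : T) : R)) e)
    · intro e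
      refine Subtype.ext (Subtype.ext ?_)
      show (n : R) * t * (n : R)⁻¹ = t
      rw [e, mul_inv_cancel_right]
  have h1 := (MulAction.stabilizer NT x0).card_mul_index
  rw [MulAction.index_stabilizer, horb, Set.ncard_univ, hst,
    Nat.card_congr (Subgroup.subgroupOfEquivOfLe (H.cent t H.tT H.t1).2).toEquiv,
    (H.cent t H.tT H.t1).1] at h1
  have hX : Nat.card X = 7 := by
    classical
    haveI := Fintype.ofFinite T
    show Nat.card {v : T // ¬ v = 1} = 7
    rw [Nat.card_eq_fintype_card, Fintype.card_subtype_compl, Fintype.card_subtype_eq,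
      ← Nat.card_eq_fintype_card, H.T8]
  rw [hX] at h1
  exact h1.symm

/-- Normal subgroups of odd order are trivial. -/
theorem RHyp.odd_bot [Finite R] {T : Subgroup R} {h t : R} (H : RHyp T h t) :
    ∀ N : Subgroup R, N.Normal → Odd (Nat.card N) → N = ⊥ := by
  haveI : Fact (Nat.Prime 2) := ⟨Nat.prime_two⟩
  haveI : Fact (Nat.Prime 3) := ⟨Nat.prime_three⟩
  set NT := normalizer (T : Set R) with hNT
  obtain ⟨P, hPT⟩ := H.sylT
  have hTcomm := H.tComm
  intro N hNn hN
  haveI := hNn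
  have hfp : ∀ s ∈ T, s ≠ 1 → ∀ c ∈ N, Commute s c → c = 1 := by
    intro s hs hs1 c hc hsc
    have hcN : c ∈ NT := (H.cent s hs hs1).2 (mem_centralizer_singleton_iff.2 hsc.symm.eq)
    have hcT : c ∈ centralizer (T : Set R) := mem_centralizer_iff.2 fun v hv => by
      have h1 : ⁅v, c⁆ ∈ T := by
        rw [commutatorElement_def, mul_assoc, mul_assoc, ← mul_assoc c]
        exact mul_mem hv ((mem_normalizer_iff.1 hcN v⁻¹).1 (inv_mem hv))
      have h2 : ⁅v, c⁆ ∈ N := by
        rw [commutatorElement_def]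
        exact mul_mem (hNn.conj_mem c hc v) (inv_mem hc)
      have h3 : ⁅v, c⁆ = 1 := GW.Klein.eq_one_of_odd hN h2 (H.Tsq _ h1)
      exact commutatorElement_eq_one_iff_mul_comm.1 h3
    rw [H.centT] at hcT
    exact GW.Klein.eq_one_of_odd hN hc (H.Tsq _ hcT)
  obtain ⟨⟨s, hs⟩, hs'⟩ : ∃ s : T, s ∉ Subgroup.zpowers (⟨t, H.tT⟩ : T) := by
    by_contra hno
    push Not at hno
    have h2 : Nat.card (Subgroup.zpowers (⟨t, H.tT⟩ : T)) ≤ 2 := by
      rw [Nat.card_zpowers]
      exact Nat.le_of_dvd two_pos (orderOf_dvd_of_pow_eq_one (Subtype.ext (by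
        rw [Subgroup.coe_pow, pow_two]; exact H.Tsq t H.tT)))
    rw [show Subgroup.zpowers (⟨t, H.tT⟩ : T) = ⊤ from top_unique fun x _ => hno x, Subgroup.card_top,
      H.T8] at h2
    omega
  have hs1 : s ≠ 1 := fun e => hs' (by rw [show (⟨s, hs⟩ : T) = 1 from Subtype.ext e]; exact one_mem _)
  have hts1 : t * s ≠ 1 := fun e => hs' (by
    have : s = t := by
      rw [eq_inv_of_mul_eq_one_right e]; exact (inv_eq_of_mul_eq_one_left (H.Tsq t H.tT))
    exact (show (⟨s, hs⟩ : T) = ⟨t, H.tT⟩ from Subtype.ext this) ▸ Subgroup.mem_zpowers _)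
  exact eq_bot_of_three N hN (H.Tsq t H.tT) (H.Tsq s hs)
    (fun x => by rw [Subgroup.normalizer_eq_top_iff.2 hNn]; exact Subgroup.mem_top x)
    (hfp t H.tT H.t1) (hfp s hs hs1) (hfp _ (mul_mem H.tT hs) hts1)

/-- An element of order seven of the normalizer of the Sylow subgroup in `M`. -/
theorem RHyp.seven [Finite R] {T M : Subgroup R} {h t : R} (H : RHyp T h t) [hMn : M.Normal]
    (hTM : T ≤ M) (hMT : ¬ M ≤ normalizer (T : Set R)) :
    ∃ e : R, e ∈ normalizer (T : Set R) ∧ e ∈ M ∧ e ^ 7 = 1 ∧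
      (∀ w ∈ T, Commute e w → w = 1) ∧ 7 ∣ Nat.card ↥(normalizer (T : Set R) ⊓ M) := by
  haveI : Fact (Nat.Prime 2) := ⟨Nat.prime_two⟩
  haveI : Fact (Nat.Prime 3) := ⟨Nat.prime_three⟩
  set NT := normalizer (T : Set R) with hNT
  obtain ⟨P, hPT⟩ := H.sylT
  have hTcomm := H.tComm
  have hN168 := H.n168
  rw [← hNT] at hN168
  have hoddN := H.odd_bot
  set L := NT ⊓ M with hL
  have hTL : T ≤ L := le_inf le_normalizer hTM
  have h7 : 7 ∣ Nat.card L := by
    by_contra h7
    have hLd : Nat.card L ∣ 168 := hN168 ▸ Subgroup.card_dvd_of_le inf_le_left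
    have hL24 : Nat.card L ∣ 24 := by
      refine ((Nat.Prime.coprime_iff_not_dvd (by norm_num)).2 h7).symm.dvd_of_dvd_mul_right ?_
      norm_num
      exact hLd
    by_cases hLT : L ≤ T
    · -- then `M` has a normal complement
      obtain ⟨P', hP'⟩ : ∃ P' : Sylow 2 M, (P' : Subgroup M) = T.subgroupOf M :=
        ⟨P.subtype (hPT ▸ hTM), by rw [Sylow.coe_subtype, hPT]⟩
      have hle : normalizer ((P' : Subgroup M) : Set M) ≤ centralizer ((P' : Subgroup M) : Set M) := by
        intro m hm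
        have hmN : (m : R) ∈ NT := by
          rw [hP'] at hm
          refine mem_normalizer_iff.2 fun x => ?_
          constructor
          · intro hx
            exact (mem_normalizer_iff.1 hm ⟨x, hTM hx⟩).1 hx
          · intro hx
            have hxM : x ∈ M := by simpa [mul_assoc] using hMn.conj_mem _ (hTM hx) (m : R)⁻¹
            exact (mem_normalizer_iff.1 hm ⟨x, hxM⟩).2 hx
        have hmT := hLT (Subgroup.mem_inf.2 ⟨hmN, m.2⟩)
        exact mem_centralizer_iff.2 fun x hx => Subtype.ext (hTcomm x (hP'.le hx) m hmT).eq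
      set K := (MonoidHom.transferSylow P' hle).ker with hK
      have hKodd : Odd (Nat.card K) := by
        rw [← Nat.not_even_iff_odd, even_iff_two_dvd]
        exact MonoidHom.not_dvd_card_ker_transferSylow P' hle
      haveI : (Cfsg.pPrimeCore 2 M).Characteristic := Grp.instCharPPrimeCore
      have hcore := hoddN ((Cfsg.pPrimeCore 2 M).map M.subtype) inferInstance (by
        rw [Subgroup.card_map_of_injective M.subtype_injective]
        exact Nat.coprime_two_right.1 (Grp.pPrimeCore_coprime (p := 2)))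
      rw [Subgroup.map_eq_bot_iff_of_injective _ M.subtype_injective] at hcore
      have hKbot : K = ⊥ := eq_bot_iff.2 ((Grp.le_pPrimeCore inferInstance
        (Nat.coprime_two_right.2 hKodd)).trans hcore.le)
      have hcomp := (MonoidHom.ker_transferSylow_isComplement' P' hle).card_mul_card
      rw [← hK, hKbot, Subgroup.card_bot, one_mul, hP',
        Nat.card_congr (Subgroup.subgroupOfEquivOfLe hTM).toEquiv] at hcomp
      exact hMT ((Subgroup.eq_of_le_of_card_ge hTM hcomp.ge).ge.trans le_normalizer)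
    · obtain ⟨c, hc⟩ : 8 ∣ Nat.card L := H.T8 ▸ Subgroup.card_dvd_of_le hTL
      have hc1 : c ≠ 1 := fun e => hLT (Subgroup.eq_of_le_of_card_ge hTL (by rw [hc, e, H.T8])).ge
      have hc3 : c = 3 := by
        have hle := Nat.le_of_dvd (by norm_num) hL24
        rw [hc] at hL24 hle
        have : c ≤ 3 := by omega
        interval_cases c
        all_goals omega
      haveI : Fact (Nat.Prime 3) := ⟨Nat.prime_three⟩
      obtain ⟨⟨d, hd⟩, hdo⟩ := exists_prime_orderOf_dvd_card' (G := L) 3 (by rw [hc, hc3]; norm_num)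
      replace hdo : orderOf d = 3 := (Subgroup.orderOf_coe (⟨d, hd⟩ : L)).trans hdo
      have hdT : d ∉ T := fun h' => by
        have := Subgroup.orderOf_dvd_natCard _ h'
        rw [hdo, H.T8] at this; norm_num at this
      have hdN : Subgroup.zpowers d ≤ NT := Subgroup.zpowers_le.2 hd.1
      have hLeq : T ⊔ Subgroup.zpowers d = L := by
        refine Subgroup.eq_of_le_of_card_ge (sup_le hTL (Subgroup.zpowers_le.2 hd)) ?_
        obtain ⟨k, hk⟩ := Subgroup.card_dvd_of_le (le_sup_left : T ≤ T ⊔ Subgroup.zpowers d)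
        have h3k : 3 ∣ 8 * k := by
          rw [← H.T8, ← hk, ← hdo]
          exact Subgroup.orderOf_dvd_natCard _ (Subgroup.mem_sup_right (Subgroup.mem_zpowers d))
        have hk0 : k ≠ 0 := fun e => by
          rw [e, mul_zero] at hk; exact (Nat.card_pos (α := ↥(T ⊔ Subgroup.zpowers d))).ne' hk
        rw [hc, hc3, hk, H.T8]
        omega
      -- a point of `T` centralized by `L`
      set W := T ⊓ centralizer ({d} : Set R) with hW
      have hWn : W ≠ ⊥ := fun e => by
        haveI : Fact (Nat.Prime 3) := ⟨Nat.prime_three⟩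
        have hmod := modEq_one (R := T) (z := d) (r := 3) (by rw [← hdo, pow_orderOf_eq_one])
          (fun w hw i hi => (mem_normalizer_iff.1 (hdN hi) w).1 hw)
          (fun w hw hcw => Subgroup.mem_bot.1 (e ▸ ⟨hw, mem_centralizer_singleton_iff.2 hcw.symm.eq⟩))
        rw [H.T8] at hmod
        exact absurd hmod (by decide)
      obtain ⟨w, hwW, hw1⟩ := (Subgroup.bot_or_exists_ne_one W).resolve_left hWn
      have hLn : ∀ n ∈ NT, ∀ x ∈ L, n * x * n⁻¹ ∈ L := fun n hn x hx =>
        ⟨NT.mul_mem (NT.mul_mem hn hx.1) (NT.inv_mem hn), hMn.conj_mem x hx.2 n⟩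
      have hwc : ∀ x ∈ L, Commute x w := fun x hx => by
        have hle : T ⊔ Subgroup.zpowers d ≤ centralizer ({w} : Set R) :=
          sup_le (fun v hv => mem_centralizer_singleton_iff.2 (hTcomm v hv w hwW.1).eq)
            (Subgroup.zpowers_le.2 (mem_centralizer_singleton_iff.2
              (mem_centralizer_singleton_iff.1 hwW.2).symm))
        exact mem_centralizer_singleton_iff.1 (hle (hLeq.ge hx))
      refine hdT (H.centT.le (mem_centralizer_iff.2 fun v hv => ?_))
      by_cases hv1 : v = 1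
      · rw [hv1, one_mul, mul_one]
      obtain ⟨g, hg⟩ := isConj_iff.1 (H.one_class w hwW.1 v hv hw1 hv1)
      haveI : IsMulCommutative (P : Subgroup R) :=
        ⟨⟨fun a b => Subtype.ext (hTcomm a (hPT.le a.2) b (hPT.le b.2)).eq⟩⟩
      obtain ⟨n, hn, hne⟩ := Transfer.exists_normalizer_conj_of_abelian P inferInstance
        (hPT.ge hwW.1) (g := g) (hg ▸ hPT.ge hv)
      have hnN : n ∈ NT := by rw [hNT, ← hPT]; exact hn
      have h1 := hwc _ (hLn n⁻¹ (inv_mem hnN) d hd)
      have h2 := h1.map (MulAut.conj n).toMonoidHom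
      have h3 : Commute (n * (n⁻¹ * d * n⁻¹⁻¹) * n⁻¹) (n * w * n⁻¹) := h2
      rw [hne, hg, show n * (n⁻¹ * d * n⁻¹⁻¹) * n⁻¹ = d by group] at h3
      exact h3.symm.eq
  haveI : Fact (Nat.Prime 7) := ⟨by norm_num⟩
  obtain ⟨⟨e, he⟩, heo⟩ := exists_prime_orderOf_dvd_card' (G := L) 7 h7
  replace heo : orderOf e = 7 := (Subgroup.orderOf_coe (⟨e, he⟩ : L)).trans heo
  refine ⟨e, he.1, he.2, by rw [← heo, pow_orderOf_eq_one], fun w hw hc => ?_, h7⟩
  by_contra hw1
  have := Subgroup.orderOf_dvd_natCard _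
    (mem_centralizer_singleton_iff.2 hc.eq : e ∈ centralizer ({w} : Set R))
  rw [(H.cent w hw hw1).1, heo] at this
  norm_num at this

set_option maxHeartbeats 1000000 in
-- long structural proof
/-- The subgroup generated by the involutions is simple. -/
theorem RHyp.simple [Finite R] {T M : Subgroup R} {h t : R} (H : RHyp T h t) [hMn : M.Normal]
    (hM : M = Subgroup.closure {s : R | s * s = 1}) (hTM : T ≤ M) (hM16 : ¬ 16 ∣ Nat.card M)
    {e : R} (heN : e ∈ normalizer (T : Set R)) (heM : e ∈ M) (he7 : e ^ 7 = 1)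
    (hefree : ∀ w ∈ T, Commute e w → w = 1) : IsSimpleGroup M := by
  haveI : Fact (Nat.Prime 2) := ⟨Nat.prime_two⟩
  haveI : Fact (Nat.Prime 3) := ⟨Nat.prime_three⟩
  set NT := normalizer (T : Set R) with hNT
  obtain ⟨P, hPT⟩ := H.sylT
  have hTcomm := H.tComm
  have hT2 : IsPGroup 2 T := IsPGroup.of_card (n := 3) (by rw [H.T8]; norm_num)
  have hoddN := H.odd_bot
  haveI : Nontrivial M := ⟨⟨⟨t, hTM H.tT⟩, 1, fun e => H.t1 (congrArg Subtype.val e)⟩⟩
  refine ⟨fun N hN => ?_⟩
  haveI := hN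
  by_cases heven : Even (Nat.card N)
  · refine Or.inr ?_
    -- `N` contains the Sylow subgroup of `M` through each involution
    obtain ⟨⟨⟨s, hsM⟩, hsN⟩, hso⟩ :=
      exists_prime_orderOf_dvd_card' (G := N) 2 (even_iff_two_dvd.1 heven)
    have hsN' : (⟨s, hsM⟩ : M) ∈ N := hsN
    have hs2 : s * s = 1 := by
      have h2 := pow_orderOf_eq_one (⟨⟨s, hsM⟩, hsN⟩ : N)
      rw [hso, pow_two] at h2
      exact congrArg (fun x : N => ((x : M) : R)) h2
    have hs1 : s ≠ 1 := fun e => by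
      rw [show (⟨⟨s, hsM⟩, hsN⟩ : N) = 1 from Subtype.ext (Subtype.ext e), orderOf_one] at hso
      omega
    -- move it into `T`
    obtain ⟨P', hP'⟩ : ∃ P' : Sylow 2 M, (P' : Subgroup M) = T.subgroupOf M := by
      have hp : IsPGroup 2 (T.subgroupOf M) :=
        hT2.of_equiv (Subgroup.subgroupOfEquivOfLe hTM).symm
      obtain ⟨P', hP'⟩ := hp.exists_le_sylow
      refine ⟨P', (Subgroup.eq_of_le_of_card_ge hP' ?_).symm⟩
      obtain ⟨n, hn⟩ := IsPGroup.iff_card.1 P'.isPGroup'
      have hn3 : n ≤ 3 := by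
        by_contra hlt
        exact hM16 ((pow_dvd_pow 2 (show 4 ≤ n by omega)).trans (hn ▸ Subgroup.card_subgroup_dvd_card _))
      rw [Nat.card_congr (Subgroup.subgroupOfEquivOfLe hTM).toEquiv, H.T8, hn]
      exact (Nat.pow_le_pow_right two_pos hn3).trans (by norm_num)
    have hsord : orderOf (⟨s, hsM⟩ : M) = 2 ^ 1 := by
      rw [pow_one, ← Subgroup.orderOf_coe]
      exact orderOf_eq_prime (by rw [pow_two]; exact hs2) hs1
    obtain ⟨⟨g, hgM⟩, hg⟩ := Invol.exists_conj_mem_sylow hsord P'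
    have hgT : g * s * g⁻¹ ∈ T := hP'.le hg
    have hvN : (⟨g * s * g⁻¹, hTM hgT⟩ : M) ∈ N := hN.conj_mem _ hsN' ⟨g, hgM⟩
    -- `N` meets `T` in a subgroup invariant under an element of order seven
    have hTN : ∀ v ∈ T, ∀ hv : v ∈ M, (⟨v, hv⟩ : M) ∈ N := by
      set W := T ⊓ N.map M.subtype with hW
      suffices hWT : W = T by
        intro v hv hvM
        obtain ⟨y, hy, hyv⟩ := (hWT.ge hv).2
        rwa [show (⟨v, hvM⟩ : M) = y from Subtype.ext hyv.symm]
      have hWe : ∀ x ∈ W, ∀ i ∈ Subgroup.zpowers e, i * x * i⁻¹ ∈ W := by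
        intro x hx i hi
        obtain ⟨hiT, hiM⟩ := (Subgroup.zpowers_le.2 (Subgroup.mem_inf.2 ⟨heN, heM⟩)) hi
        obtain ⟨y, hy, rfl⟩ := hx.2
        exact ⟨(mem_normalizer_iff.1 hiT _).1 hx.1, ⟨⟨i, hiM⟩ * y * ⟨i, hiM⟩⁻¹, hN.conj_mem y hy _, rfl⟩⟩
      have hWv : g * s * g⁻¹ ∈ W := ⟨hgT, _, hvN, rfl⟩
      have hv1 : g * s * g⁻¹ ≠ 1 := fun e => hs1 (conj_eq_one_iff.1 e)
      haveI : Fact (Nat.Prime 7) := ⟨by norm_num⟩
      have hmod := modEq_one (R := W) (z := e) (r := 7) he7 hWe (fun w hw hc => hefree w hw.1 hc)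
      obtain ⟨n, hn⟩ := IsPGroup.iff_card.1 (hT2.to_le (inf_le_left : W ≤ T))
      have hn3 : n ≤ 3 := by
        have := Subgroup.card_le_of_le (inf_le_left : W ≤ T)
        rw [hn, H.T8, show (8 : ℕ) = 2 ^ 3 by norm_num] at this
        exact (Nat.pow_le_pow_iff_right (by norm_num)).1 this
      rw [hn] at hmod
      have hn0 : n ≠ 0 := fun e => hv1 (Subgroup.mem_bot.1
        ((Subgroup.card_eq_one.1 (by rw [hn, e, pow_zero])) ▸ hWv))
      have hn3' : n = 3 := by
        interval_cases n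
        · exact absurd rfl hn0
        · exact absurd hmod (by decide)
        · exact absurd hmod (by decide)
        · rfl
      exact Subgroup.eq_of_le_of_card_ge inf_le_left (by rw [hn, hn3', H.T8]; norm_num)
    rw [eq_top_iff]
    intro x _
    have hle : Subgroup.closure {s : R | s * s = 1} ≤ N.map M.subtype := by
      rw [Subgroup.closure_le]
      intro r hr
      by_cases hr1 : r = 1
      · rw [hr1]; exact one_mem _
      have hrM : r ∈ M := hM.ge (Subgroup.subset_closure hr)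
      have hrord : orderOf (⟨r, hrM⟩ : M) = 2 ^ 1 := by
        rw [pow_one, ← Subgroup.orderOf_coe]
        exact orderOf_eq_prime (by rw [pow_two]; exact hr) hr1
      obtain ⟨⟨k, hkM⟩, hk⟩ := Invol.exists_conj_mem_sylow hrord P'
      have hkT : k * r * k⁻¹ ∈ T := hP'.le hk
      have hkN := hN.conj_mem _ (hTN _ hkT (hTM hkT))
        (⟨k, hkM⟩ : M)⁻¹
      refine ⟨_, hkN, ?_⟩
      show k⁻¹ * (k * r * k⁻¹) * k⁻¹⁻¹ = r
      group
    obtain ⟨y, hy, hyx⟩ := (hM.le.trans hle) x.2
    rwa [show x = y from Subtype.ext hyx.symm]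
  · refine Or.inl (eq_bot_iff.2 ?_)
    have hle : N ≤ Cfsg.pPrimeCore 2 M := Grp.le_pPrimeCore hN
      (Nat.coprime_two_right.2 (Nat.not_even_iff_odd.1 heven))
    refine hle.trans (eq_bot_iff.1 ?_)
    rw [← Subgroup.map_eq_bot_iff_of_injective _ M.subtype_injective]
    haveI : (Cfsg.pPrimeCore 2 M).Characteristic := Grp.instCharPPrimeCore
    refine hoddN _ inferInstance ?_
    rw [Subgroup.card_map_of_injective M.subtype_injective]
    exact Nat.coprime_two_right.1 (Grp.pPrimeCore_coprime (p := 2))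

/-- What is known about `M`. -/
structure MData (T : Subgroup R) (h t : R) (M : Subgroup R) : Prop where
  normal : M.Normal
  simple : IsSimpleGroup M
  TM : T ≤ M
  MT : ¬ M ≤ normalizer (T : Set R)
  index : M.index = 3
  card_R : Nat.card R = 1512
  L56 : Nat.card ↥(normalizer (T : Set R) ⊓ M) = 56
  Ct8 : Nat.card ↥(centralizer ({t} : Set R) ⊓ M) = 8
  C3 : ∀ z ∈ M, z ^ 3 = 1 → z ≠ 1 → Nat.card ↥(centralizer ({z} : Set R) ⊓ M) = 9 ∧
    ∃ a ∈ centralizer ({z} : Set R) ⊓ M, orderOf a = 9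
  hM : h ∉ M

set_option maxHeartbeats 1000000 in
-- long structural proof
/-- The normal subgroup `L2(8)`. -/
theorem RHyp.mData [Finite R] {T : Subgroup R} {h t : R} (H : RHyp T h t) (hTn : ¬ T.Normal) :
    ∃ M : Subgroup R, MData T h t M := by
  haveI : Fact (Nat.Prime 2) := ⟨Nat.prime_two⟩
  haveI : Fact (Nat.Prime 3) := ⟨Nat.prime_three⟩
  set NT := normalizer (T : Set R) with hNT
  obtain ⟨P, hPT⟩ := H.sylT
  have hTcomm := H.tComm
  have hN168 := H.n168
  rw [← hNT] at hN168
  -- the subgroup generated by the involutions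
  set M := Subgroup.closure {s : R | s * s = 1} with hM
  haveI hMn : M.Normal := by
    refine ⟨fun n hn g => ?_⟩
    have hle : M ≤ M.comap (MulAut.conj g).toMonoidHom := by
      rw [hM, Subgroup.closure_le]
      intro r hr
      refine Subgroup.subset_closure ?_
      show g * r * g⁻¹ * (g * r * g⁻¹) = 1
      rw [conj_mul, show r * r = 1 from hr, mul_one, mul_inv_cancel]
    exact hle hn
  have hTM : T ≤ M := fun v hv => Subgroup.subset_closure (H.Tsq v hv)
  have hM8 : 8 ∣ Nat.card M := H.T8 ▸ Subgroup.card_dvd_of_le hTM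
  have hM16 : ¬ 16 ∣ Nat.card M := fun h16 => H.no16 (h16.trans (Subgroup.card_subgroup_dvd_card M))
  -- the Sylow subgroup is not normal in `M`
  have hMT : ¬ M ≤ NT := by
    intro hle
    refine hTn ?_
    have hMe : M = T := le_antisymm (by
      rw [hM, Subgroup.closure_le]
      intro r hr
      by_cases hr1 : r = 1
      · rw [hr1]; exact one_mem T
      have hrM : r ∈ M := Subgroup.subset_closure hr
      have hz : IsPGroup 2 (Subgroup.zpowers r) := IsPGroup.of_card (n := 1) (by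
        rw [Nat.card_zpowers, pow_one]; exact orderOf_eq_prime (by rw [pow_two]; exact hr) hr1)
      have hrP : r ∈ normalizer ((P : Subgroup R) : Set R) := by rw [hPT]; exact hle hrM
      exact hPT.le ((IsPGroup.inf_normalizer_sylow hz P).le ⟨Subgroup.mem_zpowers r, hrP⟩).2) hTM
    exact hMe ▸ hMn
  obtain ⟨e, heN, heM, he7, hefree, dvd_seven⟩ := H.seven hTM hMT
  haveI hMs : IsSimpleGroup M := H.simple hM hTM hM16 heN heM he7 hefree
  set LT := NT ⊓ M with hLT
  -- strong embedding and `L2(8)`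
  have hMna : ¬ IsMulCommutative M := fun hc => by
    refine hMT fun x hx => ?_
    have hxc : x ∈ centralizer (T : Set R) := mem_centralizer_iff.2 fun v hv =>
      congrArg Subtype.val (hc.is_comm.comm (⟨v, hTM hv⟩ : M) ⟨x, hx⟩)
    rw [H.centT] at hxc
    exact le_normalizer hxc
  have hse : Cfsg.IsStronglyEmbedded (NT.subgroupOf M) := by
    refine ⟨fun e => hMT (Subgroup.subgroupOf_eq_top.1 e), even_iff_two_dvd.2 ?_, fun m hm => ?_⟩
    · have hd : Nat.card T ∣ Nat.card ↥(NT.subgroupOf M) := by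
        rw [← Nat.card_congr (Subgroup.subgroupOfEquivOfLe hTM).toEquiv]
        exact Subgroup.card_dvd_of_le (Subgroup.comap_mono le_normalizer)
      exact dvd_trans (by rw [H.T8]; norm_num) hd
    · by_contra hev
      rw [Nat.not_odd_iff_even, even_iff_two_dvd] at hev
      obtain ⟨⟨x, hx1, y, hy, hyx⟩, hxo⟩ := exists_prime_orderOf_dvd_card'
        (G := ↥(NT.subgroupOf M ⊓ (NT.subgroupOf M).map (MulAut.conj m).toMonoidHom)) 2 hev
      have hyx' : (m : R) * y * (m : R)⁻¹ = (x : R) := congrArg Subtype.val hyx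
      have hxord : orderOf (x : R) = 2 := by
        rw [Subgroup.orderOf_coe]
        exact (Subgroup.orderOf_coe (⟨x, hx1, y, hy, hyx⟩ :
          ↥(NT.subgroupOf M ⊓ (NT.subgroupOf M).map (MulAut.conj m).toMonoidHom))).trans hxo
      have hmem : ∀ v : R, v ∈ NT → orderOf v = 2 → v ∈ T := fun v hv ho => by
        have hz : IsPGroup 2 (Subgroup.zpowers v) :=
          IsPGroup.of_card (n := 1) (by rw [Nat.card_zpowers, ho, pow_one])
        have hv' : v ∈ normalizer ((P : Subgroup R) : Set R) := by rw [hPT]; exact hv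
        exact hPT.le ((IsPGroup.inf_normalizer_sylow hz P).le ⟨Subgroup.mem_zpowers v, hv'⟩).2
      have hxT : (x : R) ∈ T := hmem _ hx1 hxord
      have hyT : (y : R) ∈ T := hmem _ hy (by
        rw [← hxord, ← hyx']
        exact (orderOf_injective (MulAut.conj (m : R)).toMonoidHom (MulAut.conj (m : R)).injective _).symm)
      refine hm (show (m : R) ∈ NT from mem_normalizer_iff.2 ?_)
      -- every conjugate of an element of `T` centralizes `x`, so normalizes `T`
      have hto : ∀ v ∈ T, (m : R) * v * (m : R)⁻¹ ∈ T := fun v hv => by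
        by_cases hv1 : v = 1
        · rw [hv1]; simp
        have hc : (m : R) * v * (m : R)⁻¹ ∈ centralizer ({(x : R)} : Set R) := by
          rw [mem_centralizer_singleton_iff, ← hyx', conj_mul, conj_mul, (hTcomm v hv y hyT).eq]
        refine hmem _ ((H.cent _ hxT (fun e => by rw [e, orderOf_one] at hxord; omega)).2 hc) ?_
        refine orderOf_eq_prime ?_ (fun e => hv1 (conj_eq_one_iff.1 e))
        rw [pow_two, conj_mul, H.Tsq v hv, mul_one, mul_inv_cancel]
      intro v
      refine ⟨hto v, fun hv => ?_⟩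
      let f : T → T := fun w => ⟨_, hto w w.2⟩
      obtain ⟨w, hw⟩ := Finite.surjective_of_injective (f := f)
        (fun a b hab => Subtype.ext ((MulAut.conj (m : R)).injective (congrArg Subtype.val hab))) ⟨_, hv⟩
      rw [← (MulAut.conj (m : R)).injective (congrArg Subtype.val hw : (m : R) * w * (m : R)⁻¹ = _)]
      exact w.2
  haveI := hMs
  obtain ⟨hM504, hMinv, hM3⟩ := l8_facts hMna hse hM8 hM16
  -- centralizers in `M`
  have hcentM : ∀ x ∈ M, ∀ n : ℕ, (∀ y : M, (y : R) = x → Nat.card (centralizer ({y} : Set M)) = n) →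
      Nat.card ↥(centralizer ({x} : Set R) ⊓ M) = n := by
    intro x hx n hn
    rw [← hn ⟨x, hx⟩ rfl]
    refine (Nat.card_congr (Subgroup.subgroupOfEquivOfLe inf_le_right).toEquiv).symm.trans ?_
    congr 2
    ext a
    rw [Subgroup.mem_subgroupOf, Subgroup.mem_inf, mem_centralizer_singleton_iff,
      mem_centralizer_singleton_iff, Subtype.ext_iff]
    exact ⟨fun h => h.1, fun h => ⟨h, a.2⟩⟩
  have hCt8 : Nat.card ↥(centralizer ({t} : Set R) ⊓ M) = 8 := hcentM t (hTM H.tT) 8
    fun y hy => hMinv y (Subtype.ext (by rw [Subgroup.coe_mul, hy]; exact H.Tsq t H.tT))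
      (fun e => H.t1 (by rw [← hy, e]; rfl))
  have hhC : h ∈ centralizer ({t} : Set R) := mem_centralizer_singleton_iff.2 H.hcomm.eq
  have hho : orderOf h = 3 := orderOf_eq_prime H.h3 H.h1
  have hhM : h ∉ M := fun hh => by
    have := Subgroup.orderOf_dvd_natCard _ (show h ∈ centralizer ({t} : Set R) ⊓ M from ⟨hhC, hh⟩)
    rw [hCt8, hho] at this
    norm_num at this
  have hL168 : Nat.card LT ≠ 168 := fun h' => by
    have hle : NT ≤ M := inf_eq_left.1 (Subgroup.eq_of_le_of_card_ge inf_le_left (by rw [hN168, ← hLT, h']))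
    exact hhM (hle ((H.cent t H.tT H.t1).2 hhC))
  have hLdvd : Nat.card LT ∣ 168 := hN168 ▸ Subgroup.card_dvd_of_le inf_le_left
  have h7L : 7 ∣ Nat.card LT := dvd_seven
  have hLdvd' : Nat.card LT ∣ 504 := hM504 ▸ Subgroup.card_dvd_of_le inf_le_right
  have hT_L : T ≤ LT := le_inf le_normalizer hTM
  have hL56 : Nat.card LT = 56 := by
    have h8 : 8 ∣ Nat.card LT := H.T8 ▸ Subgroup.card_dvd_of_le hT_L
    have hle : Nat.card LT ≤ 168 := Nat.le_of_dvd (by norm_num) hLdvd
    obtain ⟨c, hc⟩ : 56 ∣ Nat.card LT :=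
      (show Nat.Coprime 8 7 by norm_num).mul_dvd_of_dvd_of_dvd h8 h7L
    rw [hc] at hLdvd hL168 hle ⊢
    have hc3 : c ≤ 3 := by omega
    interval_cases c
    all_goals omega
  -- Frattini
  have hsup : NT ⊔ M = ⊤ := by
    rw [eq_top_iff]
    intro r _
    let P' : Sylow 2 M := P.subtype (hPT ▸ hTM)
    have h := Sylow.normalizer_sup_eq_top P'
    have hmap : (P' : Subgroup M).map M.subtype = T := by
      rw [Sylow.coe_subtype, Subgroup.map_subgroupOf_eq_of_le (hPT ▸ hTM), hPT]
    rw [hmap] at h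
    exact h.ge (Subgroup.mem_top r)
  have hmap : Nat.card (NT.map (QuotientGroup.mk' M)) = 3 := by
    have h1 := card_eq_inf_mul M NT
    rw [hN168, ← hLT, hL56] at h1
    omega
  have hidx : M.index = 3 := by
    rw [Subgroup.index_eq_card, ← hmap, ← Subgroup.card_top (G := R ⧸ M)]
    have := congrArg (Subgroup.map (QuotientGroup.mk' M)) hsup
    rw [Subgroup.map_sup, QuotientGroup.map_mk'_self, sup_bot_eq,
      Subgroup.map_top_of_surjective _ (QuotientGroup.mk'_surjective M)] at this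
    rw [this]
  have hcardR : Nat.card R = 1512 := by rw [← M.card_mul_index, hidx, hM504]
  refine ⟨M, hMn, hMs, hTM, hMT, hidx, hcardR, hL56, hCt8, fun z hzM hz3 hz1 => ⟨hcentM z hzM 9 fun y hy =>
    (hM3 y (Subtype.ext (by rw [Subgroup.coe_pow, hy]; exact hz3)) (fun e => hz1 (by rw [← hy, e]; rfl))).1, ?_⟩,
    hhM⟩
  obtain ⟨h9, hcyc⟩ := hM3 ⟨z, hzM⟩ (Subtype.ext hz3) (fun e => hz1 (congrArg Subtype.val e))
  obtain ⟨g, hg⟩ := IsCyclic.exists_generator (α := centralizer ({(⟨z, hzM⟩ : M)} : Set M))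
  refine ⟨((g : M) : R), ⟨?_, (g : M).2⟩, ?_⟩
  · exact mem_centralizer_singleton_iff.2
      (congrArg Subtype.val (mem_centralizer_singleton_iff.1 g.2))
  · rw [Subgroup.orderOf_coe, Subgroup.orderOf_coe, orderOf_eq_card_of_forall_mem_zpowers hg, h9]

set_option maxHeartbeats 2000000 in
-- long structural proof
/-- The nonsolvable case. -/
theorem MData.rTwo [Finite R] {T M : Subgroup R} {h t : R} (D : MData T h t M) (H : RHyp T h t) :
    Nonempty (RTwo h t) := by
  haveI : Fact (Nat.Prime 2) := ⟨Nat.prime_two⟩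
  haveI : Fact (Nat.Prime 3) := ⟨Nat.prime_three⟩
  set NT := normalizer (T : Set R) with hNT
  obtain ⟨P, hPT⟩ := H.sylT
  have hTcomm := H.tComm
  have hN168 := H.n168
  rw [← hNT] at hN168
  haveI hMn := D.normal
  haveI := D.simple
  have hTM := D.TM
  have hMT : ¬ M ≤ NT := D.MT
  have hidx := D.index
  have hcardR := D.card_R
  have hCt8 := D.Ct8
  have hhM := D.hM
  set LT := NT ⊓ M with hLT
  have hL56 : Nat.card LT = 56 := D.L56
  have hho : orderOf h = 3 := orderOf_eq_prime H.h3 H.h1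
  have hhC : h ∈ centralizer ({t} : Set R) := mem_centralizer_singleton_iff.2 H.hcomm.eq
  -- an element of order three of `M` centralized by `h`
  have hzh3 : IsPGroup 3 (Subgroup.zpowers h) :=
    IsPGroup.of_card (n := 1) (by rw [Nat.card_zpowers, hho, pow_one])
  obtain ⟨P0, hP0⟩ := hzh3.exists_le_sylow
  have hP0c : Nat.card (P0 : Subgroup R) = 27 := by
    rw [P0.card_eq_multiplicity, hcardR, show (1512 : ℕ) = 3 ^ 3 * 56 by norm_num,
      Nat.factorization_mul (by norm_num) (by norm_num), Finsupp.add_apply,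
      Nat.prime_three.factorization_pow, Finsupp.single_eq_same,
      Nat.factorization_eq_zero_of_not_dvd (by norm_num : ¬ (3 ∣ 56))]
    norm_num
  obtain ⟨z, hzM, hz3, hz1, hzh⟩ : ∃ z ∈ M, z ^ 3 = 1 ∧ z ≠ 1 ∧ Commute z h := by
    set A := (P0 : Subgroup R) ⊓ M with hA
    have hA3 : IsPGroup 3 A := P0.isPGroup'.to_le inf_le_left
    have hA9 : 9 ≤ Nat.card A := by
      have h1 := card_eq_inf_mul M (P0 : Subgroup R)
      have h2 : Nat.card ((P0 : Subgroup R).map (QuotientGroup.mk' M)) ≤ 3 := by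
        refine (Subgroup.card_le_card_group _).trans ?_
        rw [← Subgroup.index_eq_card, hidx]
      rw [hP0c, ← hA] at h1
      nlinarith
    letI : MulAction (Subgroup.zpowers h) A :=
      { smul := fun k a => ⟨(k : R) * a * (k : R)⁻¹, Subgroup.mem_inf.2
          ⟨mul_mem (mul_mem (hP0 k.2) a.2.1) (inv_mem (hP0 k.2)), hMn.conj_mem _ a.2.2 _⟩⟩
        one_smul := fun a => Subtype.ext (by show (1 : R) * a * (1 : R)⁻¹ = a; simp)
        mul_smul := fun k l a => Subtype.ext (by
          show ((k : R) * l) * a * ((k : R) * l)⁻¹ = (k : R) * ((l : R) * a * (l : R)⁻¹) * (k : R)⁻¹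
          group) }
    obtain ⟨n, hn⟩ := IsPGroup.iff_card.1 hA3
    have hn0 : n ≠ 0 := fun e => by rw [hn, e] at hA9; norm_num at hA9
    have hone : (1 : A) ∈ MulAction.fixedPoints (Subgroup.zpowers h) A := fun k =>
      Subtype.ext (by show (k : R) * 1 * (k : R)⁻¹ = 1; simp)
    obtain ⟨c, hc, hc1⟩ := hzh3.exists_fixed_point_of_prime_dvd_card_of_fixed_point A
      (hn ▸ dvd_pow_self 3 hn0) hone
    have hch : Commute h (c : R) :=
      mul_inv_eq_iff_eq_mul.1 (congrArg Subtype.val (hc ⟨h, Subgroup.mem_zpowers h⟩))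
    obtain ⟨k, hk⟩ := IsPGroup.iff_orderOf.1 hA3 c
    have hk0 : k ≠ 0 := fun e => hc1 (orderOf_eq_one_iff.1 (by rw [hk, e, pow_zero])).symm
    refine ⟨(c : R) ^ 3 ^ (k - 1), pow_mem c.2.2 _, ?_, ?_, (hch.symm.pow_left _)⟩
    · rw [← pow_mul, ← pow_succ, show k - 1 + 1 = k by omega, ← hk, ← Subgroup.orderOf_coe, pow_orderOf_eq_one]
    · intro e
      have := orderOf_dvd_of_pow_eq_one e
      rw [Subgroup.orderOf_coe, hk, Nat.pow_dvd_pow_iff_le_right (by norm_num : 1 < 3)] at this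
      omega
  set Q := centralizer ({z} : Set R) ⊓ M with hQdef
  obtain ⟨hQ9, a, haQ, hao⟩ : Nat.card Q = 9 ∧ ∃ a ∈ Q, orderOf a = 9 := D.C3 z hzM hz3 hz1
  have hQgen : Subgroup.zpowers a = Q :=
    Subgroup.eq_of_le_of_card_ge (Subgroup.zpowers_le.2 haQ) (by rw [hQ9, Nat.card_zpowers, hao])
  have hQh : Subgroup.zpowers h ≤ normalizer (Q : Set R) := Subgroup.zpowers_le.2 (mem_normalizer_iff.2 fun x => by
    have key : ∀ k : R, Commute k z → ∀ x ∈ Q, k * x * k⁻¹ ∈ Q := fun k hk x hx => by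
      refine ⟨mem_centralizer_singleton_iff.2 ?_, hMn.conj_mem x hx.2 k⟩
      exact ((hk.mul_left (show Commute x z from mem_centralizer_singleton_iff.1 hx.1)).mul_left hk.inv_left).eq
    refine ⟨key h hzh.symm x, fun hx => ?_⟩
    have := key h⁻¹ hzh.symm.inv_left _ hx
    simpa [mul_assoc] using this)
  -- no nontrivial element outside `T` normalizes all conjugates of `T`
  have hnotQ : ∀ b ∈ Q, orderOf b = 9 → ¬ Commute h b := by
    intro b hb hbo hc
    have hQb : Subgroup.zpowers b = Q :=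
      Subgroup.eq_of_le_of_card_ge (Subgroup.zpowers_le.2 hb) (by rw [hQ9, Nat.card_zpowers, hbo])
    have hhQ : ∀ q ∈ Q, Commute h q := fun q hq => by
      rw [← hQb] at hq
      obtain ⟨i, rfl⟩ := Subgroup.mem_zpowers_iff.1 hq
      exact hc.zpow_right i
    -- every element is `q * n`
    have hRQ : ∀ r : R, ∃ q ∈ Q, q⁻¹ * r ∈ NT := by
      let f : Q × NT → R := fun p => (p.1 : R) * p.2
      have hinj : Function.Injective f := by
        rintro ⟨q, n⟩ ⟨q', n'⟩ e
        have e' : (q : R) * n = (q' : R) * n' := e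
        have hd : (q' : R)⁻¹ * q ∈ Q ⊓ NT := Subgroup.mem_inf.2 ⟨mul_mem (inv_mem q'.2) q.2, by
          have : (q' : R)⁻¹ * q = n' * (n : R)⁻¹ := by
            rw [eq_mul_inv_iff_mul_eq, mul_assoc, e', inv_mul_cancel_left]
          rw [this]; exact mul_mem n'.2 (inv_mem n.2)⟩
        have h1 : (q' : R)⁻¹ * q = 1 := by
          have hdL : (q' : R)⁻¹ * q ∈ LT := ⟨hd.2, hd.1.2⟩
          have d1 := Subgroup.orderOf_dvd_natCard _ hd.1
          have d2 := Subgroup.orderOf_dvd_natCard _ hdL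
          rw [hQ9] at d1
          rw [hL56] at d2
          exact orderOf_eq_one_iff.1 (Nat.eq_one_of_dvd_coprimes (by norm_num) d1 d2)
        have hq : (q : R) = q' := (inv_mul_eq_one.1 h1).symm
        exact Prod.ext (Subtype.ext hq) (Subtype.ext (mul_left_cancel (hq ▸ e' : (q' : R) * n = q' * n')))
      have hbij : Function.Bijective f := (Nat.bijective_iff_injective_and_card f).2 ⟨hinj, by
        rw [Nat.card_prod, hQ9, hN168, hcardR]⟩
      intro r
      obtain ⟨⟨q, n⟩, rfl⟩ := hbij.2 r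
      exact ⟨q, q.2, by rw [inv_mul_cancel_left]; exact n.2⟩
    have hcore : h ∈ NT.normalCore := by
      intro r
      obtain ⟨q, hq, hn⟩ := hRQ r⁻¹
      rw [show r * h * r⁻¹ = (q⁻¹ * r⁻¹)⁻¹ * (q⁻¹ * h * q) * (q⁻¹ * r⁻¹) by group,
        show q⁻¹ * h * q = h by rw [mul_assoc, (hhQ q hq).eq, inv_mul_cancel_left]]
      exact mul_mem (mul_mem (inv_mem hn) ((H.cent t H.tT H.t1).2 hhC)) hn
    rcases ((inferInstance : (NT.normalCore.subgroupOf M).Normal)).eq_bot_or_eq_top with h' | h'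
    · have hcT : h ∈ centralizer (T : Set R) := mem_centralizer_iff.2 fun v hv => by
        have hm : ⁅h, v⁆ ∈ NT.normalCore := by
          rw [commutatorElement_def, mul_assoc, mul_assoc, ← mul_assoc v]
          exact mul_mem hcore ((inferInstance : NT.normalCore.Normal).conj_mem _ (inv_mem hcore) v)
        have hmM : ⁅h, v⁆ ∈ M := by
          rw [commutatorElement_def]
          exact mul_mem (hMn.conj_mem v (hTM hv) h) (inv_mem (hTM hv))
        have h1 : (⟨⁅h, v⁆, hmM⟩ : M) ∈ NT.normalCore.subgroupOf M := hm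
        rw [h', Subgroup.mem_bot] at h1
        exact (commutatorElement_eq_one_iff_mul_comm.1 (congrArg Subtype.val h1)).symm
      rw [H.centT] at hcT
      have := Subgroup.orderOf_dvd_natCard _ hcT
      rw [H.T8, hho] at this
      norm_num at this
    · exact hMT ((Subgroup.subgroupOf_eq_top.1 h').trans (Subgroup.normalCore_le NT))
  -- the centralizer of `h` in `M`
  set Y := centralizer ({h} : Set R) ⊓ M with hY
  have htY : t ∈ Y := ⟨mem_centralizer_singleton_iff.2 H.hcomm.symm.eq, hTM H.tT⟩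
  have hYt : ∀ x ∈ Y, Commute x t → x * x = 1 := fun x hx hxt => by
    have h1 := Subgroup.orderOf_dvd_natCard _ (Subgroup.mem_inf.2 ⟨hx.1, mem_centralizer_singleton_iff.2 hxt.eq⟩ :
      x ∈ centralizer ({h} : Set R) ⊓ centralizer ({t} : Set R))
    have h2 := Subgroup.orderOf_dvd_natCard _ (Subgroup.mem_inf.2 ⟨mem_centralizer_singleton_iff.2 hxt.eq, hx.2⟩ :
      x ∈ centralizer ({t} : Set R) ⊓ M)
    rw [H.hcard] at h1
    rw [hCt8] at h2
    have h3 : orderOf x ∣ 2 := by
      have := Nat.dvd_gcd h1 h2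
      norm_num at this
      exact this
    rw [← pow_two]
    exact orderOf_dvd_iff_pow_eq_one.1 h3
  have htt : t * t = 1 := H.Tsq t H.tT
  have hto : orderOf t = 2 := orderOf_eq_prime (by rw [pow_two, htt]) H.t1
  have hz2 : IsPGroup 2 (Subgroup.zpowers (⟨t, htY⟩ : Y)) :=
    IsPGroup.of_card (n := 1) (by rw [Nat.card_zpowers, ← Subgroup.orderOf_coe]; simpa using hto)
  obtain ⟨P2, hP2⟩ := hz2.exists_le_sylow
  have hP2eq : ∀ x ∈ (P2 : Subgroup Y), ∀ y ∈ (P2 : Subgroup Y), Commute x y := by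
    intro x hx y hy
    obtain ⟨P', hP'⟩ := (P2.isPGroup'.map Y.subtype).exists_le_sylow
    obtain ⟨g, hg⟩ := MulAction.exists_smul_eq R P P'
    have hmem : ∀ v ∈ (P' : Subgroup R), g⁻¹ * v * g ∈ T := fun v hv => by
      rw [← hg] at hv
      obtain ⟨w, hw, hwv⟩ := hv
      have hwv' : g * w * g⁻¹ = v := hwv
      rw [← hwv', show g⁻¹ * (g * w * g⁻¹) * g = w by group]
      exact hPT.le hw
    have h1 := hTcomm _ (hmem _ (hP' ⟨x, hx, rfl⟩)) _ (hmem _ (hP' ⟨y, hy, rfl⟩))
    refine Subtype.ext ?_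
    have h2 := h1.map (MulAut.conj g).toMonoidHom
    simpa [mul_assoc] using h2.eq
  have hPc : Nat.card (P2 : Subgroup Y) = 2 := by
    have hle : (P2 : Subgroup Y).map Y.subtype ≤
        centralizer ({h} : Set R) ⊓ centralizer ({t} : Set R) ⊓ M := by
      rintro _ ⟨x, hx, rfl⟩
      exact ⟨⟨x.2.1, mem_centralizer_singleton_iff.2
        (congrArg Subtype.val (hP2eq x hx ⟨t, htY⟩ (hP2 (Subgroup.mem_zpowers _))).eq)⟩, x.2.2⟩
    have hd : Nat.card (P2 : Subgroup Y) ∣ 2 := by
      rw [← Subgroup.card_map_of_injective Y.subtype_injective]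
      have d1 := (Subgroup.card_dvd_of_le hle).trans (Subgroup.card_dvd_of_le inf_le_left)
      have d2 := Subgroup.card_dvd_of_le (hle.trans (le_inf (inf_le_left.trans inf_le_right) inf_le_right :
        _ ≤ centralizer ({t} : Set R) ⊓ M))
      rw [H.hcard] at d1
      rw [hCt8] at d2
      exact (Nat.dvd_gcd d1 d2).trans (by norm_num)
    rcases (Nat.dvd_prime Nat.prime_two).1 hd with e | e
    · have h1 := Subgroup.orderOf_dvd_natCard _ (hP2 (Subgroup.mem_zpowers (⟨t, htY⟩ : Y)))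
      rw [e, Nat.dvd_one, orderOf_eq_one_iff] at h1
      exact absurd (congrArg Subtype.val h1) H.t1
    · exact e
  have hP2le : normalizer ((P2 : Subgroup Y) : Set Y) ≤ centralizer ((P2 : Subgroup Y) : Set Y) := by
    intro n hn
    refine mem_centralizer_iff.2 fun x hx => ?_
    have hzx : Subgroup.zpowers (⟨t, htY⟩ : Y) = (P2 : Subgroup Y) := Subgroup.eq_of_le_of_card_ge hP2 (by
      rw [hPc, Nat.card_zpowers, ← Subgroup.orderOf_coe]; simpa using hto.ge)
    have hcases : ∀ y ∈ (P2 : Subgroup Y), y = 1 ∨ y = ⟨t, htY⟩ := fun y hy => by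
      rw [← hzx] at hy
      obtain ⟨i, rfl⟩ := Subgroup.mem_zpowers_iff.1 hy
      rcases Int.even_or_odd' i with ⟨j, rfl | rfl⟩
      · refine Or.inl ?_
        rw [zpow_mul, zpow_two, show (⟨t, htY⟩ : Y) * ⟨t, htY⟩ = 1 from Subtype.ext htt, one_zpow]
      · refine Or.inr ?_
        rw [zpow_add, zpow_one, zpow_mul, zpow_two, show (⟨t, htY⟩ : Y) * ⟨t, htY⟩ = 1 from Subtype.ext htt,
          one_zpow, one_mul]
    rcases hcases x hx with rfl | rfl
    · simp
    · rcases hcases _ ((mem_normalizer_iff.1 hn _).1 hx) with e | e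
      · exact absurd (congrArg Subtype.val (conj_eq_one_iff.1 e)) H.t1
      · exact (mul_inv_eq_iff_eq_mul.1 e).symm
  set O := (MonoidHom.transferSylow P2 hP2le).ker with hO
  have hOodd : Odd (Nat.card O) := by
    rw [← Nat.not_even_iff_odd, even_iff_two_dvd]
    exact MonoidHom.not_dvd_card_ker_transferSylow P2 hP2le
  have hOmem : ∀ x : Y, Odd (orderOf x) → x ∈ O := fun x hx => by
    rw [hO, MonoidHom.mem_ker]
    obtain ⟨n, hn⟩ := P2.isPGroup' (MonoidHom.transferSylow P2 hP2le x)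
    exact orderOf_eq_one_iff.1 (Nat.eq_one_of_dvd_coprimes ((Nat.coprime_two_left.2 hx).pow_left n)
      (orderOf_dvd_of_pow_eq_one hn) (orderOf_map_dvd _ x))
  have hOn : O.Normal := by rw [hO]; infer_instance
  clear_value O
  set Or := O.map Y.subtype with hOr
  have hOrodd : Odd (Nat.card Or) := by rw [hOr, Subgroup.card_map_of_injective Y.subtype_injective]; exact hOodd
  have htN : t ∈ normalizer (Or : Set R) := by
    refine mem_normalizer_iff.2 fun x => ?_
    have key : ∀ x ∈ Or, t * x * t⁻¹ ∈ Or := by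
      rintro _ ⟨y, hy, rfl⟩
      exact Subgroup.mem_map.2 ⟨_, hOn.conj_mem y hy ⟨t, htY⟩, by simp only [Subgroup.subtype_apply, Subgroup.coe_mul, Subgroup.coe_inv]⟩
    refine ⟨key x, fun hx => ?_⟩
    have := key _ hx
    rw [inv_eq_of_mul_eq_one_left htt] at this
    rw [show x = t * (t * x * t) * t by simp [← mul_assoc, htt, mul_assoc x t t]]
    simpa [inv_eq_of_mul_eq_one_left htt] using this
  have hOinv : ∀ x ∈ Or, t * x * t⁻¹ = x⁻¹ := fun x hx =>
    GW.ThreeClass.inverted_of_fixed_free htt hOrodd htN (fun c hc hct => by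
      obtain ⟨y, hy, rfl⟩ := hc
      exact GW.Klein.eq_one_of_odd hOrodd ⟨y, hy, rfl⟩ (hYt _ y.2 hct.symm)) hx
  have hzo : orderOf z = 3 := orderOf_eq_prime hz3 hz1
  have hzOr : z ∈ Or := by
    have hzY : z ∈ Y := ⟨mem_centralizer_singleton_iff.2 hzh.eq, hzM⟩
    exact ⟨⟨z, hzY⟩, hOmem _ (by rw [← Subgroup.orderOf_coe]; exact hzo ▸ (by decide : Odd 3)), rfl⟩
  have hOrQ : ∀ x ∈ Or, x ∈ Q := fun x hx => by
    have hxz := hOinv _ (mul_mem hx hzOr)
    rw [← conj_mul, hOinv x hx, hOinv z hzOr, mul_inv_rev] at hxz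
    have hc : Commute x⁻¹ z⁻¹ := hxz
    obtain ⟨y, -, rfl⟩ := hx
    exact ⟨mem_centralizer_singleton_iff.2 (Commute.inv_inv_iff.1 hc).eq, y.2.2⟩
  have hOrz : Or ≤ Subgroup.zpowers z := by
    intro x hx
    have hxQ := hOrQ x hx
    rw [← hQgen] at hxQ
    obtain ⟨i, rfl⟩ := Subgroup.mem_zpowers_iff.1 hxQ
    by_contra hne
    have hzQ' : z ∈ Subgroup.zpowers a := hQgen ▸ hOrQ z hzOr
    -- the element generates `Q`
    have hd := orderOf_dvd_natCard (a ^ i)
    have hdQ := Subgroup.orderOf_dvd_natCard Q (hOrQ _ hx)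
    rw [hQ9] at hdQ
    obtain ⟨k, hk, hk'⟩ := (Nat.dvd_prime_pow Nat.prime_three).1 (show orderOf (a ^ i) ∣ 3 ^ 2 by simpa using hdQ)
    have hk2 : k = 2 := by
      by_contra hk2
      refine hne ?_
      -- elements of order at most three of a cyclic group of order nine
      have h3 : (a ^ i) ^ 3 = 1 :=
        orderOf_dvd_iff_pow_eq_one.1 (hk' ▸ (show 3 ^ k ∣ 3 ^ 1 from pow_dvd_pow 3 (by omega)) |>.trans (by norm_num))
      obtain ⟨j, hj⟩ := Subgroup.mem_zpowers_iff.1 hzQ'
      have hi3 : (3 : ℤ) ∣ i := by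
        have h9 : (9 : ℤ) ∣ i * 3 := by
          have := orderOf_dvd_iff_zpow_eq_one.2 (show a ^ (i * 3) = 1 by
            rw [zpow_mul]; exact_mod_cast h3)
          rwa [hao] at this
        omega
      have hj3 : (3 : ℤ) ∣ j ∧ ¬ (9 : ℤ) ∣ j := by
        constructor
        · have h9 : (9 : ℤ) ∣ j * 3 := by
            have := orderOf_dvd_iff_zpow_eq_one.2 (show a ^ (j * 3) = 1 by
              rw [zpow_mul, hj]; exact_mod_cast hz3)
            rwa [hao] at this
          omega
        · intro h9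
          exact hz1 (hj ▸ orderOf_dvd_iff_zpow_eq_one.1 (by rw [hao]; exact h9))
      obtain ⟨i', rfl⟩ := hi3
      obtain ⟨⟨j', rfl⟩, hj9⟩ := hj3
      refine Subgroup.mem_zpowers_iff.2 ⟨i' * j', ?_⟩
      rw [← hj, ← zpow_mul]
      refine zpow_eq_zpow_iff_modEq.2 ?_
      rw [hao]
      show (3 * j' * (i' * j')) % 9 = (3 * i') % 9
      have hj' : j' % 3 = 1 ∨ j' % 3 = 2 := by omega
      have hsq : (j' * j') % 3 = 1 := by
        rcases hj' with h | h <;> rw [Int.mul_emod, h] <;> norm_num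
      have e1 : (i' * (j' * j')) % 3 = i' % 3 := by rw [Int.mul_emod, hsq, mul_one, Int.emod_emod]
      have e2 : 3 * j' * (i' * j') = 3 * (i' * (j' * j')) := by ring
      rw [e2]
      omega
    have hxQ' := hOrQ _ hx
    obtain ⟨y, -, hy⟩ := hx
    exact hnotQ _ hxQ' (by rw [hk', hk2]; norm_num)
      (by rw [← hy]; exact (mem_centralizer_singleton_iff.1 y.2.1 : Commute (y : R) h).symm)
  refine ⟨{
    z := z
    Q := Q
    card_R := hcardR
    z3 := hz3
    z1 := hz1
    zh := hzh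
    tz := hOinv z hzOr
    zQ := hOrQ z hzOr
    hQ' := fun hh => hhM hh.2
    Q9 := hQ9
    Qgen := ⟨a, haQ, hao⟩
    tQ := ?_
    hQ := hQh
    hnot := hnotQ
    cent_z := ?_
    odd_h := ?_ }⟩
  · have hQodd : Odd (Nat.card Q) := by rw [hQ9]; decide
    have htQ : t ∈ normalizer (Q : Set R) := by
      refine mem_normalizer_iff.2 fun x => ?_
      have key : ∀ x ∈ Q, t * x * t⁻¹ ∈ Q := fun x hx => by
        refine ⟨mem_centralizer_singleton_iff.2 ?_, hMn.conj_mem x hx.2 t⟩
        have h1 := ((show Commute x z from mem_centralizer_singleton_iff.1 hx.1).map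
          (MulAut.conj t).toMonoidHom)
        have h2 : Commute (t * x * t⁻¹) (t * z * t⁻¹) := h1
        rw [hOinv z hzOr] at h2
        exact (Commute.inv_right_iff.1 h2).eq
      refine ⟨key x, fun hx => ?_⟩
      have := key _ hx
      rwa [show t * (t * x * t⁻¹) * t⁻¹ = t * t * x * (t * t)⁻¹ by group, htt, one_mul, inv_one,
        mul_one] at this
    exact fun b hb => GW.ThreeClass.inverted_of_fixed_free htt hQodd htQ (fun c hc hct => by
      have h1 := Subgroup.orderOf_dvd_natCard _ (Subgroup.mem_inf.2 ⟨mem_centralizer_singleton_iff.2 hct.symm.eq, hc.2⟩ :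
        c ∈ centralizer ({t} : Set R) ⊓ M)
      have h2 := Subgroup.orderOf_dvd_natCard _ hc
      rw [hCt8] at h1
      rw [hQ9] at h2
      exact orderOf_eq_one_iff.1 (Nat.eq_one_of_dvd_coprimes (by norm_num) h1 h2)) hb
  · have hle : Q ⊔ Subgroup.zpowers h ≤ centralizer ({z} : Set R) :=
      sup_le inf_le_left (Subgroup.zpowers_le.2 (mem_centralizer_singleton_iff.2 hzh.symm.eq))
    have h1 := card_eq_inf_mul M (centralizer ({z} : Set R))
    rw [← hQdef, hQ9] at h1
    have h2 : Nat.card ((centralizer ({z} : Set R)).map (QuotientGroup.mk' M)) ≤ 3 := by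
      refine (Subgroup.card_le_card_group _).trans ?_
      rw [← Subgroup.index_eq_card, hidx]
    have h3 : 3 * Nat.card Q ≤ Nat.card ↥(Q ⊔ Subgroup.zpowers h) := by
      obtain ⟨k, hk⟩ := Subgroup.card_dvd_of_le (le_sup_left : Q ≤ Q ⊔ Subgroup.zpowers h)
      have hk1 : k ≠ 1 := fun e => by
        rw [e, mul_one] at hk
        refine hhM ((Subgroup.eq_of_le_of_card_ge (le_sup_left : Q ≤ Q ⊔ Subgroup.zpowers h) hk.le).ge
          (Subgroup.mem_sup_right (Subgroup.mem_zpowers h))).2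
      have hk2 : k ≠ 2 := fun e => by
        have := Subgroup.card_dvd_of_le hle
        rw [hk, e, hQ9, h1] at this
        have h2' : Nat.card ((centralizer ({z} : Set R)).map (QuotientGroup.mk' M)) ∣ 3 := by
          refine (Subgroup.card_subgroup_dvd_card _).trans ?_
          rw [← Subgroup.index_eq_card, hidx]
        rcases (Nat.dvd_prime Nat.prime_three).1 h2' with e' | e' <;> rw [e'] at this <;> norm_num at this
      have hk0 : k ≠ 0 := fun e => by
        rw [e, mul_zero] at hk; exact (Nat.card_pos (α := ↥(Q ⊔ Subgroup.zpowers h))).ne' hk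
      rw [hk, mul_comm]
      exact Nat.mul_le_mul_left _ (by omega)
    exact (Subgroup.eq_of_le_of_card_ge hle (by rw [h1]; omega)).ge
  · intro x hxh hxo
    -- reduce into `M`
    have hc : Nat.card (R ⧸ M) = 3 := by rw [← Subgroup.index_eq_card]; exact hidx
    have hh1 : (h : R ⧸ M) ≠ 1 := fun e => hhM ((QuotientGroup.eq_one_iff h).1 e)
    obtain ⟨i, hi⟩ := Subgroup.mem_zpowers_iff.1
      (show (x : R ⧸ M) ∈ Subgroup.zpowers (h : R ⧸ M) from mem_zpowers_of_prime_card hc hh1)
    rw [← QuotientGroup.mk_zpow, QuotientGroup.eq] at hi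
    set m := (h ^ i)⁻¹ * x with hm
    have hcm : Commute x (h ^ i) := hxh.zpow_right i
    have hmY : m ∈ Y := ⟨mem_centralizer_singleton_iff.2
      (((Commute.zpow_self h i).inv_left.mul_left hxh).eq), hi⟩
    have hmo : Odd (orderOf (⟨m, hmY⟩ : Y)) := by
      rw [← Subgroup.orderOf_coe]
      show Odd (orderOf m)
      refine Odd.of_dvd_nat (Nat.odd_mul.2 ⟨(by decide : Odd 3), hxo⟩) (orderOf_dvd_of_pow_eq_one ?_)
      rw [hm, (hcm.inv_right).symm.mul_pow, inv_pow, ← zpow_natCast (h ^ i), zpow_comm, zpow_natCast,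
        show h ^ (3 * orderOf x) = 1 by rw [pow_mul, H.h3, one_pow], one_zpow, inv_one, one_mul, mul_comm,
        pow_mul, pow_orderOf_eq_one, one_pow]
    have hmz : m ∈ Subgroup.zpowers z := hOrz ⟨⟨m, hmY⟩, hOmem _ hmo, rfl⟩
    rw [show x = h ^ i * m by rw [hm, mul_inv_cancel_left]]
    exact mul_mem (Subgroup.mem_sup_left (zpow_mem (Subgroup.mem_zpowers h) i)) (Subgroup.mem_sup_right hmz)

/-- The two cases. -/
theorem rCases [Finite R] {T : Subgroup R} {h t : R} (H : RHyp T h t) :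
    Nat.card R = 168 ∨ Nonempty (RTwo h t) := by
  by_cases hTn : T.Normal
  · refine Or.inl ?_
    rw [← H.n168, Subgroup.normalizer_eq_top_iff.2 hTn, Subgroup.card_top]
  · obtain ⟨M, D⟩ := H.mData hTn
    exact Or.inr (D.rTwo H)

end Cfsg.Agent.Invol.JankoWard.CaseD
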