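import Cfsg.Agent.Lib.Invol.JankoWard.CaseALocal
import Cfsg.Agent.Lib.Invol.JankoWard.CaseDR

/-!
In the groups of orders 168 and 1512 of case D an element of order seven is conjugate to a power `l`, `l² ≠ 1 (mod 7)`.
-/

set_option autoImplicit false
set_option linter.unusedSectionVars false
set_option linter.style.haveILetI false

namespace Cfsg.Agent.Invol.JankoWard.CaseA

open Subgroup

universe u

variable {R : Type u} [Group R] [Finite R] {T : Subgroup R} {h t : R}

theorem arith_nine : ∀ K : ℕ, K < 9 → K ^ 3 % 9 = 1 → K ≠ 1 → ∀ i : ℕ, i < 9 →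
    i * (1 + K + K * K) % 9 = 0 → ∃ m : ℕ, m < 9 ∧ (i + K * m) % 9 = m := by
  decide

/-- An element of order seven commutes with no element of order three. -/
theorem no_three (H : CaseD.RHyp T h t) {z x : R} (hz : orderOf z = 7) (hx : orderOf x = 3) (hzx : Commute x z) :
    False := by
  classical
  haveI : Fact (Nat.Prime 3) := ⟨Nat.prime_three⟩
  haveI : Fact (Nat.Prime 7) := ⟨by norm_num⟩
  haveI : Fact (Nat.Prime 2) := ⟨Nat.prime_two⟩
  rcases CaseD.rCases H with h168 | ⟨⟨W⟩⟩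
  · have hTn : ∀ g : R, g ∈ normalizer (T : Set R) := fun g => by
      rw [Subgroup.eq_top_of_card_eq _ (H.n168.trans h168.symm)]; exact mem_top g
    set V := T ⊓ centralizer ({x} : Set R)
    have hzV : ∀ w ∈ V, ∀ g ∈ zpowers z, g * w * g⁻¹ ∈ V := by
      intro w hw g hg
      obtain ⟨hwT, hwx⟩ := mem_inf.1 hw
      refine mem_inf.2 ⟨(mem_normalizer_iff.1 (hTn g) w).1 hwT, mem_centralizer_singleton_iff.2 ?_⟩
      obtain ⟨i, rfl⟩ := mem_zpowers_iff.1 hg
      have hgx : Commute (z ^ i) x := (hzx.symm.zpow_left i)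
      exact ((hgx.mul_left (show Commute w x from mem_centralizer_singleton_iff.1 hwx)).mul_left hgx.inv_left).eq
    have hfree : ∀ w ∈ V, Commute z w → w = 1 := by
      intro w hw hc
      by_contra hw1
      have h7 := Subgroup.orderOf_dvd_natCard (centralizer ({w} : Set R)) (mem_centralizer_singleton_iff.2 hc.eq)
      rw [hz, (H.cent w (mem_inf.1 hw).1 hw1).1] at h7
      omega
    have h7 := CaseD.modEq_one (R := V) (z := z) (r := 7) (by rw [← hz, pow_orderOf_eq_one]) hzV hfree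
    have hVT : Nat.card V ∣ 8 := H.T8 ▸ Subgroup.card_dvd_of_le inf_le_left
    have hV1 : Nat.card V ≠ 1 := fun e => by
      have h3 := CaseD.modEq_one (R := T) (z := x) (r := 3) (by rw [← hx, pow_orderOf_eq_one])
        (fun w hw g _ => (mem_normalizer_iff.1 (hTn g) w).1 hw) (fun w hw hc => Subgroup.mem_bot.1
          ((Subgroup.card_eq_one.1 e) ▸ mem_inf.2 ⟨hw, mem_centralizer_singleton_iff.2 hc.symm.eq⟩))
      rw [H.T8] at h3
      exact absurd h3 (by decide)
    have hV8 : Nat.card V = 8 := by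
      have hle := Nat.le_of_dvd (by norm_num) hVT
      generalize Nat.card V = n at h7 hVT hV1 hle ⊢
      interval_cases n <;> first | omega | (exact absurd h7 (by decide))
    have hTV : T ≤ V := (Subgroup.eq_of_le_of_card_ge inf_le_left (by rw [hV8, H.T8])).ge
    have hxT : x ∈ T := H.centT.le (mem_centralizer_iff.2 fun w hw =>
      mem_centralizer_singleton_iff.1 (mem_inf.1 (hTV hw)).2)
    have h8 := T.orderOf_dvd_natCard hxT
    rw [hx, H.T8] at h8
    omega
  obtain ⟨q, hq, hq9⟩ := W.Qgen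
  have hQ : W.Q = zpowers q := (Subgroup.eq_of_le_of_card_ge (zpowers_le.2 hq)
    (by rw [W.Q9, Nat.card_zpowers, hq9])).symm
  have hh : orderOf h = 3 := orderOf_eq_prime H.h3 H.h1
  set S := W.Q ⊔ zpowers h
  have hmem : ∀ s ∈ S, ∃ i j : ℕ, j < 3 ∧ s = q ^ i * h ^ j := by
    intro s hs
    rw [← SetLike.mem_coe, Subgroup.coe_mul_of_right_le_normalizer_left _ _ W.hQ] at hs
    obtain ⟨c, hc, d, hd, rfl⟩ := hs
    rw [SetLike.mem_coe, hQ, ← (isOfFinOrder_of_finite q).mem_powers_iff_mem_zpowers] at hc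
    obtain ⟨i, rfl⟩ := hc
    rw [SetLike.mem_coe, ← (isOfFinOrder_of_finite h).mem_powers_iff_mem_zpowers] at hd
    obtain ⟨j, rfl⟩ := hd
    exact ⟨i, j % 3, Nat.mod_lt _ (by norm_num), by rw [← hh, pow_mod_orderOf]⟩
  -- a Sylow subgroup
  have hS27 : 27 ≤ Nat.card S := by
    have hdis : ∀ j : ℤ, h ^ j ∈ W.Q → h ^ j = 1 := by
      intro j hj
      by_contra h1
      refine W.hQ' (zpowers_le.2 hj ?_)
      have he : zpowers (h ^ j) = zpowers h := by
        refine Subgroup.eq_of_le_of_card_ge (zpowers_le.2 (zpow_mem (mem_zpowers h) j)) ?_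
        rw [Nat.card_zpowers, Nat.card_zpowers, hh]
        refine le_of_eq (orderOf_eq_prime ?_ h1).symm
        rw [← zpow_natCast, ← zpow_mul, mul_comm, zpow_mul, zpow_natCast, H.h3, one_zpow]
      rw [he]; exact mem_zpowers h
    have hinj : Function.Injective (fun p : Fin 9 × Fin 3 => (⟨q ^ (p.1 : ℕ) * h ^ (p.2 : ℕ),
        mul_mem (mem_sup_left (pow_mem hq _)) (mem_sup_right (pow_mem (mem_zpowers h) _))⟩ : S)) := by
      rintro ⟨a, b⟩ ⟨a', b'⟩ e
      have e' : q ^ (a : ℕ) * h ^ (b : ℕ) = q ^ (a' : ℕ) * h ^ (b' : ℕ) := congrArg Subtype.val e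
      have h1 : h ^ ((b : ℤ) - b') = (q ^ (a : ℕ))⁻¹ * q ^ (a' : ℕ) := by
        rw [zpow_sub, zpow_natCast, zpow_natCast,
          show h ^ (b : ℕ) = (q ^ (a : ℕ))⁻¹ * (q ^ (a' : ℕ) * h ^ (b' : ℕ)) by rw [← e', inv_mul_cancel_left]]
        group
      have h2 := hdis _ (h1 ▸ mul_mem (inv_mem (pow_mem hq _)) (pow_mem hq _))
      rw [zpow_sub, zpow_natCast, zpow_natCast, mul_inv_eq_one] at h2
      have hb : (b : ℕ) = b' := pow_injOn_Iio_orderOf (Set.mem_Iio.2 (by rw [hh]; exact b.2))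
        (Set.mem_Iio.2 (by rw [hh]; exact b'.2)) h2
      rw [hb] at e'
      have ha : (a : ℕ) = a' := pow_injOn_Iio_orderOf (Set.mem_Iio.2 (by rw [hq9]; exact a.2))
        (Set.mem_Iio.2 (by rw [hq9]; exact a'.2))
        (mul_right_cancel e')
      exact Prod.ext (Fin.ext ha) (Fin.ext hb)
    simpa using Nat.card_le_card_of_injective _ hinj
  have hle27 : Nat.card S ≤ 27 := by
    have hf : Function.Surjective (fun p : Fin 9 × Fin 3 => (⟨q ^ (p.1 : ℕ) * h ^ (p.2 : ℕ),
        mul_mem (mem_sup_left (pow_mem hq _)) (mem_sup_right (pow_mem (mem_zpowers h) _))⟩ : S)) := by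
      rintro ⟨s, hs⟩
      obtain ⟨i, j, hj, rfl⟩ := hmem s hs
      exact ⟨(⟨i % 9, Nat.mod_lt _ (by norm_num)⟩, ⟨j, hj⟩), Subtype.ext (by
        show q ^ (i % 9) * h ^ j = _
        rw [← hq9, pow_mod_orderOf])⟩
    have := Nat.card_le_card_of_surjective _ hf
    simpa using this
  have hS3 : IsPGroup 3 S := IsPGroup.of_card (n := 3) (by omega)
  obtain ⟨P, hP⟩ := hS3.exists_le_sylow
  have hPS : (P : Subgroup R) = S := by
    refine (Subgroup.eq_of_le_of_card_ge hP ?_).symm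
    rw [P.card_eq_multiplicity, W.card_R]
    have : (1512 : ℕ).factorization 3 = 3 := by
      rw [show (1512 : ℕ) = 3 ^ 3 * 56 from rfl, Nat.factorization_mul (by norm_num) (by norm_num),
        Finsupp.coe_add, Pi.add_apply, Nat.prime_three.factorization_pow,
        Finsupp.single_eq_same, Nat.factorization_eq_zero_of_not_dvd (by norm_num : ¬ 3 ∣ 56)]
    rw [this]; omega
  obtain ⟨g, hg⟩ : ∃ g : R, g * x * g⁻¹ ∈ S := by
    have hxp : IsPGroup 3 ↥(zpowers x) := IsPGroup.of_card (n := 1) (by rw [Nat.card_zpowers, hx, pow_one])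
    obtain ⟨P', hP'⟩ := hxp.exists_le_sylow
    obtain ⟨g, hg⟩ := MulAction.exists_smul_eq R P' P
    exact ⟨g, hPS.le (by rw [← hg, Sylow.coe_subgroup_smul]; exact ⟨x, hP' (mem_zpowers x), rfl⟩)⟩
  set x' := g * x * g⁻¹
  set z' := g * z * g⁻¹
  have hx' : orderOf x' = 3 :=
    (orderOf_injective (MulAut.conj g).toMonoidHom (MulAut.conj g).injective x).trans hx
  have hz' : orderOf z' = 7 :=
    (orderOf_injective (MulAut.conj g).toMonoidHom (MulAut.conj g).injective z).trans hz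
  have hzx' : Commute x' z' := hzx.map (MulAut.conj g).toMonoidHom
  -- no element of order seven commutes with `z₃`
  have hzW : ∀ y : R, Commute y W.z → orderOf y ≠ 7 := by
    intro y hy ho
    have h1 := S.orderOf_dvd_natCard (W.cent_z (mem_centralizer_singleton_iff.2 hy.eq))
    rw [ho] at h1
    have := Nat.le_antisymm hle27 hS27
    omega
  have hzh : ∀ (y : R) (k : ℕ), k = 1 ∨ k = 2 → Commute y (h ^ k) → orderOf y ≠ 7 := by
    intro y k hk hy ho
    have hy' : Commute y h := by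
      rcases hk with rfl | rfl
      · rwa [pow_one] at hy
      · have h2 := hy.pow_right 2
        rwa [← pow_mul, show 2 * 2 = 3 + 1 from rfl, pow_succ, H.h3, one_mul] at h2
    have h1 := W.odd_h y hy' (by rw [ho]; decide)
    have hc : Commute h W.z := W.zh.symm
    have hsup : ∀ s ∈ zpowers h ⊔ zpowers W.z, s ^ 3 = 1 := by
      intro s hs
      rw [← SetLike.mem_coe, Subgroup.coe_mul_of_right_le_normalizer_left _ _ (zpowers_le.2
        (mem_normalizer_fintype fun u hu => by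
          obtain ⟨i, rfl⟩ := mem_zpowers_iff.1 hu
          rw [← (hc.zpow_left i).eq, mul_inv_cancel_right]
          exact zpow_mem (mem_zpowers h) i))] at hs
      obtain ⟨c, hc', d, hd, rfl⟩ := hs
      obtain ⟨i, rfl⟩ := mem_zpowers_iff.1 hc'
      obtain ⟨j, rfl⟩ := mem_zpowers_iff.1 hd
      rw [(hc.zpow_zpow i j).mul_pow, ← zpow_natCast, ← zpow_natCast (W.z ^ j), ← zpow_mul, ← zpow_mul,
        mul_comm i, mul_comm j, zpow_mul, zpow_mul, zpow_natCast, zpow_natCast, H.h3, W.z3, one_zpow, one_zpow,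
        one_mul]
    have h3 := orderOf_dvd_of_pow_eq_one (hsup y h1)
    rw [ho] at h3
    omega
  obtain ⟨i, j, hj, hij⟩ := hmem x' hg
  have hx'3 : x' ^ 3 = 1 := hx' ▸ pow_orderOf_eq_one x'
  have hzQ : ∀ u ∈ W.Q, u ^ 3 = 1 → u ≠ 1 → ∃ k : ℕ, W.z = u ^ k := by
    intro u hu hu3 hu1
    have huo : orderOf u = 3 := orderOf_eq_prime hu3 hu1
    rw [hQ] at hu
    have hzq := W.zQ
    rw [hQ] at hzq
    obtain ⟨a, ha⟩ := ((isOfFinOrder_of_finite q).mem_powers_iff_mem_zpowers).2 hu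
    replace ha : q ^ a = u := ha
    subst ha
    obtain ⟨b, hb⟩ := ((isOfFinOrder_of_finite q).mem_powers_iff_mem_zpowers).2 hzq
    replace hb : q ^ b = W.z := hb
    have hb3 : q ^ (b * 3) = q ^ 0 := by rw [pow_mul, hb, W.z3, pow_zero]
    have ha3 : q ^ (a * 3) = q ^ 0 := by rw [pow_mul, hu3, pow_zero]
    rw [pow_eq_pow_iff_modEq, hq9] at hb3 ha3
    have ha0 : a % 9 ≠ 0 := fun e => hu1 (by rw [← pow_mod_orderOf, hq9, e, pow_zero])
    unfold Nat.ModEq at hb3 ha3
    refine ⟨b / 3 * (a % 9 / 3), ?_⟩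
    rw [← hb]
    show q ^ b = (q ^ a) ^ (b / 3 * (a % 9 / 3))
    rw [← pow_mul, pow_eq_pow_iff_modEq, hq9]
    unfold Nat.ModEq
    have : a % 9 = 3 ∨ a % 9 = 6 := by omega
    rcases this with e | e <;> rw [Nat.mul_mod a, e] <;> norm_num [Nat.mul_mod] <;> omega
  rcases Nat.eq_zero_or_pos j with hj0 | hj0
  · rw [hj0, pow_zero, mul_one] at hij
    have hx1 : x' ≠ 1 := fun e => by rw [e, orderOf_one] at hx'; omega
    obtain ⟨k, hk⟩ := hzQ x' (hij ▸ pow_mem hq i) hx'3 hx1
    exact hzW z' (hk ▸ hzx'.symm.pow_right k) hz'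
  obtain ⟨K, hK, hKq⟩ : ∃ K < 9, h ^ j * q * (h ^ j)⁻¹ = q ^ K := by
    have h1 := (mem_normalizer_iff.1 (W.hQ (pow_mem (mem_zpowers h) j)) q).1 hq
    rw [hQ] at h1
    obtain ⟨c, hc⟩ := ((isOfFinOrder_of_finite q).mem_powers_iff_mem_zpowers).2 h1
    exact ⟨c % 9, Nat.mod_lt _ (by norm_num), by rw [← hq9, pow_mod_orderOf]; exact hc.symm⟩
  have hmove : ∀ m : ℕ, h ^ j * q ^ m = q ^ (K * m) * h ^ j := fun m => by
    rw [pow_mul, ← hKq, conj_pow]; group
  have hconj : ∀ n m : ℕ, (h ^ j) ^ n * q ^ m = q ^ (K ^ n * m) * (h ^ j) ^ n := by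
    intro n
    induction n with
    | zero => intro m; simp
    | succ n ih =>
      intro m
      rw [pow_succ' (h ^ j), mul_assoc, ih, ← mul_assoc, hmove, mul_assoc, pow_succ' K, mul_assoc K]
  have hh3 : (h ^ j) ^ 3 = 1 := by rw [← pow_mul, mul_comm, pow_mul, H.h3, one_pow]
  have hK3 : K ^ 3 % 9 = 1 := by
    have e := hconj 3 1
    rw [hh3, mul_one, one_mul, mul_one, pow_one] at e
    replace e := e.symm
    conv_rhs at e => rw [← pow_one q]
    rw [pow_eq_pow_iff_modEq, hq9] at e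
    exact e
  have hK1 : K ≠ 1 := by
    intro e
    rw [e, pow_one] at hKq
    have hc : Commute (h ^ j) q := mul_inv_eq_iff_eq_mul.1 hKq
    refine W.hnot q hq hq9 ?_
    have hj' : j = 1 ∨ j = 2 := by omega
    rcases hj' with rfl | rfl
    · rwa [pow_one] at hc
    · have h2 := hc.pow_left 2
      rwa [← pow_mul, show 2 * 2 = 3 + 1 from rfl, pow_succ, H.h3, one_mul] at h2
  have hi0 : i % 9 * (1 + K + K * K) % 9 = 0 := by
    have e2 : q ^ i * h ^ j * (q ^ i * h ^ j) = q ^ (i + K * i) * (h ^ j) ^ 2 := by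
      rw [mul_assoc, ← mul_assoc (h ^ j), hmove, ← mul_assoc, ← mul_assoc, ← pow_add, mul_assoc, ← pow_two]
    have e : x' ^ 3 = q ^ (i * (1 + K + K * K)) * (h ^ j) ^ 3 := by
      rw [hij, pow_succ, pow_two, e2, ← mul_assoc, mul_assoc (q ^ _), hconj 2 i, ← mul_assoc, ← pow_add,
        mul_assoc, ← pow_succ]
      congr 2
      ring
    rw [hx'3, hh3, mul_one, ← pow_zero q, pow_eq_pow_iff_modEq, hq9] at e
    rw [Nat.mod_mul_mod]
    exact e.symm
  obtain ⟨m, -, hme⟩ := arith_nine K hK hK3 hK1 (i % 9) (Nat.mod_lt _ (by norm_num)) hi0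
  have hxm : x' * q ^ m = q ^ m * h ^ j := by
    rw [hij, mul_assoc, hmove, ← mul_assoc, ← pow_add]
    congr 1
    rw [pow_eq_pow_iff_modEq, hq9]
    show (i + K * m) % 9 = m % 9
    omega
  have hc : Commute ((q ^ m)⁻¹ * z' * q ^ m) (h ^ j) := by
    have hx'' : (q ^ m)⁻¹ * x' * q ^ m = h ^ j := by rw [mul_assoc, hxm, inv_mul_cancel_left]
    rw [← hx'']
    have h1 := hzx'.symm.map (MulAut.conj (q ^ m)⁻¹).toMonoidHom
    simp only [MulEquiv.coe_toMonoidHom, MulAut.conj_apply, inv_inv] at h1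
    exact h1
  refine hzh _ j (by omega) hc ?_
  rw [← hz']
  have h1 := orderOf_injective (MulAut.conj (q ^ m)⁻¹).toMonoidHom (MulAut.conj _).injective z'
  simp only [MulEquiv.coe_toMonoidHom, MulAut.conj_apply, inv_inv] at h1
  exact h1

/-- An element of order seven is conjugate to a power `l`, `l² ≠ 1 (mod 7)`. -/
theorem seven_act (H : CaseD.RHyp T h t) :
    ∃ (z n : R) (l : ℕ), orderOf z = 7 ∧ n * z * n⁻¹ = z ^ l ∧ (l : ZMod 7) ^ 2 ≠ 1 := by
  classical
  haveI : Fact (Nat.Prime 7) := ⟨by norm_num⟩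
  haveI : Fact (Nat.Prime 2) := ⟨Nat.prime_two⟩
  haveI : Fact (Nat.Prime 3) := ⟨Nat.prime_three⟩
  have hR : Nat.card R = 168 ∨ Nat.card R = 1512 :=
    (CaseD.rCases H).imp id fun ⟨W⟩ => W.card_R
  obtain ⟨z, hz⟩ := exists_prime_orderOf_dvd_card' (G := R) 7 (by rcases hR with e | e <;> rw [e] <;> norm_num)
  obtain ⟨P, hPT⟩ := H.sylT
  set C := centralizer ({z} : Set R)
  have hodd : ¬ 2 ∣ Nat.card C := by
    intro h2
    obtain ⟨⟨v, hv⟩, hvo⟩ := exists_prime_orderOf_dvd_card' (G := C) 2 h2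
    rw [Subgroup.orderOf_mk] at hvo
    obtain ⟨g, hg⟩ := Invol.exists_conj_mem_sylow (n := 1) (by rw [hvo, pow_one]) P
    have hg1 : g * v * g⁻¹ ≠ 1 := fun e => by rw [conj_eq_one_iff.1 e, orderOf_one] at hvo; omega
    have h7 := Subgroup.orderOf_dvd_natCard (centralizer ({g * v * g⁻¹} : Set R))
      (mem_centralizer_singleton_iff.2 ((show Commute z v from
        (mem_centralizer_singleton_iff.1 hv).symm).map (MulAut.conj g).toMonoidHom).eq)
    rw [orderOf_injective (MulAut.conj g).toMonoidHom (MulAut.conj g).injective, hz,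
      (H.cent _ (hPT.le hg) hg1).1] at h7
    omega
  have h3 : ¬ 3 ∣ Nat.card C := by
    intro h3
    obtain ⟨⟨x, hx⟩, hxo⟩ := exists_prime_orderOf_dvd_card' (G := C) 3 h3
    rw [Subgroup.orderOf_mk] at hxo
    exact no_three H hz hxo (mem_centralizer_singleton_iff.1 hx)
  have h7C : 7 ∣ Nat.card C := hz ▸ C.orderOf_dvd_natCard (mem_centralizer_singleton_iff.2 rfl)
  have hC7 : Nat.card C = 7 := by
    have hd : Nat.card C ∣ 7 * (8 * 27) := (Subgroup.card_subgroup_dvd_card C).trans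
      (by rcases hR with e | e <;> rw [e] <;> norm_num)
    refine Nat.dvd_antisymm (Nat.Coprime.dvd_of_dvd_mul_right ?_ hd) h7C
    exact Nat.Coprime.mul_right ((Nat.prime_two.coprime_iff_not_dvd.2 hodd).symm.pow_right 3)
      ((Nat.prime_three.coprime_iff_not_dvd.2 h3).symm.pow_right 3)
  obtain ⟨Q, hQ⟩ := (IsPGroup.of_card (n := 1) (G := ↥(zpowers z)) (p := 7)
    (by rw [Nat.card_zpowers, hz, pow_one])).exists_le_sylow
  have hQz : (Q : Subgroup R) = zpowers z := (Subgroup.eq_of_le_of_card_ge hQ (by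
    rw [Nat.card_zpowers, hz, Q.card_eq_multiplicity]
    have h49 : ¬ 7 ^ 2 ∣ Nat.card R := by rcases hR with e | e <;> rw [e] <;> norm_num
    have hle : (Nat.card R).factorization 7 ≤ 1 := by
      by_contra hlt
      exact h49 ((Nat.Prime.pow_dvd_iff_le_factorization (by norm_num) Nat.card_pos.ne').2 (by omega))
    exact (Nat.pow_le_pow_right (by norm_num) hle).trans (pow_one 7).le)).symm
  have hN := Sylow.card_eq_index_normalizer Q
  have hmod := card_sylow_modEq_one 7 R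
  rw [hN, show (Q : Set R) = ((zpowers z : Subgroup R) : Set R) from
    congrArg (fun K : Subgroup R => (K : Set R)) hQz] at hmod
  have hmul := (normalizer ((zpowers z : Subgroup R) : Set R)).card_mul_index
  have h7N : 7 ∣ Nat.card (normalizer ((zpowers z : Subgroup R) : Set R)) :=
    hz ▸ Subgroup.orderOf_dvd_natCard _ (le_normalizer (mem_zpowers z))
  obtain ⟨n, l, hn, hl⟩ := exists_act (r := 7) hz (by
    rw [hC7]
    obtain ⟨k, hk⟩ := h7N
    set n7 := (normalizer ((zpowers z : Subgroup R) : Set R)).index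
    rw [hk] at hmul ⊢
    have hk3 : ¬ k ≤ 2 := by
      intro hk2
      unfold Nat.ModEq at hmod
      rcases hR with e | e <;> rw [e] at hmul <;> interval_cases k <;> omega
    omega)
  exact ⟨z, n, l, hz, hn, hl⟩

end Cfsg.Agent.Invol.JankoWard.CaseA
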