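import Cfsg.Agent.Lib.Invol.JankoWard.CaseATau
import Cfsg.Agent.Lib.Invol.JankoWard.CaseARHyp

/-!
Case A of the field part for `p = 3`: the choice of the prime, the order of `C(a)`, and the case `r = 7`.
-/

set_option autoImplicit false
set_option linter.unusedSectionVars false
set_option linter.style.haveILetI false

open scoped Classical

namespace Cfsg.Agent.Invol.JankoWard

open Subgroup

universe u v

namespace CaseA

/-- The cast of `q² - q + 1`. -/
theorem cast_quad {R : Type*} [CommRing R] (q : ℕ) : ((q ^ 2 - q + 1 : ℕ) : R) = (q : R) ^ 2 - q + 1 := by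
  rw [Nat.cast_add, Nat.cast_sub (Nat.le_self_pow two_ne_zero q)]
  push_cast
  ring

theorem prime_of_dvd_two {r : ℕ} (hr : r.Prime) (h : r ∣ 2) : r = 2 :=
  (Nat.prime_dvd_prime_iff_eq hr Nat.prime_two).1 h

/-- The choice of the prime. -/
theorem arith_r {f : ℕ} (hodd : Odd f) (hf1 : 1 < f) (hf3 : f ≠ 3) (hsq : Squarefree f)
    (H3 : ∀ l : ℕ, l.Prime → l ∣ f → l = 3 ∨ l ∣ (3 ^ (f / l)) ^ 2 - 3 ^ (f / l) + 1) :
    ∃ r, r.Prime ∧ r ∣ f ∧ ((¬ 3 ∣ f ∧ r = 7) ∨ (3 ∣ f ∧ (r = 19 ∨ r = 37))) := by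
  have hex : ∃ r, r.Prime ∧ r ∣ f ∧ r ≠ 3 := by
    by_contra hno
    push Not at hno
    have h := Nat.eq_prime_pow_of_unique_prime_dvd (by omega : f ≠ 0) (fun {d} hd hdf => hno d hd hdf)
    rcases Nat.lt_or_ge f.primeFactorsList.length 2 with hk | hk
    · have : f.primeFactorsList.length = 0 ∨ f.primeFactorsList.length = 1 := by omega
      rcases this with e | e <;> rw [e] at h <;> norm_num at h <;> omega
    · have h9 : 3 * 3 ∣ f := by
        rw [h, show (3 : ℕ) * 3 = 3 ^ 2 by norm_num]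
        exact pow_dvd_pow 3 hk
      exact absurd (hsq 3 h9) (by rw [Nat.isUnit_iff]; omega)
  obtain ⟨r, ⟨hr, hrf, hr3⟩, hrmin⟩ : ∃ r, (r.Prime ∧ r ∣ f ∧ r ≠ 3) ∧
      ∀ d, d < r → ¬ (d.Prime ∧ d ∣ f ∧ d ≠ 3) :=
    ⟨Nat.find hex, Nat.find_spec hex, fun d hd => Nat.find_min hex hd⟩
  have hmin : ∀ d, d.Prime → d ∣ f → d < r → d = 3 := fun d hd hdf hlt => by
    by_contra h3
    exact hrmin d hlt ⟨hd, hdf, h3⟩
  haveI : Fact r.Prime := ⟨hr⟩
  have hr2 : r ≠ 2 := fun e => by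
    have := (hodd.of_dvd_nat hrf); rw [e] at this; exact absurd this (by decide)
  set j := f / r with hj
  have hjf : j ∣ f := Nat.div_dvd_of_dvd hrf
  set q : ZMod r := (3 : ZMod r) ^ j with hq
  have hquad : q ^ 2 - q + 1 = 0 := by
    have h := (ZMod.natCast_eq_zero_iff _ r).2 ((H3 r hr hrf).resolve_left hr3)
    rw [cast_quad] at h
    push_cast at h
    exact h
  have two : (2 : ZMod r) ≠ 0 := fun h => hr2 (prime_of_dvd_two hr ((ZMod.natCast_eq_zero_iff 2 r).1 (by simpa using h)))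
  have three : (3 : ZMod r) ≠ 0 := fun h => hr3 ((Nat.prime_dvd_prime_iff_eq hr Nat.prime_three).1
    ((ZMod.natCast_eq_zero_iff 3 r).1 (by simpa using h)))
  have hq3 : q ^ 3 ≠ 1 := fun h => two (by linear_combination (q + 1) * hquad - h)
  have hq6 : (3 : ZMod r) ^ (6 * j) = 1 := by
    rw [mul_comm, pow_mul, ← hq]; linear_combination (q + 1) * (q ^ 3 - 1) * hquad
  have hg : (3 : ZMod r) ^ Nat.gcd (6 * j) (r - 1) = 1 :=
    pow_gcd_eq_one.2 ⟨hq6, ZMod.pow_card_sub_one_eq_one three⟩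
  set d := Nat.gcd j (r - 1) with hd
  have hd3 : d ∣ (if 3 ∣ f then 3 else 1) := by
    have hdf : d ∣ f := (Nat.gcd_dvd_left _ _).trans hjf
    have hd0 : d ≠ 0 := fun e => by rw [e, zero_dvd_iff] at hdf; omega
    have hp : ∀ {p : ℕ}, p.Prime → p ∣ d → p = 3 := fun {p} hp hpd => by
      refine hmin p hp (hpd.trans hdf) ?_
      have h1 := hr.two_le
      have := Nat.le_of_dvd (by omega) (hpd.trans (Nat.gcd_dvd_right j (r - 1)))
      omega
    have h := Nat.eq_prime_pow_of_unique_prime_dvd hd0 hp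
    have hdsq : Squarefree d := hsq.squarefree_of_dvd hdf
    rcases Nat.lt_or_ge d.primeFactorsList.length 2 with hk | hk
    · have : d.primeFactorsList.length = 0 ∨ d.primeFactorsList.length = 1 := by omega
      rcases this with e | e <;> rw [e] at h
      · rw [h, pow_zero]; exact one_dvd _
      · rw [h, pow_one, if_pos ((show 3 ∣ d by rw [h, pow_one]).trans hdf)]
    · have h9 : 3 * 3 ∣ d := by
        rw [h, show (3 : ℕ) * 3 = 3 ^ 2 by norm_num]
        exact pow_dvd_pow 3 hk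
      exact absurd (hdsq 3 h9) (by rw [Nat.isUnit_iff]; omega)
  have hgd : Nat.gcd (6 * j) (r - 1) ∣ 6 * d :=
    (Nat.gcd_mul_left_dvd_mul_gcd _ _ _).trans (Nat.mul_dvd_mul_right (Nat.gcd_dvd_left _ _) _)
  by_cases h3 : 3 ∣ f
  · rw [if_pos h3] at hd3
    have h18 : (3 : ZMod r) ^ 18 = 1 := by
      obtain ⟨c, hc⟩ := hgd.trans (show 6 * d ∣ 18 from (Nat.mul_dvd_mul_left 6 hd3).trans (by norm_num))
      rw [hc, pow_mul, hg, one_pow]
    have h3j : 3 ∣ j := by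
      have h : 3 ∣ r * j := by rw [hj, Nat.mul_div_cancel' hrf]; exact h3
      refine (Nat.prime_three.dvd_mul.1 h).resolve_left fun e => hr3 ?_
      exact ((Nat.prime_dvd_prime_iff_eq Nat.prime_three hr).1 e).symm
    obtain ⟨i, hi⟩ := h3j
    have hdiv : r ∣ 3 ^ 18 - 1 := by
      rw [← ZMod.natCast_eq_zero_iff, Nat.cast_sub (by norm_num)]
      rw [Nat.cast_pow, Nat.cast_ofNat, Nat.cast_one, h18, sub_self]
    rw [show 3 ^ 18 - 1 = 2 * (2 * (2 * (7 * (13 * (19 * (37 * 757)))))) by norm_num] at hdiv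
    have hcases : r = 7 ∨ r = 13 ∨ r = 19 ∨ r = 37 ∨ r = 757 := by
      iterate 3 (rcases hr.dvd_mul.1 hdiv with h | hdiv; · exact absurd (prime_of_dvd_two hr h) hr2)
      rcases hr.dvd_mul.1 hdiv with h | hdiv
      · exact Or.inl ((Nat.prime_dvd_prime_iff_eq hr (by norm_num)).1 h)
      rcases hr.dvd_mul.1 hdiv with h | hdiv
      · exact Or.inr (Or.inl ((Nat.prime_dvd_prime_iff_eq hr (by norm_num)).1 h))
      rcases hr.dvd_mul.1 hdiv with h | hdiv
      · exact Or.inr (Or.inr (Or.inl ((Nat.prime_dvd_prime_iff_eq hr (by norm_num)).1 h)))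
      rcases hr.dvd_mul.1 hdiv with h | hdiv
      · exact Or.inr (Or.inr (Or.inr (Or.inl ((Nat.prime_dvd_prime_iff_eq hr (by norm_num)).1 h))))
      · exact Or.inr (Or.inr (Or.inr (Or.inr ((Nat.prime_dvd_prime_iff_eq hr (by norm_num)).1 hdiv))))
    have h9 : ((3 ^ 9 : ℕ) : ZMod r) ≠ 1 := fun h => hq3 (by
      rw [hq, hi, ← pow_mul, show 3 * i * 3 = 9 * i by ring, pow_mul]
      rw [Nat.cast_pow, Nat.cast_ofNat] at h
      rw [h, one_pow])
    have h27 : ((3 ^ 3 : ℕ) : ZMod r) ≠ -1 := fun h => three (by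
      have hio : Odd i := (hodd.of_dvd_nat hjf).of_dvd_nat ⟨3, by rw [hi]; ring⟩
      rw [Nat.cast_pow, Nat.cast_ofNat] at h
      rw [hq, hi, pow_mul, h, hio.neg_one_pow] at hquad
      linear_combination hquad)
    refine ⟨r, hr, hrf, Or.inr ⟨h3, ?_⟩⟩
    rcases hcases with e | e | e | e | e
    · exact absurd (by
        rw [eq_neg_iff_add_eq_zero, ← Nat.cast_one (R := ZMod r), ← Nat.cast_add, ZMod.natCast_eq_zero_iff, e]
        norm_num) h27
    · exact absurd (by rw [← Nat.cast_one (R := ZMod r), ZMod.natCast_eq_natCast_iff, e]; decide) h9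
    · exact Or.inl e
    · exact Or.inr e
    · exact absurd (by rw [← Nat.cast_one (R := ZMod r), ZMod.natCast_eq_natCast_iff, e]; decide) h9
  · rw [if_neg h3] at hd3
    have h6 : (3 : ZMod r) ^ 6 = 1 := by
      obtain ⟨c, hc⟩ := hgd.trans (show 6 * d ∣ 6 from (Nat.mul_dvd_mul_left 6 hd3).trans (by norm_num))
      rw [hc, pow_mul, hg, one_pow]
    have hdiv : r ∣ 3 ^ 6 - 1 := by
      rw [← ZMod.natCast_eq_zero_iff, Nat.cast_sub (by norm_num)]
      rw [Nat.cast_pow, Nat.cast_ofNat, Nat.cast_one, h6, sub_self]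
    rw [show 3 ^ 6 - 1 = 2 * (2 * (2 * (7 * 13))) by norm_num] at hdiv
    have hcases : r = 7 ∨ r = 13 := by
      iterate 3 (rcases hr.dvd_mul.1 hdiv with h | hdiv; · exact absurd (prime_of_dvd_two hr h) hr2)
      rcases hr.dvd_mul.1 hdiv with h | hdiv
      · exact Or.inl ((Nat.prime_dvd_prime_iff_eq hr (by norm_num)).1 h)
      · exact Or.inr ((Nat.prime_dvd_prime_iff_eq hr (by norm_num)).1 hdiv)
    have h27 : ((3 ^ 3 : ℕ) : ZMod r) ≠ 1 := fun h => hq3 (by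
      rw [hq, ← pow_mul, mul_comm, pow_mul]
      rw [Nat.cast_pow, Nat.cast_ofNat] at h
      rw [h, one_pow])
    refine ⟨r, hr, hrf, Or.inl ⟨h3, ?_⟩⟩
    rcases hcases with e | e
    · exact e
    · exact absurd (by rw [← Nat.cast_one (R := ZMod r), ZMod.natCast_eq_natCast_iff, e]; decide) h27

/-- `r²` does not divide `q² - q + 1`. -/
theorem sq_not_dvd {r : ℕ} (hr : r = 7 ∨ r = 19 ∨ r = 37) {j : ℕ} (hj : ¬ r ∣ j) :
    ¬ r ^ 2 ∣ (3 ^ j) ^ 2 - 3 ^ j + 1 := by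
  intro h
  have h0 := (ZMod.natCast_eq_zero_iff _ (r ^ 2)).2 h
  rw [cast_quad] at h0
  push_cast at h0
  set q : ZMod (r ^ 2) := (3 : ZMod (r ^ 2)) ^ j with hq
  have hq6 : (3 : ZMod (r ^ 2)) ^ (6 * j) = 1 := by
    rw [mul_comm, pow_mul, ← hq]; linear_combination (q + 1) * (q ^ 3 - 1) * h0
  have hrp : r.Prime := by rcases hr with rfl | rfl | rfl <;> norm_num
  have hphi : (3 : ZMod (r ^ 2)) ^ (r * (r - 1)) = 1 := by
    rw [show (3 : ZMod (r ^ 2)) = ((3 : ℕ) : ZMod (r ^ 2)) by simp, ← Nat.cast_pow,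
      ← Nat.cast_one (R := ZMod (r ^ 2)),
      ZMod.natCast_eq_natCast_iff]
    rcases hr with rfl | rfl | rfl <;> decide +kernel
  have hg := pow_gcd_eq_one.2 ⟨hq6, hphi⟩
  have hco : (6 * j).Coprime r := by
    refine Nat.Coprime.mul_left ?_ ((hrp.coprime_iff_not_dvd.2 hj).symm)
    rcases hr with rfl | rfl | rfl <;> norm_num
  rw [Nat.Coprime.gcd_mul_left_cancel_right _ hco.symm] at hg
  obtain ⟨c, hc⟩ := Nat.gcd_dvd_right (6 * j) (r - 1)
  have : (3 : ZMod (r ^ 2)) ^ (r - 1) = 1 := by rw [hc, pow_mul, hg, one_pow]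
  rw [show (3 : ZMod (r ^ 2)) = ((3 : ℕ) : ZMod (r ^ 2)) by simp, ← Nat.cast_pow,
      ← Nat.cast_one (R := ZMod (r ^ 2)),
    ZMod.natCast_eq_natCast_iff] at this
  rcases hr with rfl | rfl | rfl <;> exact absurd this (by decide +kernel)

end CaseA

namespace ExtBase

variable {G : Type u} [Group G] [Finite G] {P : Type v} [Group P] [Finite P] (S : ExtBase G P)

/-- `r³` does not divide `|C(a)|`. -/
theorem max_three [IsSimpleGroup G] (A : Amb G) (L : ExtLocals S)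
    (ih : ∀ (H : Type u) [Group H] [Finite H], Nat.card H < Nat.card G → NoField H)
    (hp : S.D.p = 3) (hfe : Nat.card S.Fld = S.D.f) (hsq : Squarefree S.D.f) {a : G} (ha : a ∈ S.Fld) {r : ℕ}
    (hr : r = 7 ∨ r = 19 ∨ r = 37) (hord : orderOf a = r)
    (H3 : r ∣ (3 ^ (S.D.f / r)) ^ 2 - 3 ^ (S.D.f / r) + 1) :
    ¬ r ^ 3 ∣ Nat.card ↥(centralizer ({a} : Set G)) := by
  have hrp : r.Prime := by rcases hr with rfl | rfl | rfl <;> norm_num
  have hr5 : 5 ≤ r := by omega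
  obtain ⟨K, i1, i2, hK, ⟨eK⟩⟩ := S.fix_iso a ha
  rw [hord, hp] at hK
  have hKodd : Odd (Fintype.card K) := by rw [hK]; exact (by decide : Odd 3).pow
  have hP2 : 2 * Nat.card ↥((centralizer ({a} : Set G)).comap S.ι) =
      Fintype.card K * ((Fintype.card K - 1) * (Fintype.card K + 1)) := by
    rw [Nat.card_congr eK.toEquiv, ← Invol.GW.card_PSLTwo hKodd]
  rw [S.card_cent A L ha, ← mul_assoc 2, hP2, hK, hfe]
  set j := S.D.f / r with hj
  set n := Nat.card ↥(Invol' a)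
  have hrf : r ∣ S.D.f := by rw [← hord, ← hfe]; exact S.Fld.orderOf_dvd_natCard ha
  have hj0 : 1 ≤ j := Nat.div_pos (Nat.le_of_dvd (Nat.pos_of_ne_zero hsq.ne_zero) hrf) hrp.pos
  have hrj : ¬ r ∣ j := fun h => hrp.not_isUnit (hsq r (by
    have h2 := Nat.mul_dvd_mul_left r h
    rwa [hj, Nat.mul_div_cancel' hrf] at h2))
  haveI : Fact r.Prime := ⟨hrp⟩
  set q := 3 ^ j with hq
  have hq0 : ¬ r ∣ q := fun h => by
    have := (Nat.prime_dvd_prime_iff_eq hrp Nat.prime_three).1 (hrp.dvd_of_dvd_pow h); omega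
  have hquad : (q : ZMod r) ^ 2 - q + 1 = 0 := by
    rw [← CaseA.cast_quad]; exact (ZMod.natCast_eq_zero_iff _ _).2 H3
  have three : (3 : ZMod r) ≠ 0 := fun h => by
    have := (Nat.prime_dvd_prime_iff_eq hrp Nat.prime_three).1 ((ZMod.natCast_eq_zero_iff 3 r).1 (by simpa using h))
    omega
  have hqq : ¬ r ∣ (q - 1) * (q + 1) := fun h => by
    have h1 := (ZMod.natCast_eq_zero_iff _ r).2 h
    rw [Nat.cast_mul, Nat.cast_sub (Nat.one_le_pow _ _ (by norm_num)), Nat.cast_add, Nat.cast_one] at h1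
    have h2 : (q : ZMod r) = 2 := by linear_combination h1 - hquad
    rw [h2] at hquad
    exact three (by linear_combination hquad)
  have hL : ¬ r ∣ q * ((q - 1) * (q + 1)) := fun h => (hrp.dvd_mul.1 h).elim hq0 hqq
  have hf2 : ¬ r ^ 2 ∣ S.D.f := fun h => hrp.not_isUnit (hsq r (by rwa [← pow_two]))
  have hn2 : ¬ r ^ 2 ∣ n := by
    rcases S.quot_count A L ih ha hrp hord with ⟨-, hn⟩ | ⟨h5, -⟩ | ⟨m, -, hqm, hn⟩
    · intro h
      have h1 : r * r ≤ 63 := by
        have := Nat.le_of_dvd (by omega) h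
        rw [pow_two] at this
        omega
      rcases hr with rfl | rfl | rfl
      · rcases hn with hn | hn <;> rw [show n = _ from hn] at h <;> norm_num at h
      · omega
      · omega
    · rw [hp] at h5
      have := hrp.pos
      exfalso
      have h6 : 5 ∣ 3 ^ (S.D.f / r) := by rw [h5]
      exact absurd (Nat.prime_five.dvd_of_dvd_pow h6) (by norm_num)
    · rw [hp] at hqm
      rw [show n = _ from hn, ← hqm]
      intro h
      have hco : (r ^ 2).Coprime (q ^ 2) := ((hrp.coprime_iff_not_dvd.2 hq0).pow 2 2)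
      exact CaseA.sq_not_dvd hr hrj (hco.dvd_of_dvd_mul_left h)
  intro h
  have hco : (r ^ 3).Coprime (q * ((q - 1) * (q + 1))) := (hrp.coprime_iff_not_dvd.2 hL).pow_left 3
  have h' : r ^ 3 ∣ n * S.D.f := by
    refine hco.dvd_of_dvd_mul_left ?_
    rwa [mul_left_comm] at h
  obtain ⟨x, y, hx, hy, e⟩ := Nat.dvd_mul.1 h'
  obtain ⟨i, hi, rfl⟩ := (Nat.dvd_prime_pow hrp).1 (e ▸ dvd_mul_right x y : x ∣ r ^ 3)
  obtain ⟨k, hk, rfl⟩ := (Nat.dvd_prime_pow hrp).1 (e ▸ dvd_mul_left y (r ^ i) : y ∣ r ^ 3)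
  rw [← pow_add] at e
  have hik := Nat.pow_right_injective hrp.two_le e
  rcases (show 2 ≤ i ∨ 2 ≤ k by omega) with h2 | h2
  · exact hn2 ((pow_dvd_pow r h2).trans hx)
  · exact hf2 ((pow_dvd_pow r h2).trans hy)

/-- The case `r = 7`. -/
theorem false_seven [IsSimpleGroup G] (A : Amb G) (L : ExtLocals S)
    (ih : ∀ (H : Type u) [Group H] [Finite H], Nat.card H < Nat.card G → NoField H)
    (hp : S.D.p = 3) (hfe : Nat.card S.Fld = S.D.f) (hsq : Squarefree S.D.f) (h7 : 7 ∣ S.D.f)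
    (H3 : 7 ∣ (3 ^ (S.D.f / 7)) ^ 2 - 3 ^ (S.D.f / 7) + 1) : False := by
  haveI := S.F_cyclic
  haveI : Fact (Nat.Prime 7) := ⟨by norm_num⟩
  obtain ⟨⟨b, hb⟩, hgen⟩ := IsCyclic.exists_generator (α := ↥S.Fld)
  have hbo : orderOf b = S.D.f := by
    rw [← Subgroup.orderOf_mk b hb, orderOf_eq_card_of_forall_mem_zpowers hgen, hfe]
  have hb1 : b ≠ 1 := fun e => by
    rw [e, orderOf_one] at hbo; rw [← hbo] at h7; omega
  set a := b ^ (S.D.f / 7) with haa
  have hao : orderOf a = 7 := by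
    rw [haa, orderOf_pow' _ (fun e => by
      have := Nat.div_pos (Nat.le_of_dvd (Nat.pos_of_ne_zero hsq.ne_zero) h7) (by norm_num : 0 < 7); omega), hbo,
      Nat.gcd_eq_right (Nat.div_dvd_of_dvd h7), Nat.div_div_self h7 hsq.ne_zero]
  obtain ⟨-, -, hc⟩ := S.quot_full A L ih hb hb1
  rw [hbo, hp, Nat.div_self (Nat.pos_of_ne_zero hsq.ne_zero), pow_one] at hc
  rcases hc with ⟨-, T, h, H⟩ | ⟨M, -, -, -, ⟨h5, -, -⟩ | ⟨m, hm, hqm, -, -⟩⟩
  · obtain ⟨z, n, l, hz, hn, hl⟩ := CaseA.seven_act H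
    exact S.false_of_act A L (pow_mem hb _) (by norm_num) hao (pow_mem (mem_zpowers b) _)
      (fun h => (Nat.prime_iff.1 (by norm_num : Nat.Prime 7)).not_isUnit
        (hsq 7 (by rw [← pow_two, ← hbo]; exact h)))
      (S.max_three A L ih hp hfe hsq (pow_mem hb _) (Or.inl rfl) hao H3) hz hn hl
  · omega
  · have h1 := Nat.pow_right_injective (le_refl 2 |>.trans (by norm_num : 2 ≤ 3)) ((pow_one 3).trans hqm)
    omega

end ExtBase

end Cfsg.Agent.Invol.JankoWard
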