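import Cfsg.Agent.Lib.Invol.JankoWard.LDataPSL
import Cfsg.Agent.Lib.Block.SL2Char.PSLDegrees
import Cfsg.Agent.Lib.Char.Galois

/-!
# The three characters of `L2(q)`, `q = 3, 5 (mod 8)`

The Steinberg character and the two halves of the series belonging to the torus at an involution, read
on `PSL₂(F)`, and an automorphism of `ℂ` exchanging the halves.
-/

set_option autoImplicit false
set_option linter.unusedSectionVars false
set_option linter.style.haveILetI false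
set_option maxHeartbeats 800000

namespace Cfsg.Agent.Invol.JankoWard.PSL

open Matrix Cfsg.Agent.Block.SL2Char Cfsg.Agent.Char

variable {F : Type} [Field F] [Fintype F] [DecidableEq F]

local notation "GG" => GL (Fin 2) F
local notation "SS" => Matrix.SpecialLinearGroup (Fin 2) F
local notation "PS" => Matrix.ProjectiveSpecialLinearGroup (Fin 2) F
local notation "tg" => (Matrix.SpecialLinearGroup.toGL : SS →* GG)
local notation "mkP" => (QuotientGroup.mk' (Subgroup.center SS) : SS →* PS)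

/-- The scalars of `SL₂` are its centre. -/
theorem center_iff {s : SS} : s ∈ Subgroup.center SS ↔ ∃ z, tg s = sc z := by
  constructor
  · intro hs
    obtain ⟨r, hr, hrs⟩ := Matrix.SpecialLinearGroup.mem_center_iff.1 hs
    rw [Fintype.card_fin] at hr
    have hr0 : r ≠ 0 := fun e => by simp [e] at hr
    refine ⟨Units.mk0 r hr0, Units.ext ?_⟩
    show (s : Matrix (Fin 2) (Fin 2) F) = !![r, 0; 0, r]
    rw [← hrs]
    ext i j
    fin_cases i <;> fin_cases j <;> simp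
  · rintro ⟨z, hz⟩
    exact Subgroup.mem_center_iff.2 fun t => SpecialLinearGroup.toGL_injective (by
      show tg (t * s) = tg (s * t)
      rw [map_mul, map_mul, hz, sc_central])

theorem mk_eq_one {s : SS} : mkP s = 1 ↔ ∃ z, tg s = sc z :=
  (QuotientGroup.eq_one_iff s).trans center_iff

/-- Powers that become scalar, read through a conjugate. -/
theorem pow_eq_one {s : SS} {d : GG} (hd : IsConj d (tg s)) (n : ℕ) :
    mkP s ^ n = 1 ↔ ∃ z, d ^ n = sc z := by
  rw [← map_pow, mk_eq_one, map_pow]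
  obtain ⟨c, hc⟩ := isConj_iff.1 hd
  rw [← hc, conj_pow]
  constructor
  · rintro ⟨z, hz⟩
    refine ⟨z, ?_⟩
    calc d ^ n = c⁻¹ * (c * d ^ n * c⁻¹) * c := by group
      _ = c⁻¹ * sc z * c := by rw [hz]
      _ = sc z := by rw [mul_assoc, ← sc_central, inv_mul_cancel_left]
  · rintro ⟨z, hz⟩
    exact ⟨z, by rw [hz, sc_central, mul_inv_cancel_right]⟩

theorem di_self (w : Fˣ) : (di w w : GG) = sc w := by
  refine Units.ext (Matrix.ext fun i j => ?_)
  fin_cases i <;> fin_cases j <;> simp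

theorem di_eq_sc {a b z : Fˣ} (h : (di a b : GG) = sc z) : a = z ∧ b = z := by
  have h0 := congrArg (fun g : GG => (g : Matrix (Fin 2) (Fin 2) F) 0 0) h
  have h1 := congrArg (fun g : GG => (g : Matrix (Fin 2) (Fin 2) F) 1 1) h
  simp at h0 h1
  exact ⟨Units.ext h0, Units.ext h1⟩

theorem un_pow (z : Fˣ) (n : ℕ) : (((un z : GG) ^ n : GG) : Matrix (Fin 2) (Fin 2) F) =
    !![(z : F) ^ n, (n : F) * (z : F) ^ (n - 1); 0, (z : F) ^ n] := by
  induction n with
  | zero => simp [Matrix.one_fin_two]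
  | succ n ih =>
    rw [pow_succ, GeneralLinearGroup.coe_mul, ih, un_val, Matrix.mul_fin_two]
    rcases n with _ | n
    · simp
    · ext i j
      fin_cases i <;> fin_cases j <;> simp [pow_succ]
      ring

variable (K : Type) [Field K] [Algebra F K] [Fintype K] [DecidableEq K]
  (hK : Module.finrank F K = 2)

include hK in
/-- The four kinds of elements of `SL₂`. -/
theorem kinds (s : SS) :
    (∃ z ∈ Z2 F, tg s = sc z) ∨ (∃ z ∈ Z2 F, IsConj (un z) (tg s)) ∨
      (∃ x : Fˣ, x ≠ x⁻¹ ∧ IsConj (di x x⁻¹) (tg s)) ∨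
      ∃ l : U1 F K, (l : Kˣ) ∉ (emb (F := F) K).range ∧
        IsConj (ell (F := F) K hK (l : Kˣ)) (tg s) := by
  have hdt : ∀ {d : GG}, IsConj d (tg s) → dt d = 1 := fun {d} h => by
    obtain ⟨c, hc⟩ := isConj_iff.1 h
    rw [← dt_conj d c, hc, dt_toGL]
  rcases Block.SL2Char.cases K hK (tg s) with ⟨z, hz⟩ | ⟨z, hz⟩ | ⟨x, y, hxy, hz⟩ | ⟨l, hl, hz⟩
  · refine Or.inl ⟨z, mem_Z2.2 (Units.ext ?_), hz⟩
    have := dt_toGL s
    rw [hz, dt_sc] at this
    simpa using this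
  · refine Or.inr (Or.inl ⟨z, mem_Z2.2 (Units.ext ?_), hz⟩)
    have := hdt hz
    rw [dt_un] at this
    simpa using this
  · have hy : x * y = 1 := Units.ext (by have := hdt hz; rw [dt_di] at this; simpa using this)
    obtain rfl : y = x⁻¹ := eq_inv_of_mul_eq_one_right hy
    exact Or.inr (Or.inr (Or.inl ⟨x, hxy, hz⟩))
  · refine Or.inr (Or.inr (Or.inr ⟨⟨l, (mem_U1 K).2 (Units.ext ?_)⟩, hl, hz⟩))
    have h5 := congrArg (algebraMap F K) (hdt hz)
    rw [(tr_dt_ell K hK hl).2, map_one] at h5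
    rw [Units.val_pow_eq_pow_val, pow_succ', h5, Units.val_one]

/-- Both halves at an element centralised by matrices of every determinant. -/
theorem pair_value {a b f : SS → ℂ} {y : GG} (ha : IsIrrCharacter SS a) (hb : IsIrrCharacter SS b)
    (he : f = a + b) (hc : ∀ s, b (cjS y s) = a s) {s : SS} (hs : FullDet (tg s)) :
    a s = f s / 2 ∧ b s = f s / 2 :=
  ⟨half_value (IsIrr.classFun hb) he hc hs,
    half_value (IsIrr.classFun ha) (he.trans (add_comm a b)) (conj_swap hc) hs⟩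

/-- An element of non-square determinant exchanges the two halves. -/
theorem swap_of_nonsquare (hodd : Odd (Fintype.card F)) {a b : SS → ℂ} {y₀ : GG}
    (ha : IsIrrCharacter SS a) (hb : IsIrrCharacter SS b) (hab : a ≠ b) (hinv : InvS (a + b))
    (hc : ∀ s, b (cjS y₀ s) = a s) {y : GG} (hy : ¬ IsSquare (detu y : Fˣ)) :
    (∀ s, a (cjS y s) = b s) ∧ ∀ s, b (cjS y s) = a s := by
  have hchar : ringChar F ≠ 2 := fun h => by
    rw [← FiniteField.even_card_iff_char_two.symm] at h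
    exact Nat.not_even_iff_odd.2 hodd (Nat.even_iff.2 h)
  refine (conj_perm ha hb hab hinv y).resolve_left fun ⟨h, _⟩ => ?_
  refine not_invS_of_conj hab hc fun z s => ?_
  have hcl := IsIrr.classFun ha
  have hcase : IsSquare (detu z : Fˣ) ∨ IsSquare (detu z * (detu y)⁻¹ : Fˣ) := by
    by_cases h1 : IsSquare (detu z : Fˣ)
    · exact Or.inl h1
    refine Or.inr ((FiniteField.unit_isSquare_iff hchar _).2 ?_)
    have hz' := (FiniteField.unit_isSquare_iff hchar _).not.1 h1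
    have hy' := (FiniteField.unit_isSquare_iff hchar _).not.1 hy
    have dich : ∀ d : Fˣ, d ^ (Fintype.card F / 2) = 1 ∨ d ^ (Fintype.card F / 2) = -1 := fun d => by
      rcases FiniteField.pow_dichotomy hchar d.ne_zero with e | e
      · exact Or.inl (Units.ext (by simpa using e))
      · exact Or.inr (Units.ext (by simpa using e))
    rw [mul_pow, inv_pow, (dich _).resolve_left hz', (dich _).resolve_left hy', mul_inv_cancel]
  rcases hcase with ⟨w, hw⟩ | ⟨w, hw⟩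
  · rw [eq_of_square_det hcl (c := sc w) (hw.trans (detu_eq (by simp [dt_sc])).symm),
      cjS_of_commute (sc_central _ _).symm]
  · rw [eq_of_square_det hcl (c := y * sc w) (by
      rw [map_mul, detu_eq (g := sc w) (w := w * w) (by simp [dt_sc]), ← hw,
        mul_comm (detu z), mul_inv_cancel_left]), cjS_mul,
      cjS_of_commute (sc_central _ _).symm, h]

/-- Raising a unipotent kind element to a power is conjugation by that determinant. -/
theorem pow_eq_cjS {z : Fˣ} (hz : z ∈ Z2 F) {s : SS} (h : IsConj (un z) (tg s)) {k : ℕ}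
    (hk : Odd k) (e : Fˣ) (he : (e : F) = k) :
    ∃ y : GG, detu y = e ∧ s ^ k = cjS y s := by
  obtain ⟨c, hc⟩ := isConj_iff.1 h
  have hpow : (un z : GG) ^ k = di e 1 * un z * (di e 1)⁻¹ := by
    rw [eq_mul_inv_iff_mul_eq]
    refine Units.ext ?_
    have hz2 : (z : F) * z = 1 := congrArg Units.val (mem_Z2.1 hz)
    obtain ⟨j, rfl⟩ := hk
    rw [GeneralLinearGroup.coe_mul, un_pow, show 2 * j + 1 - 1 = 2 * j by omega, pow_succ,
      pow_mul, pow_two, hz2, one_pow]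
    simp [he, mul_comm]
  refine ⟨c * di e 1 * c⁻¹, ?_, eq_cjS ?_⟩
  · rw [map_mul, map_mul, map_inv, mul_comm (detu c), mul_inv_cancel_right,
      detu_eq (w := e) (by simp [dt_di])]
  · rw [map_pow, ← hc, conj_pow, hpow]
    group

/-- The values at the identity. -/
def Top (q : ℕ) (δ : ℤ) (St a b : SS → ℂ) (s : SS) : Prop :=
  St s = q ∧ a s = ((q : ℂ) + δ) / 2 ∧ b s = ((q : ℂ) + δ) / 2

/-- What the table records at one element. -/
def Row (q r m p : ℕ) (δ : ℤ) (St a b : SS → ℂ) (s : SS) : Prop :=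
  (mkP s = 1 ∧ St s = q ∧ a s = ((q : ℂ) + δ) / 2 ∧ b s = ((q : ℂ) + δ) / 2) ∨
  (mkP s ^ p = 1 ∧ St s = 0 ∧ a s + b s = δ ∧
    ∀ k : ℕ, Odd k → ¬ IsSquare (k : F) → a (s ^ k) = b s ∧ b (s ^ k) = a s) ∨
  (mkP s ^ m = 1 ∧ St s = -(δ : ℂ) ∧ a s = 0 ∧ b s = 0) ∨
  (mkP s ^ (2 * r) = 1 ∧ St s = δ ∧
    ∃ e : ℂ, a s = e ∧ b s = e ∧ (mkP s ^ r = 1 → e = δ) ∧ (mkP s ^ r ≠ 1 → e = -(δ : ℂ)))

theorem un_row {p : ℕ} (hp : Odd p) [CharP F p] {z : Fˣ} (hz : z ∈ Z2 F) {s : SS}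
    (h : IsConj (un z) (tg s)) : mkP s ^ p = 1 := by
  rw [pow_eq_one h]
  refine ⟨z, Units.ext ?_⟩
  have hz2 : (z : F) * z = 1 := congrArg Units.val (mem_Z2.1 hz)
  obtain ⟨j, rfl⟩ := hp
  rw [un_pow, CharP.cast_eq_zero, zero_mul, pow_succ, pow_mul, pow_two, hz2, one_pow, one_mul]
  ext i l
  fin_cases i <;> fin_cases l <;> simp

theorem un_swap (hodd : Odd (Fintype.card F)) {a b : SS → ℂ} {y₀ : GG}
    (ha : IsIrrCharacter SS a) (hb : IsIrrCharacter SS b) (hab : a ≠ b) (hinv : InvS (a + b))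
    (hc : ∀ s, b (cjS y₀ s) = a s) {z : Fˣ} (hz : z ∈ Z2 F) {s : SS}
    (h : IsConj (un z) (tg s)) (k : ℕ) (hk : Odd k) (hns : ¬ IsSquare (k : F)) :
    a (s ^ k) = b s ∧ b (s ^ k) = a s := by
  have hk0 : (k : F) ≠ 0 := fun e => hns (e ▸ IsSquare.zero)
  obtain ⟨y, hy, hs⟩ := pow_eq_cjS hz h hk (Units.mk0 _ hk0) rfl
  obtain ⟨h1, h2⟩ := swap_of_nonsquare hodd ha hb hab hinv hc (y := y) fun hsq => hns (by
    rw [hy] at hsq
    simpa using hsq.map (Units.coeHom F))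
  exact ⟨hs ▸ h1 s, hs ▸ h2 s⟩

include hK in
/-- The table at `q = 4r + 1`. -/
theorem table_plus {p r : ℕ} (hp : Odd p) [CharP F p]
    (hq : Fintype.card F = 4 * r + 1) :
    ∃ a b : SS → ℂ, IsIrrCharacter SS a ∧ IsIrrCharacter SS b ∧ a ≠ b ∧
      ∀ s, Row (F := F) (Fintype.card F) r (2 * r + 1) p 1 vSS a b s ∧
        (mkP s = 1 → Top (F := F) (Fintype.card F) 1 vSS a b s) := by
  have hodd : Odd (Fintype.card F) := ⟨2 * r, by omega⟩
  obtain ⟨α, a, b, y, h1, h2, -, ⟨-, -, -, -, -, ha, -⟩, ⟨-, -, -, -, -, hb, -⟩, hab, he, hc⟩ :=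
    exists_pairI K hK hodd
  have hinv : InvS (a + b) := he ▸ invS_vIS α
  have hm : Fintype.card Fˣ = 2 * (2 * r) := by rw [Fintype.card_units]; omega
  have hz1 : ∀ z ∈ Z2 F, cv α z = 1 := fun z hz => (quad_apply_eq_one_iff hm h1 h2 z).2 (by
    rw [pow_mul, pow_two, mem_Z2.1 hz, one_pow])
  have centre : ∀ (s : SS) (z : Fˣ), z ∈ Z2 F → tg s = sc z →
      vSS s = (Fintype.card F : ℂ) ∧ a s = ((Fintype.card F : ℂ) + 1) / 2 ∧
        b s = ((Fintype.card F : ℂ) + 1) / 2 := by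
    intro s z hz hs
    obtain ⟨v1, v2⟩ := pair_value ha hb he hc (s := s) (hs ▸ fullDet_sc z)
    have hv : vIS α s = (Fintype.card F : ℂ) + 1 := by
      rw [vIS, resS_apply, hs, vI_sc, cv_one_hom, hz1 z hz, mul_one, mul_one]
    exact ⟨by rw [vSS, resS_apply, hs, vS_sc], v1.trans (by rw [hv]), v2.trans (by rw [hv])⟩
  refine ⟨a, b, ha, hb, hab, fun s => ⟨?_, fun hs => ?_⟩⟩
  swap
  · obtain ⟨z, hz⟩ := mk_eq_one.1 hs
    have hz' : z ∈ Z2 F := mem_Z2.2 (Units.ext (by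
      have := dt_toGL s
      rw [hz, dt_sc] at this
      simpa using this))
    obtain ⟨c1, c2, c3⟩ := centre s z hz' hz
    exact ⟨c1, by simpa [sub_eq_add_neg] using c2, by simpa [sub_eq_add_neg] using c3⟩
  rcases kinds K hK s with ⟨z, hz, hs⟩ | ⟨z, hz, hs⟩ | ⟨x, hx, hs⟩ | ⟨l, hl, hs⟩
  · obtain ⟨c1, c2, c3⟩ := centre s z hz hs
    exact Or.inl ⟨mk_eq_one.2 ⟨z, hs⟩, c1, by simpa using c2, by simpa using c3⟩
  · refine Or.inr (Or.inl ⟨un_row hp hz hs, ?_, ?_, fun k hk hns =>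
      un_swap hodd ha hb hab hinv hc hz hs k hk hns⟩)
    · rw [vSS, resS_of_conj classFun_vS hs, vS_un]
    · rw [← Pi.add_apply, ← he, vIS, resS_of_conj (classFun_vI _ _) hs, vI_un, cv_one_hom,
        hz1 z hz]
      simp
  · obtain ⟨c, hc'⟩ := isConj_iff.1 hs
    obtain ⟨v1, v2⟩ := pair_value ha hb he hc (s := s) (hc' ▸ fullDet_conj (fullDet_di _ _) c)
    have hxo : x ^ (4 * r) = 1 := by
      rw [show 4 * r = Fintype.card Fˣ by omega]; exact pow_card_eq_one
    have hinv' : (x ^ (2 * r))⁻¹ = x ^ (2 * r) := inv_eq_of_mul_eq_one_right (by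
      rw [← pow_add, show 2 * r + 2 * r = 4 * r by omega, hxo])
    have hv : vIS α s = cv α x + cv α x⁻¹ := by
      rw [vIS, resS_of_conj (classFun_vI _ _) hs, vI_di _ _ hx, cv_one_hom, cv_one_hom, mul_one,
        mul_one]
    have hii : cv α x⁻¹ = cv α x := by
      rw [cv_inv]
      rcases quad_iff hm h1 h2 x with ⟨e, -⟩ | ⟨e, -⟩ <;> rw [e] <;> norm_num
    refine Or.inr (Or.inr (Or.inr ⟨(pow_eq_one hs _).2 ⟨x ^ (2 * r), ?_⟩, ?_, cv α x, ?_, ?_,
      fun h => ?_, fun h => ?_⟩))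
    · rw [di_pow, inv_pow, hinv', di_self]
    · rw [vSS, resS_of_conj classFun_vS hs, vS_di hx]; simp
    · rw [v1, hv, hii]; ring
    · rw [v2, hv, hii]; ring
    · rw [Int.cast_one, quad_apply_eq_one_iff hm h1 h2]
      obtain ⟨w, hw⟩ := (pow_eq_one hs _).1 h
      rw [di_pow, inv_pow] at hw
      obtain ⟨e1, e2⟩ := di_eq_sc hw
      rw [two_mul, pow_add]
      conv_lhs => arg 2; rw [e1, ← e2]
      exact mul_inv_cancel _
    · rw [Int.cast_one]
      refine ((quad_iff hm h1 h2 x).resolve_left fun h' => h ?_).1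
      refine (pow_eq_one hs _).2 ⟨x ^ r, ?_⟩
      rw [di_pow, inv_pow, inv_eq_of_mul_eq_one_right (by rw [← pow_add, ← two_mul, h'.2]), di_self]
  · obtain ⟨c, hc'⟩ := isConj_iff.1 hs
    obtain ⟨v1, v2⟩ := pair_value ha hb he hc (s := s) (hc' ▸ fullDet_conj (fullDet_ell K hK _) c)
    have hv : vIS α s = 0 := vIS_ell K hK α hl hs
    refine Or.inr (Or.inr (Or.inl ⟨(pow_eq_one hs _).2 ?_, ?_, by rw [v1, hv, zero_div],
      by rw [v2, hv, zero_div]⟩))
    · have hlo : (l ^ (2 * r + 1)) * (l ^ (2 * r + 1)) = 1 := by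
        rw [← pow_add, show 2 * r + 1 + (2 * r + 1) = Fintype.card (U1 F K) by
          rw [card_U1 K hK]; omega]
        exact pow_card_eq_one
      obtain ⟨z, hz⟩ := (sq_eq_one_iff_mem_range K _).1 hlo
      refine ⟨z, ?_⟩
      rw [← map_pow, ← Subgroup.coe_pow, ← hz, ell_emb]
    · rw [vSS, resS_of_conj classFun_vS hs, vS_ell K hK hl]; simp

include hK in
/-- The table at `q = 4r - 1`. -/
theorem table_minus {p r : ℕ} (hp : Odd p) [CharP F p] (hr : Odd r)
    (hq : Fintype.card F + 1 = 4 * r) :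
    ∃ a b : SS → ℂ, IsIrrCharacter SS a ∧ IsIrrCharacter SS b ∧ a ≠ b ∧
      ∀ s, Row (F := F) (Fintype.card F) r (2 * r - 1) p (-1) vSS a b s ∧
        (mkP s = 1 → Top (F := F) (Fintype.card F) (-1) vSS a b s) := by
  have hr1 : 1 ≤ r := by obtain ⟨j, hj⟩ := hr; omega
  have hodd : Odd (Fintype.card F) := ⟨2 * r - 1, by omega⟩
  obtain ⟨φ, a, b, y, h1, h2, -, ⟨-, -, -, -, -, ha, -⟩, ⟨-, -, -, -, -, hb, -⟩, hab, he, hc⟩ :=
    exists_pairD K hK hodd
  have hinv : InvS (a + b) := he ▸ invS_vDS K hK φ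
  have hm : Fintype.card (U1 F K) = 2 * (2 * r) := by rw [card_U1 K hK]; omega
  have hz1 : ∀ z (hz : z ∈ Z2 F), cv φ (embU K z hz) = 1 := fun z hz =>
    (quad_apply_eq_one_iff hm h1 h2 _).2 (by rw [pow_mul, pow_two, embU_mul_self K z hz, one_pow])
  have centre : ∀ (s : SS) (z : Fˣ), z ∈ Z2 F → tg s = sc z →
      vSS s = (Fintype.card F : ℂ) ∧ a s = ((Fintype.card F : ℂ) - 1) / 2 ∧
        b s = ((Fintype.card F : ℂ) - 1) / 2 := by
    intro s z hz hs
    obtain ⟨v1, v2⟩ := pair_value ha hb he hc (s := s) (hs ▸ fullDet_sc z)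
    have hv : vDS K hK φ s = (Fintype.card F : ℂ) - 1 := by
      rw [vDS, resS_apply, hs, vD_sc, cv_extU_emb K φ z hz, hz1 z hz, mul_one]
    exact ⟨by rw [vSS, resS_apply, hs, vS_sc], v1.trans (by rw [hv]), v2.trans (by rw [hv])⟩
  refine ⟨a, b, ha, hb, hab, fun s => ⟨?_, fun hs => ?_⟩⟩
  swap
  · obtain ⟨z, hz⟩ := mk_eq_one.1 hs
    have hz' : z ∈ Z2 F := mem_Z2.2 (Units.ext (by
      have := dt_toGL s
      rw [hz, dt_sc] at this
      simpa using this))
    obtain ⟨c1, c2, c3⟩ := centre s z hz' hz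
    exact ⟨c1, by simpa [sub_eq_add_neg] using c2, by simpa [sub_eq_add_neg] using c3⟩
  rcases kinds K hK s with ⟨z, hz, hs⟩ | ⟨z, hz, hs⟩ | ⟨x, hx, hs⟩ | ⟨l, hl, hs⟩
  · obtain ⟨c1, c2, c3⟩ := centre s z hz hs
    exact Or.inl ⟨mk_eq_one.2 ⟨z, hs⟩, c1, by simpa [sub_eq_add_neg] using c2,
      by simpa [sub_eq_add_neg] using c3⟩
  · refine Or.inr (Or.inl ⟨un_row hp hz hs, ?_, ?_, fun k hk hns =>
      un_swap hodd ha hb hab hinv hc hz hs k hk hns⟩)
    · rw [vSS, resS_of_conj classFun_vS hs, vS_un]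
    · rw [← Pi.add_apply, ← he, vDS, resS_of_conj (classFun_vD K hK _) hs, vD_un,
        cv_extU_emb K φ z hz, hz1 z hz]
      simp
  · obtain ⟨c, hc'⟩ := isConj_iff.1 hs
    obtain ⟨v1, v2⟩ := pair_value ha hb he hc (s := s) (hc' ▸ fullDet_conj (fullDet_di _ _) c)
    have hv : vDS K hK φ s = 0 := by
      rw [vDS, resS_of_conj (classFun_vD K hK _) hs, vD_di K hK _ hx]
    refine Or.inr (Or.inr (Or.inl ⟨(pow_eq_one hs _).2 ⟨x ^ (2 * r - 1), ?_⟩, ?_,
      by rw [v1, hv, zero_div], by rw [v2, hv, zero_div]⟩))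
    · have hxo : x ^ (2 * r - 1) * x ^ (2 * r - 1) = 1 := by
        rw [← pow_add, show 2 * r - 1 + (2 * r - 1) = Fintype.card Fˣ by
          rw [Fintype.card_units]; omega]
        exact pow_card_eq_one
      rw [di_pow, inv_pow, inv_eq_of_mul_eq_one_right hxo, di_self]
    · rw [vSS, resS_of_conj classFun_vS hs, vS_di hx]; simp
  · obtain ⟨c, hc'⟩ := isConj_iff.1 hs
    obtain ⟨v1, v2⟩ := pair_value ha hb he hc (s := s) (hc' ▸ fullDet_conj (fullDet_ell K hK _) c)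
    have hlo : l ^ (2 * r) * l ^ (2 * r) = 1 := by
      rw [← pow_add, show 2 * r + 2 * r = Fintype.card (U1 F K) by omega]
      exact pow_card_eq_one
    have hv : vDS K hK φ s = -(cv φ l + cv φ l⁻¹) := vDS_ell K hK φ hl hs
    have hii : cv φ l⁻¹ = cv φ l := by
      rw [cv_inv]
      rcases quad_iff hm h1 h2 l with ⟨e, -⟩ | ⟨e, -⟩ <;> rw [e] <;> norm_num
    refine Or.inr (Or.inr (Or.inr ⟨(pow_eq_one hs _).2 ?_, ?_, -cv φ l, ?_, ?_,
      fun h => ?_, fun h => ?_⟩))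
    · obtain ⟨z, hz⟩ := (sq_eq_one_iff_mem_range K _).1 hlo
      refine ⟨z, ?_⟩
      rw [← map_pow, ← Subgroup.coe_pow, ← hz, ell_emb]
    · rw [vSS, resS_of_conj classFun_vS hs, vS_ell K hK hl]; simp
    · rw [v1, hv, hii]; ring
    · rw [v2, hv, hii]; ring
    · obtain ⟨w, hw⟩ := (pow_eq_one hs _).1 h
      rw [← map_pow, ← Subgroup.coe_pow, ← ell_emb K hK w] at hw
      have hmem : ((l ^ r : U1 F K) : Kˣ) ∈ (emb (F := F) K).range :=
        ⟨w, (ell_injective K hK hw).symm⟩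
      have h2' := (sq_eq_one_iff_mem_range K _).2 hmem
      rw [← pow_add, ← two_mul] at h2'
      rw [(quad_apply_eq_one_iff hm h1 h2 l).2 h2']
      simp
    · rw [((quad_iff hm h1 h2 l).resolve_left fun ⟨_, e⟩ => h ?_).1]
      · simp
      · obtain ⟨z, hz⟩ := (sq_eq_one_iff_mem_range K (l ^ r)).1 (by rw [← pow_add, ← two_mul, e])
        refine (pow_eq_one hs _).2 ⟨z, ?_⟩
        rw [← map_pow, ← Subgroup.coe_pow, ← hz, ell_emb]

/-- Some natural number is a non-square in `F`, when the degree over the prime field is odd. -/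
theorem exists_nonsquare_nat {p : ℕ} [hp : Fact p.Prime] [CharP F p] (hp2 : p ≠ 2) {f : ℕ}
    (hf : Fintype.card F = p ^ f) (hfo : Odd f) :
    ∃ g : ℕ, ¬ IsSquare (g : F) ∧ ¬ p ∣ g := by
  obtain ⟨c, hc⟩ := FiniteField.exists_nonsquare (F := ZMod p)
    (by rw [ZMod.ringChar_zmod_n]; exact hp2)
  refine ⟨c.val, fun hsq => ?_, fun hd => hc ?_⟩
  swap
  · have h0 : c = 0 := by
      rw [← ZMod.natCast_zmod_val c]
      exact (ZMod.natCast_eq_zero_iff _ _).2 hd
    exact h0 ▸ IsSquare.zero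
  have hchar : ringChar F ≠ 2 := by rw [ringChar.eq F p]; exact hp2
  have hc0 : c ≠ 0 := fun e => hc (e ▸ IsSquare.zero)
  have hpz : ringChar (ZMod p) ≠ 2 := by rw [ZMod.ringChar_zmod_n]; exact hp2
  have h1 : c ^ (p / 2) = -1 := by
    rcases FiniteField.pow_dichotomy hpz hc0 with e | e <;> rw [ZMod.card] at e
    · exact absurd ((FiniteField.isSquare_iff hpz hc0).2 (by rw [ZMod.card]; exact e)) hc
    · exact e
  have hF : ((c.val : F)) ^ (p / 2) = -1 := by
    have := congrArg (ZMod.castHom dvd_rfl F) h1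
    rw [map_pow, map_neg, map_one, ← ZMod.natCast_zmod_val c, map_natCast] at this
    exact this
  obtain ⟨j, hj⟩ := hp.out.odd_of_ne_two hp2
  have hS : ∀ n : ℕ, ∃ S : ℕ, p ^ n = 2 * j * S + 1 ∧ (Odd S ↔ Odd n) := fun n => by
    induction n with
    | zero => exact ⟨0, by simp, Iff.rfl⟩
    | succ n ih =>
      obtain ⟨S, h, hS⟩ := ih
      refine ⟨p * S + 1, by rw [pow_succ, h, hj]; ring, ?_⟩
      have hpo : Odd p := ⟨j, hj⟩
      rw [Nat.odd_add_one, Nat.odd_add_one, Nat.odd_mul, hS]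
      simp [hpo]
  obtain ⟨S, hS1, hS2⟩ := hS f
  have hne : ((c.val : F)) ≠ 0 := fun e => by
    rw [e, zero_pow (by have := hp.out.two_le; omega)] at hF
    exact neg_ne_zero.2 one_ne_zero hF.symm
  have h2 := (FiniteField.isSquare_iff hchar hne).1 hsq
  rw [hf, hS1, show (2 * j * S + 1) / 2 = j * S by
    rw [mul_assoc, Nat.mul_add_div two_pos]; simp, pow_mul,
    show j = p / 2 by omega, hF, (hS2.2 hfo).neg_one_pow] at h2
  exact Ring.neg_one_ne_one_of_char_ne_two hchar h2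

/-- The characters exist for every choice of the data. -/
theorem exists_lChars (D : LData PS) (hDq : D.q = Fintype.card F) : Nonempty (LChars D) := by
  classical
  obtain ⟨K, _, _, _, _, hK⟩ := exists_model F
  obtain ⟨p, hpc⟩ := CharP.exists F
  haveI : Fact p.Prime := ⟨CharP.char_is_prime F p⟩
  obtain ⟨f, -, hf⟩ := FiniteField.card F p
  have hq := D.hq
  rw [hDq] at hq
  have hr := Nat.odd_iff.1 D.r_odd
  have hr3 := D.r3
  have h8 : Fintype.card F % 8 = 3 ∨ Fintype.card F % 8 = 5 := by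
    rcases D.hδ with e | e <;> rw [e] at hq <;> omega
  have hodd := odd_of_mod h8
  have hp2 : p ≠ 2 := fun e => Nat.not_even_iff_odd.2 hodd (by
    rw [hf, e]; exact Nat.even_pow.2 ⟨even_two, f.pos.ne'⟩)
  have hpodd : Odd p := (Fact.out : p.Prime).odd_of_ne_two hp2
  have hfo : Odd (f : ℕ) := by
    refine Nat.not_even_iff_odd.1 fun ⟨i, hi⟩ => ?_
    obtain ⟨j, hj⟩ := hpodd.pow (n := i)
    rw [hi, pow_add, hj] at hf
    rcases Nat.even_or_odd j with ⟨o, ho⟩ | ⟨o, ho⟩ <;> subst ho <;> ring_nf at hf <;> omega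
  obtain ⟨m, hmodd, hm, a, b, ha, hb, hab, hrow⟩ :
      ∃ m : ℕ, Odd m ∧ (m : ℤ) = 2 * (D.r : ℤ) + D.δ ∧ ∃ a b : SS → ℂ, IsIrrCharacter SS a ∧
        IsIrrCharacter SS b ∧ a ≠ b ∧ ∀ s, Row (F := F) (Fintype.card F) D.r m p D.δ vSS a b s ∧
          (mkP s = 1 → Top (F := F) (Fintype.card F) D.δ vSS a b s) := by
    rcases D.hδ with e | e <;> rw [e] at hq ⊢
    · exact ⟨2 * D.r + 1, ⟨D.r, rfl⟩, by omega,
        table_plus K hK hpodd (by omega)⟩
    · exact ⟨2 * D.r - 1, ⟨D.r - 1, by omega⟩, by omega,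
        table_minus K hK hpodd D.r_odd (by omega)⟩
  have htop : ∀ s, s ∈ Subgroup.center SS → Top (F := F) (Fintype.card F) D.δ vSS a b s :=
    fun s hs => (hrow s).2 ((QuotientGroup.eq_one_iff s).2 hs)
  obtain ⟨t1, t2, t3⟩ := htop 1 (one_mem _)
  obtain ⟨St, hSt, eSt⟩ := IsIrr.exists_factor_quotient (isIrr_vSS K hK) (Subgroup.center SS)
    fun k hk => (htop k hk).1.trans t1.symm
  obtain ⟨A, hA, eA⟩ := IsIrr.exists_factor_quotient ha (Subgroup.center SS)
    fun k hk => (htop k hk).2.1.trans t2.symm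
  obtain ⟨B, hB, eB⟩ := IsIrr.exists_factor_quotient hb (Subgroup.center SS)
    fun k hk => (htop k hk).2.2.trans t3.symm
  have hrm : Nat.Coprime D.r m := by
    rw [Nat.coprime_iff_gcd_eq_one, ← Nat.dvd_one]
    have g1 : ((Nat.gcd D.r m : ℕ) : ℤ) ∣ (D.r : ℤ) := Int.natCast_dvd_natCast.2 (Nat.gcd_dvd_left _ _)
    have g2 : ((Nat.gcd D.r m : ℕ) : ℤ) ∣ (m : ℤ) := Int.natCast_dvd_natCast.2 (Nat.gcd_dvd_right _ _)
    rw [hm] at g2
    have g3 := (dvd_add_right (g1.mul_left 2)).1 g2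
    rw [← Int.natCast_dvd_natCast]
    rcases D.hδ with e | e <;> rw [e] at g3
    · exact g3
    · exact Int.dvd_neg.1 g3
  have hpq : p ∣ Fintype.card F := Dickson.dvd_card_field p
  have hpr : Nat.Coprime p D.r := (Fact.out : p.Prime).coprime_iff_not_dvd.2 fun h => by
    have h1 : (p : ℤ) ∣ D.δ := (dvd_add_right ((Int.natCast_dvd_natCast.2 h).mul_left 4)).1
      (hq ▸ Int.natCast_dvd_natCast.2 hpq)
    have h2 : p ∣ 1 := Int.natCast_dvd_natCast.1 (by
      rcases D.hδ with e | e <;> rw [e] at h1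
      · exact h1
      · exact Int.dvd_neg.1 h1)
    exact (Fact.out : p.Prime).one_lt.ne' (Nat.dvd_one.1 h2)
  have hpm : Nat.Coprime p m := (Fact.out : p.Prime).coprime_iff_not_dvd.2 fun h => by
    have hmq : 2 * (m : ℤ) = (Fintype.card F : ℤ) + D.δ := by rw [hm, hq]; ring
    have h1 : (p : ℤ) ∣ D.δ := (dvd_add_right (Int.natCast_dvd_natCast.2 hpq)).1
      (hmq ▸ (Int.natCast_dvd_natCast.2 h).mul_left 2)
    have h2 : p ∣ 1 := Int.natCast_dvd_natCast.1 (by
      rcases D.hδ with e | e <;> rw [e] at h1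
      · exact h1
      · exact Int.dvd_neg.1 h1)
    exact (Fact.out : p.Prime).one_lt.ne' (Nat.dvd_one.1 h2)
  have hY : ∀ y ∈ D.Y, y ^ D.r = 1 := fun y hy =>
    orderOf_dvd_iff_pow_eq_one.1 (D.card_Y ▸ Subgroup.orderOf_dvd_natCard _ hy)
  have both : ∀ {x : PS} {i j : ℕ}, Nat.Coprime i j → x ^ i = 1 → x ^ j = 1 → x = 1 :=
    fun {x i j} hij hi hj => orderOf_eq_one_iff.1
      (Nat.eq_one_of_dvd_coprimes hij (orderOf_dvd_of_pow_eq_one hi) (orderOf_dvd_of_pow_eq_one hj))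
  -- the values on `Y`
  have onY : ∀ y ∈ D.Y, y ≠ 1 → St y = (D.δ : ℂ) ∧ A y = D.δ ∧ B y = D.δ := by
    intro y hy hy1
    obtain ⟨s, rfl⟩ := QuotientGroup.mk'_surjective (Subgroup.center SS) y
    have hyr := hY _ hy
    rcases (hrow s).1 with ⟨h, -⟩ | ⟨h, -⟩ | ⟨h, -⟩ | ⟨-, h1, e, h2, h3, h4, -⟩
    · exact absurd h hy1
    · exact absurd (both hpr h hyr) hy1
    · exact absurd (both hrm hyr h) hy1
    · exact ⟨(eSt s).trans h1, ((eA s).trans h2).trans (h4 hyr),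
        ((eB s).trans h3).trans (h4 hyr)⟩
  -- the values at even order
  have onEven : ∀ x : PS, 2 ∣ orderOf x →
      St x = (D.δ : ℂ) ∧ A x = -(D.δ : ℂ) ∧ B x = -(D.δ : ℂ) := by
    intro x hx
    obtain ⟨s, rfl⟩ := QuotientGroup.mk'_surjective (Subgroup.center SS) x
    have bad : ∀ i : ℕ, Odd i → mkP s ^ i = 1 → False := fun i hi h =>
      Nat.not_even_iff_odd.2 hi (even_iff_two_dvd.2 (hx.trans (orderOf_dvd_of_pow_eq_one h)))
    rcases (hrow s).1 with ⟨h, -⟩ | ⟨h, -⟩ | ⟨h, -⟩ | ⟨-, h1, e, h2, h3, -, h5⟩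
    · exact (bad 1 odd_one (by rw [pow_one, h])).elim
    · exact (bad p hpodd h).elim
    · exact (bad m hmodd h).elim
    · have hne : mkP s ^ D.r ≠ 1 := fun h => bad D.r D.r_odd h
      exact ⟨(eSt s).trans h1, ((eA s).trans h2).trans (h5 hne),
        ((eB s).trans h3).trans (h5 hne)⟩
  -- the automorphism
  obtain ⟨g, hgs, hgp⟩ := exists_nonsquare_nat (F := F) hp2 hf hfo
  have hM : Nat.Coprime p (2 * D.r * m) :=
    (((Nat.coprime_primes (Fact.out : p.Prime) Nat.prime_two).2 hp2).mul_right hpr).mul_right hpm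
  obtain ⟨k, hk1, hk2⟩ := Nat.chineseRemainder hM g 1
  have hkodd : Odd k := by
    have := Nat.ModEq.of_dvd (dvd_mul_of_dvd_left (dvd_mul_right 2 D.r) m) hk2
    rw [Nat.odd_iff]; exact this
  have hks : ¬ IsSquare (k : F) := by
    rwa [show (k : F) = g from (CharP.natCast_eq_natCast F p).2 hk1]
  have hkp : Nat.Coprime k p := (((Fact.out : p.Prime).coprime_iff_not_dvd.2 fun h => hgp
    ((Nat.ModEq.dvd_iff hk1 dvd_rfl).1 h))).symm
  have hkM : Nat.Coprime k (2 * D.r * m) := by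
    rw [Nat.coprime_iff_gcd_eq_one, hk2.gcd_eq, Nat.gcd_one_left]
  have hN : Nat.card SS = Fintype.card F * (4 * (2 * D.r * m)) := by
    rw [show Nat.card SS = Fintype.card F * (Fintype.card F ^ 2 - 1) from
      Nat.cast_injective (R := ℂ) (by
        rw [card_SS, Nat.cast_mul, Nat.cast_sub (Nat.one_le_pow 2 _ Fintype.card_pos)]
        push_cast; ring)]
    congr 1
    have : ((Fintype.card F ^ 2 - 1 : ℕ) : ℤ) = ((4 * (2 * D.r * m) : ℕ) : ℤ) := by
      rw [Nat.cast_sub (Nat.one_le_pow _ _ Fintype.card_pos)]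
      push_cast
      rw [hm, hq]
      rcases D.hδ with e | e <;> rw [e] <;> ring
    exact_mod_cast this
  have hk4 : Nat.Coprime k 4 :=
    ((Nat.coprime_two_right.2 hkodd).pow_right 2)
  have hkN : Nat.Coprime k (Nat.card SS) := by
    rw [hN, hf]
    exact (hkp.pow_right _).mul_right (hk4.mul_right hkM)
  obtain ⟨σ, hσ⟩ := exists_ringAut_pow (Nat.card SS) k Nat.card_pos hkN
  have hone : ∀ {x : PS} {n : ℕ}, n ∣ 2 * D.r * m → x ^ n = 1 → x ^ k = x := fun {x n} hn hx => by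
    have h := orderOf_dvd_of_pow_eq_one hx
    rw [(pow_eq_pow_iff_modEq.2 ((hk2.of_dvd hn).of_dvd h) : x ^ k = x ^ 1), pow_one]
  have swapped : ∀ x : PS, A (x ^ k) = B x ∧ B (x ^ k) = A x := by
    intro x
    obtain ⟨s, rfl⟩ := QuotientGroup.mk'_surjective (Subgroup.center SS) x
    rcases (hrow s).1 with ⟨h, -, h2, h3⟩ | ⟨-, -, -, h⟩ | ⟨h, -, h2, h3⟩ | ⟨h, -, e, h2, h3, -⟩
    · rw [h, one_pow, ← h]
      exact ⟨((eA s).trans h2).trans ((eB s).trans h3).symm,
        ((eB s).trans h3).trans ((eA s).trans h2).symm⟩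
    · rw [← map_pow]
      exact ⟨(eA _).trans ((h k hkodd hks).1.trans (eB s).symm),
        (eB _).trans ((h k hkodd hks).2.trans (eA s).symm)⟩
    · rw [hone (dvd_mul_left m _) h]
      exact ⟨((eA s).trans h2).trans ((eB s).trans h3).symm,
        ((eB s).trans h3).trans ((eA s).trans h2).symm⟩
    · rw [hone (dvd_mul_right _ m) h]
      exact ⟨((eA s).trans h2).trans ((eB s).trans h3).symm,
        ((eB s).trans h3).trans ((eA s).trans h2).symm⟩
  have hσv : ∀ {χ : PS → ℂ}, IsIrrCharacter PS χ → ∀ x, σ (χ x) = χ (x ^ k) := fun {χ} h x =>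
    ringAut_character_eq_pow (IsIrr.isCharacter h) σ hσ
      ((orderOf_dvd_natCard x).trans (Subgroup.card_quotient_dvd_card _))
  refine ⟨{
    St := ⟨St, hSt⟩
    e1 := ⟨A, hA⟩
    e2 := ⟨B, hB⟩
    ne := fun e => hab (funext fun s =>
      (eA s).symm.trans ((congrFun (congrArg Subtype.val e) _).trans (eB s)))
    St_one := by
      show St 1 = _
      rw [← QuotientGroup.mk_one, eSt, t1, hDq]
    e1_one := by
      show A 1 = _
      rw [← QuotientGroup.mk_one, eA, t2, hDq]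
    e2_one := by
      show B 1 = _
      rw [← QuotientGroup.mk_one, eB, t3, hDq]
    St_Y := fun y hy h => (onY y hy h).1
    e1_Y := fun y hy h => (onY y hy h).2.1
    e2_Y := fun y hy h => (onY y hy h).2.2
    St_even := fun x h => (onEven x h).1
    e1_even := fun x h => (onEven x h).2.1
    e2_even := fun x h => (onEven x h).2.2
    relation := fun x hx => ?_
    swap := ⟨σ, fun z hz => ?_, fun x => (hσv hA x).trans (swapped x).1,
      fun x => (hσv hB x).trans (swapped x).2⟩ }⟩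
  · show St x = A x + B x - (D.δ : ℂ)
    obtain ⟨s, rfl⟩ := QuotientGroup.mk'_surjective (Subgroup.center SS) x
    rw [QuotientGroup.mk'_apply, eSt, eA, eB]
    rcases (hrow s).1 with ⟨-, h1, h2, h3⟩ | ⟨-, h1, h2, -⟩ | ⟨-, h1, h2, h3⟩ |
      ⟨h, h1, e, h2, h3, h4, -⟩
    · rw [h1, h2, h3]; ring
    · rw [h1, h2, sub_self]
    · rw [h1, h2, h3]; ring
    · have hodd' : mkP s ^ D.r = 1 := orderOf_dvd_iff_pow_eq_one.1
        (((Nat.prime_two.coprime_iff_not_dvd.2 hx).symm).dvd_of_dvd_mul_left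
          (orderOf_dvd_of_pow_eq_one h))
      rw [h1, h2, h3, h4 hodd']; ring
  · have hzN : z ^ Nat.card SS = 1 := by
      rw [hN, show Fintype.card F * (4 * (2 * D.r * m)) = D.r * (Fintype.card F * 4 * 2 * m) by ring,
        pow_mul, hz, one_pow]
    have hkr : k % D.r = 1 % D.r := hk2.of_dvd (dvd_mul_of_dvd_left (dvd_mul_left D.r 2) m)
    rw [hσ z hzN, pow_eq_pow_mod k hz, hkr, ← pow_eq_pow_mod 1 hz, pow_one]

/-- The data and the characters, for `q = 3, 5 (mod 8)`, `q > 5`. -/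
theorem exists_lData_lChars (F : Type) [Field F] [Fintype F]
    (h8 : Fintype.card F % 8 = 3 ∨ Fintype.card F % 8 = 5) (h5 : 5 < Fintype.card F) :
    ∃ D : LData (Matrix.ProjectiveSpecialLinearGroup (Fin 2) F),
      Nonempty (LChars D) ∧ D.q = Fintype.card F := by
  classical
  obtain ⟨p, hpc⟩ := CharP.exists F
  haveI : Fact p.Prime := ⟨CharP.char_is_prime F p⟩
  obtain ⟨D, hq, -⟩ := exists_lData h8 p h5
  exact ⟨D, exists_lChars D hq, hq⟩

end Cfsg.Agent.Invol.JankoWard.PSL
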