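import Cfsg.Agent.Lib.Invol.AbelTwo.PslFacts
import Cfsg.Agent.Lib.Fus.SmallSimple
import Cfsg.Agent.Lib.Grp.Cores
import Cfsg.Agent.Lib.Grp.CoprimeAbelian
import Cfsg.Agent.Lib.Grp.QuotientNormalizer
import Cfsg.Agent.S2119

/-!
# A four-group with centralisers `V × Y` and an element of order three cycling it

Then `Y` is normal and the quotient is of order twelve or the alternating group of degree five; in the second
case `Y` is central if it is cyclic.
-/

set_option autoImplicit false
set_option linter.unusedSectionVars false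
set_option linter.style.haveILetI false
set_option maxRecDepth 10000

namespace Cfsg.Agent.Invol.JankoWard

open Subgroup

universe u

theorem a5_three : ∀ a b : alternatingGroup (Fin 5), a ^ 3 = 1 → a ≠ 1 → a * b = b * a →
    b = 1 ∨ b = a ∨ b = a * a := by
  decide +kernel

theorem a5_orders : ∀ a : alternatingGroup (Fin 5), a ^ 2 = 1 ∨ a ^ 3 = 1 ∨ a ^ 5 = 1 := by
  decide +kernel

theorem a5_invol_cent : ∀ a : alternatingGroup (Fin 5), a ^ 2 = 1 → a ≠ 1 →
    ∀ b : alternatingGroup (Fin 5), a * b = b * a → b ^ 2 = 1 := by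
  decide +kernel

section general

variable {X : Type u} [Group X]

/-- The elements of a four-group. -/
theorem four_cases {V : Subgroup X} (hV : IsKleinFour V) {a b : X} (ha : a ∈ V) (hb : b ∈ V) (ha1 : a ≠ 1)
    (hb1 : b ≠ 1) (hab : a ≠ b) {x : X} (hx : x ∈ V) : x = 1 ∨ x = a ∨ x = b ∨ x = a * b := by
  haveI := hV
  by_contra hne
  push Not at hne
  exact hne.2.2.2 (congrArg Subtype.val (IsKleinFour.eq_mul_of_ne_all
    (x := (⟨a, ha⟩ : ↥V)) (y := ⟨b, hb⟩) (z := ⟨x, hx⟩)
    (fun e => ha1 (congrArg Subtype.val e)) (fun e => hb1 (congrArg Subtype.val e))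
    (fun e => hab (congrArg Subtype.val e)) (fun e => hne.1 (congrArg Subtype.val e))
    (fun e => hne.2.1 (congrArg Subtype.val e)) (fun e => hne.2.2.1 (congrArg Subtype.val e))))

theorem four_sq {V : Subgroup X} (hV : IsKleinFour V) {x : X} (hx : x ∈ V) : x * x = 1 :=
  haveI := hV
  congrArg Subtype.val (IsKleinFour.mul_self (⟨x, hx⟩ : ↥V))

theorem eq_one_of_two_odd {x : X} (h2 : ∃ k, x ^ 2 ^ k = 1) {o : ℕ} (ho : Odd o) (h : x ^ o = 1) : x = 1 := by
  obtain ⟨k, hk⟩ := h2
  have h1 : (2 ^ k).Coprime o := ((Nat.coprime_two_left).2 ho).pow_left k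
  have := (orderOf_eq_one_iff (x := x)).1 (Nat.eq_one_of_dvd_coprimes h1 (orderOf_dvd_of_pow_eq_one hk)
    (orderOf_dvd_of_pow_eq_one h))
  exact this

/-- An element normalising a four-group cycled by `g` acts on it as a power of `g`, provided that the elements
of 2-power order normalising it centralise it. -/
theorem norm_action [Finite X] {V : Subgroup X} (hV : IsKleinFour V) {g : X} (g3 : g ^ 3 = 1)
    (gV : ∀ v ∈ V, g * v * g⁻¹ ∈ V) (gmove : ∀ v ∈ V, v ≠ 1 → g * v * g⁻¹ ≠ v)
    (htwo : ∀ e : X, (∃ k, e ^ 2 ^ k = 1) → (∀ v ∈ V, e * v * e⁻¹ ∈ V) → ∀ v ∈ V, e * v * e⁻¹ = v)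
    {n : X} (hn : ∀ v ∈ V, n * v * n⁻¹ ∈ V) :
    ∃ i : ℕ, i < 3 ∧ ∀ v ∈ V, (g ^ i)⁻¹ * n * v * ((g ^ i)⁻¹ * n)⁻¹ = v := by
  classical
  obtain ⟨⟨a, ha⟩, ha0⟩ : ∃ a : ↥V, a ≠ 1 := by
    haveI := hV
    haveI : Nontrivial ↥V := Finite.one_lt_card_iff_nontrivial.1 (by rw [IsKleinFour.card_four]; norm_num)
    exact exists_ne 1
  have ha1 : a ≠ 1 := fun e => ha0 (Subtype.ext e)
  set b := g * a * g⁻¹ with hb_def
  have hb : b ∈ V := gV a ha
  have hb1 : b ≠ 1 := fun e => ha1 (conj_eq_one_iff.1 e)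
  have hab : a ≠ b := (gmove a ha ha1).symm
  have hgb : g * b * g⁻¹ = a * b := by
    rcases four_cases hV ha hb ha1 hb1 hab (gV b hb) with e | e | e | e
    · exact absurd (conj_eq_one_iff.1 e) hb1
    · exfalso
      refine gmove a ha ha1 ?_
      have h3 : g * (g * (g * a * g⁻¹) * g⁻¹) * g⁻¹ = a := by
        rw [show g * (g * (g * a * g⁻¹) * g⁻¹) * g⁻¹ = g ^ 3 * a * (g ^ 3)⁻¹ by simp [pow_succ, mul_assoc], g3,
          one_mul, inv_one, mul_one]
      rw [← hb_def, e] at h3
      exact h3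
    · exact absurd e (gmove b hb hb1)
    · exact e
  obtain ⟨i, hi, hia⟩ : ∃ i : ℕ, i < 3 ∧ n * a * n⁻¹ = g ^ i * a * (g ^ i)⁻¹ := by
    rcases four_cases hV ha hb ha1 hb1 hab (hn a ha) with e | e | e | e
    · exact absurd (conj_eq_one_iff.1 e) ha1
    · exact ⟨0, by norm_num, by rw [e]; group⟩
    · exact ⟨1, by norm_num, by rw [e, pow_one]⟩
    · refine ⟨2, by norm_num, ?_⟩
      rw [e, show g ^ 2 * a * (g ^ 2)⁻¹ = g * (g * a * g⁻¹) * g⁻¹ by simp [pow_succ, mul_assoc], ← hb_def, hgb]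
  refine ⟨i, hi, ?_⟩
  set m := (g ^ i)⁻¹ * n with hm
  have hgi : ∀ j : ℕ, ∀ v ∈ V, g ^ j * v * (g ^ j)⁻¹ ∈ V := by
    intro j
    induction j with
    | zero => intro v hv; simpa using hv
    | succ j ih =>
      intro v hv
      rw [show g ^ (j + 1) * v * (g ^ (j + 1))⁻¹ = g * (g ^ j * v * (g ^ j)⁻¹) * g⁻¹ by rw [pow_succ']; group]
      exact gV _ (ih v hv)
  have hginv : (g ^ i)⁻¹ = g ^ (3 - i) := inv_eq_of_mul_eq_one_left (by
    rw [← pow_add, show 3 - i + i = 3 by omega, g3])
  have hmV : ∀ v ∈ V, m * v * m⁻¹ ∈ V := fun v hv => by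
    rw [hm, show (g ^ i)⁻¹ * n * v * ((g ^ i)⁻¹ * n)⁻¹ = (g ^ i)⁻¹ * (n * v * n⁻¹) * ((g ^ i)⁻¹)⁻¹ by group, hginv]
    exact hgi _ _ (hn v hv)
  have hma : m * a * m⁻¹ = a := by
    rw [hm, show (g ^ i)⁻¹ * n * a * ((g ^ i)⁻¹ * n)⁻¹ = (g ^ i)⁻¹ * (n * a * n⁻¹) * g ^ i by group, hia]
    group
  have hmb : m * b * m⁻¹ = b := by
    rcases four_cases hV ha hb ha1 hb1 hab (hmV b hb) with e | e | e | e
    · exact absurd (conj_eq_one_iff.1 e) hb1
    · exact absurd ((MulAut.conj m).injective (show MulAut.conj m b = MulAut.conj m a by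
        simp only [MulAut.conj_apply]; rw [e, hma])) hab.symm
    · exact e
    · exfalso
      obtain ⟨k, o, ho, hko⟩ := Nat.exists_eq_two_pow_mul_odd (orderOf_pos m).ne'
      have hord : (m ^ o) ^ 2 ^ k = 1 := by rw [← pow_mul, mul_comm, ← hko, pow_orderOf_eq_one]
      have hab2 : a * (a * b) = b := by rw [← mul_assoc, four_sq hV ha, one_mul]
      have hpow : ∀ j : ℕ, (m ^ j * a * (m ^ j)⁻¹ = a) ∧
          m ^ j * b * (m ^ j)⁻¹ = if Even j then b else a * b := by
        intro j
        induction j with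
        | zero => simp
        | succ j ih =>
          obtain ⟨ih1, ih2⟩ := ih
          constructor
          · rw [show m ^ (j + 1) * a * (m ^ (j + 1))⁻¹ = m * (m ^ j * a * (m ^ j)⁻¹) * m⁻¹ by rw [pow_succ']; group,
              ih1, hma]
          · rw [show m ^ (j + 1) * b * (m ^ (j + 1))⁻¹ = m * (m ^ j * b * (m ^ j)⁻¹) * m⁻¹ by rw [pow_succ']; group,
              ih2]
            by_cases hj : Even j
            · rw [if_pos hj, if_neg (by simpa [Nat.even_add_one] using hj), e]
            · rw [if_neg hj, if_pos (Nat.even_add_one.2 hj),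
                show m * (a * b) * m⁻¹ = (m * a * m⁻¹) * (m * b * m⁻¹) by group, hma, e, hab2]
      have hoV : ∀ v ∈ V, m ^ o * v * (m ^ o)⁻¹ ∈ V := fun v hv => by
        have : ∀ j : ℕ, m ^ j * v * (m ^ j)⁻¹ ∈ V := by
          intro j
          induction j with
          | zero => simpa using hv
          | succ j ih =>
            rw [show m ^ (j + 1) * v * (m ^ (j + 1))⁻¹ = m * (m ^ j * v * (m ^ j)⁻¹) * m⁻¹ by rw [pow_succ']; group]
            exact hmV _ ih
        exact this o
      have h1 := htwo (m ^ o) ⟨k, hord⟩ hoV b hb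
      rw [(hpow o).2, if_neg (Nat.not_even_iff_odd.2 ho)] at h1
      exact ha1 (mul_eq_right.1 h1)
  intro v hv
  rcases four_cases hV ha hb ha1 hb1 hab hv with rfl | rfl | rfl | rfl
  · group
  · exact hma
  · exact hmb
  · rw [show m * (a * b) * m⁻¹ = (m * a * m⁻¹) * (m * b * m⁻¹) by group, hma, hmb]

end general

/-- The configuration. -/
structure FourCfg (X : Type u) [Group X] where
  /-- the four-group -/
  V : Subgroup X
  /-- the abelian group of odd order -/
  Y : Subgroup X
  /-- the element of order three -/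
  g : X
  hV : IsKleinFour V
  hY : Odd (Nat.card Y)
  Ycomm : ∀ y ∈ Y, ∀ y' ∈ Y, y * y' = y' * y
  comm : ∀ v ∈ V, ∀ y ∈ Y, v * y = y * v
  cent : ∀ v ∈ V, v ≠ 1 → ∀ x, x * v = v * x → ∃ y ∈ Y, ∃ w ∈ V, x = w * y
  g3 : g ^ 3 = 1
  gV : ∀ v ∈ V, g * v * g⁻¹ ∈ V
  gmove : ∀ v ∈ V, v ≠ 1 → g * v * g⁻¹ ≠ v

namespace FourCfg

variable {X : Type u} [Group X] [Finite X] (C : FourCfg X)
include C

theorem odd_pow {y : X} (hy : y ∈ C.Y) : y ^ Nat.card C.Y = 1 :=
  congrArg Subtype.val (pow_card_eq_one' (x := (⟨y, hy⟩ : ↥C.Y)))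

theorem mem_V_of_two {v x : X} (hv : v ∈ C.V) (hv1 : v ≠ 1) (hc : x * v = v * x)
    (h2 : ∃ k, x ^ 2 ^ k = 1) : x ∈ C.V := by
  obtain ⟨y, hy, w, hw, rfl⟩ := C.cent v hv hv1 x hc
  obtain ⟨k, hk⟩ := h2
  have h1 : y = 1 := by
    refine eq_one_of_two_odd ⟨k + 1, ?_⟩ C.hY (C.odd_pow hy)
    have h2 : (w * y) ^ 2 ^ (k + 1) = 1 := by rw [pow_succ, pow_mul, hk, one_pow]
    rw [(show Commute w y from C.comm w hw y hy).mul_pow, pow_succ' 2 k, pow_mul, pow_two,
      four_sq C.hV hw, one_pow, one_mul] at h2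
    rwa [pow_succ' 2 k]
  rw [h1, mul_one]
  exact hw

theorem eq_one_of_mem {x : X} (h1 : x ∈ C.V) (h2 : x ∈ C.Y) : x = 1 :=
  eq_one_of_two_odd ⟨1, by rw [pow_one, pow_two, four_sq C.hV h1]⟩ C.hY (C.odd_pow h2)

theorem exists_ne : ∃ v ∈ C.V, v ≠ 1 := by
  haveI := C.hV
  haveI : Nontrivial ↥C.V := Finite.one_lt_card_iff_nontrivial.1 (by rw [IsKleinFour.card_four]; norm_num)
  obtain ⟨v, hv⟩ := _root_.exists_ne (1 : ↥C.V)
  exact ⟨v, v.2, fun e => hv (Subtype.ext e)⟩

theorem exists_sylow : ∃ P : Sylow 2 X, (P : Subgroup X) = C.V := by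
  haveI : Fact (Nat.Prime 2) := ⟨Nat.prime_two⟩
  haveI := C.hV
  have hp : IsPGroup 2 C.V := IsPGroup.of_card (n := 2) (by rw [IsKleinFour.card_four]; norm_num)
  obtain ⟨P, hP⟩ := hp.exists_le_sylow
  refine ⟨P, le_antisymm (fun x hx => ?_) hP⟩
  obtain ⟨v, hv, hv1⟩ := C.exists_ne
  haveI : Nontrivial ↥(P : Subgroup X) := ⟨⟨⟨v, hP hv⟩, 1, fun e => hv1 (congrArg Subtype.val e)⟩⟩
  haveI := P.isPGroup'.center_nontrivial
  obtain ⟨z, hz⟩ := _root_.exists_ne (1 : ↥(center ↥(P : Subgroup X)))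
  have hpow : ∀ a ∈ (P : Subgroup X), ∃ k, a ^ 2 ^ k = 1 := fun a ha => by
    obtain ⟨k, hk⟩ := P.isPGroup' ⟨a, ha⟩
    exact ⟨k, congrArg Subtype.val hk⟩
  have hzc : ∀ a ∈ (P : Subgroup X), a * ((z : ↥(P : Subgroup X)) : X) = ((z : ↥(P : Subgroup X)) : X) * a :=
    fun a ha => congrArg Subtype.val (mem_center_iff.1 z.2 ⟨a, ha⟩)
  have hzV : ((z : ↥(P : Subgroup X)) : X) ∈ C.V :=
    C.mem_V_of_two hv hv1 (hzc v (hP hv)).symm (hpow _ (z : ↥(P : Subgroup X)).2)
  exact C.mem_V_of_two hzV (fun e => hz (Subtype.ext (Subtype.ext e))) (hzc x hx) (hpow x hx)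

theorem htwo {e : X} (he : ∃ k, e ^ 2 ^ k = 1) (hn : ∀ v ∈ C.V, e * v * e⁻¹ ∈ C.V) :
    ∀ v ∈ C.V, e * v * e⁻¹ = v := by
  haveI : Fact (Nat.Prime 2) := ⟨Nat.prime_two⟩
  obtain ⟨P, hP⟩ := C.exists_sylow
  obtain ⟨k, hk⟩ := he
  have hz : IsPGroup 2 (zpowers e) := by
    refine IsPGroup.of_card (n := Nat.log 2 (orderOf e)) ?_
    obtain ⟨j, -, hj⟩ := (Nat.dvd_prime_pow Nat.prime_two).1 (orderOf_dvd_of_pow_eq_one hk)
    rw [Nat.card_zpowers, hj, Nat.log_pow (by norm_num)]
  have hmem : e ∈ normalizer ((P : Subgroup X) : Set X) := by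
    rw [hP]; exact mem_normalizer_fintype hn
  have h1 : e ∈ zpowers e ⊓ (P : Subgroup X) := hz.inf_normalizer_sylow P ▸ ⟨mem_zpowers e, hmem⟩
  intro v hv
  have heV : e ∈ C.V := hP ▸ h1.2
  haveI := C.hV
  haveI : IsMulCommutative ↥C.V := IsKleinFour.isMulCommutative
  rw [show e * v = v * e from congrArg Subtype.val (mul_comm' (⟨e, heV⟩ : ↥C.V) ⟨v, hv⟩), mul_inv_cancel_right]

/-- The action of an element normalising `V`. -/
theorem norm_split {n : X} (hn : ∀ v ∈ C.V, n * v * n⁻¹ ∈ C.V) :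
    ∃ i : ℕ, ∃ y ∈ C.Y, ∃ w ∈ C.V, n = C.g ^ i * (w * y) := by
  obtain ⟨i, -, hi⟩ := norm_action C.hV C.g3 C.gV C.gmove (fun e he hn => C.htwo he hn) hn
  obtain ⟨v, hv, hv1⟩ := C.exists_ne
  obtain ⟨y, hy, w, hw, he⟩ := C.cent v hv hv1 _ (mul_inv_eq_iff_eq_mul.1 (hi v hv))
  exact ⟨i, y, hy, w, hw, by rw [← he]; group⟩

theorem core_le : Cfsg.pPrimeCore 2 X ≤ C.Y := by
  haveI := C.hV
  haveI : IsMulCommutative ↥C.V := IsKleinFour.isMulCommutative
  haveI := Grp.pPrimeCore_isNormal (p := 2) (G := X)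
  set O := Cfsg.pPrimeCore 2 X
  have hodd : Odd (Nat.card ↥O) := Nat.coprime_two_right.1 Grp.pPrimeCore_coprime
  rw [← Grp.generated_by_centralizers C.V O IsKleinFour.not_isCyclic
    (by rw [Subgroup.normalizer_eq_top]; exact le_top)
    (by rw [IsKleinFour.card_four, show (4 : ℕ) = 2 ^ 2 by norm_num]
        exact (Nat.coprime_two_left.2 hodd).pow_left 2)]
  refine iSup₂_le fun v hv x hx => ?_
  obtain ⟨y, hy, w, hw, rfl⟩ := C.cent v hv.1 hv.2 x (mem_centralizer_singleton_iff.1 hx.2)
  have hpow : (w * y) ^ Nat.card ↥O = 1 := congrArg Subtype.val (pow_card_eq_one' (x := (⟨_, hx.1⟩ : ↥O)))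
  rw [(show Commute w y from C.comm w hw y hy).mul_pow] at hpow
  have hwY : w ^ Nat.card ↥O ∈ C.Y := by
    rw [eq_inv_of_mul_eq_one_left hpow]
    exact inv_mem (pow_mem hy _)
  have h1 : w ^ Nat.card ↥O = 1 := C.eq_one_of_mem (pow_mem hw _) hwY
  have hw1 : w = 1 := eq_one_of_two_odd ⟨1, by rw [pow_one, pow_two, four_sq C.hV hw]⟩ hodd h1
  rw [hw1, one_mul]
  exact hy

/-- The structure. -/
theorem structure_quotient : C.Y.Normal ∧
    (∀ j : X, j * C.g = C.g * j → ∃ y ∈ C.Y, ∃ i : ℕ, j = y * C.g ^ i) ∧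
    ((∀ (b : X), ∀ v ∈ C.V, v ≠ 1 → Odd (orderOf b) → v * b * v⁻¹ = b⁻¹ → b ∈ C.Y) ∨
      (Nat.card X = 60 * Nat.card ↥C.Y ∧ (IsCyclic ↥C.Y → ∀ x : X, ∀ y ∈ C.Y, x * y = y * x) ∧
        ∀ x : X, x ^ 2 ∈ C.Y ∨ x ^ 3 ∈ C.Y ∨ x ^ 5 ∈ C.Y)) := by
  classical
  haveI : Fact (Nat.Prime 2) := ⟨Nat.prime_two⟩
  haveI := C.hV
  haveI hOn := Grp.pPrimeCore_isNormal (p := 2) (G := X)
  set O := Cfsg.pPrimeCore 2 X with hO
  have hOY : O ≤ C.Y := C.core_le
  have hOodd : Odd (Nat.card ↥O) := Nat.coprime_two_right.1 Grp.pPrimeCore_coprime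
  set π := QuotientGroup.mk' O with hπ
  have hker : ∀ x, π x = 1 ↔ x ∈ O := fun x => QuotientGroup.eq_one_iff x
  have hinj : ∀ v ∈ C.V, π v = 1 → v = 1 := fun v hv h => C.eq_one_of_mem hv (hOY ((hker v).1 h))
  set W := C.V.map π with hW
  -- centralisers of involutions in the quotient
  have hcentv : ∀ v ∈ C.V, v ≠ 1 → ∀ z, z * π v = π v * z → ∃ y ∈ C.Y, ∃ w ∈ C.V, z = π (w * y) := by
    intro v hv hv1 z hz
    have hcop : (Nat.card ↥O).Coprime (Nat.card ↥(zpowers v)) := by
      rw [Nat.card_zpowers, orderOf_eq_prime (by rw [pow_two, four_sq C.hV hv]) hv1]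
      exact Nat.coprime_two_right.2 hOodd
    have h1 : z ∈ centralizer (((zpowers v).map π : Subgroup (X ⧸ O)) : Set (X ⧸ O)) := by
      rw [MonoidHom.map_zpowers]
      refine mem_centralizer_iff.2 fun a ha => ?_
      obtain ⟨i, rfl⟩ := mem_zpowers_iff.1 ha
      exact ((show Commute z (π v) from hz).zpow_right i).eq.symm
    rw [Grp.QuotNorm.centralizer_map O (zpowers v) hcop (Or.inr inferInstance)] at h1
    obtain ⟨x, hx, rfl⟩ := h1
    obtain ⟨y, hy, w, hw, rfl⟩ := C.cent v hv hv1 x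
      (mem_centralizer_iff.1 hx v (mem_zpowers v)).symm
    exact ⟨y, hy, w, hw, rfl⟩
  have habel : ∀ v ∈ C.V, v ≠ 1 → ∀ a b, a * π v = π v * a → b * π v = π v * b → a * b = b * a := by
    intro v hv hv1 a b ha hb
    obtain ⟨y, hy, w, hw, rfl⟩ := hcentv v hv hv1 a ha
    obtain ⟨y', hy', w', hw', rfl⟩ := hcentv v hv hv1 b hb
    haveI : IsMulCommutative ↥C.V := IsKleinFour.isMulCommutative
    have c1 : Commute w w' := congrArg Subtype.val (mul_comm' (⟨w, hw⟩ : ↥C.V) ⟨w', hw'⟩)
    have c2 : Commute y y' := C.Ycomm y hy y' hy'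
    have c3 : Commute w y' := C.comm w hw y' hy'
    have c4 : Commute w' y := C.comm w' hw' y hy
    rw [← map_mul, ← map_mul]
    exact congrArg π ((c1.mul_right c3).mul_left (c4.symm.mul_right c2)).eq
  -- a Sylow subgroup of the quotient
  obtain ⟨P, hP⟩ := C.exists_sylow
  set Pb : Sylow 2 (X ⧸ O) := P.mapSurjective (QuotientGroup.mk'_surjective O) with hPb
  have hPW : (Pb : Subgroup (X ⧸ O)) = W := by rw [hPb, Sylow.coe_mapSurjective, hP]
  have hW4 : Nat.card ↥W = 4 := by
    have e : C.V ≃* ↥W := MulEquiv.ofBijective (π.subgroupMap C.V)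
      ⟨(injective_iff_map_eq_one _).2 fun a ha => Subtype.ext (hinj a a.2 (congrArg Subtype.val ha)),
        π.subgroupMap_surjective C.V⟩
    rw [← Nat.card_congr e.toEquiv, IsKleinFour.card_four]
  haveI hWK : IsKleinFour ↥W := ⟨hW4, Nat.dvd_antisymm (Monoid.exponent_dvd_of_forall_pow_eq_one (by
    rintro ⟨_, v, hv, rfl⟩
    refine Subtype.ext ?_
    show π v ^ 2 = 1
    rw [pow_two, ← map_mul, four_sq C.hV hv, map_one])) (by
    obtain ⟨v, hv, hv1⟩ := C.exists_ne
    have h2 : orderOf (⟨π v, mem_map_of_mem π hv⟩ : ↥W) = 2 := by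
      rw [orderOf_mk]
      exact orderOf_eq_prime (by rw [pow_two, ← map_mul, four_sq C.hV hv, map_one]) fun e => hv1 (hinj v hv e)
    exact h2 ▸ Monoid.order_dvd_exponent _)⟩
  have hcoreQ : ∀ K : Subgroup (X ⧸ O), K.Normal → Odd (Nat.card ↥K) → K = ⊥ := by
    intro K hK hodd
    haveI := hK
    have hle : K.comap π ≤ O := by
      refine Grp.le_pPrimeCore inferInstance (Nat.coprime_two_right.2 ?_)
      have h1 := Grp.SameOrder.card_map_mk O (K.comap π)
      rw [map_comap_eq_self_of_surjective (QuotientGroup.mk'_surjective O),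
        inf_of_le_left (show O ≤ K.comap π from fun x hx => by
          rw [mem_comap, (hker x).2 hx]; exact one_mem _)] at h1
      rw [← h1]
      exact hodd.mul hOodd
    refine (eq_bot_iff).2 fun z hz => ?_
    obtain ⟨x, rfl⟩ := QuotientGroup.mk'_surjective O z
    exact mem_bot.2 ((hker x).2 (hle hz))
  by_cases hWn : W.Normal
  · -- order twelve
    have hYO : C.Y ≤ O := by
      have hCn : (centralizer (W : Set (X ⧸ O))).Normal := inferInstance
      intro y hy
      obtain ⟨v, hv, hv1⟩ := C.exists_ne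
      set A := C.V.map π ⊔ C.Y.map π with hA
      have hAc : A ≤ centralizer (W : Set (X ⧸ O)) := by
        refine sup_le ?_ ?_
        · rintro _ ⟨a, ha, rfl⟩
          refine mem_centralizer_iff.2 ?_
          rintro _ ⟨b, hb, rfl⟩
          haveI : IsMulCommutative ↥C.V := IsKleinFour.isMulCommutative
          rw [← map_mul, ← map_mul, show b * a = a * b from
            congrArg Subtype.val (mul_comm' (⟨b, hb⟩ : ↥C.V) ⟨a, ha⟩)]
        · rintro _ ⟨a, ha, rfl⟩
          refine mem_centralizer_iff.2 ?_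
          rintro _ ⟨b, hb, rfl⟩
          rw [← map_mul, ← map_mul, C.comm b hb a ha]
      have hYn : (C.Y.map π).Normal := by
        refine ⟨fun z hz q => ?_⟩
        obtain ⟨a, ha, rfl⟩ := hz
        have h1 : q * π a * q⁻¹ ∈ centralizer (W : Set (X ⧸ O)) :=
          hCn.conj_mem _ (hAc (mem_sup_right (mem_map_of_mem π ha))) q
        obtain ⟨b, hb, w, hw, e⟩ := hcentv v hv hv1 _
          (mem_centralizer_iff.1 h1 (π v) (mem_map_of_mem π hv)).symm
        have hp : (q * π a * q⁻¹) ^ Nat.card ↥C.Y = 1 := by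
          rw [conj_pow, ← map_pow, C.odd_pow ha, map_one, mul_one, mul_inv_cancel]
        rw [e, ← map_pow, (show Commute w b from C.comm w hw b hb).mul_pow, C.odd_pow hb, mul_one, hker] at hp
        have h2 : w ^ Nat.card ↥C.Y = 1 := C.eq_one_of_mem (pow_mem hw _) (hOY hp)
        have hw1 : w = 1 := eq_one_of_two_odd ⟨1, by rw [pow_one, pow_two, four_sq C.hV hw]⟩ C.hY h2
        rw [e, hw1, one_mul]
        exact mem_map_of_mem π hb
      have h3 := hcoreQ _ hYn (C.hY.of_dvd_nat (card_map_dvd _ _))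
      exact (hker y).1 (mem_bot.1 (h3 ▸ mem_map_of_mem π hy))
    have hYeq : C.Y = O := le_antisymm hYO hOY
    refine ⟨hYeq ▸ hOn, fun j hj => ?_, Or.inl fun b v hv _ hb hinv => ?_⟩
    · have hn : ∀ w ∈ C.V, ∃ w' ∈ C.V, π w' = π (j * w * j⁻¹) := fun w hw => by
        rw [map_mul, map_mul, map_inv]
        exact hWn.conj_mem _ (mem_map_of_mem π hw) (π j)
      -- a lift of `π j` normalising `V`
      have hjN : π j ∈ normalizer ((C.V.map π : Subgroup (X ⧸ O)) : Set (X ⧸ O)) := by
        rw [← hW, normalizer_eq_top_iff.2 hWn]; exact mem_top _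
      obtain ⟨n, hnN, hne⟩ := Grp.QuotNorm.exists_normalizer_lift O C.V
        (by rw [show Nat.card ↥C.V = 2 ^ 2 from C.hV.card_four]
            exact (Nat.coprime_two_right.2 hOodd).pow_right 2)
        (Or.inr (by
          haveI : IsMulCommutative ↥C.V := IsKleinFour.isMulCommutative
          exact Group.isSolvable_of_comm fun a b => mul_comm' a b)) hjN
      obtain ⟨i, y, hy, w, hw, e⟩ := C.norm_split (fun v hv => (mem_normalizer_iff.1 hnN v).1 hv)
      have hy1 : π y = 1 := (hker y).2 (hYO hy)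
      have hw1 : w = 1 := by
        by_contra hw1
        have hc : π w * π C.g = π C.g * π w := by
          have h1 : π j * π C.g = π C.g * π j := by rw [← map_mul, hj, map_mul]
          rw [← hne, e, map_mul, map_mul, hy1, mul_one, map_pow] at h1
          have h2 : Commute (π C.g ^ i) (π C.g) := (Commute.refl _).pow_left i
          calc π w * π C.g = (π C.g ^ i)⁻¹ * (π C.g ^ i * π w * π C.g) := by group
            _ = (π C.g ^ i)⁻¹ * (π C.g * (π C.g ^ i * π w)) := by rw [h1]
            _ = π C.g * π w := by rw [← mul_assoc (π C.g), ← h2.eq]; group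
        refine C.gmove w hw hw1 ?_
        have h3 : π (C.g * w * C.g⁻¹ * w⁻¹) = 1 := by
          rw [map_mul, map_mul, map_mul, map_inv, map_inv, ← hc]; group
        exact mul_inv_eq_one.1 (hinj _ (mul_mem (C.gV w hw) (inv_mem hw)) h3)
      have h4 : π (j * (C.g ^ i)⁻¹) = 1 := by
        rw [map_mul, ← hne, e, hw1, one_mul, map_mul, hy1, mul_one, map_inv, mul_inv_cancel]
      exact ⟨_, hOY ((hker _).1 h4), i, (inv_mul_cancel_right j _).symm⟩
    · rw [hYeq, ← hker]
      have h1 : π b * π b ∈ W := by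
        have h2 := W.mul_mem (mem_map_of_mem π hv) (hWn.conj_mem _ (W.inv_mem (mem_map_of_mem π hv)) (π b))
        have h3 : π v * (π b * (π v)⁻¹ * (π b)⁻¹) = (π b * π b)⁻¹ := by
          rw [← map_inv, ← map_inv, ← map_mul, ← map_mul, ← map_mul, ← map_mul, ← map_inv,
            show v * (b * v⁻¹ * b⁻¹) = v * b * v⁻¹ * b⁻¹ by group, hinv, mul_inv_rev]
        rw [h3] at h2
        simpa using W.inv_mem h2
      obtain ⟨w, hw, hwe⟩ := h1
      have hbo : π b ^ orderOf b = 1 := by rw [← map_pow, pow_orderOf_eq_one, map_one]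
      refine eq_one_of_two_odd ⟨2, ?_⟩ hb hbo
      rw [show (2 : ℕ) ^ 2 = 2 * 2 by norm_num, pow_mul, pow_two (π b), ← hwe, pow_two, ← map_mul,
        four_sq C.hV hw, map_one]
  · -- the alternating group of degree five
    set N := normalClosure (W : Set (X ⧸ O)) with hN
    haveI hNn : N.Normal := normalClosure_normal
    have hWN : W ≤ N := le_normalClosure
    have hWPN : (Pb : Subgroup (X ⧸ O)) ≤ N := hPW ▸ hWN
    let PN : Sylow 2 ↥N := Pb.subtype hWPN
    have hPN : (PN : Subgroup ↥N) = W.subgroupOf N := by rw [Sylow.coe_subtype, hPW]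
    have hNodd : ∀ K : Subgroup ↥N, K.Normal → Odd (Nat.card ↥K) → K = ⊥ := by
      intro K hK hodd
      haveI := Grp.pPrimeCore_isNormal (p := 2) (G := ↥N)
      haveI : (Cfsg.pPrimeCore 2 ↥N).Characteristic := Grp.instCharPPrimeCore
      haveI : ((Cfsg.pPrimeCore 2 ↥N).map N.subtype).Normal := ConjAct.normal_of_characteristic_of_normal
      have h1 := hcoreQ _ inferInstance (by
        rw [card_map_of_injective N.subtype_injective]
        exact Nat.coprime_two_right.1 Grp.pPrimeCore_coprime)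
      rw [eq_bot_iff]
      intro z hz
      have h2 : (z : X ⧸ O) ∈ (Cfsg.pPrimeCore 2 ↥N).map N.subtype :=
        mem_map_of_mem N.subtype (Grp.le_pPrimeCore hK (Nat.coprime_two_right.2 hodd) hz)
      rw [h1, mem_bot] at h2
      exact mem_bot.2 (Subtype.ext h2)
    haveI hsimple : IsSimpleGroup ↥N := by
      haveI : Nontrivial ↥N := by
        haveI : Nontrivial ↥W := Finite.one_lt_card_iff_nontrivial.1 (by rw [hW4]; norm_num)
        exact Function.Injective.nontrivial (Subgroup.inclusion_injective hWN)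
      refine ⟨fun K hK => or_iff_not_imp_left.2 fun hK0 => ?_⟩
      have heven : 2 ∣ Nat.card ↥K := by
        by_contra h
        exact hK0 (hNodd K hK (Nat.odd_iff.2 (Nat.two_dvd_ne_zero.1 h)))
      obtain ⟨k, hk⟩ := exists_prime_orderOf_dvd_card' 2 heven
      have hkp : IsPGroup 2 (zpowers (k : ↥N)) := IsPGroup.of_card (n := 1) (by
        rw [Nat.card_zpowers, orderOf_coe, hk, pow_one])
      obtain ⟨Q, hQ⟩ := hkp.exists_le_sylow
      obtain ⟨c, hc⟩ := MulAction.exists_smul_eq ↥N Q PN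
      have hk0 : c * k * c⁻¹ ∈ (PN : Subgroup ↥N) := by
        rw [← hc]
        exact ⟨k, hQ (mem_zpowers _), rfl⟩
      rw [hPN, mem_subgroupOf] at hk0
      obtain ⟨v, hv, hve⟩ := hk0
      have hv1 : v ≠ 1 := fun e => by
        rw [e, map_one] at hve
        have : (k : ↥N) = 1 := conj_eq_one_iff.1 (Subtype.ext hve.symm)
        rw [show k = 1 from Subtype.ext this, orderOf_one] at hk
        omega
      have hKc : (⟨π v, hWN (mem_map_of_mem π hv)⟩ : ↥N) ∈ K := by
        rw [show (⟨π v, hWN (mem_map_of_mem π hv)⟩ : ↥N) = c * k * c⁻¹ from Subtype.ext hve]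
        exact hK.conj_mem _ k.2 c
      by_cases hall : ∀ w ∈ C.V, ∀ hwN : π w ∈ N, (⟨π w, hwN⟩ : ↥N) ∈ K
      · -- all Sylow subgroups lie in `K`
        have hsyl : ∀ Q : Sylow 2 ↥N, (Q : Subgroup ↥N) ≤ K := fun Q => by
          obtain ⟨d, hd⟩ := MulAction.exists_smul_eq ↥N PN Q
          rw [← hd]
          rintro _ ⟨z, hz, rfl⟩
          rw [hPN] at hz
          obtain ⟨w, hw, hwe⟩ := mem_subgroupOf.1 hz
          have := hall w hw (hwe ▸ z.2)
          rw [show (⟨π w, hwe ▸ z.2⟩ : ↥N) = z from Subtype.ext hwe] at this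
          exact hK.conj_mem _ this d
        rw [eq_top_iff]
        intro z _
        have hle : N ≤ K.map N.subtype := by
          refine closure_le _ |>.2 ?_
          intro q hq
          obtain ⟨w, hwW, hq'⟩ := Group.mem_conjugatesOfSet_iff.1 hq
          obtain ⟨d, hd⟩ := isConj_iff.1 hq'
          have hqN : q ∈ N := subset_closure hq
          have hwd : IsPGroup 2 (zpowers (⟨q, hqN⟩ : ↥N)) := by
            refine IsPGroup.of_card (n := Nat.log 2 (orderOf q)) ?_
            rw [Nat.card_zpowers, orderOf_mk]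
            obtain ⟨j, -, hj⟩ := (Nat.dvd_prime_pow Nat.prime_two).1
              (show orderOf q ∣ 2 ^ 1 from orderOf_dvd_of_pow_eq_one (by
                rw [pow_one, ← hd, conj_pow, pow_two, four_sq hWK hwW, mul_one, mul_inv_cancel]))
            rw [hj, Nat.log_pow (by norm_num)]
          obtain ⟨Q, hQ⟩ := hwd.exists_le_sylow
          exact ⟨_, hsyl Q (hQ (mem_zpowers _)), rfl⟩
        obtain ⟨z', hz', e⟩ := hle z.2
        rwa [show z = z' from Subtype.ext e.symm]
      · -- `K` has a Sylow subgroup of order two: then `W` is normal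
        exfalso
        push Not at hall
        obtain ⟨w, hw, hwN, hwK⟩ := hall
        set u : ↥N := ⟨π v, hWN (mem_map_of_mem π hv)⟩ with hu
        have hu2 : orderOf u = 2 := by
          rw [hu, orderOf_mk]
          exact orderOf_eq_prime (by rw [pow_two, ← map_mul, four_sq C.hV hv, map_one]) fun e => hv1 (hinj v hv e)
        have hKP : ∀ z ∈ K, z ∈ (PN : Subgroup ↥N) → z = 1 ∨ z = u := by
          intro z hzK hzP
          rw [hPN] at hzP
          obtain ⟨a, ha, hae⟩ := mem_subgroupOf.1 hzP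
          have hav : v ≠ w := fun e => hwK (by subst e; exact hKc)
          have hw1 : w ≠ 1 := fun e => hwK (by
            subst e
            have : (⟨π (1 : X), hwN⟩ : ↥N) = 1 := Subtype.ext (map_one π)
            rw [this]; exact one_mem _)
          rcases four_cases C.hV hv hw hv1 hw1 hav ha with rfl | rfl | rfl | rfl
          · exact Or.inl (Subtype.ext (hae.symm.trans (map_one π)))
          · exact Or.inr (Subtype.ext hae.symm)
          · exact absurd ((show (⟨π a, hwN⟩ : ↥N) = z from Subtype.ext hae) ▸ hzK) hwK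
          · refine absurd ?_ hwK
            have h1 := mul_mem hKc hzK
            rwa [show u * z = (⟨π w, hwN⟩ : ↥N) from Subtype.ext (by
              show π v * (z : X ⧸ O) = π w
              rw [← hae, ← map_mul, ← mul_assoc, four_sq C.hV hv, one_mul])] at h1
        -- the Sylow subgroup of `K`
        haveI := hK
        obtain ⟨R, hR⟩ : ∃ R : Sylow 2 ↥K, (R : Subgroup ↥K) = zpowers (⟨u, hKc⟩ : ↥K) := by
          have hup : IsPGroup 2 (zpowers (⟨u, hKc⟩ : ↥K)) := IsPGroup.of_card (n := 1) (by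
            rw [Nat.card_zpowers, orderOf_mk, hu2, pow_one])
          obtain ⟨R, hR⟩ := hup.exists_le_sylow
          refine ⟨R, le_antisymm (fun z hz => ?_) hR⟩
          obtain ⟨Q, hQ⟩ := (R.isPGroup'.map K.subtype).exists_le_sylow
          obtain ⟨d, hd⟩ := MulAction.exists_smul_eq ↥N Q PN
          have hcard : Nat.card ↥(R : Subgroup ↥K) ≤ 2 := by
            let fR : ↥(R : Subgroup ↥K) → ({1, u} : Set ↥N) := fun a =>
              ⟨d * ((a : ↥K) : ↥N) * d⁻¹, hKP _ (hK.conj_mem _ (a : ↥K).2 d)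
                (by rw [← hd]; exact ⟨_, hQ (mem_map_of_mem _ a.2), rfl⟩)⟩
            refine (Nat.card_le_card_of_injective fR fun a b e => ?_).trans ?_
            · exact Subtype.ext (Subtype.ext (mul_left_cancel (mul_right_cancel (congrArg Subtype.val e :))))
            · rw [Nat.card_coe_set_eq]
              exact (Set.ncard_insert_le _ _).trans (by rw [Set.ncard_singleton])
          have := eq_of_le_of_card_ge hR (hcard.trans (by rw [Nat.card_zpowers, orderOf_mk, hu2]))
          rwa [this]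
        haveI hRc : IsMulCommutative ↥(R : Subgroup ↥K) := by rw [hR]; infer_instance
        have hcompl : Cfsg.HasNormalPComplement 2 ↥K := by
          refine Transfer.hasNormalPComplement_of_prime_elements R hRc fun q _ _ d hd _ z hz => ?_
          have hdu : d * ⟨u, hKc⟩ * d⁻¹ ∈ (R : Subgroup ↥K) :=
            (mem_normalizer_iff.1 hd _).1 (hR.ge (mem_zpowers _))
          rw [hR] at hz hdu
          have hz' : ∀ a ∈ zpowers (⟨u, hKc⟩ : ↥K), a = 1 ∨ a = ⟨u, hKc⟩ := fun a ha => by
            obtain ⟨j, rfl⟩ := mem_zpowers_iff.1 ha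
            rw [← zpow_mod_orderOf, orderOf_mk, hu2]
            rcases Int.emod_two_eq_zero_or_one j with e | e
            · left; simp [e]
            · right; simp [e]
          rcases hz' z hz with rfl | rfl
          · group
          · rcases hz' _ hdu with e | e
            · exact absurd (conj_eq_one_iff.1 e) fun e' => by
                have : u = 1 := congrArg Subtype.val e'
                rw [this, orderOf_one] at hu2; omega
            · exact e
        obtain ⟨M, hMn, hM2, j, hj⟩ := Transfer.hasNormalPComplement_iff_exists.1 hcompl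
        haveI := Grp.pPrimeCore_isNormal (p := 2) (G := ↥K)
        haveI : (Cfsg.pPrimeCore 2 ↥K).Characteristic := Grp.instCharPPrimeCore
        haveI : ((Cfsg.pPrimeCore 2 ↥K).map K.subtype).Normal := ConjAct.normal_of_characteristic_of_normal
        have hM0 : M = ⊥ := by
          have h1 := hNodd _ inferInstance (by
            rw [card_map_of_injective K.subtype_injective]
            exact Nat.coprime_two_right.1 (Grp.pPrimeCore_coprime (G := ↥K)))
          rw [map_eq_bot_iff_of_injective _ K.subtype_injective] at h1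
          rw [eq_bot_iff, ← h1]
          exact Grp.le_pPrimeCore hMn ((Nat.prime_two.coprime_iff_not_dvd.2 hM2).symm)
        rw [hM0, index_bot] at hj
        have hKsub : ∀ z ∈ K, z = 1 ∨ z = u := by
          intro z hz
          have : (⟨z, hz⟩ : ↥K) ∈ (R : Subgroup ↥K) := by
            have htop : (R : Subgroup ↥K) = ⊤ := by
              obtain ⟨e, he⟩ := IsPGroup.iff_card.1 R.isPGroup'
              have : IsPGroup 2 ↥(⊤ : Subgroup ↥K) := IsPGroup.of_card (n := j) (by rw [card_top, hj])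
              exact (R.is_maximal' this le_top).symm
            rw [htop]; exact mem_top _
          rw [hR] at this
          obtain ⟨i, hi⟩ := mem_zpowers_iff.1 this
          rw [← zpow_mod_orderOf, orderOf_mk, hu2] at hi
          have h2 : (⟨u, hKc⟩ : ↥K) ^ (i % (2 : ℕ) : ℤ) = ⟨z, hz⟩ := hi
          rcases Int.emod_two_eq_zero_or_one i with e | e
          · left; simp [e] at h2; exact (congrArg Subtype.val h2).symm
          · right; simp [e] at h2; exact h2.symm
        -- `u` is central in `N`, so `N` is abelian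
        have huc : ∀ d : ↥N, d * u * d⁻¹ = u := fun d => by
          rcases hKsub _ (hK.conj_mem _ hKc d) with e | e
          · rw [conj_eq_one_iff.1 e, orderOf_one] at hu2; omega
          · exact e
        have hcomm : ∀ a ∈ N, ∀ b ∈ N, a * b = b * a := fun a ha b hb =>
          habel v hv hv1 a b (mul_inv_eq_iff_eq_mul.1 (congrArg Subtype.val (huc ⟨a, ha⟩)))
            (mul_inv_eq_iff_eq_mul.1 (congrArg Subtype.val (huc ⟨b, hb⟩)))
        refine hWn ⟨fun z hz q => ?_⟩
        have hzN : q * z * q⁻¹ ∈ N := hNn.conj_mem _ (hWN hz) q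
        have hc : ∀ a ∈ W, ∀ b, b ∈ N → a * b = b * a := fun a ha b hb => hcomm a (hWN ha) b hb
        have hWPb : q * z * q⁻¹ ∈ zpowers (q * z * q⁻¹) ⊓ (Pb : Subgroup (X ⧸ O)) := by
          have hzp : IsPGroup 2 (zpowers (q * z * q⁻¹)) := by
            refine IsPGroup.of_card (n := Nat.log 2 (orderOf (q * z * q⁻¹))) ?_
            obtain ⟨j, -, hj⟩ := (Nat.dvd_prime_pow Nat.prime_two).1
              (show orderOf (q * z * q⁻¹) ∣ 2 ^ 1 from orderOf_dvd_of_pow_eq_one (by
                rw [pow_one, conj_pow, pow_two, four_sq hWK hz, mul_one, mul_inv_cancel]))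
            rw [Nat.card_zpowers, hj, Nat.log_pow (by norm_num)]
          refine hzp.inf_normalizer_sylow Pb ▸ ⟨mem_zpowers _, ?_⟩
          refine mem_normalizer_fintype fun a ha => ?_
          rw [← hc a (hPW.le ha) _ hzN, mul_inv_cancel_right]
          exact ha
        exact hPW ▸ hWPb.2
    have hNna : ¬ IsMulCommutative ↥N := fun hc => by
      letI : CommGroup ↥N := { (inferInstance : Group ↥N) with mul_comm := hc.is_comm.comm }
      have hp : (Nat.card ↥N).Prime := IsSimpleGroup.prime_card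
      have hd : 4 ∣ Nat.card ↥N := hW4 ▸ card_dvd_of_le hWN
      rcases hp.eq_one_or_self_of_dvd 4 hd with h | h
      · omega
      · rw [← h] at hp; exact absurd hp (by norm_num)
    haveI hPNK : IsKleinFour ↥(PN : Subgroup ↥N) := by
      let e : ↥(PN : Subgroup ↥N) ≃* ↥W := (MulEquiv.subgroupCongr hPN).trans (subgroupOfEquivOfLe hWN)
      exact ⟨by rw [Nat.card_congr e.toEquiv, hW4],
        by rw [Monoid.exponent_eq_of_mulEquiv e]; exact hWK.exponent_two⟩
    obtain ⟨F, _, _, hFo, hF5, -, ⟨eF⟩⟩ := AbelTwo.exists_psl hNna PN hPNK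
    -- the field has five elements
    have hF : Fintype.card F = 5 := by
      obtain ⟨v, hv, hv1⟩ := C.exists_ne
      set u : ↥N := ⟨π v, hWN (mem_map_of_mem π hv)⟩ with hu
      have hord : ∀ w (hw : w ∈ C.V), w ≠ 1 → orderOf (eF ⟨π w, hWN (mem_map_of_mem π hw)⟩) = 2 := fun w hw hw1 => by
        rw [MulEquiv.orderOf_eq, orderOf_mk]
        exact orderOf_eq_prime (by rw [pow_two, ← map_mul, four_sq C.hV hw, map_one]) fun e => hw1 (hinj w hw e)
      obtain ⟨T, hTc, hTt, -, hTinv, hT1, hT3⟩ := GW.Klein.PSL.exists_torus hFo (hord v hv hv1)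
      set b := C.g * v * C.g⁻¹ with hb
      have hb1 : b ≠ 1 := fun e => hv1 (conj_eq_one_iff.1 e)
      have hbv : Commute (eF ⟨π b, hWN (mem_map_of_mem π (C.gV v hv))⟩) (eF u) := by
        haveI : IsMulCommutative ↥C.V := IsKleinFour.isMulCommutative
        refine Commute.map (f := eF.toMonoidHom) (x := (⟨π b, hWN (mem_map_of_mem π (C.gV v hv))⟩ : ↥N))
          (y := u) (Subtype.ext ?_)
        show π b * π v = π v * π b
        rw [← map_mul, ← map_mul, show b * v = v * b from
          congrArg Subtype.val (mul_comm' (⟨b, C.gV v hv⟩ : ↥C.V) ⟨v, hv⟩)]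
      have hne : eF ⟨π b, hWN (mem_map_of_mem π (C.gV v hv))⟩ ≠ eF u := fun e => by
        have h1 : π b = π v := congrArg Subtype.val (eF.injective e)
        have h2 : π (b * v⁻¹) = 1 := by rw [map_mul, map_inv, h1, mul_inv_cancel]
        exact C.gmove v hv hv1 (mul_inv_eq_one.1 (hinj _ (mul_mem (C.gV v hv) (inv_mem hv)) h2))
      have hsq : ∀ x ∈ T, x ^ 2 = 1 := fun x hx => by
        have h1 := hTinv _ (hord b (C.gV v hv) hb1) hbv hne x hx
        have hcm : eF ⟨π b, hWN (mem_map_of_mem π (C.gV v hv))⟩ * x =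
            x * eF ⟨π b, hWN (mem_map_of_mem π (C.gV v hv))⟩ := by
          obtain ⟨x', rfl⟩ := eF.surjective x
          rw [← map_mul, ← map_mul]
          refine congrArg eF (Subtype.ext ?_)
          show π b * (x' : X ⧸ O) = (x' : X ⧸ O) * π b
          have hxv : (x' : X ⧸ O) * π v = π v * (x' : X ⧸ O) :=
            congrArg Subtype.val (eF.injective (by rw [map_mul, map_mul]; exact (hTt _ hx).eq) : x' * u = u * x')
          refine habel v hv hv1 (π b) x' ?_ hxv
          rw [← map_mul, ← map_mul]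
          haveI : IsMulCommutative ↥C.V := IsKleinFour.isMulCommutative
          exact congrArg π (congrArg Subtype.val (mul_comm' (⟨b, C.gV v hv⟩ : ↥C.V) ⟨v, hv⟩))
        rw [hcm, mul_inv_cancel_right] at h1
        rw [pow_two]
        nth_rewrite 1 [h1]
        exact inv_mul_cancel x
      have hT2 : Nat.card ↥T ≤ 2 := by
        obtain ⟨x, hx⟩ := IsCyclic.exists_ofOrder_eq_natCard (α := ↥T)
        rw [← hx]
        exact Nat.le_of_dvd two_pos (orderOf_dvd_of_pow_eq_one (Subtype.ext (hsq _ x.2)))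
      obtain ⟨k, hk⟩ := hFo
      rcases (show Fintype.card F % 4 = 1 ∨ Fintype.card F % 4 = 3 by omega) with h | h
      · have := hT1 h; omega
      · have := hT3 h; omega
    haveI := Classical.PSL_isSimple (F := F) (n := 2) le_rfl fun _ => by omega
    have h60 : Nat.card (Matrix.ProjectiveSpecialLinearGroup (Fin 2) F) = 60 := by
      have h := GW.Klein.PSL.card_mul hFo
      rw [hF] at h
      omega
    obtain ⟨e5⟩ := Fus.alternating_five_of_card h60
    let f : ↥N ≃* ↥(alternatingGroup (Fin 5)) := eF.trans e5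
    have hN60 : Nat.card ↥N = 60 := by rw [Nat.card_congr eF.toEquiv, h60]
    let ψ : X ⧸ O →* MulAut ↥(alternatingGroup (Fin 5)) :=
      (MulAut.congr f).toMonoidHom.comp MulAut.conjNormal
    have hψ : Function.Injective ψ := by
      rw [injective_iff_map_eq_one]
      intro q hq
      have hq' : (MulAut.conjNormal q : MulAut ↥N) = 1 := (MulAut.congr f).map_eq_one_iff.1 hq
      have hqc : ∀ a ∈ N, q * a * q⁻¹ = a := fun a ha => by
        have h2 := congrArg (fun φ : MulAut ↥N => ((φ ⟨a, ha⟩ : ↥N) : X ⧸ O)) hq'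
        simpa using h2
      have hqC : q ∈ centralizer (N : Set (X ⧸ O)) :=
        mem_centralizer_iff.2 fun a ha => (mul_inv_eq_iff_eq_mul.1 (hqc a ha)).symm
      have hCbot : centralizer (N : Set (X ⧸ O)) = ⊥ := by
        refine hcoreQ _ inferInstance (Nat.odd_iff.2 (Nat.two_dvd_ne_zero.1 fun h2 => ?_))
        obtain ⟨k, hk⟩ := exists_prime_orderOf_dvd_card' 2 h2
        obtain ⟨d, hd⟩ := Invol.exists_conj_mem_sylow (n := 1)
          (x := (k : X ⧸ O)) (by rw [orderOf_coe, hk, pow_one]) Pb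
        replace hd := hPW.le hd
        have hdC : d * (k : X ⧸ O) * d⁻¹ ∈ centralizer (N : Set (X ⧸ O)) :=
          (inferInstance : (centralizer (N : Set (X ⧸ O))).Normal).conj_mem _ k.2 d
        have hz : (⟨_, hWN hd⟩ : ↥N) ∈ center ↥N := mem_center_iff.2 fun a =>
          Subtype.ext (mem_centralizer_iff.1 hdC a a.2)
        rcases (inferInstance : (center ↥N).Normal).eq_bot_or_eq_top with h | h
        · rw [h, mem_bot] at hz
          have h1 : (k : X ⧸ O) = 1 := conj_eq_one_iff.1 (congrArg Subtype.val hz)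
          rw [show k = 1 from Subtype.ext h1, orderOf_one] at hk
          omega
        · exact hNna ⟨⟨fun a b => (mem_center_iff.1 (h ▸ mem_top b) a)⟩⟩
      rw [hCbot, mem_bot] at hqC
      exact hqC
    have hA120 : Nat.card (X ⧸ O) ∣ 120 := by
      have hS5 : Nat.card (MulAut ↥(alternatingGroup (Fin 5))) = 120 := by
        rw [← Nat.card_eq_of_bijective _ (S2119.result 5 (by norm_num) (by norm_num)), Nat.card_perm, Nat.card_fin]
        rfl
      exact hS5 ▸ card_dvd_of_injective ψ hψ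
    have h8 : ¬ 8 ∣ Nat.card (X ⧸ O) := fun h => by
      have := Sylow.card_eq_multiplicity Pb
      rw [hPW, hW4] at this
      have h3 := (Nat.prime_two.pow_dvd_iff_le_factorization Nat.card_pos.ne').1
        (show 2 ^ 3 ∣ Nat.card (X ⧸ O) from h)
      have h5 := Nat.pow_le_pow_right two_pos h3
      omega
    have hX60 : Nat.card (X ⧸ O) = 60 := by
      obtain ⟨k, hk⟩ : 60 ∣ Nat.card (X ⧸ O) := hN60 ▸ card_subgroup_dvd_card N
      have hle := Nat.le_of_dvd (by norm_num) hA120
      have h0 : 0 < Nat.card (X ⧸ O) := Nat.card_pos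
      have : k ≠ 2 := fun e => h8 (by rw [hk, e]; norm_num)
      have : k ≤ 2 := by omega
      interval_cases k <;> omega
    have hNtop : N = ⊤ := eq_top_of_card_eq _ (hN60.trans hX60.symm)
    let e : X ⧸ O ≃* ↥(alternatingGroup (Fin 5)) :=
      ((Subgroup.topEquiv (G := X ⧸ O)).symm.trans (MulEquiv.subgroupCongr hNtop.symm)).trans f
    have hYO : C.Y ≤ O := by
      intro y hy
      obtain ⟨v, hv, hv1⟩ := C.exists_ne
      rw [← hker]
      have h1 : e (π y) ^ 2 = 1 := a5_invol_cent (e (π v))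
        (by rw [← map_pow, pow_two, ← map_mul, four_sq C.hV hv, map_one, map_one])
        (fun h => hv1 (hinj v hv (e.map_eq_one_iff.1 h))) _
        (by rw [← map_mul, ← map_mul, ← map_mul, ← map_mul, C.comm v hv y hy])
      rw [← map_pow, e.map_eq_one_iff] at h1
      exact eq_one_of_two_odd ⟨1, by rw [pow_one, h1]⟩ C.hY (by rw [← map_pow, C.odd_pow hy, map_one])
    have hYeq : C.Y = O := le_antisymm hYO hOY
    haveI hYn : C.Y.Normal := hYeq ▸ hOn
    refine ⟨hYn, fun j hj => ?_, Or.inr ⟨?_, ?_, fun x => ?_⟩⟩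
    · have hg1 : e (π C.g) ≠ 1 := fun h => by
        obtain ⟨v, hv, hv1⟩ := C.exists_ne
        have hgY : C.g ∈ C.Y := hYeq ▸ (hker _).1 (e.map_eq_one_iff.1 h)
        exact C.gmove v hv hv1 (by rw [← C.comm v hv _ hgY, mul_inv_cancel_right])
      rcases a5_three (e (π C.g)) (e (π j)) (by rw [← map_pow, ← map_pow, C.g3, map_one, map_one]) hg1
        (by rw [← map_mul, ← map_mul, ← map_mul, ← map_mul, hj]) with h | h | h
      · exact ⟨j, hYeq ▸ (hker _).1 (e.map_eq_one_iff.1 h), 0, by simp⟩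
      · refine ⟨j * C.g⁻¹, hYeq ▸ (hker _).1 ?_, 1, by group⟩
        rw [map_mul, map_inv, e.injective h, mul_inv_cancel]
      · refine ⟨j * (C.g ^ 2)⁻¹, hYeq ▸ (hker _).1 ?_, 2, by group⟩
        rw [map_mul, map_inv, e.injective (h.trans (map_mul e _ _).symm), pow_two, map_mul, mul_inv_cancel]
    · rw [hYeq, Subgroup.card_eq_card_quotient_mul_card_subgroup O, hX60]
    · intro hcyc x y hy
      haveI := hcyc
      let a : X →* MulAut ↥C.Y := MulAut.conjNormal
      haveI : IsMulCommutative (MulAut ↥C.Y) := ⟨⟨fun α β =>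
        (IsCyclic.mulAutMulEquiv ↥C.Y).injective (by rw [map_mul, map_mul, mul_comm])⟩⟩
      have hYker : C.Y ≤ a.ker := fun z hz => MonoidHom.mem_ker.2 <| MulEquiv.ext fun w => Subtype.ext <| by
        show ((MulAut.conjNormal z w : ↥C.Y) : X) = w
        rw [MulAut.conjNormal_apply, show z * (w : X) = w * z from
          congrArg Subtype.val (mul_comm' (⟨z, hz⟩ : ↥C.Y) w), mul_inv_cancel_right]
      have htop : a.ker = ⊤ := by
        have hcom : commutator X ≤ a.ker := by
          rw [_root_.commutator_def, commutator_le]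
          intro p _ q _
          rw [MonoidHom.mem_ker, map_commutatorElement, commutatorElement_eq_one_iff_mul_comm]
          exact mul_comm' _ _
        have hperf : commutator (X ⧸ O) = ⊤ := by
          haveI : IsSimpleGroup (X ⧸ O) :=
            ((Subgroup.topEquiv (G := X ⧸ O)).symm.trans (MulEquiv.subgroupCongr hNtop.symm)).isSimpleGroup
          refine ((inferInstance : (commutator (X ⧸ O)).Normal).eq_bot_or_eq_top).resolve_left fun h => hNna ⟨⟨?_⟩⟩
          intro p q
          refine Subtype.ext (commutatorElement_eq_one_iff_mul_comm.1 ?_)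
          have := commutator_mem_commutator (mem_top (p : X ⧸ O)) (mem_top (q : X ⧸ O))
          rwa [← _root_.commutator_def, h, mem_bot] at this
        rw [eq_top_iff]
        intro z _
        have hz : π z ∈ (commutator X).map π := by
          rw [_root_.commutator_def, Subgroup.map_commutator, Subgroup.map_top_of_surjective _
            (QuotientGroup.mk'_surjective O), ← _root_.commutator_def, hperf]
          exact mem_top _
        obtain ⟨c, hc, hcz⟩ := hz
        have h5 : c⁻¹ * z ∈ C.Y := by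
          rw [hYeq, ← hker, map_mul, map_inv, hcz, inv_mul_cancel]
        have := mul_mem (hcom hc) (hYker h5)
        rwa [mul_inv_cancel_left] at this
      have hx : a x = 1 := MonoidHom.mem_ker.1 (htop ▸ mem_top x)
      have h6 := congrArg (fun φ : MulAut ↥C.Y => ((φ ⟨y, hy⟩ : ↥C.Y) : X)) hx
      simp only [a, MulAut.conjNormal_apply, MulAut.one_apply] at h6
      exact mul_inv_eq_iff_eq_mul.1 h6
    · rw [hYeq]
      simp only [← hker, map_pow]
      rcases a5_orders (e (π x)) with h | h | h <;> rw [← map_pow, e.map_eq_one_iff] at h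
      · exact Or.inl h
      · exact Or.inr (Or.inl h)
      · exact Or.inr (Or.inr h)

end FourCfg

end Cfsg.Agent.Invol.JankoWard
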