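import Cfsg.Agent.Lib.Invol.JankoWard.Base
import Cfsg.Agent.Lib.Invol.JankoWard.LocalFour
import Cfsg.Agent.Lib.Invol.Sylow
import Cfsg.Agent.Lib.Transfer.Abelian

/-!
# Two-local facts from a base

The Sylow 2-subgroup `⟨t, u, w⟩`, the conjugacy of all involutions, and an element of order three which cycles
`⟨t, u⟩` and lies in the second factor of the centraliser of an involution inverting `Y`.
-/

set_option autoImplicit false
set_option linter.unusedSectionVars false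
set_option linter.style.haveILetI false

namespace Cfsg.Agent.Invol.JankoWard

open Subgroup

universe u v

/-- The ambient hypotheses on the Sylow 2-subgroups. -/
structure Amb (G : Type u) [Group G] : Prop where
  na : ¬ IsMulCommutative G
  eight : ∀ T : Sylow 2 G, Nat.card ↥(T : Subgroup G) = 8
  sq2 : ∀ e : G, (∃ k, e ^ 2 ^ k = 1) → e * e = 1

theorem Amb.of_sylow {G : Type u} [Group G] [Finite G] (hna : ¬ IsMulCommutative G) (T : Sylow 2 G)
    (h8 : Nat.card ↥(T : Subgroup G) = 8) (hel : ∀ x ∈ (T : Subgroup G), x * x = 1) : Amb G := by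
  haveI : Fact (Nat.Prime 2) := ⟨Nat.prime_two⟩
  refine ⟨hna, fun T' => by rw [T'.card_eq_multiplicity, ← T.card_eq_multiplicity, h8], fun e ⟨k, hk⟩ => ?_⟩
  obtain ⟨j, -, hj⟩ := (Nat.dvd_prime_pow Nat.prime_two).1 (orderOf_dvd_of_pow_eq_one hk)
  obtain ⟨c, hc⟩ := Invol.exists_conj_mem_sylow (n := j) hj T
  have h1 := hel _ hc
  rw [conj_mul] at h1
  exact conj_eq_one_iff.1 h1

/-- The four-group of two commuting elements of order two. -/
def fourSub {X : Type u} [Group X] (a b : X) (ha : a * a = 1) (hb : b * b = 1) (hc : a * b = b * a) : Subgroup X where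
  carrier := {x | x = 1 ∨ x = a ∨ x = b ∨ x = a * b}
  one_mem' := Or.inl rfl
  mul_mem' := by
    have e1 : b * a = a * b := hc.symm
    have e2 : a * (a * b) = b := by rw [← mul_assoc, ha, one_mul]
    have e3 : b * (a * b) = a := by rw [← mul_assoc, e1, mul_assoc, hb, mul_one]
    have e4 : a * b * a = b := by rw [mul_assoc, e1, e2]
    have e5 : a * b * b = a := by rw [mul_assoc, hb, mul_one]
    have e6 : a * b * (a * b) = 1 := by rw [← mul_assoc, e4, hb]
    rintro x y (rfl | rfl | rfl | rfl) (rfl | rfl | rfl | rfl) <;>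
      simp [ha, hb, e1, e2, e3, e4, e5, e6]
  inv_mem' := by
    have e6 : (a * b)⁻¹ = a * b := by
      rw [mul_inv_rev, inv_eq_of_mul_eq_one_left ha, inv_eq_of_mul_eq_one_left hb, hc]
    rintro x (rfl | rfl | rfl | rfl) <;>
      simp [inv_eq_of_mul_eq_one_left ha, inv_eq_of_mul_eq_one_left hb, e6]

theorem mem_fourSub {X : Type u} [Group X] {a b : X} {ha : a * a = 1} {hb : b * b = 1} {hc : a * b = b * a} {x : X} :
    x ∈ fourSub a b ha hb hc ↔ x = 1 ∨ x = a ∨ x = b ∨ x = a * b := Iff.rfl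

theorem fourSub_klein {X : Type u} [Group X] {a b : X} {ha : a * a = 1} {hb : b * b = 1} {hc : a * b = b * a}
    (ha1 : a ≠ 1) (hb1 : b ≠ 1) (hab : a ≠ b) : IsKleinFour ↥(fourSub a b ha hb hc) := by
  classical
  have hab1 : a * b ≠ 1 := fun e => hab ((eq_inv_of_mul_eq_one_left e).trans (inv_eq_of_mul_eq_one_left hb))
  have hset : ((fourSub a b ha hb hc : Subgroup X) : Set X) = ↑({1, a, b, a * b} : Finset X) := by
    ext x
    simp [mem_fourSub]
  have h4 : Nat.card ↥(fourSub a b ha hb hc) = 4 := by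
    rw [show Nat.card ↥(fourSub a b ha hb hc) = ((fourSub a b ha hb hc : Subgroup X) : Set X).ncard from
      Nat.card_coe_set_eq _, hset, Set.ncard_coe_finset, Finset.card_insert_of_notMem, Finset.card_insert_of_notMem,
      Finset.card_insert_of_notMem, Finset.card_singleton] <;>
      simp [ha1.symm, hb1.symm, hab, hab1.symm, ha1, hb1, left_eq_mul, right_eq_mul]
  refine ⟨h4, Nat.dvd_antisymm (Monoid.exponent_dvd_of_forall_pow_eq_one fun x => Subtype.ext ?_) ?_⟩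
  · rw [Subgroup.coe_pow, pow_two]
    rcases x.2 with h | h | h | h <;> rw [h]
    · exact one_mul 1
    · exact ha
    · exact hb
    · rw [show a * b * (a * b) = a * (b * a) * b by group, ← hc]
      rw [show a * (a * b) * b = (a * a) * (b * b) by group, ha, hb, one_mul]
      rfl
  · have h2 : orderOf (⟨a, Or.inr (Or.inl rfl)⟩ : ↥(fourSub a b ha hb hc)) = 2 := by
      exact orderOf_eq_prime (Subtype.ext (by rw [Subgroup.coe_pow, pow_two]; exact ha)) fun e => ha1 (congrArg Subtype.val e)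
    exact h2 ▸ Monoid.order_dvd_exponent _

namespace Base

variable {G : Type u} [Group G] {P : Type v} [Group P] (S : Base G P)

theorem t1 : S.t ≠ 1 := fun e => by have := S.ht; rw [e, orderOf_one] at this; omega

theorem eq_of_eq {a b : P} (h : S.ι a = S.ι b) : a = b := S.inj h

theorem ι_ne_tι (a b : P) : S.ι a ≠ S.t * S.ι b := fun e => S.t_not (a * b⁻¹) (by
  rw [map_mul, e, map_inv, mul_inv_cancel_right])

/-- The conjugate base. -/
def conjBase (n : G) : Base G P where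
  D := S.D
  t := n * S.t * n⁻¹
  ι := (MulAut.conj n).toMonoidHom.comp S.ι
  inj := (MulAut.conj n).injective.comp S.inj
  ht := (orderOf_injective (MulAut.conj n).toMonoidHom (MulAut.conj n).injective S.t).trans S.ht
  hodd := by
    have e : centralizer ({n * S.t * n⁻¹} : Set G) =
        (centralizer ({S.t} : Set G)).map (MulAut.conj n).toMonoidHom := by
      ext z
      rw [mem_centralizer_singleton_iff, Subgroup.mem_map]
      constructor
      · intro hz
        refine ⟨n⁻¹ * z * n, mem_centralizer_singleton_iff.2 ?_, by simp [mul_assoc]⟩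
        calc n⁻¹ * z * n * S.t = n⁻¹ * (z * (n * S.t * n⁻¹)) * n := by group
          _ = S.t * (n⁻¹ * z * n) := by rw [hz]; group
      · rintro ⟨y, hy, rfl⟩
        show n * y * n⁻¹ * (n * S.t * n⁻¹) = n * S.t * n⁻¹ * (n * y * n⁻¹)
        rw [conj_mul, conj_mul, mem_centralizer_singleton_iff.1 hy]
    rw [e, index_map_of_bijective (MulAut.conj n).bijective]
    exact S.hodd
  tc := fun k => by
    show n * S.ι k * n⁻¹ * (n * S.t * n⁻¹) = n * S.t * n⁻¹ * (n * S.ι k * n⁻¹)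
    rw [conj_mul, conj_mul, S.tc]
  cover := fun c hc => by
    obtain ⟨k, hk | hk⟩ := S.cover (n⁻¹ * c * n) (by
      calc n⁻¹ * c * n * S.t = n⁻¹ * (c * (n * S.t * n⁻¹)) * n := by group
        _ = S.t * (n⁻¹ * c * n) := by rw [hc]; group)
    · exact ⟨k, Or.inl (show c = n * S.ι k * n⁻¹ by rw [← hk]; group)⟩
    · refine ⟨k, Or.inr (show c = n * S.t * n⁻¹ * (n * S.ι k * n⁻¹) from ?_)⟩
      rw [conj_mul, ← hk]; group
  t_not := fun k e => S.t_not k ((MulAut.conj n).injective e)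

@[simp] theorem conjBase_t (n : G) : (S.conjBase n).t = n * S.t * n⁻¹ := rfl

@[simp] theorem conjBase_ι (n : G) (k : P) : (S.conjBase n).ι k = n * S.ι k * n⁻¹ := rfl

@[simp] theorem conjBase_D (n : G) : (S.conjBase n).D = S.D := rfl

end Base

namespace LData

variable {P : Type v} [Group P] (D : LData P)

theorem Y_pow {y : P} (hy : y ∈ D.Y) : y ^ D.r = 1 := by
  have h := congrArg Subtype.val (pow_card_eq_one' (x := (⟨y, hy⟩ : ↥D.Y)))
  rwa [D.card_Y] at h

theorem Y_inv {y : P} (hy : y ∈ D.Y) (h : y * y = 1) : y = 1 :=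
  eq_one_of_two_odd ⟨1, by rw [pow_one, pow_two, h]⟩ D.r_odd (D.Y_pow hy)

theorem Y_self_inv {y : P} (hy : y ∈ D.Y) (h : y⁻¹ = y) : y = 1 :=
  D.Y_inv hy (by nth_rewrite 1 [← h]; rw [inv_mul_cancel])

theorem Y_mul_comm {a b : P} (ha : a ∈ D.Y) (hb : b ∈ D.Y) : a * b = b * a :=
  haveI := D.Y_cyclic
  congrArg Subtype.val (mul_comm' (⟨a, ha⟩ : ↥D.Y) ⟨b, hb⟩)

theorem w_sq_mul {y : P} (hy : y ∈ D.Y) : D.w * y * (D.w * y) = 1 := by
  rw [show D.w * y * (D.w * y) = D.w * y * D.w⁻¹ * (D.w * D.w) * y by group, D.w2, mul_one, D.w_Y y hy,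
    inv_mul_cancel]

theorem odd_mem_Y {x : P} (hc : x * D.u = D.u * x) {o : ℕ} (ho : Odd o) (hx : x ^ o = 1) : x ∈ D.Y := by
  obtain ⟨y, hy, rfl | rfl | rfl | rfl⟩ := D.cent_u x hc
  · exact hy
  · exfalso
    rw [(show Commute D.u y from D.u_Y y hy).mul_pow] at hx
    have h1 : D.u ^ o = D.u := by
      obtain ⟨k, rfl⟩ := ho
      rw [pow_succ, pow_mul, pow_two, D.u2, one_pow, one_mul]
    rw [h1] at hx
    have h2 : D.u ∈ D.Y := by rw [eq_inv_of_mul_eq_one_left hx]; exact inv_mem (pow_mem hy _)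
    exact D.u1 (D.Y_inv h2 D.u2)
  · have h := eq_one_of_two_odd ⟨1, by rw [pow_one, pow_two]; exact D.w_sq_mul hy⟩ ho hx
    rw [h]; exact one_mem _
  · have h2 : D.u * D.w * y * (D.u * D.w * y) = 1 := by
      rw [show D.u * D.w * y * (D.u * D.w * y) = D.u * (D.w * y * D.u) * (D.w * y) by group,
        show D.w * y * D.u = D.u * (D.w * y) by
          rw [mul_assoc, ← D.u_Y y hy, ← mul_assoc, ← D.comm, mul_assoc],
        ← mul_assoc D.u D.u, D.u2, one_mul, D.w_sq_mul hy]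
    have h := eq_one_of_two_odd ⟨1, by rw [pow_one, pow_two]; exact h2⟩ ho hx
    rw [h]; exact one_mem _

theorem comm_uw {x : P} (hu : x * D.u = D.u * x) (hw : x * D.w = D.w * x) :
    x = 1 ∨ x = D.u ∨ x = D.w ∨ x = D.u * D.w := by
  obtain ⟨y, hy, hx⟩ := D.cent_u x hu
  have key : ∀ a : P, a * D.w = D.w * a → a * y * D.w = D.w * (a * y) → y = 1 := fun a ha h => by
    refine D.Y_self_inv hy ?_
    have h1 : y * D.w = D.w * y := by
      have := congrArg (a⁻¹ * ·) h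
      simp only [← mul_assoc, inv_mul_cancel, one_mul] at this
      rw [this, show a⁻¹ * D.w * a = D.w by rw [mul_assoc, ← ha, inv_mul_cancel_left]]
    rw [← D.w_Y y hy, ← h1, mul_inv_cancel_right]
  rcases hx with rfl | rfl | rfl | rfl
  · left; exact key 1 (by simp) (by simpa using hw)
  · right; left; rw [key D.u D.comm hw, mul_one]
  · right; right; left; rw [key D.w rfl hw, mul_one]
  · right; right; right
    rw [key (D.u * D.w) (by rw [mul_assoc, ← mul_assoc D.w, ← D.comm, mul_assoc]) hw, mul_one]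

end LData

namespace Base

variable {G : Type u} [Group G] [Finite G] {P : Type v} [Group P] [Finite P] (S : Base G P)

theorem sq_P (S : Base G P) (A : Amb G) {x : P} (h : ∃ k, x ^ 2 ^ k = 1) : x * x = 1 := by
  obtain ⟨k, hk⟩ := h
  exact S.inj (by rw [map_mul, map_one]; exact A.sq2 _ ⟨k, by rw [← map_pow, hk, map_one]⟩)

/-- The element of order three of `P` cycling `u`, `w`, `uw`. -/
theorem exists_h (A : Amb G) :
    ∃ h : P, h ^ 3 = 1 ∧ h * S.D.u * h⁻¹ = S.D.w ∧ h * S.D.w * h⁻¹ = S.D.u * S.D.w := by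
  classical
  haveI : Fact (Nat.Prime 2) := ⟨Nat.prime_two⟩
  set D := S.D
  set K := fourSub D.u D.w D.u2 D.w2 D.comm
  haveI hK : IsKleinFour ↥K := fourSub_klein D.u1 D.w1 D.uw
  have hKp : IsPGroup 2 K := IsPGroup.of_card (n := 2) (by rw [IsKleinFour.card_four]; norm_num)
  obtain ⟨Q, hQ⟩ := hKp.exists_le_sylow
  have hsq : ∀ x ∈ (Q : Subgroup P), x * x = 1 := fun x hx => by
    obtain ⟨k, hk⟩ := Q.isPGroup' ⟨x, hx⟩
    exact S.sq_P A ⟨k, congrArg Subtype.val hk⟩
  have hQc : ∀ x ∈ (Q : Subgroup P), ∀ y ∈ (Q : Subgroup P), x * y = y * x := fun x hx y hy => by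
    have h1 := hsq _ (mul_mem hx hy)
    rw [← inv_eq_of_mul_eq_one_left h1, mul_inv_rev, inv_eq_of_mul_eq_one_left (hsq x hx),
      inv_eq_of_mul_eq_one_left (hsq y hy)]
  have hQK : (Q : Subgroup P) = K := le_antisymm (fun x hx =>
    D.comm_uw (hQc x hx _ (hQ (Or.inr (Or.inl rfl)))) (hQc x hx _ (hQ (Or.inr (Or.inr (Or.inl rfl)))))) hQ
  obtain ⟨c, hc⟩ := isConj_iff.1 (D.one_class D.w D.w2 D.w1)
  obtain ⟨n, hn, hnw⟩ := Transfer.exists_normalizer_conj_of_abelian Q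
    ⟨⟨fun a b => Subtype.ext (hQc a a.2 b b.2)⟩⟩ (x := D.u) (g := c)
    (hQ (Or.inr (Or.inl rfl))) (hc ▸ hQ (Or.inr (Or.inr (Or.inl rfl))))
  rw [hc] at hnw
  have hnK : ∀ v ∈ K, n * v * n⁻¹ ∈ K := fun v hv => hQK ▸ (mem_normalizer_iff.1 hn v).1 (hQ hv)
  have hnw2 : n * D.w * n⁻¹ = D.u * D.w := by
    rcases hnK D.w (Or.inr (Or.inr (Or.inl rfl))) with e | e | e | e
    · exact absurd (conj_eq_one_iff.1 e) D.w1
    · exfalso
      obtain ⟨k, o, ho, hko⟩ := Nat.exists_eq_two_pow_mul_odd (orderOf_pos n).ne'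
      have hord : (n ^ o) ^ 2 ^ k = 1 := by rw [← pow_mul, mul_comm, ← hko, pow_orderOf_eq_one]
      have hpow : ∀ j : ℕ, n ^ j * D.u * (n ^ j)⁻¹ = if Even j then D.u else D.w := by
        intro j
        induction j with
        | zero => simp
        | succ j ih =>
          rw [show n ^ (j + 1) * D.u * (n ^ (j + 1))⁻¹ = n * (n ^ j * D.u * (n ^ j)⁻¹) * n⁻¹ by
            rw [pow_succ']; group, ih]
          by_cases hj : Even j
          · rw [if_pos hj, if_neg (by simpa [Nat.even_add_one] using hj), hnw]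
          · rw [if_neg hj, if_pos (Nat.even_add_one.2 hj), e]
      have hz : IsPGroup 2 (zpowers (n ^ o)) := by
        refine IsPGroup.of_card (n := Nat.log 2 (orderOf (n ^ o))) ?_
        obtain ⟨j, -, hj⟩ := (Nat.dvd_prime_pow Nat.prime_two).1 (orderOf_dvd_of_pow_eq_one hord)
        rw [Nat.card_zpowers, hj, Nat.log_pow (by norm_num)]
      have h1 : n ^ o ∈ zpowers (n ^ o) ⊓ (Q : Subgroup P) :=
        hz.inf_normalizer_sylow Q ▸ ⟨mem_zpowers _, pow_mem hn o⟩
      have h2 := hpow o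
      rw [if_neg (Nat.not_even_iff_odd.2 ho), hQc _ h1.2 _ (hQ (Or.inr (Or.inl rfl))), mul_inv_cancel_right] at h2
      exact D.uw h2
    · exact absurd ((MulAut.conj n).injective (show MulAut.conj n D.w = MulAut.conj n D.u by
        simp only [MulAut.conj_apply]; rw [e, hnw])) D.uw.symm
    · exact e
  have h3u : n * (n * (n * D.u * n⁻¹) * n⁻¹) * n⁻¹ = D.u := by
    rw [hnw, hnw2, show n * (D.u * D.w) * n⁻¹ = (n * D.u * n⁻¹) * (n * D.w * n⁻¹) by group, hnw, hnw2,
      ← mul_assoc, ← D.comm, mul_assoc, D.w2, mul_one]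
  have h3w : n * (n * (n * D.w * n⁻¹) * n⁻¹) * n⁻¹ = D.w := by
    calc _ = n * (n * (n * (n * D.u * n⁻¹) * n⁻¹) * n⁻¹) * n⁻¹ := by rw [hnw]
      _ = n * D.u * n⁻¹ := by rw [h3u]
      _ = D.w := hnw
  have hcu : n ^ 3 * D.u = D.u * n ^ 3 := mul_inv_eq_iff_eq_mul.1 (by
    refine Eq.trans ?_ h3u
    simp [pow_succ, mul_assoc])
  have hcw : n ^ 3 * D.w = D.w * n ^ 3 := mul_inv_eq_iff_eq_mul.1 (by
    refine Eq.trans ?_ h3w
    simp [pow_succ, mul_assoc])
  have h6 : n ^ 6 = 1 := by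
    rw [show 6 = 3 * 2 by norm_num, pow_mul, pow_two]
    rcases D.comm_uw hcu hcw with e | e | e | e <;> rw [e]
    · rw [one_mul]
    · exact D.u2
    · exact D.w2
    · exact hsq _ (hQ (Or.inr (Or.inr (Or.inr rfl))))
  have hconj : ∀ x, n ^ 3 * x = x * n ^ 3 → n ^ 4 * x * (n ^ 4)⁻¹ = n * x * n⁻¹ := fun x hx => by
    rw [pow_succ' n 3, show n * n ^ 3 * x * (n * n ^ 3)⁻¹ = n * (n ^ 3 * x * (n ^ 3)⁻¹) * n⁻¹ by group, hx,
      mul_inv_cancel_right]
  refine ⟨n ^ 4, ?_, ?_, ?_⟩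
  · rw [← pow_mul, show 4 * 3 = 6 * 2 by norm_num, pow_mul, h6, one_pow]
  · rw [hconj _ hcu, hnw]
  · rw [hconj _ hcw, hnw2]

/-- The Sylow 2-subgroup `⟨t, u, w⟩`. -/
theorem exists_sylow (A : Amb G) : ∃ T : Sylow 2 G, ∀ x, x ∈ (T : Subgroup G) ↔
    ∃ k ∈ fourSub S.D.u S.D.w S.D.u2 S.D.w2 S.D.comm, x = S.ι k ∨ x = S.t * S.ι k := by
  classical
  haveI : Fact (Nat.Prime 2) := ⟨Nat.prime_two⟩
  set K := fourSub S.D.u S.D.w S.D.u2 S.D.w2 S.D.comm
  haveI hK : IsKleinFour ↥K := fourSub_klein S.D.u1 S.D.w1 S.D.uw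
  haveI : IsMulCommutative ↥K := IsKleinFour.isMulCommutative (G := ↥K)
  have hc : ∀ a ∈ K, ∀ b ∈ K, a * b = b * a := fun a ha b hb =>
    congrArg Subtype.val (mul_comm' (⟨a, ha⟩ : ↥K) ⟨b, hb⟩)
  have hinv : S.t⁻¹ = S.t := inv_eq_of_mul_eq_one_left S.tt
  let M : Subgroup G :=
    { carrier := {x | ∃ k ∈ K, x = S.ι k ∨ x = S.t * S.ι k}
      one_mem' := ⟨1, one_mem _, Or.inl (map_one _).symm⟩
      mul_mem' := by
        rintro x y ⟨k, hk, rfl | rfl⟩ ⟨l, hl, rfl | rfl⟩ <;> refine ⟨k * l, mul_mem hk hl, ?_⟩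
        · exact Or.inl (map_mul _ _ _).symm
        · right; rw [← mul_assoc, S.tc, mul_assoc, map_mul]
        · right; rw [mul_assoc, map_mul]
        · left
          rw [show S.t * S.ι k * (S.t * S.ι l) = S.t * (S.ι k * S.t) * S.ι l by group, S.tc, ← mul_assoc, S.tt,
            one_mul, map_mul]
      inv_mem' := by
        rintro x ⟨k, hk, rfl | rfl⟩ <;> refine ⟨k⁻¹, inv_mem hk, ?_⟩
        · exact Or.inl (map_inv _ _).symm
        · right; rw [mul_inv_rev, hinv, ← map_inv, S.tc] }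
  have hsq : ∀ x ∈ M, x * x = 1 := by
    rintro x ⟨k, hk, rfl | rfl⟩
    · rw [← map_mul, four_sq hK hk, map_one]
    · rw [show S.t * S.ι k * (S.t * S.ι k) = S.t * (S.ι k * S.t) * S.ι k by group, S.tc, ← mul_assoc, S.tt,
        one_mul, ← map_mul, four_sq hK hk, map_one]
  have hMp : IsPGroup 2 M := fun x => ⟨1, Subtype.ext (by
    rw [Subgroup.coe_pow, pow_one, pow_two]; exact hsq x x.2)⟩
  obtain ⟨T, hT⟩ := hMp.exists_le_sylow
  let f : Bool × ↥K → ↥M := fun p => ⟨(bif p.1 then S.t else 1) * S.ι p.2, p.2, p.2.2, by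
    cases p.1
    · exact Or.inl (one_mul _)
    · exact Or.inr rfl⟩
  have hf : Function.Injective f := by
    rintro ⟨a, k⟩ ⟨b, l⟩ e
    have e' : (bif a then S.t else 1) * S.ι k = (bif b then S.t else 1) * S.ι l := congrArg Subtype.val e
    cases a <;> cases b <;> simp only [cond_true, cond_false, one_mul] at e'
    · exact Prod.ext rfl (Subtype.ext (S.inj e'))
    · exact absurd e' (S.ι_ne_tι _ _)
    · exact absurd e'.symm (S.ι_ne_tι _ _)
    · exact Prod.ext rfl (Subtype.ext (S.inj (mul_left_cancel e')))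
  have h8 : 8 ≤ Nat.card ↥M := by
    refine le_trans ?_ (Nat.card_le_card_of_injective f hf)
    rw [Nat.card_prod, hK.card_four, Nat.card_eq_fintype_card, Fintype.card_bool]
  have hTM : (T : Subgroup G) = M := (eq_of_le_of_card_ge hT ((A.eight T).le.trans h8)).symm
  exact ⟨T, fun x => hTM ▸ Iff.rfl⟩

/-- All involutions are conjugate, and an element normalising the Sylow subgroup moves `t` to `u`. -/
theorem fusion [IsSimpleGroup G] (A : Amb G) (T : Sylow 2 G)
    (hT : ∀ x, x ∈ (T : Subgroup G) ↔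
      ∃ k ∈ fourSub S.D.u S.D.w S.D.u2 S.D.w2 S.D.comm, x = S.ι k ∨ x = S.t * S.ι k) :
    (∀ x : G, orderOf x = 2 → IsConj S.t x) ∧
      ∃ n ∈ normalizer ((T : Subgroup G) : Set G), n * S.t * n⁻¹ = S.ι S.D.u := by
  classical
  haveI : Fact (Nat.Prime 2) := ⟨Nat.prime_two⟩
  obtain ⟨h, h3, hu, hw⟩ := S.exists_h A
  set D := S.D
  set N := normalizer ((T : Subgroup G) : Set G) with hN
  have hTsq : ∀ x ∈ (T : Subgroup G), x * x = 1 := fun x hx => by
    obtain ⟨k, hk⟩ := T.isPGroup' ⟨x, hx⟩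
    exact A.sq2 x ⟨k, congrArg Subtype.val hk⟩
  have hTc : IsMulCommutative ↥(T : Subgroup G) := ⟨⟨fun a b => Subtype.ext (by
    show (a : G) * b = b * a
    have h1 := hTsq _ (mul_mem a.2 b.2)
    rw [← inv_eq_of_mul_eq_one_left h1, mul_inv_rev, inv_eq_of_mul_eq_one_left (hTsq a a.2),
      inv_eq_of_mul_eq_one_left (hTsq b b.2)])⟩⟩
  have htT : S.t ∈ (T : Subgroup G) := (hT _).2 ⟨1, one_mem _, Or.inr (by rw [map_one, mul_one])⟩
  have hK : ∀ k ∈ fourSub D.u D.w D.u2 D.w2 D.comm, h * k * h⁻¹ ∈ fourSub D.u D.w D.u2 D.w2 D.comm := by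
    rintro k (rfl | rfl | rfl | rfl)
    · left; group
    · right; right; left; exact hu
    · right; right; right; exact hw
    · right; left
      rw [show h * (D.u * D.w) * h⁻¹ = (h * D.u * h⁻¹) * (h * D.w * h⁻¹) by group, hu, hw, ← mul_assoc, ← D.comm,
        mul_assoc, D.w2, mul_one]
  have hht : S.ι h * S.t * (S.ι h)⁻¹ = S.t := by rw [S.tc, mul_inv_cancel_right]
  have hhN : S.ι h ∈ N := mem_normalizer_fintype fun x hx => by
    obtain ⟨k, hk, e⟩ := (hT x).1 hx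
    refine (hT _).2 ⟨h * k * h⁻¹, hK k hk, ?_⟩
    rcases e with rfl | rfl
    · exact Or.inl (by rw [map_mul, map_mul, map_inv])
    · refine Or.inr ?_
      rw [show S.ι h * (S.t * S.ι k) * (S.ι h)⁻¹ = S.ι h * S.t * (S.ι h)⁻¹ * (S.ι h * S.ι k * (S.ι h)⁻¹) by group,
        hht, map_mul, map_mul, map_inv]
  -- `t` is moved
  obtain ⟨n₀, hn₀, hne⟩ : ∃ n ∈ N, n * S.t * n⁻¹ ≠ S.t := by
    by_contra hall
    push Not at hall
    have h1 := (Transfer.abelian_sylow_decomp T hTc).1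
    have hC : S.t ∈ (T : Subgroup G) ⊓ centralizer (N : Set G) := ⟨htT, mem_centralizer_iff.2 fun n hn =>
      mul_inv_eq_iff_eq_mul.1 (hall n hn)⟩
    have htop : Cfsg.pResidual 2 G = ⊤ := by
      refine ((Subgroup.normal_of_characteristic _).eq_bot_or_eq_top).resolve_left fun e => A.na ?_
      obtain ⟨k, hk⟩ := Transfer.exists_pResidual_index (G := G) 2
      rw [e, index_bot] at hk
      have hG : IsPGroup 2 ↥(⊤ : Subgroup G) := IsPGroup.of_card (n := k) (by rw [card_top, hk])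
      have hTt : (T : Subgroup G) = ⊤ := (T.is_maximal' hG le_top).symm
      exact ⟨⟨fun a b => congrArg Subtype.val (hTc.is_comm.comm (⟨a, hTt ▸ mem_top a⟩ : ↥(T : Subgroup G))
        ⟨b, hTt ▸ mem_top b⟩)⟩⟩
    rw [htop, inf_top_eq] at h1
    exact S.t1 (mem_bot.1 (h1 ▸ ⟨htT, hC⟩))
  -- the orbit of `t`
  set O : Set G := {x | ∃ n ∈ N, n * S.t * n⁻¹ = x} with hO
  have hOodd : Odd O.ncard := by
    letI : MulAction ↥N G := MulAction.compHom G (MulAut.conj.comp N.subtype)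
    have hact : ∀ (m : ↥N) (y : G), m • y = (m : G) * y * (m : G)⁻¹ := fun _ _ => rfl
    have horb : O = MulAction.orbit ↥N S.t := by
      ext y
      simp only [hO, Set.mem_setOf_eq, MulAction.mem_orbit_iff, hact]
      exact ⟨fun ⟨m, hm, e⟩ => ⟨⟨m, hm⟩, e⟩, fun ⟨⟨m, hm⟩, e⟩ => ⟨m, hm, e⟩⟩
    rw [horb, ← Nat.card_coe_set_eq, Nat.card_congr (MulAction.orbitEquivQuotientStabilizer ↥N S.t),
      ← Subgroup.index_eq_card]
    have hle : (T : Subgroup G).subgroupOf N ≤ MulAction.stabilizer ↥N S.t := fun m hm => by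
      rw [MulAction.mem_stabilizer_iff, hact, show (m : G) * S.t = S.t * m from
        congrArg Subtype.val (hTc.is_comm.comm ⟨m, hm⟩ ⟨S.t, htT⟩), mul_inv_cancel_right]
    refine Nat.odd_iff.2 (Nat.two_dvd_ne_zero.1 fun h2 => ?_)
    exact T.not_dvd_index (h2.trans ((Subgroup.index_dvd_of_le hle).trans
      (relIndex_dvd_index_of_le (Subgroup.le_normalizer (H := (T : Subgroup G))))))
  have hOT : ∀ x ∈ O, x ∈ (T : Subgroup G) := by
    rintro x ⟨n, hn, rfl⟩
    exact (mem_normalizer_iff.1 hn _).1 htT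
  have hOh : ∀ x ∈ O, S.ι h * x * (S.ι h)⁻¹ ∈ O := by
    rintro x ⟨n, hn, rfl⟩
    exact ⟨S.ι h * n, mul_mem hhN hn, by group⟩
  have htO : S.t ∈ O := ⟨1, one_mem _, by group⟩
  have hιne : ∀ a : P, a ≠ 1 → S.ι a ≠ 1 := fun a ha e => ha (S.inj (e.trans (map_one _).symm))
  have huw1 : D.u * D.w ≠ 1 := fun e =>
    D.uw ((eq_inv_of_mul_eq_one_left e).trans (inv_eq_of_mul_eq_one_left D.w2))
  have hhuw : h * (D.u * D.w) * h⁻¹ = D.u := by
    rw [show h * (D.u * D.w) * h⁻¹ = (h * D.u * h⁻¹) * (h * D.w * h⁻¹) by group, hu, hw, ← mul_assoc, ← D.comm,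
      mul_assoc, D.w2, mul_one]
  have hcyc : ∀ a b : P, h * a * h⁻¹ = b → (S.ι a ∈ O → S.ι b ∈ O) ∧ (S.t * S.ι a ∈ O → S.t * S.ι b ∈ O) := by
    rintro a b rfl
    refine ⟨fun ha => ?_, fun ha => ?_⟩
    · have := hOh _ ha
      rwa [← map_inv, ← map_mul, ← map_mul] at this
    · have := hOh _ ha
      rwa [show S.ι h * (S.t * S.ι a) * (S.ι h)⁻¹ = S.ι h * S.t * (S.ι h)⁻¹ * (S.ι h * S.ι a * (S.ι h)⁻¹) by group,
        hht, ← map_inv, ← map_mul, ← map_mul] at this
  have hall : S.ι D.u ∈ O ∧ S.ι D.w ∈ O ∧ S.ι (D.u * D.w) ∈ O ∧ S.t * S.ι D.u ∈ O ∧ S.t * S.ι D.w ∈ O ∧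
      S.t * S.ι (D.u * D.w) ∈ O := by
    by_contra hnot
    have hsub : ∀ x ∈ O, x = S.t ∨ x = S.ι D.u ∨ x = S.ι D.w ∨ x = S.ι (D.u * D.w) ∨ x = S.t * S.ι D.u ∨
        x = S.t * S.ι D.w ∨ x = S.t * S.ι (D.u * D.w) := by
      intro x hx
      have hx1 : x ≠ 1 := by
        obtain ⟨n, -, rfl⟩ := hx
        exact fun e => S.t1 (conj_eq_one_iff.1 e)
      obtain ⟨k, hk, e⟩ := (hT x).1 (hOT x hx)
      rcases hk with rfl | rfl | rfl | rfl <;> rcases e with rfl | rfl
      all_goals first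
        | exact absurd (map_one _) hx1
        | (rw [map_one, mul_one]; tauto)
        | tauto
    obtain ⟨c1, c2⟩ := hcyc _ _ hu
    obtain ⟨c3, c4⟩ := hcyc _ _ hw
    obtain ⟨c5, c6⟩ := hcyc _ _ hhuw
    by_cases hA : S.ι D.u ∈ O
    · -- the orbit is `t` and the triple in `P`
      have hB : S.t * S.ι D.u ∉ O := fun hB => hnot ⟨hA, c1 hA, c3 (c1 hA), hB, c2 hB, c4 (c2 hB)⟩
      have heq : O = ↑({S.t, S.ι D.u, S.ι D.w, S.ι (D.u * D.w)} : Finset G) := by
        ext x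
        simp only [Finset.coe_insert, Finset.coe_singleton, Set.mem_insert_iff, Set.mem_singleton_iff]
        refine ⟨fun hx => ?_, ?_⟩
        · rcases hsub x hx with e | e | e | e | e | e | e
          · exact Or.inl e
          · exact Or.inr (Or.inl e)
          · exact Or.inr (Or.inr (Or.inl e))
          · exact Or.inr (Or.inr (Or.inr e))
          · exact absurd (e ▸ hx) hB
          · exact absurd (c6 (c4 (e ▸ hx))) hB
          · exact absurd (c6 (e ▸ hx)) hB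
        · rintro (rfl | rfl | rfl | rfl)
          exacts [htO, hA, c1 hA, c3 (c1 hA)]
      rw [heq, Set.ncard_coe_finset, Finset.card_insert_of_notMem, Finset.card_insert_of_notMem,
        Finset.card_insert_of_notMem, Finset.card_singleton] at hOodd
      · exact (Nat.not_even_iff_odd.2 hOodd) (by decide)
      · simp [S.inj.eq_iff, D.u1, hιne _ D.u1, hιne _ D.w1]
      · simp [S.inj.eq_iff, D.uw, D.w1, hιne _ D.u1, hιne _ D.w1]
      · simp only [Finset.mem_insert, Finset.mem_singleton]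
        rintro (e | e | e) <;> exact S.t_not _ e.symm
    · have hB : S.t * S.ι D.u ∈ O := by
        by_contra hB
        obtain ⟨x, hx, hxt⟩ : ∃ x ∈ O, x ≠ S.t := ⟨_, ⟨n₀, hn₀, rfl⟩, hne⟩
        rcases hsub x hx with e | e | e | e | e | e | e <;> subst e
        · exact hxt rfl
        · exact hA hx
        · exact hA (c5 (c3 hx))
        · exact hA (c5 hx)
        · exact hB hx
        · exact hB (c6 (c4 hx))
        · exact hB (c6 hx)
      have heq : O = ↑({S.t, S.t * S.ι D.u, S.t * S.ι D.w, S.t * S.ι (D.u * D.w)} : Finset G) := by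
        ext x
        simp only [Finset.coe_insert, Finset.coe_singleton, Set.mem_insert_iff, Set.mem_singleton_iff]
        refine ⟨fun hx => ?_, ?_⟩
        · rcases hsub x hx with e | e | e | e | e | e | e
          · exact Or.inl e
          · exact absurd (e ▸ hx) hA
          · exact absurd (c5 (c3 (e ▸ hx))) hA
          · exact absurd (c5 (e ▸ hx)) hA
          · exact Or.inr (Or.inl e)
          · exact Or.inr (Or.inr (Or.inl e))
          · exact Or.inr (Or.inr (Or.inr e))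
        · rintro (rfl | rfl | rfl | rfl)
          exacts [htO, hB, c2 hB, c4 (c2 hB)]
      rw [heq, Set.ncard_coe_finset, Finset.card_insert_of_notMem, Finset.card_insert_of_notMem,
        Finset.card_insert_of_notMem, Finset.card_singleton] at hOodd
      · exact (Nat.not_even_iff_odd.2 hOodd) (by decide)
      · simp [S.inj.eq_iff, D.u1, hιne _ D.u1, hιne _ D.w1]
      · simp [S.inj.eq_iff, D.uw, D.w1, hιne _ D.u1, hιne _ D.w1]
      · simp only [Finset.mem_insert, Finset.mem_singleton, left_eq_mul]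
        rintro (e | e | e)
        exacts [hιne _ D.u1 e, hιne _ D.w1 e, hιne _ huw1 e]
  refine ⟨fun x hx => ?_, hall.1⟩
  obtain ⟨c, hc⟩ := Invol.exists_conj_mem_sylow (n := 1) (x := x) (by rw [hx, pow_one]) T
  have hxO : c * x * c⁻¹ ∈ O := by
    have hne1 : c * x * c⁻¹ ≠ 1 := fun e => by rw [conj_eq_one_iff.1 e, orderOf_one] at hx; omega
    obtain ⟨h1, h2, h3, h4, h5, h6⟩ := hall
    obtain ⟨k, hk, e⟩ := (hT _).1 hc
    rcases hk with rfl | rfl | rfl | rfl <;> rcases e with e | e <;> rw [e]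
    · exact absurd (e.trans (map_one _)) hne1
    · rw [map_one, mul_one]; exact htO
    all_goals assumption
  obtain ⟨n, -, hn⟩ := hxO
  exact isConj_iff.2 ⟨c⁻¹ * n, by
    rw [show c⁻¹ * n * S.t * (c⁻¹ * n)⁻¹ = c⁻¹ * (n * S.t * n⁻¹) * c by group, hn]; group⟩

end Base

/-- An element of order three cycling `⟨t, u⟩`, inside the second factor of the centraliser of a conjugate `x`
of `t` which inverts `Y`. -/
structure Cyc {G : Type u} [Group G] {P : Type v} [Group P] (S : Base G P) where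
  /-- the element -/
  g : G
  /-- the conjugating element -/
  c : G
  /-- its preimage -/
  d : P
  hg : g = c * S.ι d * c⁻¹
  g3 : g ^ 3 = 1
  gt : g * S.t * g⁻¹ = S.ι S.D.u
  gu : g * S.ι S.D.u * g⁻¹ = S.t * S.ι S.D.u
  inv : ∀ y ∈ S.D.Y, c * S.t * c⁻¹ * S.ι y * (c * S.t * c⁻¹)⁻¹ = (S.ι y)⁻¹

theorem exists_cyc {G : Type u} [Group G] [Finite G] [IsSimpleGroup G] {P : Type v} [Group P] [Finite P]
    (S : Base G P) (A : Amb G) : Nonempty (Cyc S) := by
  classical
  haveI : Fact (Nat.Prime 2) := ⟨Nat.prime_two⟩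
  obtain ⟨T, hT⟩ := S.exists_sylow A
  obtain ⟨-, n, hn, hnt⟩ := S.fusion A T hT
  obtain ⟨h, h3, hu, hw⟩ := S.exists_h A
  set D := S.D
  have hhuw : h * (D.u * D.w) * h⁻¹ = D.u := by
    rw [show h * (D.u * D.w) * h⁻¹ = (h * D.u * h⁻¹) * (h * D.w * h⁻¹) by group, hu, hw, ← mul_assoc, ← D.comm,
      mul_assoc, D.w2, mul_one]
  set U := S.ι D.u with hU
  set W := S.ι D.w with hW
  have hUW : S.ι (D.u * D.w) = U * W := map_mul _ _ _
  have hcUW : U * W = W * U := by rw [hU, hW, ← map_mul, D.comm, map_mul]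
  have hU2 : U * U = 1 := by rw [hU, ← map_mul, D.u2, map_one]
  have hW2 : W * W = 1 := by rw [hW, ← map_mul, D.w2, map_one]
  have hUt : U * S.t = S.t * U := S.tc _
  have hWt : W * S.t = S.t * W := S.tc _
  -- the elements of the Sylow subgroup
  have hmem : ∀ x, x ∈ (T : Subgroup G) ↔ x = 1 ∨ x = U ∨ x = W ∨ x = U * W ∨ x = S.t ∨ x = S.t * U ∨
      x = S.t * W ∨ x = S.t * (U * W) := by
    intro x
    rw [hT]
    constructor
    · rintro ⟨k, hk, e⟩
      rcases hk with rfl | rfl | rfl | rfl <;> rcases e with rfl | rfl <;> simp [hU, hW]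
    · rintro (rfl | rfl | rfl | rfl | rfl | rfl | rfl | rfl)
      · exact ⟨1, one_mem _, Or.inl (map_one _).symm⟩
      · exact ⟨_, Or.inr (Or.inl rfl), Or.inl rfl⟩
      · exact ⟨_, Or.inr (Or.inr (Or.inl rfl)), Or.inl rfl⟩
      · exact ⟨_, Or.inr (Or.inr (Or.inr rfl)), Or.inl hUW.symm⟩
      · exact ⟨1, one_mem _, Or.inr (by rw [map_one, mul_one])⟩
      · exact ⟨_, Or.inr (Or.inl rfl), Or.inr rfl⟩
      · exact ⟨_, Or.inr (Or.inr (Or.inl rfl)), Or.inr rfl⟩
      · exact ⟨_, Or.inr (Or.inr (Or.inr rfl)), Or.inr (by rw [hUW])⟩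
  -- conjugation by `ι h` fixes only `1` and `t`
  have hnu : D.u * D.w ≠ 1 := fun e =>
    D.uw ((eq_inv_of_mul_eq_one_left e).trans (inv_eq_of_mul_eq_one_left D.w2))
  have hfix : ∀ x ∈ (T : Subgroup G), S.ι h * x * (S.ι h)⁻¹ = x → x = 1 ∨ x = S.t := by
    intro x hx e
    obtain ⟨k, hk, ek⟩ := (hT x).1 hx
    have hk' : h * k * h⁻¹ = k := by
      rcases ek with rfl | rfl
      · exact S.inj (by rw [map_mul, map_mul, map_inv]; exact e)
      · refine S.inj ?_
        rw [show S.ι h * (S.t * S.ι k) * (S.ι h)⁻¹ = S.ι h * S.t * (S.ι h)⁻¹ * (S.ι h * S.ι k * (S.ι h)⁻¹) by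
          group, S.tc, mul_inv_cancel_right] at e
        rw [map_mul, map_mul, map_inv]
        exact mul_left_cancel e
    have hk1 : k = 1 := by
      rcases hk with rfl | rfl | rfl | rfl
      · rfl
      · exact absurd (hu.symm.trans hk') D.uw.symm
      · exact absurd (mul_eq_right.1 (hw.symm.trans hk')) D.u1
      · exact absurd (left_eq_mul.1 (hhuw.symm.trans hk')) D.w1
    rcases ek with rfl | rfl <;> simp [hk1]
  -- the conjugate fixing `u`
  set m := n * S.ι h * n⁻¹ with hm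
  have hmu : m * U * m⁻¹ = U := by
    rw [hm, ← hnt, show n * S.ι h * n⁻¹ * (n * S.t * n⁻¹) * (n * S.ι h * n⁻¹)⁻¹ =
      n * (S.ι h * S.t * (S.ι h)⁻¹) * n⁻¹ by group, S.tc, mul_inv_cancel_right]
  have hm3 : m ^ 3 = 1 := by rw [hm, conj_pow, ← map_pow, h3, map_one, mul_one, mul_inv_cancel]
  have hmfix : ∀ x ∈ (T : Subgroup G), m * x * m⁻¹ = x → x = 1 ∨ x = U := by
    intro x hx e
    have hx' : n⁻¹ * x * n ∈ (T : Subgroup G) := by
      have := (mem_normalizer_iff.1 (inv_mem hn) x).1 hx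
      rwa [inv_inv] at this
    rcases hfix _ hx' (by
      calc S.ι h * (n⁻¹ * x * n) * (S.ι h)⁻¹ = n⁻¹ * (m * x * m⁻¹) * n := by rw [hm]; group
        _ = n⁻¹ * x * n := by rw [e]) with h1 | h1
    · left
      rw [show n⁻¹ * x * n = n⁻¹ * x * n⁻¹⁻¹ by group] at h1
      exact conj_eq_one_iff.1 h1
    · right; rw [← hnt, ← h1]; group
  have hmT : ∀ x ∈ (T : Subgroup G), m * x * m⁻¹ ∈ (T : Subgroup G) := by
    intro x hx
    have hx' : n⁻¹ * x * n ∈ (T : Subgroup G) := by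
      have := (mem_normalizer_iff.1 (inv_mem hn) x).1 hx
      rwa [inv_inv] at this
    obtain ⟨k, hk, e⟩ := (hT _).1 hx'
    have hh : S.ι h * (n⁻¹ * x * n) * (S.ι h)⁻¹ ∈ (T : Subgroup G) := by
      refine (hT _).2 ⟨h * k * h⁻¹, ?_, ?_⟩
      · rcases hk with rfl | rfl | rfl | rfl
        · left; group
        · right; right; left; exact hu
        · right; right; right; exact hw
        · right; left; exact hhuw
      · rcases e with e | e <;> rw [e]
        · exact Or.inl (by rw [map_mul, map_mul, map_inv])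
        · refine Or.inr ?_
          rw [show S.ι h * (S.t * S.ι k) * (S.ι h)⁻¹ = S.ι h * S.t * (S.ι h)⁻¹ * (S.ι h * S.ι k * (S.ι h)⁻¹) by
            group, S.tc, mul_inv_cancel_right, map_mul, map_mul, map_inv]
    have := (mem_normalizer_iff.1 hn _).1 hh
    convert this using 1
    rw [hm]; group
  -- modulo `u`
  set W1 := m * W * m⁻¹ with hW1
  have hWT : W ∈ (T : Subgroup G) := (hmem W).2 (by tauto)
  have hW1T : W1 ∈ (T : Subgroup G) := hmT W hWT
  have hne1 : W ≠ 1 := fun e => D.w1 (S.inj (e.trans (map_one _).symm))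
  have hneU : W ≠ U := fun e => D.uw (S.inj e.symm)
  have hnotU : W1 ≠ U * W := fun e => by
    have h3 : m * (m * (m * W * m⁻¹) * m⁻¹) * m⁻¹ = W := by
      rw [show m * (m * (m * W * m⁻¹) * m⁻¹) * m⁻¹ = m ^ 3 * W * (m ^ 3)⁻¹ by simp [pow_succ, mul_assoc], hm3]
      group
    have hstep : m * (U * W) * m⁻¹ = W := by
      rw [show m * (U * W) * m⁻¹ = (m * U * m⁻¹) * (m * W * m⁻¹) by group, hmu, ← hW1, e, ← mul_assoc, hU2, one_mul]
    rw [← hW1, e, hstep, ← hW1, e] at h3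
    exact D.u1 (S.inj ((mul_eq_right.1 h3).trans (map_one _).symm))
  have hW1cases : (W1 = S.t ∨ W1 = S.t * U) ∨ (W1 = S.t * W ∨ W1 = S.t * (U * W)) := by
    rcases (hmem W1).1 hW1T with e | e | e | e | e | e | e | e
    · exact absurd (conj_eq_one_iff.1 e) hne1
    · exact absurd ((MulAut.conj m).injective (show MulAut.conj m W = MulAut.conj m U from e.trans hmu.symm)) hneU
    · exact absurd (hmfix W hWT e) (fun h => h.elim hne1 hneU)
    · exact absurd e hnotU
    all_goals tauto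
  obtain ⟨c, hcU, hcW, hcT⟩ : ∃ c, c * U * c⁻¹ = U ∧ (c * W * c⁻¹ = S.t ∨ c * W * c⁻¹ = S.t * U) ∧
      c * S.t * c⁻¹ ∈ (T : Subgroup G) := by
    rcases hW1cases with e | e
    · exact ⟨m, hmu, e, hmT _ ((hmem _).2 (by tauto))⟩
    · refine ⟨m * m, ?_, ?_, ?_⟩
      · rw [show m * m * U * (m * m)⁻¹ = m * (m * U * m⁻¹) * m⁻¹ by group, hmu, hmu]
      swap
      · rw [show m * m * S.t * (m * m)⁻¹ = m * (m * S.t * m⁻¹) * m⁻¹ by group]
        exact hmT _ (hmT _ ((hmem _).2 (by tauto)))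
      rw [show m * m * W * (m * m)⁻¹ = m * W1 * m⁻¹ by rw [hW1]; group]
      have hW2T := hmT W1 hW1T
      have hback : m * (m * W1 * m⁻¹) * m⁻¹ = W := by
        rw [hW1, show m * (m * (m * W * m⁻¹) * m⁻¹) * m⁻¹ = m ^ 3 * W * (m ^ 3)⁻¹ by simp [pow_succ, mul_assoc],
          hm3]
        group
      have hcT' : ∀ a ∈ (T : Subgroup G), ∀ b ∈ (T : Subgroup G), a * b = b * a := fun a ha b hb => by
        have hsq : ∀ z ∈ (T : Subgroup G), z⁻¹ = z := fun z hz => by
          obtain ⟨k, hk⟩ := T.isPGroup' ⟨z, hz⟩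
          exact inv_eq_of_mul_eq_one_left (A.sq2 z ⟨k, congrArg Subtype.val hk⟩)
        rw [← hsq _ (mul_mem ha hb), mul_inv_rev, hsq a ha, hsq b hb]
      set W2 := m * W1 * m⁻¹ with hW2d
      have hfixed : m * (W * W1 * W2) * m⁻¹ = W * W1 * W2 := by
        rw [show m * (W * W1 * W2) * m⁻¹ = (m * W * m⁻¹) * (m * W1 * m⁻¹) * (m * W2 * m⁻¹) by group, hback, ← hW1,
          ← hW2d, hcT' _ (mul_mem hW1T hW2T) W hWT, ← mul_assoc]
      have hWW1 : W * W1 = S.t ∨ W * W1 = S.t * U := by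
        rcases e with e | e
        · left; rw [e, ← mul_assoc, hWt, mul_assoc, hW2, mul_one]
        · right; rw [e, hcUW, ← mul_assoc, hWt, mul_assoc, ← mul_assoc W, hW2, one_mul]
      have htU : S.t * U * (S.t * U) = 1 := by
        rw [mul_assoc, ← mul_assoc U, hUt, mul_assoc, hU2, mul_one, S.tt]
      rcases hmfix _ (mul_mem (mul_mem hWT hW1T) hW2T) hfixed with h1 | h1 <;> rcases hWW1 with h2 | h2 <;>
        rw [h2] at h1
      · exact Or.inl ((eq_inv_of_mul_eq_one_right h1).trans (inv_eq_of_mul_eq_one_left S.tt))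
      · exact Or.inr ((eq_inv_of_mul_eq_one_right h1).trans (inv_eq_of_mul_eq_one_left htU))
      · exact Or.inr (by rw [← h1, ← mul_assoc, S.tt, one_mul])
      · refine Or.inl ?_
        calc W2 = S.t * U * (S.t * U * W2) := by rw [← mul_assoc, htU, one_mul]
          _ = S.t := by rw [h1, mul_assoc, hU2, mul_one]
  set x := c * S.t * c⁻¹ with hx
  set g1 := c * S.ι h * c⁻¹ with hg1
  have hg1U : g1 * U * g1⁻¹ = c * W * c⁻¹ := by
    rw [hg1, show c * S.ι h * c⁻¹ * U * (c * S.ι h * c⁻¹)⁻¹ = c * (S.ι h * (c⁻¹ * U * c) * (S.ι h)⁻¹) * c⁻¹ by group,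
      show c⁻¹ * U * c = U by nth_rewrite 1 [← hcU]; group, hU, ← map_inv, ← map_mul, ← map_mul, hu]
  have hg1W : g1 * (c * W * c⁻¹) * g1⁻¹ = U * (c * W * c⁻¹) := by
    rw [hg1, show c * S.ι h * c⁻¹ * (c * W * c⁻¹) * (c * S.ι h * c⁻¹)⁻¹ = c * (S.ι h * W * (S.ι h)⁻¹) * c⁻¹ by group,
      hW, ← map_inv, ← map_mul, ← map_mul, hw, map_mul, ← hU, ← hW,
      show c * (U * W) * c⁻¹ = (c * U * c⁻¹) * (c * W * c⁻¹) by group, hcU]
  have hg13 : g1 ^ 3 = 1 := by rw [hg1, conj_pow, ← map_pow, h3, map_one, mul_one, mul_inv_cancel]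
  -- `x` inverts `Y`
  have hxinv : ∀ y ∈ D.Y, x * S.ι y * x⁻¹ = (S.ι y)⁻¹ := by
    intro y hy
    have hxg : g1 * x = x * g1 := by
      rw [hg1, hx, conj_mul, conj_mul, S.tc]
    have hV : ∀ v, (v = U ∨ v = S.t ∨ v = S.t * U) → g1 * v * g1⁻¹ ≠ v := by
      intro v hv e
      have e1 : g1 * U * g1⁻¹ ≠ U := fun h => hneU ((MulAut.conj c).injective
        (show MulAut.conj c W = MulAut.conj c U from (hg1U.symm.trans h).trans hcU.symm))
      have e2 : g1 * (c * W * c⁻¹) * g1⁻¹ ≠ c * W * c⁻¹ := fun h =>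
        D.u1 (S.inj ((mul_eq_right.1 (hg1W.symm.trans h)).trans (map_one _).symm))
      rcases hcW with hc | hc <;> rw [hc] at hg1U hg1W e2
      · rcases hv with rfl | rfl | rfl
        · exact e1 e
        · exact e2 e
        · rw [show g1 * (S.t * U) * g1⁻¹ = (g1 * S.t * g1⁻¹) * (g1 * U * g1⁻¹) by group, hg1W, hg1U] at e
          rw [mul_assoc, S.tt, mul_one] at e
          exact S.t1 (right_eq_mul.1 e)
      · rcases hv with rfl | rfl | rfl
        · exact e1 e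
        · have h5 : g1 * S.t * g1⁻¹ = g1 * (S.t * U) * g1⁻¹ * (g1 * U * g1⁻¹) := by
            rw [conj_mul, mul_assoc S.t, hU2, mul_one]
          rw [hg1W, hg1U, mul_assoc U (S.t * U), show S.t * U * (S.t * U) = 1 by
            rw [mul_assoc, ← mul_assoc U, hUt, mul_assoc, hU2, mul_one, S.tt], mul_one] at h5
          exact S.t_not D.u (h5.symm.trans e)
        · exact e2 e
    have hnx : ∀ z, (z = U ∨ z = S.t ∨ z = S.t * U) → x ≠ z := fun z hz e =>
      hV z hz (by rw [← e]; exact mul_inv_eq_iff_eq_mul.2 hxg)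
    have hWi : W * S.ι y * W⁻¹ = (S.ι y)⁻¹ := by
      rw [hW, ← map_inv, ← map_mul, ← map_mul, D.w_Y y hy, map_inv]
    have hUi : U * S.ι y * U⁻¹ = S.ι y := by
      rw [hU, ← map_inv, ← map_mul, ← map_mul, D.u_Y y hy, mul_inv_cancel_right]
    have hti : S.t * S.ι y * S.t⁻¹ = S.ι y := by rw [← S.tc, mul_inv_cancel_right]
    have hUWi : U * W * S.ι y * (U * W)⁻¹ = (S.ι y)⁻¹ := by
      rw [show U * W * S.ι y * (U * W)⁻¹ = U * (W * S.ι y * W⁻¹) * U⁻¹ by group, hWi]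
      calc U * (S.ι y)⁻¹ * U⁻¹ = (U * S.ι y * U⁻¹)⁻¹ := by group
        _ = (S.ι y)⁻¹ := by rw [hUi]
    rcases (hmem x).1 hcT with e | e | e | e | e | e | e | e
    · exact absurd (conj_eq_one_iff.1 e) S.t1
    · exact absurd e (hnx _ (Or.inl rfl))
    · rw [e]; exact hWi
    · rw [e]; exact hUWi
    · exact absurd e (hnx _ (Or.inr (Or.inl rfl)))
    · exact absurd e (hnx _ (Or.inr (Or.inr rfl)))
    · rw [e, show S.t * W * S.ι y * (S.t * W)⁻¹ = S.t * (W * S.ι y * W⁻¹) * S.t⁻¹ by group, hWi]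
      calc S.t * (S.ι y)⁻¹ * S.t⁻¹ = (S.t * S.ι y * S.t⁻¹)⁻¹ := by group
        _ = (S.ι y)⁻¹ := by rw [hti]
    · rw [e, show S.t * (U * W) * S.ι y * (S.t * (U * W))⁻¹ = S.t * (U * W * S.ι y * (U * W)⁻¹) * S.t⁻¹ by group,
        hUWi]
      calc S.t * (S.ι y)⁻¹ * S.t⁻¹ = (S.t * S.ι y * S.t⁻¹)⁻¹ := by group
        _ = (S.ι y)⁻¹ := by rw [hti]
  rcases hcW with hc | hc <;> rw [hc] at hg1U hg1W
  · -- `u → t → tu`
    refine ⟨⟨g1⁻¹, c, h⁻¹, by rw [map_inv, hg1]; group, by rw [inv_pow, hg13, inv_one], ?_, ?_, hxinv⟩⟩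
    · rw [← hU, ← hg1U]; group
    · rw [← hU]
      have h5 : g1 * (S.t * U) * g1⁻¹ = U := by
        rw [show g1 * (S.t * U) * g1⁻¹ = (g1 * S.t * g1⁻¹) * (g1 * U * g1⁻¹) by group, hg1U, hg1W, mul_assoc,
          S.tt, mul_one]
      calc g1⁻¹ * U * g1⁻¹⁻¹ = g1⁻¹ * (g1 * (S.t * U) * g1⁻¹) * g1⁻¹⁻¹ := by rw [h5]
        _ = S.t * U := by group
  · refine ⟨⟨g1, c, h, hg1, hg13, ?_, hg1U, hxinv⟩⟩
    rw [← hU]
    have h5 : g1 * S.t * g1⁻¹ = g1 * (S.t * U) * g1⁻¹ * (g1 * U * g1⁻¹) := by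
      rw [conj_mul, mul_assoc S.t, hU2, mul_one]
    rw [h5, hg1W, hg1U, mul_assoc U (S.t * U), show S.t * U * (S.t * U) = 1 by
      rw [mul_assoc, ← mul_assoc U, hUt, mul_assoc, hU2, mul_one, S.tt], mul_one]

end Cfsg.Agent.Invol.JankoWard
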