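import Cfsg.Agent.Lib.Invol.JankoWard.ExtHyp
import Cfsg.Agent.Lib.Invol.JankoWard.LCharsPSL
import Cfsg.Agent.Lib.Invol.JankoWard.LocalBase
import Cfsg.Agent.Lib.Block.SL2Char.SLFacts
import Cfsg.Agent.Lib.Classical.DicksonClasses

/-!
# The table hypotheses for `L2(q)`, `q = 3^f = 4r - 1`

The Sylow 3-subgroups are the unipotent subgroups; the inequality is checked on the six families of irreducible
characters, through the sums over the elliptic torus.
-/

set_option autoImplicit false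
set_option linter.unusedSectionVars false
set_option linter.style.haveILetI false
set_option maxHeartbeats 1000000

namespace Cfsg.Agent.Invol.JankoWard.PSL

open Matrix Cfsg.Agent.Block.SL2Char Cfsg.Agent.Char

variable {F : Type} [Field F] [Fintype F] [DecidableEq F]

local notation "GG" => GL (Fin 2) F
local notation "SS" => Matrix.SpecialLinearGroup (Fin 2) F
local notation "PS" => Matrix.ProjectiveSpecialLinearGroup (Fin 2) F
local notation "tg" => (Matrix.SpecialLinearGroup.toGL : SS →* GG)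
local notation "mkP" => (QuotientGroup.mk' (Subgroup.center SS) : SS →* PS)

theorem char_three {p f : ℕ} (hf : Fintype.card F = p ^ f) (hp : p.Prime) : CharP F p := by
  obtain ⟨p', hp'⟩ := CharP.exists F
  haveI : Fact p'.Prime := ⟨CharP.char_is_prime F p'⟩
  obtain ⟨n, hn, hcard⟩ := FiniteField.card F p'
  have h1 : p' ∣ p ^ f := hf ▸ hcard ▸ dvd_pow_self p' n.pos.ne'
  rwa [← (Nat.prime_dvd_prime_iff_eq hn hp).1 (hn.dvd_of_dvd_pow h1)]

variable (K : Type) [Field K] [Algebra F K] [Fintype K] [DecidableEq K]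
  (hK : Module.finrank F K = 2)

/-- The map of the norm-one group onto the torus of `u`. -/
theorem exists_torusHom (D : LData PS) (hDq : D.q = Fintype.card F) (hδ : D.δ = -1) :
    ∃ c : PS, ∀ (ψ : U1 F K →* PS), (∀ l, ψ l = c * mkP (ellS K hK l) * c⁻¹) →
      (∀ l : U1 F K, ∃ y ∈ D.Y, ψ l = y ∨ ψ l = D.u * y) ∧
      (∀ y ∈ D.Y, (∃ l, ψ l = y) ∧ ∃ l, ψ l = D.u * y) ∧ Nat.card ψ.ker = 2 := by
  have hq := D.hq
  rw [hDq, hδ] at hq
  have hr3 := D.r3
  have hodd : Odd (Fintype.card F) := ⟨2 * D.r - 1, by omega⟩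
  set ρ : U1 F K →* PS := (mkP).comp (ellS K hK) with hρ
  have hU : Nat.card (U1 F K) = 2 * (2 * D.r) := by
    rw [Nat.card_eq_fintype_card, card_U1 K hK]; omega
  have hker : Nat.card ρ.ker = 2 := by
    rw [show Nat.card ρ.ker = Nat.card {l : U1 F K // l ∈ (Finset.univ.filter fun l : U1 F K => l * l = 1)} from
      Nat.card_congr (Equiv.subtypeEquivRight fun l => ?_), Nat.card_eq_finsetCard, card_U1_sq,
      card_Z2_odd hodd]
    rw [MonoidHom.mem_ker, Finset.mem_filter, hρ, MonoidHom.comp_apply, mk_eq_one, sq_eq_one_iff_mem_range,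
      toGL_ellS]
    refine ⟨fun ⟨z, hz⟩ => ⟨Finset.mem_univ _, ?_⟩, fun ⟨_, z, hz⟩ => ⟨z, by rw [← hz, ell_emb]⟩⟩
    by_contra hl
    exact not_isSc_ell K hK hl (hz ▸ isSc_sc z)
  have hrange : Nat.card ρ.range = 2 * D.r := by
    have h1 := Subgroup.card_mul_index ρ.ker
    rw [Subgroup.index_ker, hker, hU] at h1
    omega
  haveI : IsCyclic ρ.range := isCyclic_of_surjective ρ.rangeRestrict ρ.rangeRestrict_surjective
  obtain ⟨⟨g, hgR⟩, hg⟩ := IsCyclic.exists_ofOrder_eq_natCard (α := ρ.range)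
  rw [hrange, Subgroup.orderOf_mk] at hg
  have hg2 : g ^ D.r * g ^ D.r = 1 := by rw [← pow_add, ← two_mul, ← hg, pow_orderOf_eq_one]
  have hg1 : g ^ D.r ≠ 1 := fun e => by
    have := orderOf_le_of_pow_eq_one (by omega) e
    omega
  obtain ⟨c, hc⟩ := isConj_iff.1 (D.one_class _ hg2 hg1)
  refine ⟨c⁻¹, fun ψ hψ => ?_⟩
  have hψρ : ∀ l, ψ l = c⁻¹ * ρ l * c := fun l => by rw [hψ, inv_inv]; rfl
  have hgen : ∀ l, ∃ k : ℕ, ψ l = (c⁻¹ * g * c) ^ k := fun l => by
    have hmem : (⟨ρ l, l, rfl⟩ : ρ.range) ∈ Subgroup.zpowers (⟨g, hgR⟩ : ρ.range) := by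
      rw [Subgroup.eq_top_of_card_eq (Subgroup.zpowers (⟨g, hgR⟩ : ρ.range))
        (by rw [Nat.card_zpowers, Subgroup.orderOf_mk, hg, hrange])]
      exact Subgroup.mem_top _
    obtain ⟨k, hk⟩ := (IsOfFinOrder.mem_powers_iff_mem_zpowers (isOfFinOrder_of_finite _)).2 hmem
    refine ⟨k, ?_⟩
    have hk' : g ^ k = ρ l := by simpa using congrArg Subtype.val hk
    rw [hψρ, ← hk', show c⁻¹ * g * c = c⁻¹ * g * c⁻¹⁻¹ by rw [inv_inv], conj_pow, inv_inv]
  set g' := c⁻¹ * g * c with hg'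
  have hg'r : g' ^ D.r = D.u := by
    rw [hg', show c⁻¹ * g * c = c⁻¹ * g * c⁻¹⁻¹ by rw [inv_inv], conj_pow, inv_inv, ← hc]
    group
  have hg'o : g' ^ (2 * D.r) = 1 := by rw [two_mul, pow_add, hg'r, D.u2]
  have hg'u : g' * D.u = D.u * g' := by rw [← hg'r, ← pow_succ', pow_succ]
  obtain ⟨y0, hy0, hy0'⟩ : ∃ y ∈ D.Y, g' = y ∨ g' = D.u * y := by
    obtain ⟨y, hy, e | e | e | e⟩ := D.cent_u g' hg'u
    · exact ⟨y, hy, Or.inl e⟩
    · exact ⟨y, hy, Or.inr e⟩
    · exfalso
      obtain ⟨j, hj⟩ := D.r_odd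
      rw [hj, pow_succ, pow_mul, pow_two, show g' * g' = 1 by rw [e]; exact D.w_sq_mul hy, one_pow, one_mul, e] at hg'r
      have hy' : y = D.w * D.u := by rw [← hg'r, ← mul_assoc, D.w2, one_mul]
      have hyy : y = 1 := D.Y_inv hy (by
        rw [hy', mul_assoc, ← mul_assoc D.u, D.comm, mul_assoc, D.u2, mul_one, D.w2])
      rw [hyy] at hy'
      exact D.uw ((eq_inv_of_mul_eq_one_right hy'.symm).trans (inv_eq_of_mul_eq_one_left D.w2))
    · exfalso
      obtain ⟨j, hj⟩ := D.r_odd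
      have h2 : g' * g' = 1 := by
        rw [e, show D.u * D.w * y * (D.u * D.w * y) = D.u * (D.w * y * D.u) * (D.w * y) by group,
          show D.w * y * D.u = D.u * (D.w * y) by
            rw [mul_assoc, ← D.u_Y y hy, ← mul_assoc, ← D.comm, mul_assoc],
          ← mul_assoc D.u D.u, D.u2, one_mul, D.w_sq_mul hy]
      rw [hj, pow_succ, pow_mul, pow_two, h2, one_pow, one_mul, e, mul_assoc, mul_eq_left] at hg'r
      have hy' : y = D.w := (eq_inv_of_mul_eq_one_right hg'r).trans (inv_eq_of_mul_eq_one_left D.w2)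
      exact D.w1 (hy' ▸ D.Y_inv hy (hy'.symm ▸ D.w2))
  have hcomm : Commute D.u y0 := D.u_Y y0 hy0
  have hfst : ∀ l : U1 F K, ∃ y ∈ D.Y, ψ l = y ∨ ψ l = D.u * y := fun l => by
    obtain ⟨k, hk⟩ := hgen l
    refine ⟨y0 ^ k, pow_mem hy0 k, ?_⟩
    rcases hy0' with e | e
    · exact Or.inl (by rw [hk, e])
    · rcases Nat.even_or_odd k with ⟨j, rfl⟩ | ⟨j, rfl⟩
      · left; rw [hk, e, hcomm.mul_pow, ← two_mul, pow_mul D.u 2, pow_two, D.u2, one_pow, one_mul]
      · right; rw [hk, e, hcomm.mul_pow, pow_succ D.u, pow_mul D.u 2, pow_two, D.u2, one_pow, one_mul]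
  have hkerψ : Nat.card ψ.ker = 2 := by
    refine (Nat.card_congr (Equiv.subtypeEquivRight fun l => ?_)).trans hker
    rw [MonoidHom.mem_ker, MonoidHom.mem_ker, hψρ]
    exact ⟨fun h => by rwa [show c⁻¹ * ρ l * c = c⁻¹ * ρ l * c⁻¹⁻¹ by rw [inv_inv], conj_eq_one_iff] at h,
      fun h => by rw [h]; group⟩
  refine ⟨hfst, ?_, hkerψ⟩
  -- the image is all of the torus
  classical
  set T : Finset PS := (Finset.univ.filter fun z => z ∈ D.Y) ∪
    (Finset.univ.filter fun z => z ∈ D.Y).image (D.u * ·) with hT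
  have hcardY : (Finset.univ.filter fun z : PS => z ∈ D.Y).card = D.r := by
    rw [← D.card_Y, Nat.card_eq_fintype_card, Fintype.card_subtype]
  have hTcard : T.card ≤ 2 * D.r := by
    refine (Finset.card_union_le _ _).trans ?_
    have := Finset.card_image_le (s := Finset.univ.filter fun z : PS => z ∈ D.Y) (f := (D.u * ·))
    omega
  have himg : Finset.univ.image ψ = T := by
    refine Finset.eq_of_subset_of_card_le (fun z hz => ?_) (hTcard.trans ?_)
    · obtain ⟨l, -, rfl⟩ := Finset.mem_image.1 hz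
      obtain ⟨y, hy, e | e⟩ := hfst l <;> rw [e, hT, Finset.mem_union]
      · exact Or.inl (by simpa using hy)
      · exact Or.inr (Finset.mem_image.2 ⟨y, by simpa using hy, rfl⟩)
    · have h1 := Subgroup.card_mul_index ψ.ker
      rw [Subgroup.index_ker, hkerψ, hU] at h1
      rw [← Nat.card_eq_finsetCard]
      refine le_of_eq_of_le (by omega : 2 * D.r = Nat.card ψ.range) (le_of_eq (Nat.card_congr ?_))
      exact Equiv.subtypeEquivRight fun z => by simp [MonoidHom.mem_range]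
  have hmem : ∀ z ∈ T, ∃ l, ψ l = z := fun z hz => by
    rw [← himg] at hz
    obtain ⟨l, -, e⟩ := Finset.mem_image.1 hz
    exact ⟨l, e⟩
  exact fun y hy => ⟨hmem _ (Finset.mem_union_left _ (by simpa using hy)),
    hmem _ (Finset.mem_union_right _ (Finset.mem_image.2 ⟨y, by simpa using hy, rfl⟩))⟩

/-- The value of a character of `SL2(q)` on the norm-one group, up to the correction at `±1`. -/
theorem torus_sums {r : ℕ} (hq : Fintype.card F + 1 = 4 * r) {χ : SS → ℂ} {f : U1 F K → ℂ} {E : ℂ}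
    (hf : ∀ l : U1 F K, χ (ellS K hK l) = f l + if l * l = 1 then E else 0)
    {φ0 : U1 F K →* ℂˣ} (h0 : ∀ l : U1 F K, l * l = 1 → cv φ0 l = 1) :
    ∑ l : U1 F K, χ (ellS K hK l) = (∑ l : U1 F K, f l) + 2 * E ∧
      ∑ l : U1 F K, cv φ0 l * χ (ellS K hK l) = (∑ l : U1 F K, cv φ0 l * f l) + 2 * E := by
  classical
  have hodd : Odd (Fintype.card F) := ⟨2 * r - 1, by omega⟩
  have h2 : ((Finset.univ : Finset (U1 F K)).filter fun l => l * l = 1).card = 2 := by
    rw [card_U1_sq, card_Z2_odd hodd]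
  constructor
  · rw [Finset.sum_congr rfl fun l _ => hf l, Finset.sum_add_distrib, ← Finset.sum_filter, Finset.sum_const, h2]
    simp [two_mul]
  · rw [Finset.sum_congr rfl fun l _ => by rw [hf l, mul_add], Finset.sum_add_distrib]
    congr 1
    rw [Finset.sum_congr rfl (g := fun l : U1 F K => if l * l = 1 then E else 0) fun l _ => by
      by_cases h : l * l = 1 <;> simp [h, h0], ← Finset.sum_filter, Finset.sum_const, h2]
    simp [two_mul]

/-- The sum of a function over the torus, through the norm-one group. -/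
theorem sum_torus (D : LData PS) {ψ : U1 F K →* PS}
    (h1 : ∀ l : U1 F K, ∃ y ∈ D.Y, ψ l = y ∨ ψ l = D.u * y)
    (h2 : ∀ y ∈ D.Y, (∃ l, ψ l = y) ∧ ∃ l, ψ l = D.u * y) (hk : Nat.card ψ.ker = 2)
    [Fintype D.Y] (w : PS → ℂ) :
    ∑ l : U1 F K, w (ψ l) = 2 * ∑ y : D.Y, (w y + w (D.u * y)) := by
  classical
  have hu : D.u ∉ D.Y := fun h => D.u1 (D.Y_inv h D.u2)
  let e : D.Y × Bool → PS := fun p => if p.2 then D.u * p.1 else p.1
  have he : Function.Injective e := by
    rintro ⟨a, i⟩ ⟨b, j⟩ h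
    rcases i <;> rcases j <;> simp only [e, Bool.false_eq_true, ↓reduceIte] at h
    · rw [Subtype.ext h]
    · exact absurd (eq_mul_inv_of_mul_eq h.symm ▸ mul_mem a.2 (inv_mem b.2)) hu
    · exact absurd (eq_mul_inv_of_mul_eq h ▸ mul_mem b.2 (inv_mem a.2)) hu
    · rw [Subtype.ext (mul_left_cancel h)]
  have himg : Finset.univ.image ψ = Finset.univ.image e := by
    ext z
    simp only [Finset.mem_image, Finset.mem_univ, true_and]
    constructor
    · rintro ⟨l, rfl⟩
      obtain ⟨y, hy, h | h⟩ := h1 l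
      · exact ⟨(⟨y, hy⟩, false), h.symm⟩
      · exact ⟨(⟨y, hy⟩, true), h.symm⟩
    · rintro ⟨⟨y, i⟩, rfl⟩
      rcases i
      · exact (h2 y y.2).1
      · exact (h2 y y.2).2
  have hfib : ∀ z ∈ Finset.univ.image ψ, (Finset.univ.filter fun l => ψ l = z).card = 2 := fun z hz => by
    obtain ⟨l, -, rfl⟩ := Finset.mem_image.1 hz
    refine Eq.trans ?_ hk
    rw [Nat.card_eq_fintype_card, Fintype.card_subtype]
    refine Finset.card_bij (fun x _ => l⁻¹ * x) (fun x hx => ?_) (fun x _ y _ h => mul_left_cancel h)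
      fun x hx => ⟨l * x, ?_, inv_mul_cancel_left _ _⟩
    · simp only [Finset.mem_filter, Finset.mem_univ, true_and] at hx ⊢
      rw [MonoidHom.mem_ker, map_mul, map_inv, hx, inv_mul_cancel]
    · simp only [Finset.mem_filter, Finset.mem_univ, true_and, MonoidHom.mem_ker] at hx ⊢
      rw [map_mul, hx, mul_one]
  rw [Finset.sum_comp w ψ, Finset.sum_congr rfl fun z hz => by rw [hfib z hz], himg,
    Finset.sum_image fun a _ b _ h => he h, Finset.mul_sum, Fintype.sum_prod_type]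
  refine Finset.sum_congr rfl fun y _ => ?_
  rw [Fintype.sum_bool]
  simp only [e, ↓reduceIte, Bool.false_eq_true, nsmul_eq_mul, Nat.cast_ofNat]
  ring

theorem ineq_arith (r N A J T d : ℝ) (h : 2 * r * (N + 4 * T) + (8 * r - 3) * |J| - (10 * r - 3) * A ≤ 3 * d)
    {N' A' J' T' d' : ℝ} (hN : N' = N) (hA : A' = A) (hJ : J' = J) (hT : T' = T) (hd : d' = d) :
    2 * r * (N' + 4 * T') + (8 * r - 3) * |J'| - (10 * r - 3) * A' ≤ 3 * d' := by
  rw [hN, hA, hJ, hT, hd]; exact h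

/-- The sums over `Y` from the sums over the norm-one group. -/
theorem split_torus (D : LData PS) {ψ : U1 F K →* PS}
    (h1 : ∀ l : U1 F K, ∃ y ∈ D.Y, ψ l = y ∨ ψ l = D.u * y)
    (h2 : ∀ y ∈ D.Y, (∃ l, ψ l = y) ∧ ∃ l, ψ l = D.u * y) (hk : Nat.card ψ.ker = 2)
    [Fintype D.Y] {φ0 : U1 F K →* ℂˣ}
    (hy : ∀ l, ψ l ∈ D.Y → cv φ0 l = 1) (hn : ∀ l, ψ l ∉ D.Y → cv φ0 l = -1) (θ : PS → ℂ) :
    2 * ∑ y : D.Y, (θ y + θ (D.u * y)) = ∑ l : U1 F K, θ (ψ l) ∧
      4 * ∑ y : D.Y, θ (D.u * y) = ∑ l : U1 F K, θ (ψ l) - ∑ l : U1 F K, cv φ0 l * θ (ψ l) := by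
  classical
  have hu : D.u ∉ D.Y := fun h => D.u1 (D.Y_inv h D.u2)
  refine ⟨(sum_torus K D h1 h2 hk θ).symm, ?_⟩
  have e2 := sum_torus K D h1 h2 hk fun z => (if z ∈ D.Y then 1 else -1) * θ z
  have e3 : ∀ l, (if ψ l ∈ D.Y then (1 : ℂ) else -1) = cv φ0 l := fun l => by
    by_cases h : ψ l ∈ D.Y
    · rw [if_pos h, hy l h]
    · rw [if_neg h, hn l h]
  simp only [e3] at e2
  rw [sum_torus K D h1 h2 hk θ, e2, Finset.mul_sum, Finset.mul_sum, Finset.mul_sum, ← Finset.sum_sub_distrib]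
  refine Finset.sum_congr rfl fun y _ => ?_
  rw [if_pos y.2, if_neg fun h => hu (by simpa using mul_mem h (inv_mem y.2))]
  ring

theorem norm_pair (l : U1 F K) (φ : U1 F K →* ℂˣ) : |(-(cv φ l + cv φ l⁻¹)).re| ≤ 2 := by
  have h1 : ‖cv φ l‖ = 1 := by
    refine Complex.norm_eq_one_of_pow_eq_one (n := Fintype.card (U1 F K)) ?_ Fintype.card_ne_zero
    rw [cv, ← Units.val_pow_eq_pow_val, ← map_pow, pow_card_eq_one, map_one, Units.val_one]
  refine (Complex.abs_re_le_norm _).trans ?_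
  rw [norm_neg, cv_inv]
  refine (norm_add_le _ _).trans (le_of_eq ?_)
  rw [norm_inv, h1]
  norm_num

include hK in
/-- The inequality of `ExtTable`. -/
theorem table_ineq (D : LData PS) (hDq : D.q = Fintype.card F) (hδ : D.δ = -1) [CharP F 3] [Fintype D.Y]
    (θ : IrrCharacter PS) (h : PS) (hh : orderOf h = 3) :
    let N : ℝ := ((∑ y : D.Y, ((θ : PS → ℂ) y + (θ : PS → ℂ) (D.u * y))).re) / (2 * D.r)
    let A : ℝ := ((∑ y : D.Y, (θ : PS → ℂ) (D.u * y)).re) / D.r
    let J : ℝ := ((θ : PS → ℂ) D.u).re - A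
    2 * (D.r : ℝ) * (N + 4 * ((θ : PS → ℂ) h).re) + (8 * (D.r : ℝ) - 3) * |J|
        - (10 * (D.r : ℝ) - 3) * A ≤ 3 * ((θ : PS → ℂ) 1).re := by
  intro N A J
  classical
  haveI : Fact (Nat.Prime 3) := ⟨by norm_num⟩
  have hq := D.hq
  rw [hDq, hδ] at hq
  have hr3 := D.r3
  have hq' : Fintype.card F + 1 = 4 * D.r := by omega
  have hodd : Odd (Fintype.card F) := ⟨2 * D.r - 1, by omega⟩
  have hqc : (Fintype.card F : ℂ) = 4 * (D.r : ℂ) - 1 := by
    have := congrArg (Nat.cast (R := ℂ)) hq'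
    push_cast at this
    linear_combination this
  obtain ⟨θ, hθ⟩ := θ
  change 2 * (D.r : ℝ) * (N + 4 * (θ h).re) + (8 * (D.r : ℝ) - 3) * |J| - (10 * (D.r : ℝ) - 3) * A ≤ 3 * (θ 1).re
  -- the torus
  obtain ⟨c, hc⟩ := exists_torusHom K hK D hDq hδ
  set ψ : U1 F K →* PS := (MulAut.conj c).toMonoidHom.comp ((mkP).comp (ellS K hK)) with hψ
  obtain ⟨h1, h2, hk⟩ := hc ψ fun _ => rfl
  obtain ⟨φ0, a0, b0, x0, g1, g2, huniq, -⟩ := exists_pairD K hK hodd
  have hm : Fintype.card (U1 F K) = 2 * (2 * D.r) := by rw [card_U1 K hK]; omega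
  have hiff : ∀ l, cv φ0 l = 1 ↔ l ^ (2 * D.r) = 1 := quad_apply_eq_one_iff hm g1 g2
  have hsq : ∀ l : U1 F K, l * l = 1 → mkP (ellS K hK l) = 1 := fun l hl => by
    obtain ⟨z, hz⟩ := (sq_eq_one_iff_mem_range K l).1 hl
    exact mk_eq_one.2 ⟨z, by rw [toGL_ellS, ← hz, ell_emb]⟩
  have h0 : ∀ l : U1 F K, l * l = 1 → cv φ0 l = 1 := fun l hl => (hiff l).2 (by rw [pow_mul, pow_two, hl, one_pow])
  have hyP : ∀ l, ψ l ∈ D.Y → cv φ0 l = 1 := fun l hl => (hiff l).2 (by
    have h3 : l ^ D.r ∈ ψ.ker := by rw [MonoidHom.mem_ker, map_pow, D.Y_pow hl]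
    have h4 := pow_card_eq_one' (x := (⟨_, h3⟩ : ψ.ker))
    rw [hk] at h4
    rw [mul_comm, pow_mul]
    exact congrArg Subtype.val h4)
  have hnP : ∀ l, ψ l ∉ D.Y → cv φ0 l = -1 := fun l hl => by
    rcases quad_iff hm g1 g2 l with ⟨-, e⟩ | ⟨e, -⟩
    · exfalso
      obtain ⟨y, hy, h' | h'⟩ := h1 l
      · exact hl (h' ▸ hy)
      have h6 : (l ^ D.r) * (l ^ D.r) = 1 := by rw [← pow_add, ← two_mul, e]
      have h5 : ψ (l ^ D.r) = 1 := by
        show c * mkP (ellS K hK (l ^ D.r)) * c⁻¹ = 1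
        rw [hsq _ h6, mul_one, mul_inv_cancel]
      rw [map_pow, h', (show Commute D.u y from D.u_Y y hy).mul_pow, D.Y_pow hy, mul_one] at h5
      obtain ⟨j, hj⟩ := D.r_odd
      rw [hj, pow_succ, pow_mul, pow_two, D.u2, one_pow, one_mul] at h5
      exact D.u1 h5
    · exact e
  -- the lift
  set χ : SS → ℂ := fun s => θ (mkP s) with hχdef
  have hχ : IsIrrCharacter SS χ := IsIrr.comp_surjective _ (QuotientGroup.mk'_surjective _) hθ
  have hθc := IsIrr.classFun hθ
  have hθψ : ∀ l, θ (ψ l) = χ (ellS K hK l) := fun l => hθc _ c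
  have hcentre : ∀ l : U1 F K, l * l = 1 → χ (ellS K hK l) = χ 1 := fun l hl => by
    simp only [hχdef, hsq l hl, map_one]
  have hone : θ 1 = χ 1 := by simp only [hχdef, map_one]
  -- the element of order three
  obtain ⟨s0, hs0⟩ := QuotientGroup.mk'_surjective (Subgroup.center SS) h
  set s := s0 ^ 4 with hs
  have hsh : mkP s = h := by
    rw [hs, map_pow, hs0, show (4 : ℕ) = 3 + 1 by norm_num, pow_succ, ← hh, pow_orderOf_eq_one, one_mul]
  have hs3 : s ^ 3 = 1 := by
    have h3 : mkP (s0 ^ 3) = 1 := by rw [map_pow, hs0, ← hh, pow_orderOf_eq_one]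
    obtain ⟨z, hz⟩ := mk_eq_one.1 h3
    refine SpecialLinearGroup.toGL_injective ?_
    show tg (s ^ 3) = tg 1
    have hzz : z * z = 1 := by
      refine Units.ext ?_
      have := dt_toGL (s0 ^ 3)
      rw [hz, dt_sc] at this
      exact this
    rw [map_one, hs, ← pow_mul, show 4 * 3 = 3 * 4 by norm_num, pow_mul, map_pow, hz, show (sc z : GG) = di z z from rfl, di_pow,
      show (4 : ℕ) = 2 * 2 by norm_num, pow_mul, pow_two z, hzz, one_pow, di_self, sc_one]
  have hs1 : s ≠ 1 := fun e => by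
    rw [← hsh, e, map_one, orderOf_one] at hh
    omega
  have hsun : IsConj (un 1 : GG) (tg s) := conj_un_of_orderOf (p := 3) (orderOf_eq_prime hs3 hs1)
  -- reduction to the five numbers
  obtain ⟨lu, hlu⟩ := (h2 1 (one_mem _)).2
  rw [mul_one] at hlu
  have hu : D.u ∉ D.Y := fun h => D.u1 (D.Y_inv h D.u2)
  have hlu0 : cv φ0 lu = -1 := hnP lu (hlu.symm ▸ hu)
  have hlu2 : ¬ lu * lu = 1 := fun e => by
    have := h0 lu e
    rw [hlu0] at this
    norm_num at this
  obtain ⟨e1, e2⟩ := split_torus K D h1 h2 hk hyP hnP θ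
  have key : ∀ (f : U1 F K → ℂ) (E : ℂ) (S0 S1 ju : ℝ) (T d : ℝ),
      (∀ l : U1 F K, ¬ l * l = 1 → χ (ellS K hK l) = f l) → (∀ l : U1 F K, l * l = 1 → χ 1 = f l + E) →
      (∑ l : U1 F K, f l) + 2 * E = S0 → (∑ l : U1 F K, cv φ0 l * f l) + 2 * E = S1 →
      (f lu).re = ju → (χ s).re = T → (χ 1).re = d →
      2 * (D.r : ℝ) * (S0 / 2 / (2 * D.r) + 4 * T) + (8 * (D.r : ℝ) - 3) * |ju - (S0 - S1) / 4 / D.r|
        - (10 * (D.r : ℝ) - 3) * ((S0 - S1) / 4 / D.r) ≤ 3 * d →
      2 * (D.r : ℝ) * (N + 4 * (θ h).re) + (8 * (D.r : ℝ) - 3) * |J| - (10 * (D.r : ℝ) - 3) * A ≤ 3 * (θ 1).re := by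
    intro f E S0 S1 ju T d hf hfc hS0 hS1 hju hT hd hineq
    obtain ⟨t1, t2⟩ := torus_sums K hK hq' (χ := χ) (f := f) (E := E) (fun l => by
      by_cases hl : l * l = 1
      · rw [if_pos hl, hcentre l hl, hfc l hl]
      · rw [if_neg hl, add_zero, hf l hl]) (φ0 := φ0) h0
    rw [hS0] at t1
    rw [hS1] at t2
    simp only [hθψ] at e1 e2
    rw [t1] at e1
    rw [t1, t2] at e2
    have eN : (∑ y : D.Y, (θ y + θ (D.u * y))).re = S0 / 2 := by
      have := congrArg Complex.re e1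
      simp only [Complex.mul_re, Complex.re_ofNat, Complex.im_ofNat, zero_mul, sub_zero, Complex.ofReal_re] at this
      linarith
    have eA : (∑ y : D.Y, θ (D.u * y)).re = (S0 - S1) / 4 := by
      have := congrArg Complex.re e2
      simp only [Complex.mul_re, Complex.re_ofNat, Complex.im_ofNat, zero_mul, sub_zero, Complex.sub_re,
        Complex.ofReal_re] at this
      linarith
    refine ineq_arith _ _ _ _ _ _ hineq ?_ ?_ ?_ ?_ ?_
    · simp only [N, eN]
    · simp only [A, eA]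
    · simp only [J, A, eA]
      rw [← hlu, hθψ, hf lu hlu2, hju]
    · rw [← hsh]; exact hT
    · rw [hone, hd]
  have hrR : (3 : ℝ) ≤ D.r := by exact_mod_cast hr3
  have hr0 : (D.r : ℝ) ≠ 0 := by linarith
  have hcard : ((Fintype.card (U1 F K) : ℕ) : ℂ) = 4 * (D.r : ℂ) := by
    rw [hm]; push_cast; ring
  have hsum0 : ∑ l : U1 F K, cv φ0 l = 0 := sum_cv_ne g2
  have hsq0 : ∀ l, cv φ0 l * cv φ0 l = 1 := fun l => by
    rcases quad_iff hm g1 g2 l with ⟨e, -⟩ | ⟨e, -⟩ <;> rw [e] <;> norm_num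
  have hlq : ∀ l : U1 F K, ¬ l * l = 1 → (l : Kˣ) ∉ (emb (F := F) K).range := fun l hl h =>
    hl ((sq_eq_one_iff_mem_range K l).2 h)
  have hconj : ∀ l : U1 F K, IsConj (ell (F := F) K hK (l : Kˣ)) (tg (ellS K hK l)) := fun l => by
    rw [toGL_ellS]
  have hZ : (-1 : Fˣ) ∈ Z2 F := neg_one_mem_Z2
  have hnegC : χ (ellS K hK (embU K _ hZ)) = χ 1 := hcentre _ (embU_mul_self K _ hZ)
  have hemb : ∀ z (hz : z ∈ Z2 F), tg (ellS K hK (embU K z hz)) = sc z := fun z hz => by
    rw [toGL_ellS, val_embU, ell_emb]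
  obtain ⟨n, -, hcase⟩ := irr_cases_S K hK hχ
  rcases hcase with ⟨-, e⟩ | ⟨-, e⟩ | ⟨-, e⟩ | ⟨-, e⟩ | ⟨-, -, e⟩ | ⟨-, -, e⟩
  · -- the principal character
    refine key (fun _ => 1) 0 (4 * D.r) 0 1 1 1 (fun l _ => by rw [e]) (fun l _ => by rw [e, add_zero])
      ?_ ?_ Complex.one_re (by rw [e]; exact Complex.one_re) (by rw [e]; exact Complex.one_re) ?_
    · rw [Finset.sum_const, Finset.card_univ, nsmul_eq_mul, hcard]; push_cast; ring
    · simp [hsum0]
    · rw [show 1 - (4 * (D.r : ℝ) - 0) / 4 / D.r = 0 by field_simp; ring, abs_zero]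
      field_simp
      nlinarith
  · -- the Steinberg character
    have h1v : χ 1 = 4 * (D.r : ℂ) - 1 := by rw [e, vSS_one, hqc]
    refine key (fun _ => -1) (4 * D.r) (4 * D.r) (8 * D.r) (-1) 0 (4 * D.r - 1) (fun l hl => ?_)
      (fun l _ => by rw [h1v]; ring) ?_ ?_ (by simp) ?_ (by rw [h1v]; simp) ?_
    · rw [e, vSS, resS_of_conj classFun_vS (hconj l), vS_ell K hK (hlq l hl)]
    · rw [Finset.sum_const, Finset.card_univ, nsmul_eq_mul, hcard]; push_cast; ring
    · simp only [mul_neg, mul_one, Finset.sum_neg_distrib, hsum0]; push_cast; ring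
    · rw [e, vSS, resS_of_conj classFun_vS hsun, vS_un]; simp
    · rw [show -1 - (4 * (D.r : ℝ) - 8 * D.r) / 4 / D.r = 0 by field_simp; ring, abs_zero]
      field_simp
      nlinarith
  · -- principal series
    obtain ⟨α, -, e⟩ := mem_famC.1 e
    have h1v : χ 1 = 4 * (D.r : ℂ) := by rw [e, vIS_one, hqc]; ring
    refine key (fun _ => 0) (4 * D.r) (8 * D.r) (8 * D.r) 0 1 (4 * D.r) (fun l hl => ?_)
      (fun l _ => by rw [h1v]; ring) (by simp; ring) (by simp; ring) Complex.zero_re ?_ (by rw [h1v]; simp) ?_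
    · rw [e]; exact vIS_ell K hK α (hlq l hl) (hconj l)
    · rw [e, vIS, resS_of_conj (classFun_vI _ _) hsun, vI_un, cv_one, cv_one]; simp
    · simp only [sub_self, zero_div, abs_zero]
      field_simp
      nlinarith
  · -- discrete series
    obtain ⟨φ, hφ, e⟩ := (mem_famD K hK).1 e
    have h1v : χ 1 = 4 * (D.r : ℂ) - 2 := by rw [e, vDS_one, hqc]; ring
    have hφz : ∀ l : U1 F K, l * l = 1 → cv φ l = 1 := fun l hl => by
      obtain ⟨z, hz, rfl⟩ := (mem_range_iff K l).1 ((sq_eq_one_iff_mem_range K l).1 hl)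
      have h5 := hcentre _ (embU_mul_self K z hz)
      rw [e, vDS_one, vDS, resS_apply, hemb z hz, vD_sc, cv_extU_emb K φ z hz] at h5
      exact (mul_eq_left₀ (by rw [hqc]; intro h6; have := congrArg Complex.re h6; simp at this; linarith)).1 h5
    have hne : φ ≠ φ0 := fun h => hφ (h ▸ g1)
    have hne1 : φ * φ0 ≠ 1 := fun h => hne (by
      refine MonoidHom.ext fun x => ?_
      have a1 := DFunLike.congr_fun h x
      have a2 := DFunLike.congr_fun g1 x
      rw [MonoidHom.mul_apply, MonoidHom.one_apply] at a1 a2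
      exact mul_right_cancel (a1.trans a2.symm))
    have hsφ : ∀ β : U1 F K →* ℂˣ, β ≠ 1 → ∑ l : U1 F K, cv β l⁻¹ = 0 := fun β hβ =>
      (Equiv.sum_comp (Equiv.inv (U1 F K)) fun l => cv β l).trans (sum_cv_ne hβ)
    have hinv0 : ∀ l, cv φ0 l⁻¹ = cv φ0 l := fun l => by
      rw [cv_inv, inv_eq_of_mul_eq_one_right (hsq0 l)]
    refine key (fun l => -(cv φ l + cv φ l⁻¹)) (4 * D.r) (8 * D.r) (8 * D.r) _ (-1) (4 * D.r - 2) (fun l hl => ?_)
      (fun l hl => by rw [h1v, hφz l hl, inv_eq_of_mul_eq_one_right hl, hφz l hl]; ring) ?_ ?_ rfl ?_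
      (by rw [h1v]; simp) ?_
    · rw [e]; exact vDS_ell K hK φ (hlq l hl) (hconj l)
    · rw [Finset.sum_neg_distrib, Finset.sum_add_distrib, sum_cv_ne (ne_one_of_sq_ne hφ),
        hsφ φ (ne_one_of_sq_ne hφ)]
      push_cast; ring
    · have e3 : ∀ l, cv φ0 l * -(cv φ l + cv φ l⁻¹) = -(cv (φ * φ0) l + cv (φ * φ0) l⁻¹) := fun l => by
        rw [cv_mul_hom, cv_mul_hom, hinv0]; ring
      rw [Finset.sum_congr rfl fun l _ => e3 l, Finset.sum_neg_distrib, Finset.sum_add_distrib, sum_cv_ne hne1,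
        hsφ _ hne1]
      push_cast; ring
    · rw [e, vDS, resS_of_conj (classFun_vD K hK _) hsun, vD_un, cv_extU_emb K φ 1 one_mem_Z2,
        hφz _ (embU_mul_self K 1 one_mem_Z2)]
      simp
    · rw [sub_self, zero_div, zero_div, sub_zero]
      have h4 : (8 * (D.r : ℝ) - 3) * |(-(cv φ lu + cv φ lu⁻¹)).re| ≤ (8 * (D.r : ℝ) - 3) * 2 :=
        mul_le_mul_of_nonneg_left (norm_pair K lu φ) (by linarith)
      have h5 : 2 * (D.r : ℝ) * (8 * D.r / 2 / (2 * D.r) + 4 * -1) = -4 * D.r := by field_simp; ring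
      rw [h5]
      linarith
  · -- no halves of the principal series
    exfalso
    obtain ⟨α, b, x, g3, g4, -, hb, -, he, hcx⟩ := e
    have hm' : Fintype.card Fˣ = 2 * (2 * D.r - 1) := by rw [Fintype.card_units]; omega
    have hα : cv α (-1 : Fˣ) = -1 := by
      rcases quad_iff hm' g3 g4 (-1 : Fˣ) with ⟨-, e'⟩ | ⟨e', -⟩
      · exfalso
        rw [(show Odd (2 * D.r - 1) from ⟨D.r - 1, by omega⟩).neg_one_pow] at e'
        have := congrArg Units.val e'
        rw [Units.val_neg, Units.val_one] at this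
        exact Ring.neg_one_ne_one_of_char_ne_two (by rw [ringChar.eq F 3]; norm_num) this
      · exact e'
    set z := ellS K hK (embU K _ hZ)
    have v1 : χ z = vIS α z / 2 := half_value (IsIrr.classFun hb) he hcx (hemb _ hZ ▸ fullDet_sc _)
    have h6 : vIS α z = -((Fintype.card F : ℂ) + 1) := by
      rw [vIS, resS_apply, hemb _ hZ, vI_sc, hα, cv_one_hom]; ring
    have h7 := congrFun he 1
    rw [vIS_one, Pi.add_apply, one_eq_of_conj hcx] at h7
    rw [hnegC, h6, hqc] at v1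
    rw [hqc] at h7
    have h8 : (D.r : ℂ) = 0 := by linear_combination (1 / 8 : ℂ) * h7 + (1 / 4 : ℂ) * v1
    exact hr0 (by exact_mod_cast h8)
  · -- halves of the discrete series
    obtain ⟨φ, b, x, g3, g4, ha', hb', hab, he, hcx⟩ := e
    obtain rfl : φ = φ0 := huniq φ g3 g4
    have hval : ∀ {y : SS}, FullDet (tg y) → χ y = vDS K hK φ y / 2 := fun hy =>
      (pair_value ha' hb' he hcx hy).1
    have h1v : χ 1 = 2 * (D.r : ℂ) - 1 := by
      rw [hval (by rw [map_one, ← sc_one]; exact fullDet_sc 1), vDS_one, hqc]; ring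
    have hinv0 : ∀ l, cv φ l⁻¹ = cv φ l := fun l => by
      rw [cv_inv, inv_eq_of_mul_eq_one_right (hsq0 l)]
    refine key (fun l => -cv φ l) (2 * D.r) (4 * D.r) 0 1 (-1 / 2) (2 * D.r - 1) (fun l hl => ?_)
      (fun l hl => by rw [h1v, h0 l hl]; ring) ?_ ?_ (by rw [hlu0]; simp) ?_ (by rw [h1v]; simp) ?_
    · rw [hval (by rw [toGL_ellS]; exact fullDet_ell K hK _), vDS_ell K hK φ (hlq l hl) (hconj l), hinv0]
      ring
    · rw [Finset.sum_neg_distrib, hsum0]; push_cast; ring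
    · simp only [mul_neg, hsq0, Finset.sum_neg_distrib, Finset.sum_const, Finset.card_univ, nsmul_eq_mul, mul_one,
        hcard]
      push_cast; ring
    · have hsw := (un_swap hodd ha' hb' hab (he ▸ invS_vDS K hK φ) hcx one_mem_Z2 hsun 5 (by decide) ?_).1
      swap
      · rw [show ((5 : ℕ) : F) = -1 from ?_]
        · rw [FiniteField.isSquare_neg_one_iff]
          omega
        · have h3' : ((3 : ℕ) : F) = 0 := CharP.cast_eq_zero F 3
          push_cast at h3' ⊢
          linear_combination (2 : F) * h3'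
      have hinv : s ^ 5 = s⁻¹ := eq_inv_of_mul_eq_one_left (by
        rw [← pow_succ, show 5 + 1 = 3 * 2 by norm_num, pow_mul, hs3, one_pow])
      rw [hinv, IsIrr.apply_inv hχ] at hsw
      have h9 := congrFun he s
      rw [Pi.add_apply, ← hsw, vDS, resS_of_conj (classFun_vD K hK _) hsun, vD_un, cv_extU_emb K φ 1 one_mem_Z2,
        h0 _ (embU_mul_self K 1 one_mem_Z2)] at h9
      have := congrArg Complex.re h9
      simp only [Complex.neg_re, Complex.one_re, Complex.add_re, Complex.conj_re] at this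
      linarith
    · rw [show 1 - (4 * (D.r : ℝ) - 0) / 4 / D.r = 0 by field_simp; ring, abs_zero]
      field_simp
      nlinarith

open Subgroup in
/-- The table hypotheses hold for `L2(3^f)`, `3^f = 3 (mod 8)`. -/
theorem exists_extTable (D : LData PS) (hDq : D.q = Fintype.card F) (hp : D.p = 3) (hδ : D.δ = -1) :
    ExtTable D := by
  classical
  haveI : Fact (Nat.Prime 3) := ⟨by norm_num⟩
  haveI : CharP F 3 := char_three (f := D.f) (by rw [← hDq, D.hf, hp]) (by norm_num)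
  obtain ⟨K, _, _, _, _, hK⟩ := exists_model F
  have hq := D.hq
  rw [hDq, hδ] at hq
  have hq' : Fintype.card F + 1 = 4 * D.r := by omega
  have hr3 := D.r3
  have hodd : Odd (Fintype.card F) := ⟨2 * D.r - 1, by omega⟩
  set DD := Dickson.pslData (F := F) 3 with hDD
  have hcardP := D.card_P
  rw [hDq] at hcardP
  have hU : ∀ U : Sylow 3 PS, ∃ a : PS, a ≠ 1 ∧ a ^ 3 = 1 ∧ (U : Subgroup PS) = Dickson.tor a := by
    intro U
    have h3 : 3 ∣ Nat.card PS := by
      have : 3 ∣ Nat.card PS * 2 := by rw [hcardP]; exact Dvd.dvd.mul_right (Dickson.dvd_card_field 3) _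
      exact (Nat.Coprime.dvd_of_dvd_mul_right (by norm_num) this)
    have hne : (U : Subgroup PS) ≠ ⊥ := U.ne_bot_of_dvd_card h3
    obtain ⟨a, haU, ha⟩ := (Subgroup.ne_bot_iff_exists_ne_one).1 hne |>.elim fun a ha =>
      (⟨a, a.2, fun e => ha (Subtype.ext e)⟩ : ∃ a, a ∈ (U : Subgroup PS) ∧ a ≠ 1)
    obtain ⟨h1, h2⟩ := DD.sylow_eq (by norm_num) U haU ha
    exact ⟨a, ha, h1, h2⟩
  have hN : ∀ U : Sylow 3 PS,
      Nat.card (normalizer ((U : Subgroup PS) : Set PS)) * 2 = Fintype.card F * (Fintype.card F - 1) := by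
    intro U
    obtain ⟨a, ha, ha3, e⟩ := hU U
    have := Dickson.card_borel 3 ha ha3
    rw [del_eq_two hodd] at this
    rw [e]
    exact this
  have hsyl : Nat.card (Sylow 3 PS) = Fintype.card F + 1 := by
    obtain ⟨U⟩ : Nonempty (Sylow 3 PS) := inferInstance
    rw [U.card_eq_index_normalizer]
    have h1 := Subgroup.card_mul_index (normalizer ((U : Subgroup PS) : Set PS))
    have h2 := hN U
    refine Nat.eq_of_mul_eq_mul_left (show 0 < Fintype.card F * (Fintype.card F - 1) from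
      Nat.mul_pos Fintype.card_pos (by omega)) ?_
    rw [← Nat.mul_assoc] at hcardP
    rw [← hcardP, ← h2, ← h1]
    exact mul_right_comm _ _ _
  have hoddN : ∀ U : Sylow 3 PS, Odd (Nat.card (normalizer ((U : Subgroup PS) : Set PS))) := fun U => by
    have h2 := hN U
    rw [show Fintype.card F - 1 = 2 * (2 * D.r - 1) by omega, mul_comm 2 (2 * D.r - 1), ← Nat.mul_assoc] at h2
    rw [Nat.eq_of_mul_eq_mul_right two_pos h2]
    exact hodd.mul ⟨D.r - 1, by omega⟩
  refine ⟨by rw [hDq]; exact hsyl, fun U U' hne => ?_, hoddN, ?_, ?_⟩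
  · rw [eq_bot_iff_forall]
    rintro x ⟨hx, hx'⟩
    by_contra hx1
    exact hne (Sylow.ext ((DD.sylow_eq (by norm_num) U hx hx1).2.trans
      (DD.sylow_eq (by norm_num) U' hx' hx1).2.symm))
  · -- the two classes
    have hord : ∀ {a : PS}, orderOf a = 3 → a ≠ 1 ∧ a ^ 3 = 1 := fun {a} h =>
      ⟨fun e => by rw [e, orderOf_one] at h; omega, by rw [← h, pow_orderOf_eq_one]⟩
    have hclass : ∀ a : PS, orderOf a = 3 →
        2 * Nat.card (ConjClasses.mk a).carrier = (Fintype.card F + 1) * (Fintype.card F - 1) := by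
      intro a ha
      obtain ⟨ha1, ha3⟩ := hord ha
      have hC : centralizer ({a} : Set PS) = Dickson.tor a := Dickson.centralizer_eq_tor 3 ha1 (Or.inl ha3)
      have h1 := Subgroup.card_mul_index (centralizer ({a} : Set PS))
      rw [show Nat.card (centralizer ({a} : Set PS)) = Fintype.card F by
        rw [hC, Dickson.card_tor_uni 3 ha1 ha3]] at h1
      rw [show Nat.card (ConjClasses.mk a).carrier = (centralizer ({a} : Set PS)).index from ?_]
      · refine Nat.eq_of_mul_eq_mul_left (Fintype.card_pos (α := F)) ?_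
        rw [show Fintype.card F * (2 * (centralizer ({a} : Set PS)).index) =
          Fintype.card F * (centralizer ({a} : Set PS)).index * 2 by ring, h1, hcardP]
        ring
      · rw [← ConjAct.orbit_eq_carrier_conjClasses, Nat.card_coe_set_eq, ← MulAction.index_stabilizer,
          ConjAct.stabilizer_eq_centralizer]
        rfl
    intro a b ha hb
    obtain ⟨ha1, ha3⟩ := hord ha
    have hnr : ¬ IsConj a a⁻¹ := by
      intro hc
      obtain ⟨g, hg⟩ := isConj_iff.1 hc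
      obtain ⟨U, hUe⟩ := DD.exists_sylow (by norm_num) ha1 ha3
      have hgN : g ∈ normalizer ((U : Subgroup PS) : Set PS) := by
        rw [hUe]
        exact (DD.mem_normalizer_iff ha1).2 (hg.symm ▸ inv_mem (DD.self a))
      have h2 : g ^ 2 * a * (g ^ 2)⁻¹ = a := by
        rw [pow_two, show g * g * a * (g * g)⁻¹ = g * (g * a * g⁻¹) * g⁻¹ by group, hg,
          show g * a⁻¹ * g⁻¹ = (g * a * g⁻¹)⁻¹ by group, hg, inv_inv]
      obtain ⟨j, hj⟩ := (hoddN U).of_dvd_nat (Subgroup.orderOf_dvd_natCard _ hgN)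
      have hgp : g = (g ^ 2) ^ (j + 1) := by
        rw [← pow_mul, show 2 * (j + 1) = orderOf g + 1 by omega, pow_succ, pow_orderOf_eq_one, one_mul]
      rw [hgp, ((show Commute (g ^ 2) a from mul_inv_eq_iff_eq_mul.1 h2).pow_left (j + 1)).eq,
        mul_inv_cancel_right] at hg
      have ha2 : a ^ 2 = 1 := by rw [pow_two]; nth_rewrite 1 [hg]; exact inv_mul_cancel a
      have := orderOf_le_of_pow_eq_one two_pos ha2
      omega
    by_contra hne
    push Not at hne
    obtain ⟨hne1, hne2⟩ := hne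
    -- count the elements of order three
    obtain ⟨U⟩ : Nonempty (Sylow 3 PS) := inferInstance
    have hcnt := DD.card_uni (by norm_num) U
    obtain ⟨a', ha', ha3', eU⟩ := hU U
    rw [eU, Dickson.card_tor_uni 3 ha' ha3', hsyl] at hcnt
    have hai : orderOf a⁻¹ = 3 := by rw [orderOf_inv, ha]
    let A3 : Finset PS := Finset.univ.filter fun x => x ≠ 1 ∧ x ^ 3 = 1
    let cl : PS → Finset PS := fun x => Finset.univ.filter fun y => IsConj x y
    have hclA : ∀ x, orderOf x = 3 → ((cl x).card = Nat.card (ConjClasses.mk x).carrier ∧ cl x ⊆ A3) := by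
      intro x hx
      refine ⟨?_, fun y hy => ?_⟩
      · rw [← Nat.card_eq_finsetCard]
        refine Nat.card_congr (Equiv.subtypeEquivRight fun y => ?_)
        rw [Finset.mem_filter, ConjClasses.mem_carrier_iff_mk_eq, ConjClasses.mk_eq_mk_iff_isConj, isConj_comm]
        simp
      · simp only [cl, A3, Finset.mem_filter, Finset.mem_univ, true_and] at hy ⊢
        obtain ⟨g, rfl⟩ := isConj_iff.1 hy
        obtain ⟨hx1, hx3⟩ := hord hx
        exact ⟨fun e => hx1 (conj_eq_one_iff.1 e), by rw [conj_pow, hx3]; group⟩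
    have hd : Disjoint (cl a) (cl a⁻¹) := Finset.disjoint_left.2 fun y hy hy' => by
      simp only [cl, Finset.mem_filter, Finset.mem_univ, true_and] at hy hy'
      exact hnr (hy.trans hy'.symm)
    have hbne : b ∉ cl a ∪ cl a⁻¹ := by
      simp only [cl, Finset.mem_union, Finset.mem_filter, Finset.mem_univ, true_and]
      rintro (h | h)
      · exact hne1 h
      · obtain ⟨g, hg⟩ := isConj_iff.1 h
        exact hne2 (isConj_iff.2 ⟨g, by rw [← hg]; group⟩)
    have hbA : b ∈ A3 := by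
      simp only [A3, Finset.mem_filter, Finset.mem_univ, true_and]
      exact hord hb
    have hlt : (cl a ∪ cl a⁻¹).card < A3.card := Finset.card_lt_card
      (Finset.ssubset_iff_of_subset (Finset.union_subset (hclA a ha).2 (hclA a⁻¹ hai).2) |>.2 ⟨b, hbA, hbne⟩)
    rw [Finset.card_union_of_disjoint hd, (hclA a ha).1, (hclA a⁻¹ hai).1] at hlt
    have hA3 : A3.card = (Fintype.card F + 1) * (Fintype.card F - 1) := by
      rw [← hcnt, Nat.card_eq_fintype_card, Fintype.card_subtype]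
    have e1 := hclass a ha
    have e2 := hclass a⁻¹ hai
    omega
  · intro θ h hh
    exact table_ineq K hK D hDq hδ θ h hh

end Cfsg.Agent.Invol.JankoWard.PSL
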