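import Cfsg.Agent.Lib.Invol.JankoWard.Interface
import Cfsg.Agent.Lib.Classical.DicksonCentral
import Cfsg.Agent.Lib.Fus.PSLTwo

/-!
# The data of `L2(q)`, `q = 3, 5 (mod 8)`

The subgroups named in `LData`, from the partition of `PSL₂(F)`.
-/

set_option autoImplicit false
set_option linter.unusedSectionVars false
set_option linter.style.haveILetI false

namespace Cfsg.Agent.Invol.JankoWard.PSL

open Subgroup Cfsg.Agent.Dickson Cfsg.Agent.Grp.SL2 Cfsg.Agent.PSL2Spec

variable {F : Type} [Field F] [Fintype F]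

local notation "PSL₂" => Matrix.ProjectiveSpecialLinearGroup (Fin 2) F

theorem odd_of_mod (h8 : Fintype.card F % 8 = 3 ∨ Fintype.card F % 8 = 5) :
    Odd (Fintype.card F) := by
  rw [Nat.odd_iff]; omega

theorem del_eq_two (hodd : Odd (Fintype.card F)) : del F = 2 := by
  rcases del_cases F with ⟨-, he⟩ | ⟨hd, -⟩
  · exact absurd he (Nat.not_even_iff_odd.mpr hodd)
  · exact hd

/-- The sign `δ` with `q = 4r + δ`, `r` odd. -/
def dlt (F : Type) [Fintype F] : ℤ := if Fintype.card F % 8 = 5 then 1 else -1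

/-- The odd part of the torus at an involution. -/
def rr (F : Type) [Fintype F] : ℕ :=
  if Fintype.card F % 8 = 5 then (Fintype.card F - 1) / 4 else (Fintype.card F + 1) / 4

theorem dlt_cases (h8 : Fintype.card F % 8 = 3 ∨ Fintype.card F % 8 = 5) :
    (dlt F = 1 ∧ Fintype.card F % 8 = 5 ∧ Fintype.card F = 4 * rr F + 1) ∨
      (dlt F = -1 ∧ Fintype.card F % 8 = 3 ∧ Fintype.card F + 1 = 4 * rr F) := by
  rcases h8 with h | h
  · refine Or.inr ⟨if_neg (by omega), h, ?_⟩
    rw [rr, if_neg (by omega)]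
    omega
  · refine Or.inl ⟨if_pos h, h, ?_⟩
    rw [rr, if_pos h]
    omega

variable (h8 : Fintype.card F % 8 = 3 ∨ Fintype.card F % 8 = 5)
include h8

theorem card_eq : (Fintype.card F : ℤ) = 4 * (rr F : ℤ) + dlt F := by
  rcases dlt_cases h8 with ⟨hd, -, hq⟩ | ⟨hd, -, hq⟩ <;> rw [hd] <;> omega

theorem rr_odd : Odd (rr F) := by
  rw [Nat.odd_iff]
  rcases dlt_cases h8 with ⟨-, h, hq⟩ | ⟨-, h, hq⟩ <;> omega

variable (p : ℕ) [hp : Fact p.Prime] [CharP F p]
include hp

theorem p_not_dvd_rr : ¬ p ∣ rr F := fun h => by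
  have hq : p ∣ Fintype.card F := dvd_card_field p
  have h1 : p ∣ 1 := by
    rcases dlt_cases h8 with ⟨-, -, e⟩ | ⟨-, -, e⟩
    · rw [e] at hq
      exact (Nat.dvd_add_right (dvd_mul_of_dvd_right h 4)).1 hq
    · have h2 : p ∣ Fintype.card F + 1 := e ▸ dvd_mul_of_dvd_right h 4
      exact (Nat.dvd_add_right hq).1 h2
  exact hp.out.one_lt.ne' (Nat.dvd_one.1 h1)

/-- The torus at an involution has order `2r`. -/
theorem card_tor_inv {u : PSL₂} (hu : orderOf u = 2) : Nat.card (tor u) = 2 * rr F := by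
  obtain ⟨-, h1, h3⟩ := card_tor_involution p (odd_of_mod h8) hu
  rcases dlt_cases h8 with ⟨-, h, e⟩ | ⟨-, h, e⟩
  · rw [h1 (by omega)]; omega
  · rw [h3 (by omega)]; omega

/-- A centraliser of odd order belongs to an odd torus or to a unipotent subgroup. -/
theorem cent_odd {x : PSL₂} (hx : x ≠ 1)
    (hodd : Odd (Nat.card (centralizer ({x} : Set PSL₂)))) :
    (Nat.card (centralizer ({x} : Set PSL₂)) : ℤ) = 2 * (rr F : ℤ) + dlt F ∨
      Nat.card (centralizer ({x} : Set PSL₂)) = Fintype.card F := by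
  by_cases hxp : x ^ p = 1
  · exact Or.inr (by rw [centralizer_eq_tor p hx (Or.inl hxp), card_tor_uni p hx hxp])
  left
  have h2 : x * x ≠ 1 := fun e => by
    have ho : orderOf x = 2 := orderOf_eq_prime (by rw [pow_two, e]) hx
    have hd := Subgroup.orderOf_dvd_natCard (centralizer ({x} : Set PSL₂))
      (mem_centralizer_singleton_iff.2 rfl)
    rw [ho] at hd
    exact Nat.not_even_iff_odd.2 hodd (even_iff_two_dvd.2 hd)
  rw [centralizer_eq_tor p hx (Or.inr h2)] at hodd ⊢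
  have hdel := del_eq_two (F := F) (odd_of_mod h8)
  rcases card_tor_semi p hx hxp with e | e <;> rw [e, hdel] at hodd ⊢ <;> rw [Nat.odd_iff] at hodd <;>
    rcases dlt_cases h8 with ⟨hd, h, hq⟩ | ⟨hd, h, hq⟩ <;> rw [hd] <;> omega

/-- The data exist. -/
theorem exists_lData (h5 : 5 < Fintype.card F) :
    ∃ D : LData PSL₂, D.q = Fintype.card F ∧ D.r = rr F ∧ D.δ = dlt F ∧ D.p = p := by
  classical
  have hodd := odd_of_mod h8
  have hdel := del_eq_two (F := F) hodd
  obtain ⟨x, y, hxy⟩ := exists_quat (F := F) hodd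
  have h2F := two_ne_zero_of_odd_card hodd
  set u : PSL₂ := proj x with hu_def
  set w : PSL₂ := proj y with hw_def
  have hu1 : u ≠ 1 := Quat.proj_ne_one h2F hxy.xx
  have hu2 : u * u = 1 := Quat.sq_proj hxy.xx
  have hw1 : w ≠ 1 := Quat.proj_ne_one h2F hxy.yy
  have hw2 : w * w = 1 := Quat.sq_proj hxy.yy
  have huw : u ≠ w := hxy.ne h2F
  have hcomm : u * w = w * u := hxy.comm.symm
  have huo : orderOf u = 2 := orderOf_eq_prime (by rw [pow_two, hu2]) hu1
  obtain ⟨-, hup, -⟩ := involution_semi p hodd huo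
  set D := pslData (F := F) p with hD
  obtain ⟨g, hg1, hgp, hgo, hgt⟩ := exists_generator p hu1 hup
  have hr := rr_odd h8
  rw [card_tor_inv h8 p huo] at hgo
  have hcent : centralizer ({u} : Set PSL₂) = normalizer (tor u : Set PSL₂) :=
    centralizer_involution p hu1 hup hu2
  have hgT : g ∈ tor u := hgt ▸ D.self g
  have hzT : zpowers g = tor u := by
    refine Subgroup.eq_of_le_of_card_ge (zpowers_le.2 hgT) ?_
    rw [Nat.card_zpowers, hgo, card_tor_inv h8 p huo]
  have hcard : Nat.card (zpowers (g ^ 2)) = rr F := by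
    rw [Nat.card_zpowers, orderOf_pow' g two_ne_zero, hgo, Nat.gcd_comm, Nat.gcd_mul_right_right,
      Nat.mul_div_cancel_left _ two_pos]
  have hYle : zpowers (g ^ 2) ≤ tor u := zpowers_le.2 (pow_mem hgT _)
  have hYpow : ∀ z ∈ zpowers (g ^ 2), z ^ rr F = 1 := fun z hz =>
    orderOf_dvd_iff_pow_eq_one.1 (hcard ▸ Subgroup.orderOf_dvd_natCard _ hz)
  -- the torus is `Y ∪ u Y`
  have hgr : g ^ rr F = u := by
    obtain ⟨k, hk⟩ := Subgroup.mem_zpowers_iff.1 (hzT ▸ D.self u : u ∈ zpowers g)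
    have h2k : ((2 * rr F : ℕ) : ℤ) ∣ k * 2 := by
      rw [← hgo, orderOf_dvd_iff_zpow_eq_one, zpow_mul, hk, zpow_two, hu2]
    obtain ⟨c, hc⟩ := h2k
    have hc' : k = (rr F : ℤ) * c := by push_cast at hc; linarith
    rcases Int.even_or_odd c with ⟨d, hd⟩ | ⟨d, hd⟩
    · exfalso
      refine hu1 (hk ▸ orderOf_dvd_iff_zpow_eq_one.1 ?_)
      rw [hgo, hc', hd]
      exact ⟨d, by push_cast; ring⟩
    · rw [← hk, hc', hd, ← zpow_natCast]
      symm
      rw [show (rr F : ℤ) * (2 * d + 1) = ((2 * rr F : ℕ) : ℤ) * d + rr F by push_cast; ring,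
        zpow_add, zpow_mul, zpow_natCast g (2 * rr F), ← hgo, pow_orderOf_eq_one, one_zpow, one_mul]
  have hsplit : ∀ z ∈ tor u, ∃ y ∈ zpowers (g ^ 2), z = y ∨ z = u * y := by
    intro z hz
    obtain ⟨k, rfl⟩ := Subgroup.mem_zpowers_iff.1 (hzT.symm ▸ hz : z ∈ zpowers g)
    rcases Int.even_or_odd k with ⟨d, hd⟩ | ⟨d, hd⟩
    · exact ⟨g ^ k, ⟨d, by show (g ^ 2) ^ d = g ^ k; rw [← zpow_natCast g 2, ← zpow_mul]; congr 1; rw [hd]; push_cast; ring⟩, Or.inl rfl⟩
    · obtain ⟨e, he⟩ := hr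
      refine ⟨g ^ (k - rr F), ⟨d - e, ?_⟩, Or.inr ?_⟩
      · show (g ^ 2) ^ (d - (e : ℤ)) = _
        rw [← zpow_natCast g 2, ← zpow_mul]
        congr 1
        rw [hd, he]; push_cast; ring
      · rw [← hgr, ← zpow_natCast g (rr F), ← zpow_add]
        congr 1
        ring
  have huY : ∀ y ∈ zpowers (g ^ 2), u * y = y * u := fun y hy =>
    (D.comm hu1 (D.self u) (hYle hy)).eq
  have hwN : w * u * w⁻¹ ∈ tor u := by
    rw [← hcomm, mul_assoc, mul_inv_cancel, mul_one]
    exact D.self u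
  have hwT : w ∉ tor u := by
    intro h
    obtain ⟨z, hz, e | e⟩ := hsplit w h
    · have := hYpow z hz
      rw [← e] at this
      obtain ⟨d, hd⟩ := hr
      rw [hd, pow_succ, pow_mul, pow_two, hw2, one_pow, one_mul] at this
      exact hw1 this
    · have hz2 : z * z = 1 := by
        have : z = u * w := by rw [e, ← mul_assoc, hu2, one_mul]
        rw [this, mul_assoc, ← mul_assoc w u, ← hcomm, mul_assoc, hw2, mul_one, hu2]
      have := hYpow z hz
      obtain ⟨d, hd⟩ := hr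
      rw [hd, pow_succ, pow_mul, pow_two, hz2, one_pow, one_mul] at this
      exact huw (by rw [e, this, mul_one])
  have hwY : ∀ y ∈ zpowers (g ^ 2), w * y * w⁻¹ = y⁻¹ := fun y hy =>
    (D.semi_flip hu1 hup hwN hwT).2 y (hYle hy)
  have hcentu : ∀ z : PSL₂, z * u = u * z →
      ∃ y ∈ zpowers (g ^ 2), z = y ∨ z = u * y ∨ z = w * y ∨ z = u * w * y := by
    intro z hz
    by_cases hzT' : z ∈ tor u
    · obtain ⟨y, hy, e | e⟩ := hsplit z hzT'
      · exact ⟨y, hy, Or.inl e⟩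
      · exact ⟨y, hy, Or.inr (Or.inl e)⟩
    · have hzN : z * u * z⁻¹ ∈ tor u := by
        rw [hz, mul_assoc, mul_inv_cancel, mul_one]; exact D.self u
      obtain ⟨y, hy, e | e⟩ := hsplit (w * z) (D.semi_mul hu1 hup hwN hwT hzN hzT')
      · exact ⟨y, hy, Or.inr (Or.inr (Or.inl (by rw [← e, ← mul_assoc, hw2, one_mul])))⟩
      · refine ⟨y, hy, Or.inr (Or.inr (Or.inr ?_))⟩
        rw [hcomm, mul_assoc w u y, ← e, ← mul_assoc, hw2, one_mul]
  have hcentY : ∀ y ∈ zpowers (g ^ 2), y ≠ 1 → ∀ z : PSL₂, z * y = y * z →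
      ∃ y' ∈ zpowers (g ^ 2), z = y' ∨ z = u * y' := by
    intro y hy hy1 z hz
    have hy2 : y * y ≠ 1 := fun e => by
      have := hYpow y hy
      obtain ⟨d, hd⟩ := hr
      rw [hd, pow_succ, pow_mul, pow_two, e, one_pow, one_mul] at this
      exact hy1 this
    have hz' : z ∈ centralizer ({y} : Set PSL₂) := mem_centralizer_singleton_iff.2 hz
    rw [centralizer_eq_tor p hy1 (Or.inr hy2)] at hz'
    have hT : tor y = tor u := D.same hu1 (hYle hy) hy1
    exact hsplit z (hT ▸ hz')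
  have hcardP : Nat.card PSL₂ * 2 =
      Fintype.card F * ((Fintype.card F - 1) * (Fintype.card F + 1)) := by
    have := card_psl (F := F)
    rwa [hdel] at this
  obtain ⟨f, -, hf⟩ := FiniteField.card F p
  refine ⟨{
    p := p
    f := f
    q := Fintype.card F
    r := rr F
    δ := dlt F
    hp := hp.out
    p_odd := fun e => Nat.not_even_iff_odd.2 hodd (by
      rw [hf, e]; exact Nat.even_pow.2 ⟨even_two, f.pos.ne'⟩)
    hf := hf
    hδ := by rcases dlt_cases h8 with ⟨hd, -⟩ | ⟨hd, -⟩ <;> omega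
    hq := card_eq h8
    r_odd := hr
    r3 := by
      have := Nat.odd_iff.1 hr
      rcases dlt_cases h8 with ⟨-, h, e⟩ | ⟨-, h, e⟩ <;> omega
    card_P := hcardP
    u := u
    w := w
    u1 := hu1
    u2 := hu2
    w1 := hw1
    w2 := hw2
    uw := huw
    comm := hcomm
    one_class := fun z hz hz1 => Fus.PSLTwo.involutions_conj (Nat.odd_iff.1 hodd) huo
      (orderOf_eq_prime (by rw [pow_two, hz]) hz1)
    Y := zpowers (g ^ 2)
    Y_cyclic := inferInstance
    card_Y := hcard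
    u_Y := huY
    w_Y := hwY
    cent_u := hcentu
    cent_Y := hcentY
    cent_odd := fun x hx h => cent_odd h8 p hx h }, rfl, rfl, rfl, rfl⟩

end Cfsg.Agent.Invol.JankoWard.PSL
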