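import Cfsg.Agent.Lib.Invol.JankoWard.CaseAThirty
import Cfsg.Agent.Lib.Invol.JankoWard.CaseALift
import Cfsg.Agent.Lib.Invol.JankoWard.CaseASeven
import Cfsg.Agent.Lib.Invol.JankoWard.ExtTablePSL
import Cfsg.Agent.Lib.Invol.JankoWard.LDataPSL

/-!
Case A of the field part, `r = 19, 37`: the group `C(φ^3)/⟨φ^3⟩`.
-/

set_option autoImplicit false
set_option linter.unusedSectionVars false
set_option linter.style.haveILetI false

open scoped Classical

namespace Cfsg.Agent.Invol.JankoWard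

open Subgroup

universe u v

namespace CaseA

open Cfsg.Agent.Dickson Cfsg.Agent.Grp.SL2 Cfsg.Agent.PSL2Spec

/-- `L2(27)`. -/
theorem psl27_facts {K : Type} [Field K] [Fintype K] (hK : Fintype.card K = 27) :
    let L := Matrix.ProjectiveSpecialLinearGroup (Fin 2) K
    Nat.card L = 9828 ∧ IsSimpleGroup L ∧
    (∀ x y : L, x * x = 1 → x ≠ 1 → y * y = 1 → y ≠ 1 → IsConj x y) ∧
    (∀ y : L, orderOf y = 3 → ∀ v : L, v * v = 1 → Commute v y → v = 1) ∧
    (∀ U : Subgroup L, Nat.card U = 27 → (∀ x ∈ U, ∀ y ∈ U, Commute x y) ∧ ∀ x ∈ U, x ^ 3 = 1) ∧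
    ∃ y w : L, orderOf y = 13 ∧ w * w = 1 ∧ w ≠ 1 ∧ w * y * w⁻¹ = y⁻¹ ∧
      ∀ v : L, v * v = 1 → Commute v y → v = 1 := by
  intro L
  haveI : Fact (Nat.Prime 3) := ⟨Nat.prime_three⟩
  haveI : Fact (Nat.Prime 13) := ⟨by norm_num⟩
  haveI : CharP K 3 := PSL.char_three (F := K) (f := 3) (by rw [hK]; norm_num) Nat.prime_three
  have hodd : Odd (Fintype.card K) := by rw [hK]; decide
  have hdel := PSL.del_eq_two (F := K) hodd
  have hcard : Nat.card (Matrix.ProjectiveSpecialLinearGroup (Fin 2) K) = 9828 := by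
    have h := Invol.GW.card_PSLTwo (F := K) hodd
    rw [hK] at h
    omega
  have hsemi : ∀ a : L, a ≠ 1 → a ^ 3 ≠ 1 → Nat.card (tor a) = 13 ∨ Nat.card (tor a) = 14 := fun a ha ha3 => by
    have h := card_tor_semi 3 ha ha3
    rwa [hK, hdel] at h
  set D := pslData (F := K) 3
  refine ⟨hcard, Classical.PSL_isSimple le_rfl (fun _ => by omega), ?_, ?_, ?_, ?_⟩
  · intro x y hx hx1 hy hy1
    exact Fus.PSLTwo.involutions_conj (Nat.odd_iff.1 hodd) (orderOf_eq_prime (by rw [pow_two, hx]) hx1)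
      (orderOf_eq_prime (by rw [pow_two, hy]) hy1)
  · intro y hy v hv hvy
    have hy1 : y ≠ 1 := fun e => by rw [e, orderOf_one] at hy; omega
    have hy3 : y ^ 3 = 1 := hy ▸ pow_orderOf_eq_one y
    have h := Subgroup.orderOf_dvd_natCard (centralizer ({y} : Set L)) (mem_centralizer_singleton_iff.2 hvy.eq)
    rw [centralizer_eq_tor 3 hy1 (Or.inl hy3), card_tor_uni 3 hy1 hy3, hK] at h
    refine orderOf_eq_one_iff.1 (Nat.dvd_one.1 ((Nat.dvd_gcd h (orderOf_dvd_of_pow_eq_one
      (show v ^ 2 = 1 by rw [pow_two, hv]))).trans (by norm_num)))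
  · intro U hU
    haveI : Nontrivial ↥U := Finite.one_lt_card_iff_nontrivial.1 (by omega)
    have h3 : ∀ x ∈ U, x ^ 3 = 1 := by
      intro x hx
      by_contra h
      have hx1 : x ≠ 1 := fun e => h (by rw [e, one_pow])
      have a1 : orderOf x ∣ 27 := hU ▸ U.orderOf_dvd_natCard hx
      have a2 : orderOf x ∣ Nat.card (tor x) := Subgroup.orderOf_dvd_natCard _ (D.self x)
      have a3 : orderOf x ∣ 1 := by
        rcases hsemi x hx1 h with e | e <;> rw [e] at a2 <;> exact (Nat.dvd_gcd a1 a2).trans (by norm_num)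
      exact hx1 (orderOf_eq_one_iff.1 (Nat.dvd_one.1 a3))
    refine ⟨?_, h3⟩
    have hUp : IsPGroup 3 ↥U := IsPGroup.of_card (n := 3) (by rw [hU]; norm_num)
    haveI := hUp.center_nontrivial
    obtain ⟨⟨⟨z, hzU⟩, hzc⟩, hz⟩ := exists_ne (1 : ↥(center ↥U))
    have hz1 : z ≠ 1 := fun e => hz (Subtype.ext (Subtype.ext e))
    have hUt : U ≤ tor z := fun x hx => by
      rw [← centralizer_eq_tor 3 hz1 (Or.inl (h3 z hzU))]
      exact mem_centralizer_singleton_iff.2 (congrArg Subtype.val (mem_center_iff.1 hzc ⟨x, hx⟩))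
    exact fun x hx y hy => D.comm hz1 (hUt hx) (hUt hy)
  · obtain ⟨y, hy⟩ := exists_prime_orderOf_dvd_card' (G := L) 13 (by rw [hcard]; norm_num)
    have hy1 : y ≠ 1 := fun e => by rw [e, orderOf_one] at hy; omega
    have hy3 : y ^ 3 ≠ 1 := fun e => by
      have := orderOf_dvd_of_pow_eq_one e
      rw [hy] at this; norm_num at this
    have hyy : y * y ≠ 1 := fun e => by
      have := orderOf_dvd_of_pow_eq_one (show y ^ 2 = 1 by rw [pow_two, e])
      rw [hy] at this; norm_num at this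
    have htor : Nat.card (tor y) = 13 := by
      have a2 : orderOf y ∣ Nat.card (tor y) := Subgroup.orderOf_dvd_natCard _ (D.self y)
      rw [hy] at a2
      rcases hsemi y hy1 hy3 with e | e
      · exact e
      · rw [e] at a2; norm_num at a2
    obtain ⟨x, hx, hxy⟩ : ∃ x, IsSemi x ∧ proj x = y := ⟨lift y, semi_lift 3 hy1 hy3, proj_lift y⟩
    obtain ⟨g, hg, hgn⟩ := exists_inverter hx
    have hwy : proj g * y * (proj g)⁻¹ = y⁻¹ := by rw [← hxy, ← map_inv, ← map_mul, ← map_mul, hg, map_inv]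
    refine ⟨y, proj g, hy, ?_, fun e => ?_, hwy, fun v hv hvy => ?_⟩
    · rw [← map_mul, sq_of_invert hx hg hgn, proj_neg, map_one]
    · exact hgn ((proj_one_iff.1 e).commute x)
    · have h := Subgroup.orderOf_dvd_natCard (centralizer ({y} : Set L)) (mem_centralizer_singleton_iff.2 hvy.eq)
      rw [centralizer_eq_tor 3 hy1 (Or.inr hyy), htor] at h
      refine orderOf_eq_one_iff.1 (Nat.dvd_one.1 ((Nat.dvd_gcd h (orderOf_dvd_of_pow_eq_one
        (show v ^ 2 = 1 by rw [pow_two, hv]))).trans (by norm_num)))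

end CaseA

namespace ExtBase

variable {G : Type u} [Group G] [Finite G] {P : Type v} [Group P] [Finite P] (S : ExtBase G P)

/-- The number of involutions in the centraliser of a generator of the field part, `p = 3`. -/
theorem count_gen (A : Amb G) (L : ExtLocals S)
    (ih : ∀ (H : Type u) [Group H] [Finite H], Nat.card H < Nat.card G → NoField H)
    (hp : S.D.p = 3) {a : G} (ha : a ∈ S.Fld) (ha1 : a ≠ 1) (hord : orderOf a = S.D.f) :
    Nat.card ↥(Invol' a) = 7 ∨ Nat.card ↥(Invol' a) = 63 := by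
  obtain ⟨hinv, hone, hc⟩ := S.quot_full A L ih ha ha1
  have hf0 : 0 < S.D.f := hord ▸ orderOf_pos a
  rw [hord, Nat.div_self hf0, pow_one, hp] at hc
  rcases hc with ⟨-, T, h, H⟩ | ⟨M, -, -, -, ⟨h5, -, -⟩ | ⟨m, hm, hq, -, -⟩⟩
  · have hcl := QuotGroup.card_class (orderOf_eq_prime (by rw [pow_two]; exact H.Tsq _ H.tT) H.t1) hone
    rw [hinv, (H.cent _ H.tT H.t1).1] at hcl
    rcases CaseD.rCases H with h168 | ⟨⟨R2⟩⟩
    · left; omega
    · right
      have := R2.card_R
      omega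
  · omega
  · have := Nat.pow_right_injective (by norm_num : 2 ≤ 3) ((pow_one 3).trans hq)
    omega

/-- The group `C(φ^3)/⟨φ^3⟩` is as required. -/
theorem exists_thirty [IsSimpleGroup G] (A : Amb G) (L : ExtLocals S)
    (ih : ∀ (H : Type u) [Group H] [Finite H], Nat.card H < Nat.card G → NoField H)
    (hp : S.D.p = 3) (h3 : 3 ∣ S.D.f) (hf3 : S.D.f ≠ 3) {φ : G} (hφ : φ ∈ S.Fld)
    (hgen : S.Fld ≤ zpowers φ) (hord : orderOf φ = S.D.f) :
    ∃ (M J : Subgroup (QuotR (φ ^ 3))) (t τ : QuotR (φ ^ 3)), CaseA.Thirty M J t τ := by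
  set b := φ ^ 3 with hb_def
  have hb : b ∈ S.Fld := pow_mem hφ 3
  obtain ⟨f3, hf⟩ := h3
  have hf0 : 0 < S.D.f := hord ▸ orderOf_pos φ
  have hbo : orderOf b = f3 := by
    rw [hb_def, orderOf_pow' _ (by norm_num), hord, hf, Nat.gcd_eq_right (dvd_mul_right 3 f3),
      Nat.mul_div_cancel_left _ (by norm_num)]
  have hf31 : 1 < f3 := by
    rcases Nat.lt_or_ge 1 f3 with h | h
    · exact h
    · interval_cases f3 <;> omega
  have hb1 : b ≠ 1 := fun e => by rw [e, orderOf_one] at hbo; omega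
  have hφ1 : φ ≠ 1 := fun e => by rw [e, orderOf_one] at hord; omega
  have hdiv : S.D.f / orderOf b = 3 := by rw [hbo, hf, Nat.mul_div_cancel _ (by omega)]
  -- the quotient
  obtain ⟨hinv, hone, hc⟩ := S.quot_full A L ih hb hb1
  rw [hdiv, hp] at hc
  rcases hc with ⟨h27, -⟩ | ⟨M, hMn, hMs, hMi, ⟨h5, -, -⟩ | ⟨m, hm, hq, hMc, hn⟩⟩
  · norm_num at h27
  · norm_num at h5
  obtain rfl : m = 1 := by
    have := Nat.pow_right_injective (by norm_num : 2 ≤ 3) hq
    omega
  rw [show (3 : ℕ) ^ (2 * 1 + 1) = 27 by norm_num] at hMc hn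
  rw [show (27 : ℕ) ^ 3 * (27 ^ 3 + 1) * (27 - 1) = 10073444472 by norm_num] at hMc
  rw [show (27 : ℕ) ^ 2 * (27 ^ 2 - 27 + 1) = 512487 by norm_num] at hn
  haveI := hMn
  haveI := hMs
  obtain ⟨K, i1, i2, hK, ⟨eK⟩⟩ := S.fix_iso b hb
  rw [hdiv, hp] at hK
  norm_num at hK
  set P0 := (centralizer ({b} : Set G)).comap S.ι
  obtain ⟨hP, hPs, hPone, hPfree, hPthree, y13, w13, hy13, hw13, hw131, hwy13, hfree13⟩ := CaseA.psl27_facts hK
  have hP0 : Nat.card P0 = 9828 := (Nat.card_congr eK.toEquiv).trans hP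
  have hcardR : Nat.card (QuotR b) = 30220333416 := by
    have h1 := card_quot b
    rw [hbo, S.card_cent A L hb, hn, hP0] at h1
    have hF : Nat.card S.Fld = 3 * f3 := by
      rw [← hf, ← hord, ← Nat.card_zpowers]
      exact le_antisymm (Subgroup.card_le_of_le hgen) (Subgroup.card_le_of_le (zpowers_le.2 hφ))
    rw [hF] at h1
    exact Nat.eq_of_mul_eq_mul_right (show 0 < f3 by omega) (h1.trans (by ring))
  have hidx : M.index = 3 := by
    have h := M.card_mul_index
    rw [hcardR, hMc] at h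
    omega
  set tq := S.tq hb
  have htq2 : S.tq hb * S.tq hb = 1 := by rw [← pow_two, ← S.tq_ord hb, pow_orderOf_eq_one]
  have htq1 : S.tq hb ≠ 1 := fun e => by have h := S.tq_ord hb; rw [e, orderOf_one] at h; omega
  have hMinv : ∀ v : QuotR b, v * v = 1 → v ∈ M := fun v hv => by
    by_cases h : v = 1
    · rw [h]; exact one_mem M
    · exact hMi v ⟨hv, h⟩
  have hone' : ∀ v : QuotR b, v * v = 1 → v ≠ 1 → IsConj tq v := fun v hv hv1 =>
    hone v (orderOf_eq_prime (by rw [pow_two]; exact hv) hv1)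
  have hC : Nat.card ↥(centralizer ({tq} : Set (QuotR b))) = 58968 := by
    have h1 := QuotGroup.card_class (S.tq_ord hb) hone
    rw [hinv, hn, hcardR] at h1
    change 512487 * Nat.card ↥(centralizer ({tq} : Set (QuotR b))) = _ at h1
    omega
  -- the second factor
  let j : ↥P0 →* ↥(centralizer ({b} : Set G)) :=
    MonoidHom.mk' (fun k => ⟨S.ι k, k.2⟩) fun k l => Subtype.ext (map_mul S.ι _ _)
  set ψ := (quotMk b).comp j
  have hψ1 : ∀ k, ψ k = 1 → k = 1 := fun k hk => Subtype.ext (S.inj (by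
    have hF : S.ι k ∈ S.Fld := zpowers_le.2 hb ((quot_ker _).1 hk)
    rw [S.F_disj _ hF k rfl, OneMemClass.coe_one, map_one]))
  have hψ : Function.Injective ψ := (injective_iff_map_eq_one ψ).2 hψ1
  set J := ψ.range
  have hJc : ∀ k : ↥P0, Commute (ψ k) tq := fun k =>
    (show Commute (j k) (⟨S.t, S.t_cent hb⟩ : ↥(centralizer ({b} : Set G))) from Subtype.ext (S.tc k)).map (quotMk b)
  have hJcard : Nat.card J = 9828 := (Nat.card_congr (MonoidHom.ofInjective hψ).toEquiv).symm.trans hP0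
  -- transport from `L2(27)`
  haveI hP0s : IsSimpleGroup ↥P0 := by
    haveI : Nontrivial ↥P0 := Finite.one_lt_card_iff_nontrivial.1 (by rw [hP0]; norm_num)
    haveI := hPs
    exact IsSimpleGroup.isSimpleGroup_of_surjective eK.symm.toMonoidHom eK.symm.surjective
  have hπ : ∀ x : QuotR b, QuotientGroup.mk' M x = 1 ↔ x ∈ M := fun x => QuotientGroup.eq_one_iff x
  have hJM : J ≤ M := by
    rintro _ ⟨k, rfl⟩
    set χ := (QuotientGroup.mk' M).comp ψ
    rcases (inferInstance : χ.ker.Normal).eq_bot_or_eq_top with e | e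
    · exfalso
      have h := Nat.card_le_card_of_injective χ ((MonoidHom.ker_eq_bot_iff χ).1 e)
      rw [← Subgroup.index_eq_card, hidx, hP0] at h
      omega
    · exact (hπ _).1 (MonoidHom.mem_ker.1 (e ▸ mem_top k : k ∈ χ.ker))
  have hφb : φ ∈ centralizer ({b} : Set G) :=
    mem_centralizer_singleton_iff.2 ((Commute.refl φ).pow_right 3).eq
  set τ := quotMk b ⟨φ, hφb⟩
  have hτt : Commute τ tq :=
    (show Commute (⟨φ, hφb⟩ : ↥(centralizer ({b} : Set G))) ⟨S.t, S.t_cent hb⟩ from Subtype.ext (S.Ft φ hφ)).map _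
  have hτ3 : τ ^ 3 = 1 := by
    rw [← map_pow, quot_ker, Subgroup.coe_pow]
    exact mem_zpowers b
  have hτ1 : τ ≠ 1 := fun h => by
    have h1 := Nat.le_of_dvd (by rw [hbo]; omega) ((orderOf_dvd_of_mem_zpowers ((quot_ker _).1 h)))
    simp only at h1
    rw [hord, hbo, hf] at h1
    omega
  -- the centraliser of `t`
  have hcent : ∀ x : QuotR b, Commute x tq → ∃ k : ↥P0, ∃ i : ℤ,
      x = ψ k * τ ^ i ∨ x = tq * (ψ k * τ ^ i) := by
    intro x hx
    obtain ⟨c, rfl⟩ := QuotientGroup.mk'_surjective _ x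
    have hct : Commute (c : G) S.t := lift_commute (y := ⟨S.t, S.t_cent hb⟩) (m := 2)
      (by rw [pow_two]; exact S.tt) (Nat.coprime_two_left.2 (S.F_odd_order hb)) hx
    obtain ⟨k, f, hfF, e⟩ := S.cover (c : G) hct.eq
    obtain ⟨i, hi⟩ := mem_zpowers_iff.1 (hgen hfF)
    have hfb : f ∈ centralizer ({b} : Set G) := hi ▸ zpow_mem hφb i
    have hkb : S.ι k ∈ centralizer ({b} : Set G) := by
      rcases e with e | e
      · rw [show S.ι k = (c : G) * f⁻¹ by rw [e, mul_inv_cancel_right]]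
        exact mul_mem c.2 (inv_mem hfb)
      · rw [show S.ι k = S.t⁻¹ * (c : G) * f⁻¹ by rw [e]; group]
        exact mul_mem (mul_mem (inv_mem (S.t_cent hb)) c.2) (inv_mem hfb)
    refine ⟨⟨k, hkb⟩, i, ?_⟩
    have hv : ψ ⟨k, hkb⟩ * τ ^ i = quotMk b (⟨S.ι k, hkb⟩ * ⟨φ, hφb⟩ ^ i) := by
      rw [map_mul, map_zpow]; rfl
    rcases e with e | e
    · exact Or.inl (hv ▸ congrArg (quotMk b) (Subtype.ext (by rw [Subgroup.coe_mul, Subgroup.coe_zpow, hi]; exact e)))
    · refine Or.inr ?_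
      rw [hv, ← map_mul]
      exact congrArg (quotMk b) (Subtype.ext (by rw [Subgroup.coe_mul, Subgroup.coe_mul, Subgroup.coe_zpow, hi]; exact e))
  have hτi : ∀ i : ℤ, τ ^ i = 1 ∨ τ ∈ zpowers (τ ^ i) := by
    intro i
    by_cases h : τ ^ i = 1
    · exact Or.inl h
    · refine Or.inr ?_
      have e : zpowers (τ ^ i) = zpowers τ := Subgroup.eq_of_le_of_card_ge
        (zpowers_le.2 (zpow_mem (mem_zpowers τ) i)) (by
          rw [Nat.card_zpowers, Nat.card_zpowers, orderOf_eq_prime hτ3 hτ1]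
          refine le_of_eq (orderOf_eq_prime ?_ h).symm
          rw [← zpow_natCast, ← zpow_mul, mul_comm, zpow_mul, zpow_natCast, hτ3, one_zpow])
      rw [e]; exact mem_zpowers τ
  have hu2 : S.D.u * S.D.u = 1 := S.D.u2
  have hw2 : S.D.w * S.D.w = 1 := S.D.w2
  have huP : S.D.u ∈ P0 := mem_centralizer_singleton_iff.2 (S.Fu b hb).symm
  have hwP : S.D.w ∈ P0 := mem_centralizer_singleton_iff.2 (S.Fw b hb).symm
  -- `τ` is outside `M`
  have hτM : τ ∉ M := by
    intro hτ
    have hCM : ∀ x, Commute x tq → x ∈ M := fun x hx => by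
      obtain ⟨k, i, rfl | rfl⟩ := hcent x hx
      · exact mul_mem (hJM ⟨k, rfl⟩) (zpow_mem hτ i)
      · exact mul_mem (hMinv _ htq2) (mul_mem (hJM ⟨k, rfl⟩) (zpow_mem hτ i))
    -- fusion in `M`
    set u0 : ↥P0 := ⟨S.D.u, huP⟩
    have hu0 : u0 ≠ 1 := fun e => S.D.u1 (congrArg Subtype.val e)
    have hu02 : u0 * u0 = 1 := Subtype.ext hu2
    have hgb : L.g ∈ centralizer ({b} : Set G) := mem_centralizer_singleton_iff.2 (L.gF b hb)
    set γ := quotMk b ⟨L.g, hgb⟩
    have hγM : γ ∈ M := by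
      obtain ⟨v0, hv0P, hv02, hv0⟩ : ∃ k, k ∈ P0 ∧ k * k = 1 ∧ L.c * S.t * L.c⁻¹ = S.t * S.ι k := by
        rcases L.ct with e | e
        · exact ⟨_, hwP, hw2, e⟩
        · refine ⟨_, mul_mem huP hwP, ?_, e⟩
          have hcm : Commute S.D.u S.D.w := S.D.comm
          rw [hcm.symm.mul_mul_mul_comm, hu2, hw2, one_mul]
      set v := tq * ψ ⟨_, hv0P⟩
      have hv : v * v = 1 := by
        rw [(hJc _).mul_mul_mul_comm, htq2, one_mul, ← map_mul, show (⟨_, hv0P⟩ : ↥P0) * ⟨_, hv0P⟩ = 1 from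
          Subtype.ext hv02, map_one]
      have hv1 : v ≠ 1 := fun e => by
        obtain ⟨i, hi⟩ := mem_zpowers_iff.1 ((quot_ker _).1
          (show quotMk b (⟨S.t, S.t_cent hb⟩ * ⟨S.ι _, hv0P⟩) = 1 by rw [map_mul]; exact e))
        simp only [Subgroup.coe_mul] at hi
        have h1 : S.t = S.ι (v0⁻¹) * b ^ i := by
          rw [hi, map_inv, show S.t * S.ι v0 = S.ι v0 * S.t from (S.tc v0).symm, inv_mul_cancel_left]
        exact S.t_not_EG (h1 ▸ ⟨_, _, zpow_mem hb i, rfl⟩)
      have hγv : Commute γ v := by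
        refine Commute.map ?_ (quotMk b) (x := (⟨L.g, hgb⟩ : ↥(centralizer ({b} : Set G))))
          (y := ⟨S.t, S.t_cent hb⟩ * ⟨S.ι _, hv0P⟩) |>.trans ?_
        · refine Subtype.ext ?_
          show L.g * (S.t * S.ι v0) = S.t * S.ι v0 * L.g
          rw [← hv0]; exact L.gx
        · rw [map_mul]; rfl
      obtain ⟨x, hx⟩ := isConj_iff.1 (hone' v hv hv1)
      have h1 : x⁻¹ * γ * x ∈ M := hCM _ (by
        have h := hγv.map (MulAut.conj x⁻¹).toMonoidHom
        rw [← hx] at h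
        simpa [mul_assoc] using h)
      simpa [mul_assoc] using hMn.conj_mem _ h1 x
    have hγt : γ * tq * γ⁻¹ = ψ u0 := by
      rw [← map_inv, ← map_mul, ← map_mul]
      exact congrArg (quotMk b) (Subtype.ext L.gt)
    have hγu : γ * ψ u0 * γ⁻¹ = tq * ψ u0 := by
      show γ * quotMk b (j u0) * γ⁻¹ = tq * quotMk b (j u0)
      rw [← map_inv, ← map_mul, ← map_mul, ← map_mul]
      exact congrArg (quotMk b) (Subtype.ext L.gu)
    have hcomm : ∀ s : QuotR b, s * s = 1 → s ≠ 1 → Commute s tq → ∃ m ∈ M, m * tq * m⁻¹ = s := by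
      intro s hs hs1 hst
      obtain ⟨k, i, e⟩ := hcent s hst
      -- the field component is trivial
      have hJn : τ * ψ k * τ⁻¹ ∈ J := by
        obtain ⟨k', hk'⟩ := S.F_norm φ hφ k
        have hk'b : S.ι k' ∈ centralizer ({b} : Set G) := by
          rw [← hk']; exact mul_mem (mul_mem hφb k.2) (inv_mem hφb)
        refine ⟨⟨k', hk'b⟩, ?_⟩
        show quotMk b _ = τ * quotMk b (j k) * τ⁻¹
        rw [← map_inv, ← map_mul, ← map_mul]
        exact congrArg (quotMk b) (Subtype.ext hk'.symm)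
      have hi : τ ^ i = 1 := by
        refine (hτi i).resolve_right fun hti => ?_
        -- `τ` would normalise and `s` be of even order modulo `J`
        obtain ⟨c, hc, hc2⟩ := lift_two (S.F_odd_order hb) s (k := 1) (by rw [pow_one, pow_two, hs])
        rw [pow_one, pow_two] at hc2
        have hct : Commute (c : G) S.t := lift_commute (y := ⟨S.t, S.t_cent hb⟩) (m := 2)
          (by rw [pow_two]; exact S.tt) (Nat.coprime_two_left.2 (S.F_odd_order hb)) (by rw [hc]; exact hst)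
        have key : ∀ x : S.EG, x * x = 1 → ∀ y : ↥(centralizer ({b} : Set G)), (y : G) = x →
            quotMk b y ∈ J := by
          intro x hx2 y hy
          obtain ⟨k', -, rfl⟩ := S.two_mem_ι hx2
          exact ⟨⟨k', show S.ι k' ∈ centralizer ({b} : Set G) from by rw [← S.ιE_coe, ← hy]; exact y.2⟩,
            congrArg (quotMk b) (Subtype.ext hy.symm)⟩
        have hsJ : s ∈ J ∨ tq * s ∈ J := by
          rcases S.C_cases hct.eq with h | h
          · exact Or.inl (hc ▸ key ⟨_, h⟩ (Subtype.ext hc2) c rfl)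
          · refine Or.inr (hc ▸ ?_)
            rw [← map_mul]
            refine key ⟨_, h⟩ (Subtype.ext ?_) _ rfl
            show S.t * (c : G) * (S.t * c) = 1
            rw [hct.mul_mul_mul_comm, S.tt, hc2, one_mul]
        have hτJ : τ ∉ J := by
          rintro ⟨k', hk'⟩
          have h1 : quotMk b ((⟨φ, hφb⟩ : ↥(centralizer ({b} : Set G)))⁻¹ * j k') = 1 := by
            rw [map_mul, map_inv]; exact inv_mul_eq_one.2 hk'.symm
          have h2 := zpowers_le.2 hb ((quot_ker _).1 h1)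
          have h3 : S.ι k' ∈ S.Fld := by
            have h4 := mul_mem hφ h2
            simp only [Subgroup.coe_mul, InvMemClass.coe_inv] at h4
            rw [mul_inv_cancel_left] at h4
            exact h4
          have h5 : k' = 1 := hψ1 k' (by
            refine (quot_ker _).2 ?_
            show S.ι k' ∈ zpowers b
            rw [S.F_disj _ h3 k' rfl]; exact one_mem _)
          exact hτ1 (by rw [← hk', h5, map_one])
        have htJ : tq ∉ J := by
          rintro ⟨k', hk'⟩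
          obtain ⟨n, hn'⟩ := mem_zpowers_iff.1 ((quot_ker _).1
            (show quotMk b ((⟨S.t, S.t_cent hb⟩ : ↥(centralizer ({b} : Set G)))⁻¹ * j k') = 1 by
              rw [map_mul, map_inv]; exact inv_mul_eq_one.2 hk'.symm))
          have h1 : S.t = S.ι k' * (b ^ n)⁻¹ := by
            rw [hn']
            show S.t = S.ι k' * (S.t⁻¹ * S.ι k')⁻¹
            group
          exact S.t_not_EG (h1 ▸ ⟨_, _, inv_mem (zpow_mem hb n), rfl⟩)
        have hτiJ : τ ^ i ∈ J ∨ tq * τ ^ i ∈ J := by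
          have hcm : Commute tq (ψ k) := (hJc k).symm
          rcases e with e | e <;> rcases hsJ with h | h <;> rw [e] at h
          · exact Or.inl ((Subgroup.mul_mem_cancel_left J ⟨k, rfl⟩).1 h)
          · exact Or.inr ((Subgroup.mul_mem_cancel_left J ⟨k, rfl⟩).1 (by rwa [← mul_assoc, ← hcm.eq, mul_assoc]))
          · exact Or.inr ((Subgroup.mul_mem_cancel_left J ⟨k, rfl⟩).1 (by rwa [← mul_assoc, ← hcm.eq, mul_assoc]))
          · exact Or.inl ((Subgroup.mul_mem_cancel_left J ⟨k, rfl⟩).1 (by rwa [← mul_assoc, htq2, one_mul] at h))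
        have hfin : τ ^ i ∈ J := hτiJ.resolve_right fun h => htJ (by
          have h1 := J.pow_mem h 3
          rw [(hτt.symm.zpow_right i).mul_pow, ← zpow_natCast (τ ^ i), ← zpow_mul, mul_comm, zpow_mul,
            zpow_natCast, hτ3, one_zpow, mul_one, pow_succ, pow_two, htq2, one_mul] at h1
          exact h1)
        exact hτJ (zpowers_le.2 hfin hti)
      rw [hi, mul_one] at e
      have htrans : ∀ k' : ↥P0, k' * k' = 1 → k' ≠ 1 → ∃ m ∈ M, m * tq * m⁻¹ = ψ k' := by
        intro k' hk' hk'1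
        obtain ⟨d, hd⟩ := isConj_iff.1 (hPone (eK u0) (eK k') (by rw [← map_mul, hu02, map_one])
          (fun e => hu0 (eK.map_eq_one_iff.1 e)) (by rw [← map_mul, hk', map_one])
          (fun e => hk'1 (eK.map_eq_one_iff.1 e)))
        refine ⟨ψ (eK.symm d) * γ, mul_mem (hJM ⟨_, rfl⟩) hγM, ?_⟩
        rw [show ψ (eK.symm d) * γ * tq * (ψ (eK.symm d) * γ)⁻¹ =
          ψ (eK.symm d) * (γ * tq * γ⁻¹) * (ψ (eK.symm d))⁻¹ by group, hγt, ← map_inv, ← map_mul, ← map_mul]
        congr 1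
        refine eK.injective ?_
        rw [map_mul, map_mul, map_inv, eK.apply_symm_apply, hd]
      rcases e with rfl | rfl
      · refine htrans k (hψ1 _ (by rw [map_mul, hs])) fun e => hs1 (by rw [e, map_one])
      · have hk2 : ψ k * ψ k = 1 := by
          rwa [(hJc k).mul_mul_mul_comm, htq2, one_mul] at hs
        by_cases hk1 : k = 1
        · exact ⟨1, one_mem M, by rw [hk1, map_one, mul_one, one_mul, inv_one, mul_one]⟩
        obtain ⟨d, hd⟩ := isConj_iff.1 (hPone (eK u0) (eK k) (by rw [← map_mul, hu02, map_one])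
          (fun e => hu0 (eK.map_eq_one_iff.1 e)) (by rw [← map_mul, hψ1 (k * k) (by rw [map_mul, hk2]), map_one])
          (fun e => hk1 (eK.map_eq_one_iff.1 e)))
        refine ⟨ψ (eK.symm d) * (γ * γ), mul_mem (hJM ⟨_, rfl⟩) (mul_mem hγM hγM), ?_⟩
        rw [show ψ (eK.symm d) * (γ * γ) * tq * (ψ (eK.symm d) * (γ * γ))⁻¹ =
          ψ (eK.symm d) * (γ * (γ * tq * γ⁻¹) * γ⁻¹) * (ψ (eK.symm d))⁻¹ by group, hγt, hγu]
        rw [show ψ (eK.symm d) * (tq * ψ u0) * (ψ (eK.symm d))⁻¹ =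
          ψ (eK.symm d) * tq * (ψ (eK.symm d))⁻¹ * (ψ (eK.symm d) * ψ u0 * (ψ (eK.symm d))⁻¹) by group,
          (hJc _).eq, mul_inv_cancel_right, ← map_inv, ← map_mul, ← map_mul]
        congr 2
        refine eK.injective ?_
        rw [map_mul, map_mul, map_inv, eK.apply_symm_apply, hd]
    -- every involution is conjugate to `t` in `M`
    have hall : ∀ v : QuotR b, v * v = 1 → v ≠ 1 → ∃ m ∈ M, m * tq * m⁻¹ = v := by
      intro v hv hv1
      set a := v * tq
      have haM : a ∈ M := mul_mem (hMinv v hv) (hMinv _ htq2)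
      have hta : tq * a * tq⁻¹ = a⁻¹ := by
        rw [show tq * a * tq⁻¹ = tq * v by simp [a, mul_assoc], show a⁻¹ = tq⁻¹ * v⁻¹ from mul_inv_rev _ _,
          inv_eq_of_mul_eq_one_right hv, inv_eq_of_mul_eq_one_right htq2]
      rcases Nat.even_or_odd (orderOf a) with ⟨n, hn'⟩ | ⟨n, hn'⟩
      · set z := a ^ n with hz
        have hn0 : n ≠ 0 := fun e => by
          have := orderOf_pos a; omega
        have hz2 : z * z = 1 := by rw [hz, ← pow_add, ← hn', pow_orderOf_eq_one]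
        have hz1 : z ≠ 1 := fun e => by
          have := Nat.le_of_dvd (by omega) (orderOf_dvd_of_pow_eq_one e); omega
        have hzt : Commute z tq := by
          have h1 : tq * z * tq⁻¹ = z⁻¹ := by rw [hz, ← conj_pow, hta, inv_pow]
          rw [inv_eq_of_mul_eq_one_right hz2] at h1
          exact (mul_inv_eq_iff_eq_mul.1 h1).symm
        have hzv : Commute z v := by
          have h1 : Commute z a := by rw [hz]; exact ((Commute.refl a).pow_left n)
          have h2 := h1.mul_right hzt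
          rwa [show a * tq = v by rw [mul_assoc, htq2, mul_one]] at h2
        obtain ⟨m, hmM, hmz⟩ := hcomm z hz2 hz1 hzt
        have hv' : Commute (m⁻¹ * v * m) tq := by
          have h := hzv.symm.map (MulAut.conj m⁻¹).toMonoidHom
          rw [← hmz] at h
          simpa [mul_assoc] using h
        obtain ⟨m', hm'M, hm'⟩ := hcomm (m⁻¹ * v * m) (by
            rw [show m⁻¹ * v * m * (m⁻¹ * v * m) = m⁻¹ * (v * v) * m by group, hv]; group)
          (fun e => hv1 (by
            have h1 : v = m * (m⁻¹ * v * m) * m⁻¹ := by group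
            rw [h1, e]; group)) hv'
        exact ⟨m * m', mul_mem hmM hm'M, by
          rw [show m * m' * tq * (m * m')⁻¹ = m * (m' * tq * m'⁻¹) * m⁻¹ by group, hm']; group⟩
      · refine ⟨a ^ (n + 1), pow_mem haM _, ?_⟩
        have h1 : tq * (a ^ (n + 1))⁻¹ = a ^ (n + 1) * tq := by
          rw [← mul_inv_eq_iff_eq_mul, ← inv_pow, ← conj_pow,
            show tq * a⁻¹ * tq⁻¹ = (tq * a * tq⁻¹)⁻¹ by group, hta, inv_inv]
        rw [mul_assoc, h1, ← mul_assoc, ← pow_add, show n + 1 + (n + 1) = orderOf a + 1 by omega, pow_succ,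
          pow_orderOf_eq_one, one_mul]
        rw [mul_assoc, htq2, mul_one]
    have htop : M = ⊤ := top_le_iff.1 fun x _ => by
      have hx2 : x * tq * x⁻¹ * (x * tq * x⁻¹) = 1 := by
        rw [show x * tq * x⁻¹ * (x * tq * x⁻¹) = x * (tq * tq) * x⁻¹ by group, htq2, mul_one, mul_inv_cancel]
      obtain ⟨m, hmM, hme⟩ := hall (x * tq * x⁻¹) hx2 fun e => htq1 (conj_eq_one_iff.1 e)
      have h1 : m⁻¹ * x ∈ M := hCM _ (by
        refine mul_inv_eq_iff_eq_mul.1 ?_
        rw [show m⁻¹ * x * tq * (m⁻¹ * x)⁻¹ = m⁻¹ * (x * tq * x⁻¹) * m by group, ← hme]; group)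
      simpa using mul_mem hmM h1
    rw [htop, index_top] at hidx
    omega
  -- the fixed points of `φ`
  have hφP : Nat.card ↥((centralizer ({φ} : Set G)).comap S.ι) = 12 := by
    obtain ⟨K1, j1, j2, hK1, ⟨e1⟩⟩ := S.fix_iso φ hφ
    rw [hord, Nat.div_self hf0, pow_one, hp] at hK1
    have h := Invol.GW.card_PSLTwo (F := K1) (by rw [hK1]; decide)
    rw [hK1, ← Nat.card_congr e1.toEquiv] at h
    omega
  have htJ : tq ∉ J := by
    rintro ⟨k', hk'⟩
    obtain ⟨n, hn'⟩ := mem_zpowers_iff.1 ((quot_ker _).1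
      (show quotMk b ((⟨S.t, S.t_cent hb⟩ : ↥(centralizer ({b} : Set G)))⁻¹ * j k') = 1 by
        rw [map_mul, map_inv]; exact inv_mul_eq_one.2 hk'.symm))
    have h1 : S.t = S.ι k' * (b ^ n)⁻¹ := by
      rw [hn']
      show S.t = S.ι k' * (S.t⁻¹ * S.ι k')⁻¹
      group
    exact S.t_not_EG (h1 ▸ ⟨_, _, inv_mem (zpow_mem hb n), rfl⟩)
  refine ⟨M, J, tq, τ,
    { cardR := hcardR
      Mn := hMn
      Ms := hMs
      cardM := hMc
      Minv := hMinv
      tt := htq2
      t1 := htq1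
      one := hone'
      sq := S.quot_sq A hb
      cardC := hC
      JM := hJM
      Jt := htJ
      Jc := fun x hx => by obtain ⟨k, rfl⟩ := hx; exact hJc k
      hJ := fun x hx hxt => ?_
      cardJ := hJcard
      Jfree := fun y hy hy3 v hv hv2 hvy => ?_
      Jthree := fun U hUJ hU => ?_
      Jthirteen := ?_
      τ3 := orderOf_eq_prime hτ3 hτ1
      τM := hτM
      τt := hτt
      τJ := ?_
      τr := fun r hr hd => ?_ }⟩
  · obtain ⟨k, i, e⟩ := hcent x hxt
    have hi : τ ^ i = 1 := (hτi i).resolve_right fun h => hτM (by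
      refine zpowers_le.2 ?_ h
      rcases e with rfl | rfl
      · exact (Subgroup.mul_mem_cancel_left M (hJM ⟨k, rfl⟩)).1 hx
      · exact (Subgroup.mul_mem_cancel_left M (hJM ⟨k, rfl⟩)).1
          ((Subgroup.mul_mem_cancel_left M (hMinv _ htq2)).1 hx))
    rw [hi, mul_one] at e
    rcases e with rfl | rfl
    · exact Or.inl ⟨k, rfl⟩
    · exact Or.inr (by rw [← mul_assoc, htq2, one_mul]; exact ⟨k, rfl⟩)
  · obtain ⟨y0, rfl⟩ := hy
    obtain ⟨v0, rfl⟩ := hv
    rw [orderOf_injective ψ hψ, ← MulEquiv.orderOf_eq eK] at hy3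
    have h := hPfree (eK y0) hy3 (eK v0) (by rw [← map_mul, hψ1 (v0 * v0) (by rw [map_mul]; exact hv2), map_one]) (by
      show eK v0 * eK y0 = eK y0 * eK v0
      rw [← map_mul, ← map_mul]
      exact congrArg eK (hψ (by rw [map_mul, map_mul]; exact hvy.eq)))
    rw [eK.map_eq_one_iff.1 h, map_one]
  · set U0 := (U.comap ψ).map eK.toMonoidHom
    have hU0 : Nat.card U0 = 27 := by
      rw [Subgroup.card_map_of_injective eK.injective, ← hU, ← Subgroup.card_map_of_injective hψ,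
        map_comap_eq_self hUJ]
    obtain ⟨hc0, h30⟩ := hPthree U0 hU0
    have hpre : ∀ x ∈ U, ∃ k, ψ k = x ∧ eK k ∈ U0 := fun x hx => by
      obtain ⟨k, rfl⟩ := hUJ hx
      exact ⟨k, rfl, ⟨k, hx, rfl⟩⟩
    refine ⟨fun x hx y hy => ?_, fun x hx => ?_⟩
    · obtain ⟨k, rfl, hk⟩ := hpre x hx
      obtain ⟨l, rfl, hl⟩ := hpre y hy
      refine Commute.map ?_ ψ
      refine eK.injective ?_
      rw [map_mul, map_mul]; exact (hc0 _ hk _ hl).eq
    · obtain ⟨k, rfl, hk⟩ := hpre x hx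
      rw [← map_pow, show k ^ 3 = 1 from eK.injective (by rw [map_pow, h30 _ hk, map_one]), map_one]
  · refine ⟨ψ (eK.symm y13), ⟨_, rfl⟩, ψ (eK.symm w13), ⟨_, rfl⟩, ?_, ?_, ?_, ?_, ?_⟩
    · rw [orderOf_injective ψ hψ, MulEquiv.orderOf_eq, hy13]
    · rw [← map_mul, ← map_mul, hw13, map_one, map_one]
    · exact fun e => hw131 (eK.symm.map_eq_one_iff.1 (hψ1 _ e))
    · rw [← map_inv ψ, ← map_mul ψ, ← map_mul ψ, ← map_inv ψ]
      refine congrArg ψ ?_
      rw [← map_inv eK.symm, ← map_mul eK.symm, ← map_mul eK.symm, hwy13, map_inv eK.symm]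
    · rintro _ ⟨v0, rfl⟩ hv2 hvy
      have h := hfree13 (eK v0) (by rw [← map_mul, hψ1 (v0 * v0) (by rw [map_mul]; exact hv2), map_one]) (by
        show eK v0 * y13 = y13 * eK v0
        rw [← eK.apply_symm_apply y13, ← map_mul, ← map_mul]
        exact congrArg eK (hψ (by rw [map_mul, map_mul]; exact hvy.eq)))
      rw [eK.map_eq_one_iff.1 h, map_one]
  · set P1 := (centralizer ({φ} : Set G)).comap S.ι
    have hle : P1 ≤ P0 := fun k hk => mem_centralizer_singleton_iff.2
      ((show Commute (S.ι k) φ from mem_centralizer_singleton_iff.1 hk).pow_right 3).eq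
    have hsub : J ⊓ centralizer ({τ} : Set (QuotR b)) ≤ (ψ.comp (Subgroup.inclusion hle)).range := by
      rintro _ ⟨⟨k, rfl⟩, hkc⟩
      obtain ⟨k', hk'⟩ := S.F_norm φ hφ k
      have h1 : τ * ψ k * τ⁻¹ = ψ k := by
        rw [← (show Commute (ψ k) τ from mem_centralizer_singleton_iff.1 hkc).eq, mul_inv_cancel_right]
      have h2 : quotMk b (⟨φ, hφb⟩ * j k * ⟨φ, hφb⟩⁻¹ * (j k)⁻¹) = 1 := by
        rw [map_mul, map_mul, map_mul, map_inv, map_inv]
        exact mul_inv_eq_one.2 h1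
      have h3 := zpowers_le.2 hb ((quot_ker _).1 h2)
      simp only [Subgroup.coe_mul, InvMemClass.coe_inv] at h3
      change φ * S.ι k * φ⁻¹ * (S.ι k)⁻¹ ∈ S.Fld at h3
      rw [hk', ← map_inv, ← map_mul] at h3
      have h4 := S.inj ((S.F_disj _ h3 _ rfl).trans (map_one S.ι).symm)
      rw [mul_inv_eq_one] at h4
      rw [h4] at hk'
      exact ⟨⟨k, mem_centralizer_singleton_iff.2 (mul_inv_eq_iff_eq_mul.1 hk').symm⟩, rfl⟩
    exact (Subgroup.card_dvd_of_le hsub).trans (hφP ▸ Subgroup.card_range_dvd _)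
  · set Cφ := centralizer ({φ} : Set G)
    have hle : Cφ ≤ centralizer ({b} : Set G) := fun x hx => mem_centralizer_singleton_iff.2
      ((show Commute x φ from mem_centralizer_singleton_iff.1 hx).pow_right 3).eq
    set ρ : ↥Cφ →* QuotR b := (quotMk b).comp (Subgroup.inclusion hle)
    have hsub : centralizer ({τ} : Set (QuotR b)) ≤ ρ.range := fun x hx => by
      obtain ⟨c, rfl⟩ := QuotientGroup.mk'_surjective _ x
      have h1 : quotMk b (c * ⟨φ, hφb⟩ * c⁻¹) = τ := by
        rw [map_mul, map_mul, map_inv]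
        exact mul_inv_eq_iff_eq_mul.2 (mem_centralizer_singleton_iff.1 hx)
      have h2 : quotMk b (c * ⟨φ, hφb⟩ * c⁻¹ * (⟨φ, hφb⟩ : ↥(centralizer ({b} : Set G)))⁻¹) = 1 := by
        rw [map_mul, h1, map_inv]; exact mul_inv_cancel _
      have h3 : (c : G) * φ * (c : G)⁻¹ * φ⁻¹ ∈ zpowers φ :=
        zpowers_le.2 (pow_mem (mem_zpowers φ) 3) ((quot_ker _).1 h2)
      have h4 := mul_mem h3 (mem_zpowers φ)
      rw [inv_mul_cancel_right] at h4
      obtain ⟨i, hi⟩ := (isOfFinOrder_of_finite φ).mem_powers_iff_mem_zpowers.2 h4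
      have h5 := S.unfused A L hφ (c : G) i hi.symm
      exact ⟨⟨c, mem_centralizer_singleton_iff.2 (mul_inv_eq_iff_eq_mul.1 h5)⟩, rfl⟩
    have hd' := hd.trans (Subgroup.card_dvd_of_le hsub)
    have hker : Nat.card ρ.ker = orderOf b := by
      rw [← Nat.card_zpowers b]
      refine Nat.card_congr
        { toFun := fun x => ⟨((x : ↥Cφ) : G), (quot_ker _).1 (MonoidHom.mem_ker.1 x.2)⟩
          invFun := fun x => ⟨⟨(x : G), zpowers_le.2 (pow_mem
            (mem_centralizer_singleton_iff.2 rfl : φ ∈ Cφ) 3) x.2⟩, (quot_ker _).2 x.2⟩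
          left_inv := fun _ => rfl
          right_inv := fun _ => rfl }
    have h := ρ.ker.card_mul_index
    rw [Subgroup.index_ker, hker, hbo, S.card_cent A L hφ, hφP] at h
    have hF : Nat.card S.Fld = 3 * f3 := by
      rw [← hf, ← hord, ← Nat.card_zpowers]
      exact le_antisymm (Subgroup.card_le_of_le hgen) (Subgroup.card_le_of_le (zpowers_le.2 hφ))
    rw [hF] at h
    have h72 : Nat.card ρ.range = 72 * Nat.card ↥(Invol' φ) := by
      refine Nat.eq_of_mul_eq_mul_left (show 0 < f3 by omega) (h.trans (by ring))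
    rw [h72] at hd'
    rcases S.count_gen A L ih hp hφ hφ1 hord with e | e <;> rcases hr with rfl | rfl <;> rw [e] at hd' <;>
      norm_num at hd'

/-- The cases `r = 19, 37`. -/
theorem false_thirty [IsSimpleGroup G] (A : Amb G) (L : ExtLocals S)
    (ih : ∀ (H : Type u) [Group H] [Finite H], Nat.card H < Nat.card G → NoField H)
    (hp : S.D.p = 3) (hfe : Nat.card S.Fld = S.D.f) (hsq : Squarefree S.D.f) (h3 : 3 ∣ S.D.f) {r : ℕ}
    (hr : r = 19 ∨ r = 37) (hrf : r ∣ S.D.f)
    (H3 : r ∣ (3 ^ (S.D.f / r)) ^ 2 - 3 ^ (S.D.f / r) + 1) : False := by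
  haveI := S.F_cyclic
  have hrp : r.Prime := by rcases hr with rfl | rfl <;> norm_num
  haveI : Fact r.Prime := ⟨hrp⟩
  obtain ⟨⟨φ, hφ⟩, hgen⟩ := IsCyclic.exists_generator (α := ↥S.Fld)
  have hord : orderOf φ = S.D.f := by
    rw [← Subgroup.orderOf_mk φ hφ, orderOf_eq_card_of_forall_mem_zpowers hgen, hfe]
  have hgenF : S.Fld ≤ zpowers φ := fun x hx => by
    obtain ⟨i, hi⟩ := mem_zpowers_iff.1 (hgen ⟨x, hx⟩)
    exact mem_zpowers_iff.2 ⟨i, congrArg Subtype.val hi⟩
  have hf0 : 0 < S.D.f := hord ▸ orderOf_pos φ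
  have hf3 : S.D.f ≠ 3 := fun e => by
    rw [e] at hrf
    have := Nat.le_of_dvd (by norm_num) hrf
    omega
  obtain ⟨M, J, t, τ, H⟩ := S.exists_thirty A L ih hp h3 hf3 hφ hgenF hord
  obtain ⟨z, n, l, hz, hn, hl⟩ := H.exists_z hr
  have h3r : 3 * r ∣ S.D.f := Nat.Coprime.mul_dvd_of_dvd_of_dvd
    ((Nat.prime_three.coprime_iff_not_dvd).2 (fun h => by
      have := (Nat.prime_dvd_prime_iff_eq Nat.prime_three hrp).1 h; omega)) h3 hrf
  obtain ⟨e, he⟩ := h3r
  have he0 : 0 < e := by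
    rcases Nat.eq_zero_or_pos e with h | h
    · rw [h, mul_zero] at he; omega
    · exact h
  have hdiv : S.D.f / r = 3 * e := by
    rw [he, show 3 * r * e = r * (3 * e) by ring, Nat.mul_div_cancel_left _ hrp.pos]
  set a := φ ^ (S.D.f / r)
  have hao : orderOf a = r := by
    rw [orderOf_pow' _ (by omega), hord, Nat.gcd_eq_right (Nat.div_dvd_of_dvd hrf), Nat.div_div_self hrf hf0.ne']
  have hab : a ∈ zpowers (φ ^ 3) := by
    show φ ^ (S.D.f / r) ∈ _
    rw [hdiv, pow_mul]
    exact pow_mem (mem_zpowers _) e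
  refine S.false_of_act A L (pow_mem hφ _) (by omega) hao hab ?_
    (S.max_three A L ih hp hfe hsq (pow_mem hφ _) (Or.inr hr) hao H3) hz hn hl
  intro h
  exact hrp.not_isUnit (hsq r (by
    rw [← pow_two, ← hord]
    exact h.trans (orderOf_dvd_of_mem_zpowers (pow_mem (mem_zpowers φ) 3))))

end ExtBase

end Cfsg.Agent.Invol.JankoWard
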