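import Cfsg.Agent.Lib.Invol.JankoWard.Interface
import Mathlib.LinearAlgebra.Matrix.ProjectiveSpecialLinearGroup

/-!
# The interface of the field part

`ExtBase`: an involution with centraliser `⟨t⟩ × (P ⋊ Fld)`, `Fld` a cyclic group of field automorphisms of
`P ≅ L2(q)` of odd order that centralises the Sylow 2-subgroup `⟨t, u, w⟩`.
-/

set_option autoImplicit false

namespace Cfsg.Agent.Invol.JankoWard

open Subgroup

universe u v

/-- An involution with centraliser `⟨t⟩ × (P ⋊ Fld)` of odd index. -/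
structure ExtBase (G : Type u) [Group G] (P : Type v) [Group P] where
  /-- the data of the normal factor -/
  D : LData P
  /-- the involution -/
  t : G
  /-- the embedding of the normal factor -/
  ι : P →* G
  /-- the field part -/
  Fld : Subgroup G
  inj : Function.Injective ι
  ht : orderOf t = 2
  hodd : Odd (centralizer ({t} : Set G)).index
  tc : ∀ k, ι k * t = t * ι k
  t_not : ∀ k, ι k ≠ t
  Ft : ∀ a ∈ Fld, a * t = t * a
  Fu : ∀ a ∈ Fld, a * ι D.u = ι D.u * a
  Fw : ∀ a ∈ Fld, a * ι D.w = ι D.w * a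
  F_norm : ∀ a ∈ Fld, ∀ k, ∃ k', a * ι k * a⁻¹ = ι k'
  F_disj : ∀ a ∈ Fld, ∀ k, a = ι k → a = 1
  F_faith : ∀ a ∈ Fld, (∀ k, a * ι k = ι k * a) → a = 1
  F_cyclic : IsCyclic Fld
  F_odd : Odd (Nat.card Fld)
  F_dvd : Nat.card Fld ∣ D.f
  cover : ∀ c : G, c * t = t * c → ∃ k, ∃ a ∈ Fld, c = ι k * a ∨ c = t * (ι k * a)
  fix_iso : ∀ a ∈ Fld, ∃ (K : Type) (_ : Field K) (_ : Fintype K),
    Fintype.card K = D.p ^ (D.f / orderOf a) ∧
      Nonempty (↥((centralizer ({a} : Set G)).comap ι) ≃* Matrix.ProjectiveSpecialLinearGroup (Fin 2) K)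

/-- There is no field part. -/
def ExtBase.Trivial {G : Type u} [Group G] {P : Type v} [Group P] (S : ExtBase G P) : Prop :=
  S.Fld = ⊥

end Cfsg.Agent.Invol.JankoWard
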