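import Cfsg.Agent.Lib.Invol.JankoWard.CaseDMain
import Cfsg.Agent.Lib.Invol.JankoWard.ExtInterface

/-!
Case D of the field part of the Janko–Thompson–Ward theorem, in the interface of the field part:
`q = 27` and a field part of order three is impossible.
-/

set_option autoImplicit false
set_option linter.unusedSectionVars false
set_option linter.style.haveILetI false

namespace Cfsg.Agent.Invol.JankoWard

open Subgroup

universe u v

variable {G : Type u} [Group G] {P : Type v} [Group P]

namespace ExtBase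

variable (S : ExtBase G P)

/-- The second factor `P ⋊ Fld`. -/
def factor : Subgroup G := S.ι.range ⊔ S.Fld

theorem mem_factor [Finite G] {e : G} (he : e ∈ S.factor) : ∃ k, ∃ a ∈ S.Fld, e = S.ι k * a := by
  have hN : S.Fld ≤ normalizer (S.ι.range : Set G) := fun a ha => mem_normalizer_fintype fun x hx => by
    obtain ⟨k, rfl⟩ := hx
    obtain ⟨k', hk'⟩ := S.F_norm a ha k
    exact ⟨k', hk'.symm⟩
  rw [factor, ← SetLike.mem_coe, Subgroup.coe_mul_of_right_le_normalizer_left _ _ hN] at he
  obtain ⟨_, ⟨k, rfl⟩, a, ha, rfl⟩ := he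
  exact ⟨k, a, ha, rfl⟩

theorem mem_factor_of {k : P} {a : G} (ha : a ∈ S.Fld) : S.ι k * a ∈ S.factor :=
  mul_mem (Subgroup.mem_sup_left ⟨k, rfl⟩) (Subgroup.mem_sup_right ha)

/-- The field case `q = 27`, `e = 3` is impossible. -/
theorem false_of_twentyseven [Finite G] [IsSimpleGroup G] [Finite P] (A : Amb G) (H : CaseD.L27 P)
    (h3 : Nat.card S.Fld = 3) : False := by
  have hcard : Nat.card S.factor = Nat.card P * 3 := by
    let f : P × S.Fld → S.factor := fun p => ⟨S.ι p.1 * p.2, S.mem_factor_of p.2.2⟩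
    have hf : Function.Bijective f := by
      refine ⟨?_, fun e => ?_⟩
      · rintro ⟨k, a⟩ ⟨k', a'⟩ e
        have e' : S.ι k * (a : G) = S.ι k' * a' := congrArg Subtype.val e
        have h1 : (a : G) * (a' : G)⁻¹ = S.ι (k⁻¹ * k') := by
          rw [map_mul, map_inv, eq_inv_mul_iff_mul_eq, ← mul_assoc, e', mul_inv_cancel_right]
        have h2 : (a : G) = a' := mul_inv_eq_one.1 (S.F_disj _ (mul_mem a.2 (inv_mem a'.2)) _ h1)
        rw [h2] at e'
        exact Prod.ext (S.inj (mul_right_cancel e')) (Subtype.ext h2)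
      · obtain ⟨k, a, ha, he⟩ := S.mem_factor e.2
        exact ⟨⟨k, a, ha⟩, Subtype.ext he.symm⟩
    rw [← Nat.card_congr (Equiv.ofBijective f hf), Nat.card_prod, h3]
  set L := S.ι.range.subgroupOf S.factor with hL
  haveI hLn : L.Normal := by
    refine ⟨fun x hx e => ?_⟩
    obtain ⟨k, hk⟩ := hx
    obtain ⟨m, a, ha, he⟩ := S.mem_factor e.2
    obtain ⟨k', hk'⟩ := S.F_norm a ha k
    refine ⟨m * k' * m⁻¹, ?_⟩
    show S.ι (m * k' * m⁻¹) = (e : G) * x * (e : G)⁻¹
    rw [map_mul, map_mul, map_inv, ← hk', ← show S.ι k = (x : G) from hk, he]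
    group
  let eqv : ↥L ≃* P := (Subgroup.subgroupOfEquivOfLe le_sup_left).trans (MonoidHom.ofInjective S.inj).symm
  have hLc : Nat.card L = Nat.card P := Nat.card_congr eqv.toEquiv
  have hind : L.index = 3 := by
    have h1 := L.card_mul_index
    rw [hLc, hcard] at h1
    exact Nat.eq_of_mul_eq_mul_left Nat.card_pos h1
  have hcen : ∀ k : P, (∀ m, Commute k m) → k = 1 := by
    intro k hk
    haveI := H.simple
    rcases (inferInstance : (Subgroup.center P).Normal).eq_bot_or_eq_top with h | h
    · exact Subgroup.mem_bot.1 (h ▸ Subgroup.mem_center_iff.2 fun m => (hk m).symm.eq)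
    · exfalso
      haveI : Fact (Nat.Prime 3) := ⟨Nat.prime_three⟩
      obtain ⟨x, hx⟩ := exists_prime_orderOf_dvd_card' (G := P) 3 (by rw [H.card]; norm_num)
      have h27 := (H.cent_three x (by rw [← hx, pow_orderOf_eq_one]) fun e => by
        rw [e, orderOf_one] at hx; omega).1
      have htop : centralizer ({x} : Set P) = ⊤ := top_unique fun m _ => mem_centralizer_singleton_iff.2
        (Subgroup.mem_center_iff.1 (h.ge (Subgroup.mem_top x)) m)
      rw [htop, Subgroup.card_top, H.card] at h27
      omega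
  have hC : centralizer (L : Set S.factor) = ⊥ := by
    refine (Subgroup.eq_bot_iff_forall _).2 fun e he => ?_
    obtain ⟨k, a, ha, hea⟩ := S.mem_factor e.2
    have hc : ∀ m, Commute (S.ι k * a) (S.ι m) := fun m => by
      have h1 := mem_centralizer_iff.1 he ⟨S.ι m, Subgroup.mem_sup_left ⟨m, rfl⟩⟩ ⟨m, rfl⟩
      have h2 : S.ι m * (e : G) = (e : G) * S.ι m := congrArg Subtype.val h1
      rw [hea] at h2
      exact h2.symm
    -- `k` commutes with the four-group
    have hku : ∀ v : P, Commute a (S.ι v) → Commute k v := fun v hv => by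
      have h1 := (hc v).mul_left hv.inv_left
      rw [mul_inv_cancel_right] at h1
      exact S.inj (by rw [map_mul, map_mul]; exact h1.eq)
    have hk2 : k * k = 1 ∧ Commute a (S.ι k) := by
      have hu : Commute a (S.ι S.D.u) := S.Fu a ha
      have hw : Commute a (S.ι S.D.w) := S.Fw a ha
      rcases S.D.comm_uw (hku _ hu).eq (hku _ hw).eq with rfl | rfl | rfl | rfl
      · exact ⟨one_mul 1, by rw [map_one]; exact Commute.one_right a⟩
      · exact ⟨S.D.u2, hu⟩
      · exact ⟨S.D.w2, hw⟩
      · refine ⟨?_, by rw [map_mul]; exact hu.mul_right hw⟩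
        rw [mul_assoc, ← mul_assoc S.D.w, ← S.D.comm, mul_assoc, S.D.w2, mul_one, S.D.u2]
    have ha3 : a ^ 3 = 1 := by
      have h1 := congrArg Subtype.val (pow_card_eq_one' (x := (⟨a, ha⟩ : S.Fld)))
      rwa [h3] at h1
    have ha2 : a ^ 2 = 1 := by
      refine S.F_faith _ (pow_mem ha 2) fun m => ?_
      have h1 := (hc m).mul_left (hc m)
      rw [hk2.2.mul_mul_mul_comm, ← map_mul, hk2.1, map_one, one_mul, ← pow_two] at h1
      exact h1.eq
    have ha1 : a = 1 := by rwa [pow_succ, ha2, one_mul] at ha3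
    have hk1 : k = 1 := hcen k fun m => S.inj (by
      rw [map_mul, map_mul]
      have := (hc m).eq
      rwa [ha1, mul_one] at this)
    exact Subtype.ext (by rw [hea, hk1, ha1, map_one, one_mul]; rfl)
  obtain ⟨ed⟩ := CaseD.exists_eData L (H.of_equiv eqv) hind hC
  have htt : S.t * S.t = 1 := by rw [← pow_two, ← S.ht, pow_orderOf_eq_one]
  let D : CaseD.DHyp G :=
    { t := S.t
      E := S.factor
      ed := ed
      amb := A
      ht := S.ht
      hEt := fun e he => by
        obtain ⟨k, a, ha, rfl⟩ := S.mem_factor he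
        exact (show Commute (S.ι k) S.t from S.tc k).mul_left (show Commute a S.t from S.Ft a ha)
      t_not := fun he => by
        obtain ⟨k, a, ha, he'⟩ := S.mem_factor he
        have ha3 : a ^ 3 = 1 := by
          have h1 := congrArg Subtype.val (pow_card_eq_one' (x := (⟨a, ha⟩ : S.Fld)))
          rwa [h3] at h1
        have h1 : a = S.ι k⁻¹ * S.t := by rw [he', map_inv, inv_mul_cancel_left]
        rw [h1, (show Commute (S.ι k⁻¹) S.t from S.tc _).mul_pow, ← map_pow, pow_succ S.t, pow_two S.t, htt, one_mul]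
          at ha3
        exact S.t_not ((k⁻¹ ^ 3)⁻¹) (by rw [map_inv]; exact inv_eq_of_mul_eq_one_right ha3)
      cover := fun c hc => by
        obtain ⟨k, a, ha, rfl | rfl⟩ := S.cover c hc.eq
        · exact Or.inl (S.mem_factor_of ha)
        · refine Or.inr ?_
          rw [← mul_assoc S.t S.t, htt, one_mul]
          exact S.mem_factor_of ha }
  exact D.contradiction

/-- The field case `q = 27`, `e = 3` is impossible, for `P ≅ L2(27)`. -/
theorem false_of_psl_twentyseven [Finite G] [IsSimpleGroup G] [Finite P] (A : Amb G) {F : Type} [Field F]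
    [Fintype F] (hF : Fintype.card F = 27) (e : P ≃* Matrix.ProjectiveSpecialLinearGroup (Fin 2) F)
    (h3 : Nat.card S.Fld = 3) : False :=
  S.false_of_twentyseven A ((CaseD.l27_psl hF).of_equiv e) h3

end ExtBase

end Cfsg.Agent.Invol.JankoWard
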