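import Cfsg.Agent.Lib.Invol.JankoWard.ExtInterface
import Cfsg.Prelude.Def_Characters
import Mathlib.GroupTheory.Sylow

/-!
# The hypotheses of the block part of the field configuration

`ExtLocals`: the fusion in the normaliser of the Sylow 2-subgroup; `ExtTable`: what is used of the character
table of `P ≅ L2(q)`, `q = 3 (mod 8)`.
-/

set_option autoImplicit false

namespace Cfsg.Agent.Invol.JankoWard

open Subgroup

open scoped Classical

universe u v

/-- The element of order three of the normaliser of `⟨t, u, w⟩` that cycles `⟨t, u⟩` and centralises the field part. It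
centralises the conjugate `c t c⁻¹` of `t`, which is `t w` or `t u w`. -/
structure ExtLocals {G : Type u} [Group G] {P : Type v} [Group P] (S : ExtBase G P) where
  /-- the element -/
  g : G
  /-- an element moving `t` to the fixed involution of `g` -/
  c : G
  /-- the preimage of `g` in the second factor of the centraliser of the fixed involution -/
  d : P
  g3 : g ^ 3 = 1
  gt : g * S.t * g⁻¹ = S.ι S.D.u
  gu : g * S.ι S.D.u * g⁻¹ = S.t * S.ι S.D.u
  gx : g * (c * S.t * c⁻¹) = c * S.t * c⁻¹ * g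
  gF : ∀ a ∈ S.Fld, g * a = a * g
  ct : c * S.t * c⁻¹ = S.t * S.ι S.D.w ∨ c * S.t * c⁻¹ = S.t * S.ι (S.D.u * S.D.w)
  gd : g = c * S.ι d * c⁻¹
  d3 : d ^ 3 = 1
  gY : ∀ y ∈ S.D.Y, ∃ y' ∈ S.D.Y, g * S.ι y * g⁻¹ = S.ι y'
  one_class : ∀ x : G, orderOf x = 2 → IsConj S.t x
  norm_F : ∀ x : G, x * S.t * x⁻¹ ∈ ({S.t, S.ι S.D.u, S.t * S.ι S.D.u} : Set G) →
    x * S.ι S.D.u * x⁻¹ ∈ ({S.t, S.ι S.D.u, S.t * S.ι S.D.u} : Set G) →
      ∃ i : ℕ, ∃ k : P, k * S.D.u = S.D.u * k ∧ ∃ a ∈ S.Fld,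
        x = g ^ i * (S.ι k * a) ∨ x = g ^ i * (S.t * (S.ι k * a))

/-- The element acts without fixed points on `Y`. -/
def ExtLocals.Free {G : Type u} [Group G] {P : Type v} [Group P] {S : ExtBase G P} (L : ExtLocals S) : Prop :=
  ∀ y ∈ S.D.Y, L.g * S.ι y * L.g⁻¹ = S.ι y → y = 1

/-- What is used of the character table of `L2(q)`, `q = 4r - 1 = 3^f`. -/
structure ExtTable {P : Type v} [Group P] [Fintype P] (D : LData P) where
  /-- the Sylow 3-subgroups are permuted doubly transitively -/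
  card_syl : Nat.card (Sylow 3 P) = D.q + 1
  /-- they meet trivially -/
  syl_ti : ∀ U U' : Sylow 3 P, U ≠ U' → (U : Subgroup P) ⊓ (U' : Subgroup P) = ⊥
  /-- the normaliser of one of them has odd order -/
  syl_odd : ∀ U : Sylow 3 P, Odd (Nat.card (normalizer ((U : Subgroup P) : Set P)))
  /-- the elements of order three -/
  three_class : ∀ a b : P, orderOf a = 3 → orderOf b = 3 → IsConj a b ∨ IsConj a b⁻¹
  /-- the inequality satisfied by every irreducible character at `1`, `u`, `Y`, `uY` and an element of order three -/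
  ineq : ∀ θ : IrrCharacter P, ∀ h : P, orderOf h = 3 →
    let N : ℝ := ((∑ y : D.Y, ((θ : P → ℂ) y + (θ : P → ℂ) (D.u * y))).re) / (2 * D.r)
    let A : ℝ := ((∑ y : D.Y, (θ : P → ℂ) (D.u * y)).re) / D.r
    let J : ℝ := ((θ : P → ℂ) D.u).re - A
    2 * (D.r : ℝ) * (N + 4 * ((θ : P → ℂ) h).re) + (8 * (D.r : ℝ) - 3) * |J|
        - (10 * (D.r : ℝ) - 3) * A ≤ 3 * ((θ : P → ℂ) 1).re

end Cfsg.Agent.Invol.JankoWard
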