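import Cfsg.Agent.Lib.Invol.JankoWard.ExtSylow
import Cfsg.Agent.Lib.Invol.JankoWard.ExtHyp
import Cfsg.Agent.Lib.Transfer.Abelian

/-!
# The element of order three of `ExtLocals`

The fusion in the normaliser of `⟨t, u, w⟩`, which centralises the field part.
-/

set_option autoImplicit false
set_option linter.unusedSectionVars false
set_option linter.style.haveILetI false

namespace Cfsg.Agent.Invol.JankoWard.ExtBase

open Subgroup

universe u v

variable {G : Type u} [Group G] [Finite G] {P : Type v} [Group P] [Finite P] (S : ExtBase G P)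

theorem t1 : S.t ≠ 1 := S.t_ne

theorem ι_ne_tι (a b : P) : S.ι a ≠ S.t * S.ι b := fun e => S.t_not (a * b⁻¹) (by
  rw [map_mul, e, map_inv, mul_inv_cancel_right])

/-- All involutions are conjugate, and an element normalising the Sylow subgroup moves `t` to `u`. -/
theorem fusion [IsSimpleGroup G] (A : Amb G) (T : Sylow 2 G)
    (hT : ∀ x, x ∈ (T : Subgroup G) ↔
      ∃ k ∈ fourSub S.D.u S.D.w S.D.u2 S.D.w2 S.D.comm, x = S.ι k ∨ x = S.t * S.ι k) :
    (∀ x : G, orderOf x = 2 → IsConj S.t x) ∧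
      ∃ n ∈ normalizer ((T : Subgroup G) : Set G), n * S.t * n⁻¹ = S.ι S.D.u := by
  classical
  haveI : Fact (Nat.Prime 2) := ⟨Nat.prime_two⟩
  obtain ⟨h, h3, hu, hw⟩ := S.exists_h A
  set D := S.D
  set N := normalizer ((T : Subgroup G) : Set G) with hN
  have hTsq : ∀ x ∈ (T : Subgroup G), x * x = 1 := fun x hx => by
    obtain ⟨k, hk⟩ := T.isPGroup' ⟨x, hx⟩
    exact A.sq2 x ⟨k, congrArg Subtype.val hk⟩
  have hTc : IsMulCommutative ↥(T : Subgroup G) := ⟨⟨fun a b => Subtype.ext (by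
    show (a : G) * b = b * a
    have h1 := hTsq _ (mul_mem a.2 b.2)
    rw [← inv_eq_of_mul_eq_one_left h1, mul_inv_rev, inv_eq_of_mul_eq_one_left (hTsq a a.2),
      inv_eq_of_mul_eq_one_left (hTsq b b.2)])⟩⟩
  have htT : S.t ∈ (T : Subgroup G) := (hT _).2 ⟨1, one_mem _, Or.inr (by rw [map_one, mul_one])⟩
  have hK : ∀ k ∈ fourSub D.u D.w D.u2 D.w2 D.comm, h * k * h⁻¹ ∈ fourSub D.u D.w D.u2 D.w2 D.comm := by
    rintro k (rfl | rfl | rfl | rfl)
    · left; group
    · right; right; left; exact hu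
    · right; right; right; exact hw
    · right; left
      rw [show h * (D.u * D.w) * h⁻¹ = (h * D.u * h⁻¹) * (h * D.w * h⁻¹) by group, hu, hw, ← mul_assoc, ← D.comm,
        mul_assoc, D.w2, mul_one]
  have hht : S.ι h * S.t * (S.ι h)⁻¹ = S.t := by rw [S.tc, mul_inv_cancel_right]
  have hhN : S.ι h ∈ N := mem_normalizer_fintype fun x hx => by
    obtain ⟨k, hk, e⟩ := (hT x).1 hx
    refine (hT _).2 ⟨h * k * h⁻¹, hK k hk, ?_⟩
    rcases e with rfl | rfl
    · exact Or.inl (by rw [map_mul, map_mul, map_inv])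
    · refine Or.inr ?_
      rw [show S.ι h * (S.t * S.ι k) * (S.ι h)⁻¹ = S.ι h * S.t * (S.ι h)⁻¹ * (S.ι h * S.ι k * (S.ι h)⁻¹) by group,
        hht, map_mul, map_mul, map_inv]
  -- `t` is moved
  obtain ⟨n₀, hn₀, hne⟩ : ∃ n ∈ N, n * S.t * n⁻¹ ≠ S.t := by
    by_contra hall
    push Not at hall
    have h1 := (Transfer.abelian_sylow_decomp T hTc).1
    have hC : S.t ∈ (T : Subgroup G) ⊓ centralizer (N : Set G) := ⟨htT, mem_centralizer_iff.2 fun n hn =>
      mul_inv_eq_iff_eq_mul.1 (hall n hn)⟩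
    have htop : Cfsg.pResidual 2 G = ⊤ := by
      refine ((Subgroup.normal_of_characteristic _).eq_bot_or_eq_top).resolve_left fun e => A.na ?_
      obtain ⟨k, hk⟩ := Transfer.exists_pResidual_index (G := G) 2
      rw [e, index_bot] at hk
      have hG : IsPGroup 2 ↥(⊤ : Subgroup G) := IsPGroup.of_card (n := k) (by rw [card_top, hk])
      have hTt : (T : Subgroup G) = ⊤ := (T.is_maximal' hG le_top).symm
      exact ⟨⟨fun a b => congrArg Subtype.val (hTc.is_comm.comm (⟨a, hTt ▸ mem_top a⟩ : ↥(T : Subgroup G))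
        ⟨b, hTt ▸ mem_top b⟩)⟩⟩
    rw [htop, inf_top_eq] at h1
    exact S.t1 (mem_bot.1 (h1 ▸ ⟨htT, hC⟩))
  -- the orbit of `t`
  set O : Set G := {x | ∃ n ∈ N, n * S.t * n⁻¹ = x} with hO
  have hOodd : Odd O.ncard := by
    letI : MulAction ↥N G := MulAction.compHom G (MulAut.conj.comp N.subtype)
    have hact : ∀ (m : ↥N) (y : G), m • y = (m : G) * y * (m : G)⁻¹ := fun _ _ => rfl
    have horb : O = MulAction.orbit ↥N S.t := by
      ext y
      simp only [hO, Set.mem_setOf_eq, MulAction.mem_orbit_iff, hact]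
      exact ⟨fun ⟨m, hm, e⟩ => ⟨⟨m, hm⟩, e⟩, fun ⟨⟨m, hm⟩, e⟩ => ⟨m, hm, e⟩⟩
    rw [horb, ← Nat.card_coe_set_eq, Nat.card_congr (MulAction.orbitEquivQuotientStabilizer ↥N S.t),
      ← Subgroup.index_eq_card]
    have hle : (T : Subgroup G).subgroupOf N ≤ MulAction.stabilizer ↥N S.t := fun m hm => by
      rw [MulAction.mem_stabilizer_iff, hact, show (m : G) * S.t = S.t * m from
        congrArg Subtype.val (hTc.is_comm.comm ⟨m, hm⟩ ⟨S.t, htT⟩), mul_inv_cancel_right]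
    refine Nat.odd_iff.2 (Nat.two_dvd_ne_zero.1 fun h2 => ?_)
    exact T.not_dvd_index (h2.trans ((Subgroup.index_dvd_of_le hle).trans
      (relIndex_dvd_index_of_le (Subgroup.le_normalizer (H := (T : Subgroup G))))))
  have hOT : ∀ x ∈ O, x ∈ (T : Subgroup G) := by
    rintro x ⟨n, hn, rfl⟩
    exact (mem_normalizer_iff.1 hn _).1 htT
  have hOh : ∀ x ∈ O, S.ι h * x * (S.ι h)⁻¹ ∈ O := by
    rintro x ⟨n, hn, rfl⟩
    exact ⟨S.ι h * n, mul_mem hhN hn, by group⟩
  have htO : S.t ∈ O := ⟨1, one_mem _, by group⟩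
  have hιne : ∀ a : P, a ≠ 1 → S.ι a ≠ 1 := fun a ha e => ha (S.inj (e.trans (map_one _).symm))
  have huw1 : D.u * D.w ≠ 1 := fun e =>
    D.uw ((eq_inv_of_mul_eq_one_left e).trans (inv_eq_of_mul_eq_one_left D.w2))
  have hhuw : h * (D.u * D.w) * h⁻¹ = D.u := by
    rw [show h * (D.u * D.w) * h⁻¹ = (h * D.u * h⁻¹) * (h * D.w * h⁻¹) by group, hu, hw, ← mul_assoc, ← D.comm,
      mul_assoc, D.w2, mul_one]
  have hcyc : ∀ a b : P, h * a * h⁻¹ = b → (S.ι a ∈ O → S.ι b ∈ O) ∧ (S.t * S.ι a ∈ O → S.t * S.ι b ∈ O) := by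
    rintro a b rfl
    refine ⟨fun ha => ?_, fun ha => ?_⟩
    · have := hOh _ ha
      rwa [← map_inv, ← map_mul, ← map_mul] at this
    · have := hOh _ ha
      rwa [show S.ι h * (S.t * S.ι a) * (S.ι h)⁻¹ = S.ι h * S.t * (S.ι h)⁻¹ * (S.ι h * S.ι a * (S.ι h)⁻¹) by group,
        hht, ← map_inv, ← map_mul, ← map_mul] at this
  have hall : S.ι D.u ∈ O ∧ S.ι D.w ∈ O ∧ S.ι (D.u * D.w) ∈ O ∧ S.t * S.ι D.u ∈ O ∧ S.t * S.ι D.w ∈ O ∧
      S.t * S.ι (D.u * D.w) ∈ O := by
    by_contra hnot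
    have hsub : ∀ x ∈ O, x = S.t ∨ x = S.ι D.u ∨ x = S.ι D.w ∨ x = S.ι (D.u * D.w) ∨ x = S.t * S.ι D.u ∨
        x = S.t * S.ι D.w ∨ x = S.t * S.ι (D.u * D.w) := by
      intro x hx
      have hx1 : x ≠ 1 := by
        obtain ⟨n, -, rfl⟩ := hx
        exact fun e => S.t1 (conj_eq_one_iff.1 e)
      obtain ⟨k, hk, e⟩ := (hT x).1 (hOT x hx)
      rcases hk with rfl | rfl | rfl | rfl <;> rcases e with rfl | rfl
      all_goals first
        | exact absurd (map_one _) hx1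
        | (rw [map_one, mul_one]; tauto)
        | tauto
    obtain ⟨c1, c2⟩ := hcyc _ _ hu
    obtain ⟨c3, c4⟩ := hcyc _ _ hw
    obtain ⟨c5, c6⟩ := hcyc _ _ hhuw
    by_cases hA : S.ι D.u ∈ O
    · -- the orbit is `t` and the triple in `P`
      have hB : S.t * S.ι D.u ∉ O := fun hB => hnot ⟨hA, c1 hA, c3 (c1 hA), hB, c2 hB, c4 (c2 hB)⟩
      have heq : O = ↑({S.t, S.ι D.u, S.ι D.w, S.ι (D.u * D.w)} : Finset G) := by
        ext x
        simp only [Finset.coe_insert, Finset.coe_singleton, Set.mem_insert_iff, Set.mem_singleton_iff]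
        refine ⟨fun hx => ?_, ?_⟩
        · rcases hsub x hx with e | e | e | e | e | e | e
          · exact Or.inl e
          · exact Or.inr (Or.inl e)
          · exact Or.inr (Or.inr (Or.inl e))
          · exact Or.inr (Or.inr (Or.inr e))
          · exact absurd (e ▸ hx) hB
          · exact absurd (c6 (c4 (e ▸ hx))) hB
          · exact absurd (c6 (e ▸ hx)) hB
        · rintro (rfl | rfl | rfl | rfl)
          exacts [htO, hA, c1 hA, c3 (c1 hA)]
      rw [heq, Set.ncard_coe_finset, Finset.card_insert_of_notMem, Finset.card_insert_of_notMem,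
        Finset.card_insert_of_notMem, Finset.card_singleton] at hOodd
      · exact (Nat.not_even_iff_odd.2 hOodd) (by decide)
      · simp [S.inj.eq_iff, D.u1, hιne _ D.u1, hιne _ D.w1]
      · simp [S.inj.eq_iff, D.uw, D.w1, hιne _ D.u1, hιne _ D.w1]
      · simp only [Finset.mem_insert, Finset.mem_singleton]
        rintro (e | e | e) <;> exact S.t_not _ e.symm
    · have hB : S.t * S.ι D.u ∈ O := by
        by_contra hB
        obtain ⟨x, hx, hxt⟩ : ∃ x ∈ O, x ≠ S.t := ⟨_, ⟨n₀, hn₀, rfl⟩, hne⟩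
        rcases hsub x hx with e | e | e | e | e | e | e <;> subst e
        · exact hxt rfl
        · exact hA hx
        · exact hA (c5 (c3 hx))
        · exact hA (c5 hx)
        · exact hB hx
        · exact hB (c6 (c4 hx))
        · exact hB (c6 hx)
      have heq : O = ↑({S.t, S.t * S.ι D.u, S.t * S.ι D.w, S.t * S.ι (D.u * D.w)} : Finset G) := by
        ext x
        simp only [Finset.coe_insert, Finset.coe_singleton, Set.mem_insert_iff, Set.mem_singleton_iff]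
        refine ⟨fun hx => ?_, ?_⟩
        · rcases hsub x hx with e | e | e | e | e | e | e
          · exact Or.inl e
          · exact absurd (e ▸ hx) hA
          · exact absurd (c5 (c3 (e ▸ hx))) hA
          · exact absurd (c5 (e ▸ hx)) hA
          · exact Or.inr (Or.inl e)
          · exact Or.inr (Or.inr (Or.inl e))
          · exact Or.inr (Or.inr (Or.inr e))
        · rintro (rfl | rfl | rfl | rfl)
          exacts [htO, hB, c2 hB, c4 (c2 hB)]
      rw [heq, Set.ncard_coe_finset, Finset.card_insert_of_notMem, Finset.card_insert_of_notMem,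
        Finset.card_insert_of_notMem, Finset.card_singleton] at hOodd
      · exact (Nat.not_even_iff_odd.2 hOodd) (by decide)
      · simp [S.inj.eq_iff, D.u1, hιne _ D.u1, hιne _ D.w1]
      · simp [S.inj.eq_iff, D.uw, D.w1, hιne _ D.u1, hιne _ D.w1]
      · simp only [Finset.mem_insert, Finset.mem_singleton, left_eq_mul]
        rintro (e | e | e)
        exacts [hιne _ D.u1 e, hιne _ D.w1 e, hιne _ huw1 e]
  refine ⟨fun x hx => ?_, hall.1⟩
  obtain ⟨c, hc⟩ := Invol.exists_conj_mem_sylow (n := 1) (x := x) (by rw [hx, pow_one]) T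
  have hxO : c * x * c⁻¹ ∈ O := by
    have hne1 : c * x * c⁻¹ ≠ 1 := fun e => by rw [conj_eq_one_iff.1 e, orderOf_one] at hx; omega
    obtain ⟨h1, h2, h3, h4, h5, h6⟩ := hall
    obtain ⟨k, hk, e⟩ := (hT _).1 hc
    rcases hk with rfl | rfl | rfl | rfl <;> rcases e with e | e <;> rw [e]
    · exact absurd (e.trans (map_one _)) hne1
    · rw [map_one, mul_one]; exact htO
    all_goals assumption
  obtain ⟨n, -, hn⟩ := hxO
  exact isConj_iff.2 ⟨c⁻¹ * n, by
    rw [show c⁻¹ * n * S.t * (c⁻¹ * n)⁻¹ = c⁻¹ * (n * S.t * n⁻¹) * c by group, hn]; group⟩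

/-- An element of order three cycling `⟨t, u⟩` in a conjugate of `P`. -/
theorem exists_move [IsSimpleGroup G] (A : Amb G) :
    ∃ (T : Sylow 2 G) (h : P) (c : G) (d : P), h ^ 3 = 1 ∧ h * S.D.u * h⁻¹ = S.D.w ∧
      h * S.D.w * h⁻¹ = S.D.u * S.D.w ∧ (d = h ∨ d = h⁻¹) ∧
      (∀ x, x ∈ (T : Subgroup G) ↔
        ∃ k ∈ fourSub S.D.u S.D.w S.D.u2 S.D.w2 S.D.comm, x = S.ι k ∨ x = S.t * S.ι k) ∧
      c ∈ normalizer ((T : Subgroup G) : Set G) ∧
      c * S.ι d * c⁻¹ * S.t * (c * S.ι d * c⁻¹)⁻¹ = S.ι S.D.u ∧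
      c * S.ι d * c⁻¹ * S.ι S.D.u * (c * S.ι d * c⁻¹)⁻¹ = S.t * S.ι S.D.u ∧
      ∀ x : G, orderOf x = 2 → IsConj S.t x := by
  classical
  haveI : Fact (Nat.Prime 2) := ⟨Nat.prime_two⟩
  obtain ⟨T, hT⟩ := S.exists_sylow A
  obtain ⟨hone, n, hn, hnt⟩ := S.fusion A T hT
  obtain ⟨h, h3, hu, hw⟩ := S.exists_h A
  set D := S.D
  have hhuw : h * (D.u * D.w) * h⁻¹ = D.u := by
    rw [show h * (D.u * D.w) * h⁻¹ = (h * D.u * h⁻¹) * (h * D.w * h⁻¹) by group, hu, hw, ← mul_assoc, ← D.comm,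
      mul_assoc, D.w2, mul_one]
  set U := S.ι D.u with hU
  set W := S.ι D.w with hW
  have hUW : S.ι (D.u * D.w) = U * W := map_mul _ _ _
  have hcUW : U * W = W * U := by rw [hU, hW, ← map_mul, D.comm, map_mul]
  have hU2 : U * U = 1 := by rw [hU, ← map_mul, D.u2, map_one]
  have hW2 : W * W = 1 := by rw [hW, ← map_mul, D.w2, map_one]
  have hUt : U * S.t = S.t * U := S.tc _
  have hWt : W * S.t = S.t * W := S.tc _
  -- the elements of the Sylow subgroup
  have hmem : ∀ x, x ∈ (T : Subgroup G) ↔ x = 1 ∨ x = U ∨ x = W ∨ x = U * W ∨ x = S.t ∨ x = S.t * U ∨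
      x = S.t * W ∨ x = S.t * (U * W) := by
    intro x
    rw [hT]
    constructor
    · rintro ⟨k, hk, e⟩
      rcases hk with rfl | rfl | rfl | rfl <;> rcases e with rfl | rfl <;> simp [hU, hW]
    · rintro (rfl | rfl | rfl | rfl | rfl | rfl | rfl | rfl)
      · exact ⟨1, one_mem _, Or.inl (map_one _).symm⟩
      · exact ⟨_, Or.inr (Or.inl rfl), Or.inl rfl⟩
      · exact ⟨_, Or.inr (Or.inr (Or.inl rfl)), Or.inl rfl⟩
      · exact ⟨_, Or.inr (Or.inr (Or.inr rfl)), Or.inl hUW.symm⟩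
      · exact ⟨1, one_mem _, Or.inr (by rw [map_one, mul_one])⟩
      · exact ⟨_, Or.inr (Or.inl rfl), Or.inr rfl⟩
      · exact ⟨_, Or.inr (Or.inr (Or.inl rfl)), Or.inr rfl⟩
      · exact ⟨_, Or.inr (Or.inr (Or.inr rfl)), Or.inr (by rw [hUW])⟩
  -- conjugation by `ι h` fixes only `1` and `t`
  have hnu : D.u * D.w ≠ 1 := fun e =>
    D.uw ((eq_inv_of_mul_eq_one_left e).trans (inv_eq_of_mul_eq_one_left D.w2))
  have hfix : ∀ x ∈ (T : Subgroup G), S.ι h * x * (S.ι h)⁻¹ = x → x = 1 ∨ x = S.t := by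
    intro x hx e
    obtain ⟨k, hk, ek⟩ := (hT x).1 hx
    have hk' : h * k * h⁻¹ = k := by
      rcases ek with rfl | rfl
      · exact S.inj (by rw [map_mul, map_mul, map_inv]; exact e)
      · refine S.inj ?_
        rw [show S.ι h * (S.t * S.ι k) * (S.ι h)⁻¹ = S.ι h * S.t * (S.ι h)⁻¹ * (S.ι h * S.ι k * (S.ι h)⁻¹) by
          group, S.tc, mul_inv_cancel_right] at e
        rw [map_mul, map_mul, map_inv]
        exact mul_left_cancel e
    have hk1 : k = 1 := by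
      rcases hk with rfl | rfl | rfl | rfl
      · rfl
      · exact absurd (hu.symm.trans hk') D.uw.symm
      · exact absurd (mul_eq_right.1 (hw.symm.trans hk')) D.u1
      · exact absurd (left_eq_mul.1 (hhuw.symm.trans hk')) D.w1
    rcases ek with rfl | rfl <;> simp [hk1]
  -- the conjugate fixing `u`
  set m := n * S.ι h * n⁻¹ with hm
  have hmu : m * U * m⁻¹ = U := by
    rw [hm, ← hnt, show n * S.ι h * n⁻¹ * (n * S.t * n⁻¹) * (n * S.ι h * n⁻¹)⁻¹ =
      n * (S.ι h * S.t * (S.ι h)⁻¹) * n⁻¹ by group, S.tc, mul_inv_cancel_right]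
  have hm3 : m ^ 3 = 1 := by rw [hm, conj_pow, ← map_pow, h3, map_one, mul_one, mul_inv_cancel]
  have hmfix : ∀ x ∈ (T : Subgroup G), m * x * m⁻¹ = x → x = 1 ∨ x = U := by
    intro x hx e
    have hx' : n⁻¹ * x * n ∈ (T : Subgroup G) := by
      have := (mem_normalizer_iff.1 (inv_mem hn) x).1 hx
      rwa [inv_inv] at this
    rcases hfix _ hx' (by
      calc S.ι h * (n⁻¹ * x * n) * (S.ι h)⁻¹ = n⁻¹ * (m * x * m⁻¹) * n := by rw [hm]; group
        _ = n⁻¹ * x * n := by rw [e]) with h1 | h1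
    · left
      rw [show n⁻¹ * x * n = n⁻¹ * x * n⁻¹⁻¹ by group] at h1
      exact conj_eq_one_iff.1 h1
    · right; rw [← hnt, ← h1]; group
  have hmT : ∀ x ∈ (T : Subgroup G), m * x * m⁻¹ ∈ (T : Subgroup G) := by
    intro x hx
    have hx' : n⁻¹ * x * n ∈ (T : Subgroup G) := by
      have := (mem_normalizer_iff.1 (inv_mem hn) x).1 hx
      rwa [inv_inv] at this
    obtain ⟨k, hk, e⟩ := (hT _).1 hx'
    have hh : S.ι h * (n⁻¹ * x * n) * (S.ι h)⁻¹ ∈ (T : Subgroup G) := by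
      refine (hT _).2 ⟨h * k * h⁻¹, ?_, ?_⟩
      · rcases hk with rfl | rfl | rfl | rfl
        · left; group
        · right; right; left; exact hu
        · right; right; right; exact hw
        · right; left; exact hhuw
      · rcases e with e | e <;> rw [e]
        · exact Or.inl (by rw [map_mul, map_mul, map_inv])
        · refine Or.inr ?_
          rw [show S.ι h * (S.t * S.ι k) * (S.ι h)⁻¹ = S.ι h * S.t * (S.ι h)⁻¹ * (S.ι h * S.ι k * (S.ι h)⁻¹) by
            group, S.tc, mul_inv_cancel_right, map_mul, map_mul, map_inv]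
    have := (mem_normalizer_iff.1 hn _).1 hh
    convert this using 1
    rw [hm]; group
  -- modulo `u`
  set W1 := m * W * m⁻¹ with hW1
  have hWT : W ∈ (T : Subgroup G) := (hmem W).2 (by tauto)
  have hW1T : W1 ∈ (T : Subgroup G) := hmT W hWT
  have hne1 : W ≠ 1 := fun e => D.w1 (S.inj (e.trans (map_one _).symm))
  have hneU : W ≠ U := fun e => D.uw (S.inj e.symm)
  have hnotU : W1 ≠ U * W := fun e => by
    have h3 : m * (m * (m * W * m⁻¹) * m⁻¹) * m⁻¹ = W := by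
      rw [show m * (m * (m * W * m⁻¹) * m⁻¹) * m⁻¹ = m ^ 3 * W * (m ^ 3)⁻¹ by simp [pow_succ, mul_assoc], hm3]
      group
    have hstep : m * (U * W) * m⁻¹ = W := by
      rw [show m * (U * W) * m⁻¹ = (m * U * m⁻¹) * (m * W * m⁻¹) by group, hmu, ← hW1, e, ← mul_assoc, hU2, one_mul]
    rw [← hW1, e, hstep, ← hW1, e] at h3
    exact D.u1 (S.inj ((mul_eq_right.1 h3).trans (map_one _).symm))
  have hW1cases : (W1 = S.t ∨ W1 = S.t * U) ∨ (W1 = S.t * W ∨ W1 = S.t * (U * W)) := by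
    rcases (hmem W1).1 hW1T with e | e | e | e | e | e | e | e
    · exact absurd (conj_eq_one_iff.1 e) hne1
    · exact absurd ((MulAut.conj m).injective (show MulAut.conj m W = MulAut.conj m U from e.trans hmu.symm)) hneU
    · exact absurd (hmfix W hWT e) (fun h => h.elim hne1 hneU)
    · exact absurd e hnotU
    all_goals tauto
  have hmN : m ∈ normalizer ((T : Subgroup G) : Set G) := mem_normalizer_fintype hmT
  obtain ⟨c, hcU, hcW, hcN⟩ : ∃ c, c * U * c⁻¹ = U ∧ (c * W * c⁻¹ = S.t ∨ c * W * c⁻¹ = S.t * U) ∧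
      c ∈ normalizer ((T : Subgroup G) : Set G) := by
    rcases hW1cases with e | e
    · exact ⟨m, hmu, e, hmN⟩
    · refine ⟨m * m, ?_, ?_, ?_⟩
      · rw [show m * m * U * (m * m)⁻¹ = m * (m * U * m⁻¹) * m⁻¹ by group, hmu, hmu]
      swap
      · exact mul_mem hmN hmN
      rw [show m * m * W * (m * m)⁻¹ = m * W1 * m⁻¹ by rw [hW1]; group]
      have hW2T := hmT W1 hW1T
      have hback : m * (m * W1 * m⁻¹) * m⁻¹ = W := by
        rw [hW1, show m * (m * (m * W * m⁻¹) * m⁻¹) * m⁻¹ = m ^ 3 * W * (m ^ 3)⁻¹ by simp [pow_succ, mul_assoc],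
          hm3]
        group
      have hcT' : ∀ a ∈ (T : Subgroup G), ∀ b ∈ (T : Subgroup G), a * b = b * a := fun a ha b hb => by
        have hsq : ∀ z ∈ (T : Subgroup G), z⁻¹ = z := fun z hz => by
          obtain ⟨k, hk⟩ := T.isPGroup' ⟨z, hz⟩
          exact inv_eq_of_mul_eq_one_left (A.sq2 z ⟨k, congrArg Subtype.val hk⟩)
        rw [← hsq _ (mul_mem ha hb), mul_inv_rev, hsq a ha, hsq b hb]
      set W2 := m * W1 * m⁻¹ with hW2d
      have hfixed : m * (W * W1 * W2) * m⁻¹ = W * W1 * W2 := by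
        rw [show m * (W * W1 * W2) * m⁻¹ = (m * W * m⁻¹) * (m * W1 * m⁻¹) * (m * W2 * m⁻¹) by group, hback, ← hW1,
          ← hW2d, hcT' _ (mul_mem hW1T hW2T) W hWT, ← mul_assoc]
      have hWW1 : W * W1 = S.t ∨ W * W1 = S.t * U := by
        rcases e with e | e
        · left; rw [e, ← mul_assoc, hWt, mul_assoc, hW2, mul_one]
        · right; rw [e, hcUW, ← mul_assoc, hWt, mul_assoc, ← mul_assoc W, hW2, one_mul]
      have htU : S.t * U * (S.t * U) = 1 := by
        rw [mul_assoc, ← mul_assoc U, hUt, mul_assoc, hU2, mul_one, S.tt]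
      rcases hmfix _ (mul_mem (mul_mem hWT hW1T) hW2T) hfixed with h1 | h1 <;> rcases hWW1 with h2 | h2 <;>
        rw [h2] at h1
      · exact Or.inl ((eq_inv_of_mul_eq_one_right h1).trans (inv_eq_of_mul_eq_one_left S.tt))
      · exact Or.inr ((eq_inv_of_mul_eq_one_right h1).trans (inv_eq_of_mul_eq_one_left htU))
      · exact Or.inr (by rw [← h1, ← mul_assoc, S.tt, one_mul])
      · refine Or.inl ?_
        calc W2 = S.t * U * (S.t * U * W2) := by rw [← mul_assoc, htU, one_mul]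
          _ = S.t := by rw [h1, mul_assoc, hU2, mul_one]
  set x := c * S.t * c⁻¹ with hx
  set g1 := c * S.ι h * c⁻¹ with hg1
  have hg1U : g1 * U * g1⁻¹ = c * W * c⁻¹ := by
    rw [hg1, show c * S.ι h * c⁻¹ * U * (c * S.ι h * c⁻¹)⁻¹ = c * (S.ι h * (c⁻¹ * U * c) * (S.ι h)⁻¹) * c⁻¹ by group,
      show c⁻¹ * U * c = U by nth_rewrite 1 [← hcU]; group, hU, ← map_inv, ← map_mul, ← map_mul, hu]
  have hg1W : g1 * (c * W * c⁻¹) * g1⁻¹ = U * (c * W * c⁻¹) := by
    rw [hg1, show c * S.ι h * c⁻¹ * (c * W * c⁻¹) * (c * S.ι h * c⁻¹)⁻¹ = c * (S.ι h * W * (S.ι h)⁻¹) * c⁻¹ by group,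
      hW, ← map_inv, ← map_mul, ← map_mul, hw, map_mul, ← hU, ← hW,
      show c * (U * W) * c⁻¹ = (c * U * c⁻¹) * (c * W * c⁻¹) by group, hcU]
  have hg13 : g1 ^ 3 = 1 := by rw [hg1, conj_pow, ← map_pow, h3, map_one, mul_one, mul_inv_cancel]
  rcases hcW with hc | hc <;> rw [hc] at hg1U hg1W
  · -- `u → t → tu`
    refine ⟨T, h, c, h⁻¹, h3, hu, hw, Or.inr rfl, hT, hcN, ?_, ?_, hone⟩ <;>
      rw [show c * S.ι h⁻¹ * c⁻¹ = g1⁻¹ by rw [map_inv, hg1]; group]
    · rw [← hg1U]; group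
    · have h5 : g1 * (S.t * U) * g1⁻¹ = U := by
        rw [show g1 * (S.t * U) * g1⁻¹ = (g1 * S.t * g1⁻¹) * (g1 * U * g1⁻¹) by group, hg1U, hg1W, mul_assoc,
          S.tt, mul_one]
      calc g1⁻¹ * U * g1⁻¹⁻¹ = g1⁻¹ * (g1 * (S.t * U) * g1⁻¹) * g1⁻¹⁻¹ := by rw [h5]
        _ = S.t * U := by group
  · refine ⟨T, h, c, h, h3, hu, hw, Or.inl rfl, hT, hcN, ?_, hg1U, hone⟩
    rw [← hg1]
    have h5 : g1 * S.t * g1⁻¹ = g1 * (S.t * U) * g1⁻¹ * (g1 * U * g1⁻¹) := by
      rw [conj_mul, mul_assoc S.t, hU2, mul_one]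
    rw [h5, hg1W, hg1U, mul_assoc U (S.t * U), show S.t * U * (S.t * U) = 1 by
      rw [mul_assoc, ← mul_assoc U, hUt, mul_assoc, hU2, mul_one, S.tt], mul_one]

/-- The elements centralising `⟨t, u, w⟩`. -/
theorem cent_tuw {x : G} (ht : x * S.t = S.t * x) (hu : x * S.ι S.D.u = S.ι S.D.u * x)
    (hw : x * S.ι S.D.w = S.ι S.D.w * x) :
    ∃ k ∈ fourSub S.D.u S.D.w S.D.u2 S.D.w2 S.D.comm, ∃ a ∈ S.Fld, x = S.ι k * a ∨ x = S.t * (S.ι k * a) := by
  obtain ⟨k, a, ha, e⟩ := S.cover x ht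
  refine ⟨k, ?_, a, ha, e⟩
  have key : ∀ v : P, a * S.ι v = S.ι v * a → x * S.ι v = S.ι v * x → k * v = v * k := by
    intro v hav hxv
    refine S.inj ?_
    rw [map_mul, map_mul]
    have h1 : S.ι k * a * S.ι v = S.ι v * (S.ι k * a) := by
      rcases e with rfl | rfl
      · exact hxv
      · rw [mul_assoc, ← mul_assoc (S.ι v) S.t, S.tc, mul_assoc] at hxv
        exact mul_left_cancel (a := S.t) (by simpa only [mul_assoc] using hxv)
    rw [mul_assoc, hav, ← mul_assoc, ← mul_assoc] at h1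
    exact mul_right_cancel h1
  exact mem_fourSub.2 (S.D.comm_uw (key _ (S.Fu a ha) hu) (key _ (S.Fw a ha) hw))

/-- The field part is the set of elements of odd order centralising `⟨t, u, w⟩`. -/
theorem Fld_of_odd {x : G} (ht : x * S.t = S.t * x) (hu : x * S.ι S.D.u = S.ι S.D.u * x)
    (hw : x * S.ι S.D.w = S.ι S.D.w * x) (ho : Odd (orderOf x)) : x ∈ S.Fld := by
  obtain ⟨k, hk, a, ha, e⟩ := S.cent_tuw ht hu hw
  have hak : Commute a (S.ι k) := by
    rcases hk with rfl | rfl | rfl | rfl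
    · rw [map_one]; exact Commute.one_right a
    · exact S.Fu a ha
    · exact S.Fw a ha
    · rw [map_mul]; exact (show Commute a _ from S.Fu a ha).mul_right (S.Fw a ha)
  have hk2 : S.ι k * S.ι k = 1 := by
    rw [← map_mul, four_sq (fourSub_klein S.D.u1 S.D.w1 S.D.uw) hk, map_one]
  obtain ⟨τ, hτ2, hτt, hτ⟩ : ∃ τ, τ * τ = 1 ∧ Commute τ a ∧ x = τ * a := by
    rcases e with e | e
    · exact ⟨S.ι k, hk2, hak.symm, e⟩
    · refine ⟨S.t * S.ι k, ?_, (show Commute S.t a from (S.Ft a ha).symm).mul_left hak.symm, by rw [e, mul_assoc]⟩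
      rw [mul_assoc, ← mul_assoc (S.ι k), S.tc, mul_assoc, hk2, mul_one, S.tt]
  have hτ1 : τ = 1 := by
    have h1 : x ^ (orderOf x * Nat.card S.Fld) = 1 := by rw [pow_mul, pow_orderOf_eq_one, one_pow]
    rw [hτ, hτt.mul_pow, ← hτ, mul_comm (orderOf x), pow_mul a,
      show a ^ Nat.card S.Fld = 1 from congrArg Subtype.val (pow_card_eq_one' (x := (⟨a, ha⟩ : S.Fld))),
      one_pow, mul_one] at h1
    exact eq_one_of_two_odd ⟨1, by rw [pow_one, pow_two, hτ2]⟩ (S.F_odd.mul ho) h1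
  rw [hτ, hτ1, one_mul]
  exact ha

theorem F_odd_order {a : G} (ha : a ∈ S.Fld) : Odd (orderOf a) :=
  S.F_odd.of_dvd_nat (S.Fld.orderOf_dvd_natCard ha)

/-- The element of order three of `P` normalising `⟨u, w⟩` commutes with the field part. -/
theorem F_comm_h {h : P} (hu : h * S.D.u * h⁻¹ = S.D.w) (hw : h * S.D.w * h⁻¹ = S.D.u * S.D.w) {a : G}
    (ha : a ∈ S.Fld) : a * S.ι h = S.ι h * a := by
  obtain ⟨k', hk'⟩ := S.F_norm a ha h
  have huc : a * S.ι S.D.u * a⁻¹ = S.ι S.D.u := by rw [S.Fu a ha, mul_inv_cancel_right]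
  have hwc : a * S.ι S.D.w * a⁻¹ = S.ι S.D.w := by rw [S.Fw a ha, mul_inv_cancel_right]
  have hu' : k' * S.D.u * k'⁻¹ = S.D.w := by
    refine S.inj ?_
    rw [map_mul, map_mul, map_inv, ← hk']
    nth_rewrite 1 [← huc]
    rw [show a * S.ι h * a⁻¹ * (a * S.ι S.D.u * a⁻¹) * (a * S.ι h * a⁻¹)⁻¹ =
      a * (S.ι h * S.ι S.D.u * (S.ι h)⁻¹) * a⁻¹ by group, ← map_inv, ← map_mul, ← map_mul, hu, hwc]
  have hw' : k' * S.D.w * k'⁻¹ = S.D.u * S.D.w := by
    refine S.inj ?_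
    rw [map_mul, map_mul, map_inv, ← hk']
    nth_rewrite 1 [← hwc]
    rw [show a * S.ι h * a⁻¹ * (a * S.ι S.D.w * a⁻¹) * (a * S.ι h * a⁻¹)⁻¹ =
      a * (S.ι h * S.ι S.D.w * (S.ι h)⁻¹) * a⁻¹ by group, ← map_inv, ← map_mul, ← map_mul, hw, map_mul,
      ← conj_mul, huc, hwc]
  set κ := k' * h⁻¹ with hκ
  have hκw : κ * S.D.w = S.D.w * κ := by
    refine mul_inv_eq_iff_eq_mul.1 ?_
    rw [hκ, show k' * h⁻¹ * S.D.w * (k' * h⁻¹)⁻¹ = k' * (h⁻¹ * S.D.w * h) * k'⁻¹ by group]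
    nth_rewrite 1 [← hu]
    rw [show k' * (h⁻¹ * (h * S.D.u * h⁻¹) * h) * k'⁻¹ = k' * S.D.u * k'⁻¹ by group, hu']
  have hκu : κ * S.D.u = S.D.u * κ := by
    have h1 : κ * (S.D.u * S.D.w) * κ⁻¹ = S.D.u * S.D.w := by
      rw [hκ, show k' * h⁻¹ * (S.D.u * S.D.w) * (k' * h⁻¹)⁻¹ = k' * (h⁻¹ * (S.D.u * S.D.w) * h) * k'⁻¹ by group]
      nth_rewrite 1 [← hw]
      rw [show k' * (h⁻¹ * (h * S.D.w * h⁻¹) * h) * k'⁻¹ = k' * S.D.w * k'⁻¹ by group, hw']
    refine mul_inv_eq_iff_eq_mul.1 ?_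
    rw [← conj_mul, mul_inv_eq_iff_eq_mul.2 hκw] at h1
    exact mul_right_cancel h1
  have hκK := S.D.comm_uw hκu hκw
  have hκ2 : κ * κ = 1 := four_sq (fourSub_klein S.D.u1 S.D.w1 S.D.uw) (mem_fourSub.2 hκK :
    κ ∈ fourSub S.D.u S.D.w S.D.u2 S.D.w2 S.D.comm)
  have haκ : a * S.ι κ * a⁻¹ = S.ι κ := by
    rcases hκK with e | e | e | e <;> rw [e]
    · rw [map_one]; group
    · exact huc
    · exact hwc
    · rw [map_mul, ← conj_mul, huc, hwc]
  have hstep : ∀ j : ℕ, a ^ j * S.ι h * (a ^ j)⁻¹ = S.ι (κ ^ j * h) := by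
    intro j
    induction j with
    | zero => simp
    | succ j ih =>
      have hkp : a * S.ι (κ ^ j) * a⁻¹ = S.ι (κ ^ j) := by rw [map_pow, ← conj_pow, haκ]
      rw [show a ^ (j + 1) * S.ι h * (a ^ (j + 1))⁻¹ = a * (a ^ j * S.ι h * (a ^ j)⁻¹) * a⁻¹ by
        rw [pow_succ']; group, ih, map_mul, ← conj_mul, hkp, hk', ← map_mul,
        show k' = κ * h by rw [hκ]; group, ← mul_assoc, ← pow_succ]
  have h1 := hstep (Nat.card S.Fld)
  rw [show a ^ Nat.card S.Fld = 1 from congrArg Subtype.val (pow_card_eq_one' (x := (⟨a, ha⟩ : S.Fld))),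
    one_mul, inv_one, mul_one] at h1
  have hκ1 : κ = 1 := eq_one_of_two_odd ⟨1, by rw [pow_one, pow_two, hκ2]⟩ S.F_odd (mul_eq_right.1 (S.inj h1).symm)
  rw [show k' = h by rw [← mul_inv_eq_one, ← hκ, hκ1]] at hk'
  exact mul_inv_eq_iff_eq_mul.1 hk'

/-- No element of the normaliser of the Sylow subgroup swaps two of its involutions. -/
theorem no_swap (A : Amb G) {T : Sylow 2 G} {e y z : G} (he : e ∈ normalizer ((T : Subgroup G) : Set G))
    (hy : y ∈ (T : Subgroup G)) (h1 : e * y * e⁻¹ = z) (h2 : e * z * e⁻¹ = y) : z = y := by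
  haveI : Fact (Nat.Prime 2) := ⟨Nat.prime_two⟩
  obtain ⟨k, o, ho, hko⟩ := Nat.exists_eq_two_pow_mul_odd (orderOf_pos e).ne'
  have hpow : ∀ j : ℕ, e ^ j * y * (e ^ j)⁻¹ = if Even j then y else z := by
    intro j
    induction j with
    | zero => simp
    | succ j ih =>
      rw [show e ^ (j + 1) * y * (e ^ (j + 1))⁻¹ = e * (e ^ j * y * (e ^ j)⁻¹) * e⁻¹ by
        rw [pow_succ']; group, ih]
      by_cases hj : Even j
      · rw [if_pos hj, if_neg (by simpa [Nat.even_add_one] using hj), h1]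
      · rw [if_neg hj, if_pos (Nat.even_add_one.2 hj), h2]
  have hord : (e ^ o) ^ 2 ^ k = 1 := by rw [← pow_mul, mul_comm, ← hko, pow_orderOf_eq_one]
  have hz : IsPGroup 2 (zpowers (e ^ o)) := by
    refine IsPGroup.of_card (n := Nat.log 2 (orderOf (e ^ o))) ?_
    obtain ⟨j, -, hj⟩ := (Nat.dvd_prime_pow Nat.prime_two).1 (orderOf_dvd_of_pow_eq_one hord)
    rw [Nat.card_zpowers, hj, Nat.log_pow (by norm_num)]
  have hm : e ^ o ∈ zpowers (e ^ o) ⊓ (T : Subgroup G) :=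
    hz.inf_normalizer_sylow T ▸ ⟨mem_zpowers _, pow_mem he o⟩
  have hsq : ∀ v ∈ (T : Subgroup G), v⁻¹ = v := fun v hv => by
    obtain ⟨i, hi⟩ := T.isPGroup' ⟨v, hv⟩
    exact inv_eq_of_mul_eq_one_left (A.sq2 v ⟨i, congrArg Subtype.val hi⟩)
  have h3 := hpow o
  rw [if_neg (Nat.not_even_iff_odd.2 ho),
    show e ^ o * y = y * e ^ o by
      rw [← hsq _ (mul_mem hm.2 hy), mul_inv_rev, hsq _ hy, hsq _ hm.2], mul_inv_cancel_right] at h3
  exact h3.symm

/-- The data of `ExtLocals` exist. -/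
theorem exists_extLocals [IsSimpleGroup G] (A : Amb G) : Nonempty (ExtLocals S) := by
  classical
  obtain ⟨T, h, c, d, h3, hu, hw, hd, hT, hcN, gt, gu, hone⟩ := S.exists_move A
  set D := S.D
  set U := S.ι D.u with hU
  set W := S.ι D.w with hW
  set g := c * S.ι d * c⁻¹ with hg
  set x := c * S.t * c⁻¹ with hx
  have hcUW : U * W = W * U := by rw [hU, hW, ← map_mul, D.comm, map_mul]
  have hU2 : U * U = 1 := by rw [hU, ← map_mul, D.u2, map_one]
  have hW2 : W * W = 1 := by rw [hW, ← map_mul, D.w2, map_one]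
  have hUt : U * S.t = S.t * U := S.tc _
  have hWt : W * S.t = S.t * W := S.tc _
  have hUW : S.ι (D.u * D.w) = U * W := map_mul _ _ _
  have hd3 : d ^ 3 = 1 := by rcases hd with rfl | rfl <;> simp [h3, inv_pow]
  have g3 : g ^ 3 = 1 := by rw [hg, conj_pow, ← map_pow, hd3, map_one, mul_one, mul_inv_cancel]
  have gx : g * x = x * g := by rw [hg, hx, conj_mul, conj_mul, S.tc]
  have htT : S.t ∈ (T : Subgroup G) := (hT _).2 ⟨1, one_mem _, Or.inr (by rw [map_one, mul_one])⟩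
  have hUT : U ∈ (T : Subgroup G) := (hT _).2 ⟨_, Or.inr (Or.inl rfl), Or.inl rfl⟩
  have hWT : W ∈ (T : Subgroup G) := (hT _).2 ⟨_, Or.inr (Or.inr (Or.inl rfl)), Or.inl rfl⟩
  have hxT : x ∈ (T : Subgroup G) := (mem_normalizer_iff.1 hcN _).1 htT
  -- `ι h` normalises `T`
  have hhuw : h * (D.u * D.w) * h⁻¹ = D.u := by
    rw [← conj_mul, hu, hw, ← mul_assoc, ← D.comm, mul_assoc, D.w2, mul_one]
  set m := S.ι h with hm
  have mt : m * S.t * m⁻¹ = S.t := by rw [hm, S.tc, mul_inv_cancel_right]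
  have mU : m * U * m⁻¹ = W := by rw [hm, hU, hW, ← map_inv, ← map_mul, ← map_mul, hu]
  have mW : m * W * m⁻¹ = U * W := by rw [hm, hW, ← map_inv, ← map_mul, ← map_mul, hw, map_mul]
  have mUW : m * (U * W) * m⁻¹ = U := by
    rw [hm, ← hUW, ← map_inv, ← map_mul, ← map_mul, hhuw]
  have gfix : g * x * g⁻¹ = x := mul_inv_eq_iff_eq_mul.2 gx
  have hgN : g ∈ normalizer ((T : Subgroup G) : Set G) := by
    refine mul_mem (mul_mem hcN ?_) (inv_mem hcN)
    have hmN : m ∈ normalizer ((T : Subgroup G) : Set G) := mem_normalizer_fintype fun v hv => by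
      obtain ⟨k, hk, e⟩ := (hT v).1 hv
      rcases hk with rfl | rfl | rfl | rfl <;> rcases e with rfl | rfl
      · rw [map_one, mul_one, mul_inv_cancel]; exact one_mem _
      · rw [map_one, mul_one, mt]; exact htT
      · rw [mU]; exact hWT
      · rw [← conj_mul, mt, mU]; exact mul_mem htT hWT
      · rw [mW]; exact mul_mem hUT hWT
      · rw [← conj_mul, mt, mW]; exact mul_mem htT (mul_mem hUT hWT)
      · rw [hUW, mUW]; exact hUT
      · rw [hUW, ← conj_mul, mt, mUW]; exact mul_mem htT hUT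
    rcases hd with rfl | rfl
    · exact hmN
    · rw [map_inv]; exact inv_mem hmN
  have hmN' : m ∈ normalizer ((T : Subgroup G) : Set G) := by
    rcases hd with rfl | rfl
    · have := mul_mem (mul_mem (inv_mem hcN) hgN) hcN
      rwa [hg, show c⁻¹ * (c * m * c⁻¹) * c = m by group] at this
    · have := inv_mem (mul_mem (mul_mem (inv_mem hcN) hgN) hcN)
      rwa [hg, map_inv, show (c⁻¹ * (c * m⁻¹ * c⁻¹) * c)⁻¹ = m by group] at this
  have gtu : g * (S.t * U) * g⁻¹ = S.t := by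
    rw [← conj_mul, gt, gu, ← mul_assoc, hUt, mul_assoc, hU2, mul_one]
  have hx' : x = S.t * W ∨ x = S.t * S.ι (D.u * D.w) := by
    have hx1 : x ≠ 1 := fun e => S.t_ne (conj_eq_one_iff.1 e)
    obtain ⟨k, hk, e⟩ := (hT x).1 hxT
    have bad_t : x ≠ S.t := fun e => S.t_not D.u (by rw [← hU, ← gt, ← e, gfix])
    have bad_U : x ≠ U := fun e => by
      rw [e, gu] at gfix
      exact S.t_ne (mul_eq_right.1 gfix)
    have bad_tU : x ≠ S.t * U := fun e => by
      rw [e, gtu] at gfix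
      exact D.u1 (S.inj ((left_eq_mul.1 gfix).trans (map_one _).symm))
    have bad_W : x ≠ W := fun e => by
      have gW : g * W * g⁻¹ = W := by rw [← e]; exact gfix
      set M := g * m with hM
      have Mt : M * S.t * M⁻¹ = U := by
        rw [hM, show g * m * S.t * (g * m)⁻¹ = g * (m * S.t * m⁻¹) * g⁻¹ by group, mt, gt]
      have MU : M * U * M⁻¹ = W := by
        rw [hM, show g * m * U * (g * m)⁻¹ = g * (m * U * m⁻¹) * g⁻¹ by group, mU, gW]
      have MW : M * W * M⁻¹ = S.t * U * W := by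
        rw [hM, show g * m * W * (g * m)⁻¹ = g * (m * W * m⁻¹) * g⁻¹ by group, mW, ← conj_mul, gu, gW]
      have M2W : M * M * W * (M * M)⁻¹ = S.t := by
        rw [show M * M * W * (M * M)⁻¹ = M * (M * W * M⁻¹) * M⁻¹ by group, MW, ← conj_mul, ← conj_mul, Mt, MU, MW]
        calc U * W * (S.t * U * W) = U * (W * S.t) * (U * W) := by group
          _ = U * S.t * (W * (U * W)) := by rw [hWt]; group
          _ = S.t := by rw [hUt, ← mul_assoc W, ← hcUW, mul_assoc U W W, hW2, mul_one, mul_assoc, hU2, mul_one]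
      refine S.t_not D.w (no_swap A (mul_mem (mul_mem hgN hmN') (mul_mem hgN hmN')) htT ?_ M2W)
      rw [show M * M * S.t * (M * M)⁻¹ = M * (M * S.t * M⁻¹) * M⁻¹ by group, Mt, MU]
    have bad_UW : x ≠ S.ι (D.u * D.w) := fun e => by
      rw [hUW] at e
      have gUW : g * (U * W) * g⁻¹ = U * W := by rw [← e]; exact gfix
      have gW : g * W * g⁻¹ = S.t * W := by
        calc g * W * g⁻¹ = (g * U * g⁻¹) * (g * (U * W) * g⁻¹) := by
              rw [conj_mul, ← mul_assoc U, hU2, one_mul]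
          _ = S.t * W := by rw [gu, gUW, mul_assoc, ← mul_assoc U, hU2, one_mul]
      set M := g * (m * m) with hM
      have Mt : M * S.t * M⁻¹ = U := by
        rw [hM, show g * (m * m) * S.t * (g * (m * m))⁻¹ = g * (m * (m * S.t * m⁻¹) * m⁻¹) * g⁻¹ by group, mt, mt,
          gt]
      have MU : M * U * M⁻¹ = U * W := by
        rw [hM, show g * (m * m) * U * (g * (m * m))⁻¹ = g * (m * (m * U * m⁻¹) * m⁻¹) * g⁻¹ by group, mU, mW,
          gUW]
      have MW : M * W * M⁻¹ = S.t * U := by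
        rw [hM, show g * (m * m) * W * (g * (m * m))⁻¹ = g * (m * (m * W * m⁻¹) * m⁻¹) * g⁻¹ by group, mW, mUW, gu]
      have M2 : M * M * (U * W) * (M * M)⁻¹ = S.t := by
        rw [show M * M * (U * W) * (M * M)⁻¹ = M * ((M * U * M⁻¹) * (M * W * M⁻¹)) * M⁻¹ by group, MU, MW,
          show U * W * (S.t * U) = S.t * W by
            rw [mul_assoc, ← mul_assoc W, hWt, mul_assoc, ← hcUW, ← mul_assoc U, hUt, mul_assoc, ← mul_assoc U,
              hU2, one_mul],
          ← conj_mul, Mt, MW, ← mul_assoc, hUt, mul_assoc, hU2, mul_one]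
      refine S.t_not (D.u * D.w) (hUW ▸
        no_swap A (mul_mem (mul_mem hgN (mul_mem hmN' hmN')) (mul_mem hgN (mul_mem hmN' hmN'))) htT ?_ M2)
      rw [show M * M * S.t * (M * M)⁻¹ = M * (M * S.t * M⁻¹) * M⁻¹ by group, Mt, MU]
    rcases hk with rfl | rfl | rfl | rfl <;> rcases e with e | e
    · exact absurd (e.trans (map_one _)) hx1
    · exact absurd (by rw [e, map_one, mul_one]) bad_t
    · exact absurd e bad_U
    · exact absurd e bad_tU
    · exact absurd e bad_W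
    · exact Or.inl e
    · exact absurd e bad_UW
    · exact Or.inr e
  have gF : ∀ a ∈ S.Fld, g * a = a * g := by
    intro a ha
    have hb : c⁻¹ * a * c ∈ S.Fld := by
      have hcomm : ∀ v ∈ (T : Subgroup G), a * v = v * a := by
        intro v hv
        obtain ⟨k, hk, e⟩ := (hT v).1 hv
        have hak : Commute a (S.ι k) := by
          rcases hk with rfl | rfl | rfl | rfl
          · rw [map_one]; exact Commute.one_right a
          · exact S.Fu a ha
          · exact S.Fw a ha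
          · rw [map_mul]; exact (show Commute a _ from S.Fu a ha).mul_right (S.Fw a ha)
        rcases e with rfl | rfl
        · exact hak
        · exact (show Commute a S.t from S.Ft a ha).mul_right hak
      have hkey : ∀ v ∈ (T : Subgroup G), c⁻¹ * a * c * v = v * (c⁻¹ * a * c) := by
        intro v hv
        have h1 := hcomm _ ((mem_normalizer_iff.1 hcN v).1 hv)
        calc c⁻¹ * a * c * v = c⁻¹ * (a * (c * v * c⁻¹)) * c := by group
          _ = v * (c⁻¹ * a * c) := by rw [h1]; group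
      refine S.Fld_of_odd (hkey _ htT) (hkey _ hUT) (hkey _ hWT) ?_
      rw [show c⁻¹ * a * c = (MulAut.conj c⁻¹).toMonoidHom a by
        simp [MulAut.conj_apply], orderOf_injective _ (MulAut.conj c⁻¹).injective]
      exact S.F_odd_order ha
    have h1 : Commute (S.ι d) (c⁻¹ * a * c) := by
      have h2 : Commute (S.ι h) (c⁻¹ * a * c) := (S.F_comm_h hu hw hb).symm
      rcases hd with rfl | rfl
      · exact h2
      · rw [map_inv]; exact h2.inv_left
    calc g * a = c * (S.ι d * (c⁻¹ * a * c)) * c⁻¹ := by rw [hg]; group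
      _ = a * g := by rw [h1.eq, hg]; group
  obtain ⟨w', hw'2, hwY, hx''⟩ : ∃ w', w' * w' = 1 ∧ (∀ y ∈ D.Y, w' * y * w'⁻¹ = y⁻¹) ∧ x = S.t * S.ι w' := by
    rcases hx' with e | e
    · exact ⟨D.w, D.w2, D.w_Y, e⟩
    · refine ⟨D.u * D.w, ?_, fun y hy => ?_, e⟩
      · rw [mul_assoc, ← mul_assoc D.w, ← D.comm, mul_assoc, D.w2, mul_one, D.u2]
      · rw [show D.u * D.w * y * (D.u * D.w)⁻¹ = D.u * (D.w * y * D.w⁻¹) * D.u⁻¹ by group, D.w_Y y hy,
          D.u_Y _ (inv_mem hy), mul_inv_cancel_right]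
  have gY : ∀ y ∈ D.Y, ∃ y' ∈ D.Y, g * S.ι y * g⁻¹ = S.ι y' := by
    intro y hy
    obtain ⟨j, hj⟩ := D.r_odd
    set y0 := y ^ (j + 1) with hy0
    have hy0Y : y0 ∈ D.Y := pow_mem hy _
    have hy0y : y0 * y0 = y := by
      rw [hy0, ← pow_add, show j + 1 + (j + 1) = D.r + 1 by omega, pow_succ, D.pow_r hy, one_mul]
    have hyx : S.ι y = S.ι y0 * x * S.ι y0⁻¹ * x := by
      rw [hx'', show S.ι y0 * (S.t * S.ι w') * S.ι y0⁻¹ * (S.t * S.ι w') =
        S.ι y0 * S.t * (S.ι w' * S.ι y0⁻¹) * (S.t * S.ι w') by group, S.tc, ← map_mul,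
        show S.t * S.ι y0 * S.ι (w' * y0⁻¹) * (S.t * S.ι w') =
        S.t * (S.ι y0 * S.ι (w' * y0⁻¹) * S.t) * S.ι w' by group, ← map_mul, S.tc, ← mul_assoc, S.tt, one_mul,
        ← map_mul]
      congr 1
      rw [show y0 * (w' * y0⁻¹) * w' = y0 * (w' * y0⁻¹ * w'⁻¹) by
          rw [inv_eq_of_mul_eq_one_left hw'2]; group, hwY _ (inv_mem hy0Y), inv_inv, hy0y]
    set Z0 := g * S.ι y0 * g⁻¹ with hZ0
    have hcom : ∀ z : P, z ∈ D.Y → (g * S.ι z * g⁻¹) * U = U * (g * S.ι z * g⁻¹) ∧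
        (g * S.ι z * g⁻¹) * S.t = S.t * (g * S.ι z * g⁻¹) := by
      intro z hz
      have hzu : S.ι z * U = U * S.ι z := by rw [hU, ← map_mul, ← map_mul, D.u_Y z hz]
      constructor
      · rw [← gt, conj_mul, conj_mul, S.tc]
      · rw [← gtu, conj_mul, conj_mul, show S.ι z * (S.t * U) = S.t * U * S.ι z by
          rw [← mul_assoc, S.tc, mul_assoc, hzu, ← mul_assoc]]
    obtain ⟨k, a, ha, hk⟩ := S.cover Z0 (hcom y0 hy0Y).2
    obtain ⟨kw, hkw⟩ : ∃ kw, g * S.ι y * g⁻¹ = S.ι kw := by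
      have e1 : g * S.ι y * g⁻¹ = Z0 * x * Z0⁻¹ * x := by
        rw [hyx, map_inv, hZ0]
        calc g * (S.ι y0 * x * (S.ι y0)⁻¹ * x) * g⁻¹ =
            (g * S.ι y0 * g⁻¹) * (g * x * g⁻¹) * (g * S.ι y0 * g⁻¹)⁻¹ * (g * x * g⁻¹) := by group
          _ = _ := by rw [gfix]
      have haw : a * S.ι w' * a⁻¹ = S.ι w' := by
        have hax : a * x * a⁻¹ = x := by
          rcases hx' with e | e <;> rw [e]
          · rw [← conj_mul, S.Ft a ha, mul_inv_cancel_right, hW, S.Fw a ha, mul_inv_cancel_right]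
          · rw [← conj_mul, S.Ft a ha, mul_inv_cancel_right, hUW, ← conj_mul, hU, hW, S.Fu a ha,
              mul_inv_cancel_right, S.Fw a ha, mul_inv_cancel_right]
        rw [hx'', ← conj_mul, S.Ft a ha, mul_inv_cancel_right] at hax
        exact mul_left_cancel hax
      have hax2 : a * x * a⁻¹ = x := by rw [hx'', ← conj_mul, S.Ft a ha, mul_inv_cancel_right, haw]
      refine ⟨k * w' * k⁻¹ * w', ?_⟩
      rw [e1, map_mul, map_mul, map_mul, map_inv]
      rcases hk with e | e <;> rw [e]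
      · rw [show S.ι k * a * x * (S.ι k * a)⁻¹ * x = S.ι k * (a * x * a⁻¹) * (S.ι k)⁻¹ * x by group, hax2, hx'']
        calc S.ι k * (S.t * S.ι w') * (S.ι k)⁻¹ * (S.t * S.ι w') =
            S.ι k * S.t * (S.ι w' * (S.ι k)⁻¹ * S.t) * S.ι w' := by group
          _ = _ := by
            rw [S.tc, ← map_inv, ← map_mul, S.tc, map_mul, map_inv]
            rw [show S.t * S.ι k * (S.t * (S.ι w' * (S.ι k)⁻¹)) * S.ι w' =
              S.t * (S.ι k * S.t) * (S.ι w' * (S.ι k)⁻¹) * S.ι w' by group, S.tc, ← mul_assoc S.t, S.tt, one_mul]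
            group
      · rw [show S.t * (S.ι k * a) * x * (S.t * (S.ι k * a))⁻¹ * x =
          S.t * (S.ι k * (a * x * a⁻¹) * (S.ι k)⁻¹) * S.t⁻¹ * x by group, hax2, hx'', S.t_inv]
        calc S.t * (S.ι k * (S.t * S.ι w') * (S.ι k)⁻¹) * S.t * (S.t * S.ι w') =
            S.t * (S.ι k * S.t) * (S.ι w' * (S.ι k)⁻¹) * (S.t * S.t) * S.ι w' := by group
          _ = _ := by
            rw [S.tc, ← mul_assoc S.t, S.tt, mul_one, one_mul]
            group
    refine ⟨kw, D.odd_mem_Y (S.inj ?_) D.r_odd (S.inj ?_), hkw⟩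
    · rw [map_mul, map_mul, ← hkw, ← hU]; exact (hcom y hy).1
    · rw [map_pow, ← hkw, conj_pow, ← map_pow, D.pow_r hy, map_one, mul_one, mul_inv_cancel]
  refine ⟨⟨g, c, d, g3, gt, gu, gx, gF, hx', rfl, hd3, gY, hone, fun z hz1 hz2 => ?_⟩⟩
  -- the normaliser of `⟨t, u⟩`
  set V := fourSub S.t U S.tt hU2 hUt.symm with hV
  have hU1 : U ≠ 1 := fun e => D.u1 (S.inj (e.trans (map_one _).symm))
  have hVk : IsKleinFour ↥V := fourSub_klein S.t_ne hU1 (fun e => S.t_not _ e.symm)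
  have hgV : ∀ v ∈ V, g * v * g⁻¹ ∈ V := by
    rintro v (rfl | rfl | rfl | rfl)
    · left; group
    · rw [gt]; exact Or.inr (Or.inr (Or.inl rfl))
    · rw [gu]; exact Or.inr (Or.inr (Or.inr rfl))
    · rw [gtu]; exact Or.inr (Or.inl rfl)
  have hgm : ∀ v ∈ V, v ≠ 1 → g * v * g⁻¹ ≠ v := by
    rintro v (rfl | rfl | rfl | rfl) hv e
    · exact hv rfl
    · exact S.t_not D.u (gt.symm.trans e)
    · exact S.t_ne (mul_eq_right.1 (gu.symm.trans e))
    · exact hU1 (left_eq_mul.1 (gtu.symm.trans e))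
  have htwo : ∀ e : G, (∃ k, e ^ 2 ^ k = 1) → (∀ v ∈ V, e * v * e⁻¹ ∈ V) → ∀ v ∈ V, e * v * e⁻¹ = v := by
    intro e he hev v hv
    have he2 := A.sq2 e he
    have hei : e⁻¹ = e := inv_eq_of_mul_eq_one_left he2
    have h2 : (v * e) ^ 2 = v * (e * v * e⁻¹) := by rw [pow_two, hei]; group
    have h4 : (v * e) ^ 2 ^ 2 = 1 := by
      rw [show (2 : ℕ) ^ 2 = 2 * 2 by norm_num, pow_mul, h2, pow_two]
      exact four_sq hVk (mul_mem hv (hev v hv))
    have h5 := A.sq2 _ ⟨2, h4⟩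
    rw [← pow_two, h2] at h5
    exact (eq_inv_of_mul_eq_one_right h5).trans (inv_eq_of_mul_eq_one_left (four_sq hVk hv))
  have hset : ∀ {v : G}, v ∈ ({S.t, U, S.t * U} : Set G) → v ∈ V := by
    rintro v (rfl | rfl | rfl)
    exacts [Or.inr (Or.inl rfl), Or.inr (Or.inr (Or.inl rfl)), Or.inr (Or.inr (Or.inr rfl))]
  have hzV : ∀ v ∈ V, z * v * z⁻¹ ∈ V := by
    rintro v (rfl | rfl | rfl | rfl)
    · left; group
    · exact hset hz1
    · exact hset hz2
    · rw [← conj_mul]; exact mul_mem (hset hz1) (hset hz2)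
  obtain ⟨i, -, hi⟩ := norm_action hVk g3 hgV hgm htwo hzV
  set z' := (g ^ i)⁻¹ * z with hz'
  obtain ⟨k, a, ha, hk⟩ := S.cover z' (mul_inv_eq_iff_eq_mul.1 (hi _ (Or.inr (Or.inl rfl))))
  refine ⟨i, k, S.inj ?_, a, ha, ?_⟩
  · have h1 : z' * U = U * z' := mul_inv_eq_iff_eq_mul.1 (hi _ (Or.inr (Or.inr (Or.inl rfl))))
    have h2 : S.ι k * a * U = U * (S.ι k * a) := by
      rcases hk with e | e <;> rw [e] at h1
      · exact h1
      · rw [mul_assoc, ← mul_assoc U S.t, hUt, mul_assoc] at h1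
        exact mul_left_cancel (a := S.t) (by simpa only [mul_assoc] using h1)
    rw [mul_assoc, hU, S.Fu a ha, ← mul_assoc, ← mul_assoc] at h2
    rw [map_mul, map_mul]
    exact mul_right_cancel h2
  · rcases hk with e | e
    · exact Or.inl (by rw [← e, hz']; group)
    · exact Or.inr (by rw [← e, hz']; group)

end Cfsg.Agent.Invol.JankoWard.ExtBase
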