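import Cfsg.Agent.Lib.Classical.PSLFieldAut

/-!
# The field part of an automorphism of `PSL₂(q)`

`exists_fieldHom`: the field part as a homomorphism; an automorphism without field part has an inner square.
`fixed_iso`: if the field part of an automorphism of odd order has the same order `n`, then the fixed points form
`PSL₂(p^(f/n))`.
-/

set_option autoImplicit false
set_option linter.unusedSectionVars false
set_option linter.style.haveILetI false

namespace Cfsg.Agent.Invol.JankoWard.PSLField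

open Subgroup Matrix Cfsg.Agent.Classical Cfsg.Agent.Classical.PSLAut Cfsg.Agent.Classical.Descent

variable {F : Type} [Field F] [Fintype F] {p : ℕ} [Fact p.Prime] [CharP F p]

local notation "SL₂" => Matrix.SpecialLinearGroup (Fin 2) F
local notation "PSL₂" => Matrix.ProjectiveSpecialLinearGroup (Fin 2) F
local notation "M₂" => Matrix (Fin 2) (Fin 2) F

/-- The square of an inner-diagonal automorphism is inner. -/
theorem inndiag_sq (g : GL (Fin 2) F) :
    ∃ c : PSL₂, (inndiagHom 2 F g) * (inndiagHom 2 F g) = MulAut.conj c := by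
  set d := Matrix.GeneralLinearGroup.det g with hd
  set z := Matrix.GeneralLinearGroup.scalar (Fin 2) d⁻¹ * (g * g) with hz
  have hzdet : ((z : GL (Fin 2) F) : M₂).det = 1 := by
    rw [← Matrix.GeneralLinearGroup.val_det_apply, hz, map_mul, map_mul, Units.val_mul, ← hd]
    have : Matrix.GeneralLinearGroup.det (Matrix.GeneralLinearGroup.scalar (Fin 2) d⁻¹) = d⁻¹ * d⁻¹ :=
      Units.ext (by simp [Matrix.GeneralLinearGroup.coe_scalar, pow_two])
    rw [this]
    simp
    field_simp
  let s : SL₂ := ⟨_, hzdet⟩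
  have hs : Matrix.SpecialLinearGroup.toGL s = z := Units.ext rfl
  have hsc : inndiagHom 2 F (Matrix.GeneralLinearGroup.scalar (Fin 2) d⁻¹) = 1 := by
    rw [inndiagHom_apply, pslSemi_eq_one_iff le_rfl]
    exact ⟨rfl, _, rfl⟩
  refine ⟨slToPSL 2 F s, ?_⟩
  rw [conj_eq_pslSemi, ← inndiagHom_apply, hs, hz, map_mul, hsc, one_mul, map_mul]

include p in
/-- The field part. -/
theorem exists_fieldHom :
    ∃ ψ : MulAut PSL₂ →* RingAut F,
      (∀ β, ∃ g : GL (Fin 2) F, β = pslSemi g (ψ β)) ∧
      (∀ c : PSL₂, ψ (MulAut.conj c) = 1) ∧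
      ∀ β, ψ β = 1 → ∃ c : PSL₂, β * β = MulAut.conj c := by
  choose g σ ε hrep using fun β : MulAut PSL₂ => exists_rep (p := p) (F := F) (n := 2) le_rfl β
  have hval : ∀ β g' σ' ε', Rep β g' σ' ε' → σ β = σ' := fun β g' σ' ε' h =>
    ((hrep β).unique le_rfl h).1
  have hsemi : ∀ β, β = pslSemi (g β) (σ β) := fun β => by
    obtain ⟨-, h2, h3⟩ := hrep β
    rw [h2 rfl, pow_zero, mul_one] at h3
    exact h3
  refine ⟨MonoidHom.mk' σ fun β γ => ?_, fun β => ⟨g β, hsemi β⟩, fun c => ?_, fun β hβ => ?_⟩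
  · obtain ⟨k, hk⟩ := (hrep β).mul (hrep γ)
    exact hval _ _ _ _ hk
  · obtain ⟨s, rfl⟩ := slToPSL_surjective c
    exact hval _ (Matrix.SpecialLinearGroup.toGL s) 1 0
      ⟨zero_le_one, fun _ => rfl, by rw [pow_zero, mul_one, conj_eq_pslSemi]; rfl⟩
  · obtain ⟨c, hc⟩ := inndiag_sq (g β)
    refine ⟨c, ?_⟩
    have h1 : β = inndiagHom 2 F (g β) := by
      conv_lhs => rw [hsemi β]
      rw [inndiagHom_apply, show σ β = 1 from hβ]
      rfl
    rw [← hc, ← h1]

/-- Fixed points of the standard field automorphism of odd order. -/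
theorem field_fixed_iso (h2 : (2 : F) ≠ 0) {σ : RingAut F} (hodd : Odd (orderOf σ)) {K : Type} [Field K]
    (j : K →+* F) (hj : ∀ x, σ x = x ↔ x ∈ j.range) :
    Nonempty (↥((pslSemi 1 σ : MulAut PSL₂).toMonoidHom.eqLocus (MonoidHom.id PSL₂)) ≃*
      Matrix.ProjectiveSpecialLinearGroup (Fin 2) K) := by
  set α : MulAut PSL₂ := pslSemi 1 σ with hα
  have hmk : ∀ s : SL₂, α (slToPSL 2 F s) = slToPSL 2 F (slSemi 1 σ s) := fun s => pslSemi_mk _ _ _
  have hcoe : ∀ s : SL₂, ((slSemi 1 σ s : SL₂) : M₂) = (s : M₂).map σ := fun s => by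
    rw [slSemi_coe]; simp
  let ι₀ : Matrix.SpecialLinearGroup (Fin 2) K →* SL₂ := Matrix.SpecialLinearGroup.map j
  have hι₀ : Function.Injective ι₀ := fun a b h => Subtype.ext (Matrix.ext fun i k =>
    j.injective (congrFun (congrFun (congrArg Subtype.val h) i) k))
  let Φ : Matrix.SpecialLinearGroup (Fin 2) K →* ↥(α.toMonoidHom.eqLocus (MonoidHom.id PSL₂)) :=
    ((slToPSL 2 F).comp ι₀).codRestrict _ fun s => by
      show α (slToPSL 2 F (ι₀ s)) = slToPSL 2 F (ι₀ s)
      rw [hmk]
      congr 1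
      refine Subtype.ext ?_
      rw [hcoe]
      ext i k
      exact (hj _).2 ⟨_, rfl⟩
  have hsurj : Function.Surjective Φ := by
    rintro ⟨x, hx⟩
    obtain ⟨s, rfl⟩ := slToPSL_surjective x
    have hx' : slToPSL 2 F (slSemi 1 σ s) = slToPSL 2 F s := (hmk s).symm.trans hx
    obtain ⟨c, hc⟩ := (slToPSL_eq_one_iff ((slSemi 1 σ s)⁻¹ * s)).1 (by
      rw [map_mul, map_inv, hx', inv_mul_cancel])
    have hs : (s : M₂) = c • (s : M₂).map σ := by
      have h1 : (((slSemi 1 σ s) * ((slSemi 1 σ s)⁻¹ * s) : SL₂) : M₂) = (s : M₂) := by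
        rw [mul_inv_cancel_left]
      rw [Matrix.SpecialLinearGroup.coe_mul, hc, hcoe] at h1
      nth_rw 1 [← h1]
      ext i k
      fin_cases i <;> fin_cases k <;> simp [Matrix.mul_apply, Fin.sum_univ_two, Matrix.scalar_apply, mul_comm]
    have hdet := congrArg Matrix.det hs
    rw [Matrix.det_smul, ← RingEquiv.coe_toRingHom, ← RingHom.mapMatrix_apply, ← RingHom.map_det,
      s.2, map_one, mul_one, Fintype.card_fin] at hdet
    have hc1 : c = 1 := by
      rcases sq_eq_one_iff.1 hdet.symm with h | h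
      · exact h
      exfalso
      have hneg : ∀ i k, σ ((s : M₂) i k) = -(s : M₂) i k := fun i k => by
        have := congrFun (congrFun hs i) k
        rw [h] at this
        simp at this
        exact neg_eq_iff_eq_neg.1 this.symm
      have hpow : ∀ (m : ℕ) i k, (σ ^ m) ((s : M₂) i k) = (-1) ^ m * (s : M₂) i k := by
        intro m i k
        induction m with
        | zero => simp
        | succ m ih =>
          rw [pow_succ', RingAut.mul_apply, ih, map_mul, map_pow, map_neg, map_one, hneg, pow_succ]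
          ring
      have hzero : ∀ i k, (s : M₂) i k = 0 := fun i k => by
        have h3 := hpow (orderOf σ) i k
        rw [pow_orderOf_eq_one, RingAut.one_apply, hodd.neg_one_pow, neg_one_mul] at h3
        have h4 : (2 : F) * (s : M₂) i k = 0 := by
          rw [two_mul]; nth_rw 1 [h3]; rw [neg_add_cancel]
        exact (mul_eq_zero.1 h4).resolve_left h2
      have h5 := s.2
      rw [Matrix.det_fin_two] at h5
      have a := hzero 0 0
      have b := hzero 1 0
      exact zero_ne_one (α := F) (by linear_combination h5 - (s : M₂) 1 1 * a + (s : M₂) 0 1 * b)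
    rw [hc1, one_smul] at hs
    have hfix : ∀ i k, ∃ a, j a = (s : M₂) i k := fun i k =>
      (hj _).1 (congrFun (congrFun hs i) k).symm
    choose A hA using hfix
    have hA' : (Matrix.of A).map j = (s : M₂) := Matrix.ext hA
    have hdA : (Matrix.of A).det = 1 := j.injective (by
      rw [RingHom.map_det, RingHom.mapMatrix_apply, hA', s.2, map_one])
    refine ⟨⟨Matrix.of A, hdA⟩, Subtype.ext ?_⟩
    show slToPSL 2 F (ι₀ ⟨Matrix.of A, hdA⟩) = slToPSL 2 F s
    congr 1
    exact Subtype.ext hA'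
  have hker : Φ.ker = Subgroup.center (Matrix.SpecialLinearGroup (Fin 2) K) := by
    ext s
    rw [MonoidHom.mem_ker, Subtype.ext_iff, ← QuotientGroup.eq_one_iff]
    show slToPSL 2 F (ι₀ s) = 1 ↔ slToPSL 2 K s = 1
    rw [slToPSL_eq_one_iff, slToPSL_eq_one_iff]
    constructor
    · rintro ⟨c, hc⟩
      have he : ∀ i k, j ((s : Matrix (Fin 2) (Fin 2) K) i k) = (Matrix.scalar (Fin 2) c : M₂) i k :=
        fun i k => congrFun (congrFun hc i) k
      refine ⟨(s : Matrix (Fin 2) (Fin 2) K) 0 0, ?_⟩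
      have h0 : j ((s : Matrix (Fin 2) (Fin 2) K) 0 0) = c := by rw [he]; simp
      ext i k
      apply j.injective
      rw [he]
      by_cases hik : i = k <;> simp [Matrix.scalar_apply, hik, h0]
    · rintro ⟨c, hc⟩
      refine ⟨j c, ?_⟩
      show (s : Matrix (Fin 2) (Fin 2) K).map j = _
      rw [hc]
      ext i k
      by_cases hik : i = k <;> simp [Matrix.scalar_apply, hik]
  exact ⟨((QuotientGroup.quotientMulEquivOfEq hker.symm).trans
    (QuotientGroup.quotientKerEquivOfSurjective Φ hsurj)).symm⟩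

include p in
/-- Fixed points of an automorphism of odd order with a field part of the same order. -/
theorem fixed_iso {f : ℕ} (hF : Fintype.card F = p ^ f) (hp : p ≠ 2) {β : MulAut PSL₂} {g : GL (Fin 2) F}
    {σ : RingAut F} (hβ : β = pslSemi g σ) (hodd : Odd (orderOf β)) (hord : orderOf σ = orderOf β) :
    orderOf β ∣ f ∧ ∃ (K : Type) (_ : Field K) (_ : Fintype K), Fintype.card K = p ^ (f / orderOf β) ∧
      Nonempty (↥(β.toMonoidHom.eqLocus (MonoidHom.id PSL₂)) ≃* Matrix.ProjectiveSpecialLinearGroup (Fin 2) K) := by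
  classical
  haveI : Finite (RingAut F) := Finite.of_injective (fun τ => (τ : F → F)) DFunLike.coe_injective
  obtain ⟨-, hcard⟩ := PSLAut.card_ringAut hF
  have hdvd : orderOf β ∣ f := hord ▸ hcard ▸ orderOf_dvd_natCard σ
  have hf0 : f ≠ 0 := fun h => by
    rw [h, pow_zero] at hF
    exact absurd hF (Fintype.one_lt_card (α := F)).ne'
  have hm : f / orderOf β ≠ 0 :=
    (Nat.div_pos (Nat.le_of_dvd (Nat.pos_of_ne_zero hf0) hdvd) (orderOf_pos β)).ne'
  haveI : Fintype (GaloisField p (f / orderOf β)) := Fintype.ofFinite _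
  have hK : Fintype.card (GaloisField p (f / orderOf β)) = p ^ (f / orderOf β) := by
    rw [← Nat.card_eq_fintype_card]; exact GaloisField.card p _ hm
  refine ⟨hdvd, GaloisField p (f / orderOf β), inferInstance, inferInstance, hK, ?_⟩
  obtain ⟨-, -, j, hj⟩ := exists_fixed_embedding (p := p) hF hord (GaloisField p (f / orderOf β)) hK
  have h1 := pow_orderOf_eq_one β
  rw [← hord, hβ, pslSemi_pow, semi_eq_one_iff le_rfl] at h1
  obtain ⟨c, hc⟩ := h1.2
  obtain ⟨μ, y, hy⟩ := exists_coboundary_scalar σ g hc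
  have hconj : β = inndiagHom 2 F y * pslSemi 1 σ * (inndiagHom 2 F y)⁻¹ := by
    rw [hβ, conj_field, semi_inj le_rfl]
    exact ⟨μ, hy⟩
  have h2 : (2 : F) ≠ 0 := by
    intro h
    have h' : ((2 : ℕ) : F) = 0 := by exact_mod_cast h
    rw [CharP.cast_eq_zero_iff F p] at h'
    exact hp ((Nat.prime_dvd_prime_iff_eq Fact.out Nat.prime_two).1 h')
  obtain ⟨e⟩ := field_fixed_iso h2 (hord ▸ hodd) j hj
  set Y := inndiagHom 2 F y
  have hmap : ((pslSemi 1 σ : MulAut PSL₂).toMonoidHom.eqLocus (MonoidHom.id PSL₂)).map Y.toMonoidHom =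
      β.toMonoidHom.eqLocus (MonoidHom.id PSL₂) := by
    ext x
    rw [Subgroup.mem_map_equiv]
    show (pslSemi 1 σ : MulAut PSL₂) (Y.symm x) = Y.symm x ↔ β x = x
    rw [hconj, MulAut.mul_apply, MulAut.mul_apply, MulAut.inv_def]
    constructor
    · intro h; rw [h, Y.apply_symm_apply]
    · intro h
      conv_rhs => rw [← h]
      rw [Y.symm_apply_apply]
  exact ⟨((MulEquiv.subgroupCongr hmap).symm.trans
    (Subgroup.equivMapOfInjective _ Y.toMonoidHom Y.injective).symm).trans e⟩

end Cfsg.Agent.Invol.JankoWard.PSLField
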