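import Cfsg.Agent.Lib.Invol.AbelTwo.Walter
import Cfsg.Prelude.Def_TwoFusion

/-!
# The theorem of Janko–Thompson and Ward: interface

`WardHub` is the statement that will be proved as `Cfsg.Agent.Invol.JankoWard.ward`: in a simple group with an
elementary abelian Sylow 2-subgroup of order eight whose involution centralisers have the shape `JRShape`, every
involution centraliser is `⟨t⟩ × L2(q)` with `q = 5`, or with `q = 3^(2m+1)`, `m ≥ 1` and `|G| = q³(q³+1)(q-1)`.
Code that needs it takes `hub : WardHub` as a hypothesis until the proof lands.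
-/

set_option autoImplicit false

namespace Cfsg.Agent.Invol.JankoWard

open Subgroup

universe u

/-- The conclusion of the theorem at an involution `t`. -/
def Conclusion {G : Type u} [Group G] (t : G) : Prop :=
  Odd (centralizer ({t} : Set G)).index ∧
    ∃ L : Subgroup G, Cfsg.IsInternalDirectProduct (zpowers t) L (centralizer ({t} : Set G)) ∧
      ∃ (F : Type) (_ : Field F) (_ : Fintype F),
        Nonempty (↥L ≃* Matrix.ProjectiveSpecialLinearGroup (Fin 2) F) ∧
        (Fintype.card F = 5 ∨ ∃ m : ℕ, 1 ≤ m ∧ Fintype.card F = 3 ^ (2 * m + 1) ∧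
          Nat.card G = (3 ^ (2 * m + 1)) ^ 3 * ((3 ^ (2 * m + 1)) ^ 3 + 1) * (3 ^ (2 * m + 1) - 1))

/-- The theorem of Janko–Thompson and Ward. -/
def WardHub : Prop :=
  ∀ (G : Type u) [Group G] [Finite G], IsSimpleGroup G → ¬ IsMulCommutative G →
    ∀ S : Sylow 2 G, Nat.card ↥(S : Subgroup G) = 8 → (∀ x ∈ (S : Subgroup G), x * x = 1) →
      (∀ t ∈ (S : Subgroup G), t ≠ 1 → AbelTwo.JRShape t) →
      ∀ t : G, orderOf t = 2 → Conclusion t

end Cfsg.Agent.Invol.JankoWard
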