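import Cfsg.Agent.Lib.Invol.JankoWard.Main
import Cfsg.Agent.Lib.Invol.AbelTwo.Trichotomy
import Cfsg.Agent.Lib.Invol.AbelTwo.Hub
import Cfsg.Agent.Lib.Block.OrderPSL

/-!
# An involution centraliser `Z₂ × L2(q)` in a simple group with abelian Sylow 2-subgroups

`shape_cases`: `q = 3^(2m+1)` and the group has the order `q³(q³+1)(q-1)`, or `q` is four or five and the group is
the group of Janko.  This does not use the general shape of the second factor.
-/

set_option autoImplicit false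
set_option linter.unusedSectionVars false
set_option linter.style.haveILetI false

namespace Cfsg.Agent.Invol.JankoWard

open Subgroup
open scoped Classical

universe u v

theorem sixteen_dvd_mul_iff {q : ℕ} (hodd : Odd q) :
    16 ∣ q * ((q - 1) * (q + 1)) ↔ q % 8 = 1 ∨ q % 8 = 7 := by
  obtain ⟨k, hk⟩ := hodd
  subst hk
  have h16 : (2 * k + 1) * ((2 * k + 1 - 1) * (2 * k + 1 + 1)) = (2 * k + 1) * (4 * (k * (k + 1))) := by
    rw [show 2 * k + 1 - 1 = 2 * k by omega]; ring
  rw [h16, Nat.Coprime.dvd_mul_left (by simpa using (Nat.Coprime.pow_left 4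
    (Nat.coprime_two_left.2 ⟨k, rfl⟩ : Nat.Coprime 2 (2 * k + 1)))), show (16 : ℕ) = 4 * 4 from rfl,
    Nat.mul_dvd_mul_iff_left (by norm_num)]
  have h : k * (k + 1) % 4 = (k % 4) * ((k + 1) % 4) % 4 := Nat.mul_mod _ _ _
  rw [Nat.dvd_iff_mod_eq_zero, h]
  have h4 : k % 4 < 4 := Nat.mod_lt _ (by norm_num)
  rcases (show k % 4 = 0 ∨ k % 4 = 1 ∨ k % 4 = 2 ∨ k % 4 = 3 by omega) with e | e | e | e <;>
    rw [e, Nat.add_mod, e] <;> norm_num <;> omega

/-- Elementary facts on the order of `PSL₂`. -/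
theorem psl_card_facts (F : Type) [Field F] [Fintype F] (hq : 3 ≤ Fintype.card F) :
    4 ∣ Nat.card (Matrix.ProjectiveSpecialLinearGroup (Fin 2) F) ∧
      3 ∣ Nat.card (Matrix.ProjectiveSpecialLinearGroup (Fin 2) F) ∧
      (8 ∣ Nat.card (Matrix.ProjectiveSpecialLinearGroup (Fin 2) F) ∨ Fintype.card F = 4 ∨
        Fintype.card F % 8 = 3 ∨ Fintype.card F % 8 = 5) := by
  rcases Nat.even_or_odd (Fintype.card F) with heven | hodd
  · obtain ⟨p, hc⟩ := CharP.exists F
    haveI : Fact p.Prime := ⟨CharP.char_is_prime F p⟩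
    obtain rfl : p = 2 := Dickson.p_eq_two p heven
    obtain ⟨n, -, hn⟩ := FiniteField.card F 2
    have h := Classical.natCard_PSL_mul (F := F) 2 (by norm_num)
    rw [Fus.PSLTwo.natCard_SL_two, Nat.card_units, Nat.card_eq_fintype_card (α := F), Nat.gcd_comm,
      Nat.coprime_iff_gcd_eq_one.1 (Nat.coprime_two_right.2
        (Nat.Even.sub_odd (by omega) heven odd_one)), one_mul] at h
    rw [hn] at h ⊢
    have h3 : 3 ∣ 2 ^ (n : ℕ) * ((2 ^ (n : ℕ) - 1) * (2 ^ (n : ℕ) + 1)) := by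
      have : ∀ a : ℕ, 3 ∣ a * ((a - 1) * (a + 1)) := fun a => by
        rcases (show a % 3 = 0 ∨ a % 3 = 1 ∨ a % 3 = 2 by omega) with e | e | e
        · exact dvd_mul_of_dvd_left (by omega) _
        · exact dvd_mul_of_dvd_right (dvd_mul_of_dvd_left (by omega) _) _
        · exact dvd_mul_of_dvd_right (dvd_mul_of_dvd_right (by omega) _) _
      exact this _
    rw [← h] at h3
    have hn2 : 2 ≤ (n : ℕ) := by
      by_contra hlt
      have hn0 := n.pos
      have h1 : (n : ℕ) = 1 := by omega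
      rw [hn, h1] at hq; omega
    have hdvd : 2 ^ (n : ℕ) ∣ Nat.card (Matrix.ProjectiveSpecialLinearGroup (Fin 2) F) := by
      rw [h]; exact dvd_mul_right _ _
    refine ⟨(pow_dvd_pow 2 hn2).trans hdvd, h3, ?_⟩
    rcases (show (n : ℕ) = 2 ∨ 3 ≤ (n : ℕ) by omega) with e | e
    · exact Or.inr (Or.inl (by rw [e]; norm_num))
    · exact Or.inl ((pow_dvd_pow 2 e).trans hdvd)
  · have h := Invol.GW.card_PSLTwo (F := F) hodd
    set q := Fintype.card F
    set N := Nat.card (Matrix.ProjectiveSpecialLinearGroup (Fin 2) F)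
    obtain ⟨k, hk⟩ := hodd
    have h8 : 8 ∣ q * ((q - 1) * (q + 1)) := by
      obtain ⟨j, hj⟩ := Nat.even_mul_succ_self k
      exact ⟨(2 * k + 1) * j, by
        rw [hk, show 2 * k + 1 - 1 = 2 * k by omega,
          show (2 * k + 1) * (2 * k * (2 * k + 1 + 1)) = 4 * (2 * k + 1) * (k * (k + 1)) by ring, hj]; ring⟩
    have h3 : 3 ∣ q * ((q - 1) * (q + 1)) := by
      rcases (show q % 3 = 0 ∨ q % 3 = 1 ∨ q % 3 = 2 by omega) with e | e | e
      · exact dvd_mul_of_dvd_left (by omega) _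
      · exact dvd_mul_of_dvd_right (dvd_mul_of_dvd_left (by omega) _) _
      · exact dvd_mul_of_dvd_right (dvd_mul_of_dvd_right (by omega) _) _
    rw [← h] at h8 h3
    refine ⟨Nat.dvd_of_mul_dvd_mul_left two_pos (by simpa using h8),
      (Nat.Coprime.dvd_of_dvd_mul_left (by norm_num) h3), ?_⟩
    by_cases h16 : 16 ∣ q * ((q - 1) * (q + 1))
    · left
      rw [← h] at h16
      exact Nat.dvd_of_mul_dvd_mul_left two_pos (by simpa using h16)
    · right; right
      rw [sixteen_dvd_mul_iff ⟨k, hk⟩] at h16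
      omega

variable {G : Type u} [Group G] [Finite G] [IsSimpleGroup G]

/-- The internal factor of an abstract product decomposition of a centraliser. -/
theorem exists_factor {t : G} (ht : orderOf t = 2) {P : Type v} [Group P] (hP : center P = ⊥)
    (e : ↥(centralizer ({t} : Set G)) ≃* Multiplicative (ZMod 2) × P) :
    ∃ L : Subgroup G, Cfsg.IsInternalDirectProduct (zpowers t) L (centralizer ({t} : Set G)) ∧
      Nonempty (↥L ≃* P) := by
  set C := centralizer ({t} : Set G) with hC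
  have htC : t ∈ C := mem_centralizer_singleton_iff.2 rfl
  let j : P →* G := C.subtype.comp (e.symm.toMonoidHom.comp (MonoidHom.inr _ P))
  have hj : Function.Injective j := Subtype.val_injective.comp
    (e.symm.injective.comp (fun a b h => congrArg Prod.snd h))
  have hp1 : (e ⟨t, htC⟩).2 = 1 := by
    have : (e ⟨t, htC⟩).2 ∈ center P := by
      rw [Subgroup.mem_center_iff]
      intro g
      have h1 : (⟨t, htC⟩ : ↥C) * e.symm (1, g) = e.symm (1, g) * ⟨t, htC⟩ :=
        Subtype.ext (mem_centralizer_singleton_iff.1 (e.symm (1, g)).2).symm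
      have h2 := congrArg (fun c => (e c).2) h1
      simp only [map_mul, MulEquiv.apply_symm_apply, Prod.snd_mul] at h2
      exact h2.symm
    rwa [hP, mem_bot] at this
  have ha : (e ⟨t, htC⟩).1 ≠ 1 := by
    intro h
    have h1 : e ⟨t, htC⟩ = 1 := Prod.ext h hp1
    rw [e.map_eq_one_iff] at h1
    have : t = 1 := congrArg Subtype.val h1
    rw [this, orderOf_one] at ht
    omega
  have hz : ∀ a : Multiplicative (ZMod 2), a = 1 ∨ a = (e ⟨t, htC⟩).1 := by
    have key : ∀ a b : Multiplicative (ZMod 2), b ≠ 1 → a = 1 ∨ a = b := by decide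
    exact fun a => key a _ ha
  have hjC : j.range ≤ C := by
    rintro _ ⟨p, rfl⟩; exact (e.symm (1, p)).2
  refine ⟨j.range, ⟨zpowers_le.2 htC, hjC, fun a ha' b hb => ?_, ?_, ?_⟩, ⟨(MonoidHom.ofInjective hj).symm⟩⟩
  · obtain ⟨i, rfl⟩ := mem_zpowers_iff.1 ha'
    exact (Commute.zpow_left (show Commute t b from (mem_centralizer_singleton_iff.1 (hjC hb)).symm) i).eq
  · refine (eq_bot_iff_forall _).2 fun x ⟨hx1, hx2⟩ => ?_
    obtain ⟨p, rfl⟩ := hx2
    obtain ⟨i, hi⟩ := mem_zpowers_iff.1 hx1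
    have h1 : (⟨t, htC⟩ : ↥C) ^ i = e.symm (1, p) := Subtype.ext (by rw [SubgroupClass.coe_zpow]; exact hi)
    have h2 := congrArg (fun c => (e c).2) h1
    simp only [map_zpow, Prod.pow_snd, hp1, one_zpow, MulEquiv.apply_symm_apply] at h2
    rw [← h2, map_one]
  · refine le_antisymm (sup_le (zpowers_le.2 htC) hjC) fun c hc => ?_
    have hdec : (⟨c, hc⟩ : ↥C) = e.symm ((e ⟨c, hc⟩).1, 1) * e.symm (1, (e ⟨c, hc⟩).2) := by
      rw [← map_mul, Prod.mk_mul_mk, mul_one, one_mul, e.eq_symm_apply]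
    have h1 : c = (e.symm ((e ⟨c, hc⟩).1, 1) : ↥C) * (e.symm (1, (e ⟨c, hc⟩).2) : ↥C) :=
      congrArg Subtype.val hdec
    rw [h1]
    refine mul_mem (mem_sup_left ?_) (mem_sup_right ⟨_, rfl⟩)
    rcases hz (e ⟨c, hc⟩).1 with h | h
    · rw [h, show ((1 : Multiplicative (ZMod 2)), (1 : P)) = 1 from rfl, map_one]
      exact one_mem _
    · rw [h, show ((e ⟨t, htC⟩).1, (1 : P)) = e ⟨t, htC⟩ from Prod.ext rfl hp1.symm,
        MulEquiv.symm_apply_apply]
      exact mem_zpowers t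

/-- A centraliser `Z₂ × L2(q)` in a simple group with abelian Sylow 2-subgroups. -/
theorem shape_cases (hab : ∀ P : Sylow 2 G, ∀ a b : P, a * b = b * a) {F : Type} [Field F] [Fintype F]
    (hq : 3 ≤ Fintype.card F) {t : G} (ht : orderOf t = 2)
    (e : ↥(centralizer ({t} : Set G)) ≃*
      Multiplicative (ZMod 2) × Matrix.ProjectiveSpecialLinearGroup (Fin 2) F) :
    (∃ m : ℕ, 1 ≤ m ∧ Fintype.card F = 3 ^ (2 * m + 1) ∧
        Nat.card G = (3 ^ (2 * m + 1)) ^ 3 * ((3 ^ (2 * m + 1)) ^ 3 + 1) * (3 ^ (2 * m + 1) - 1)) ∨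
      ((Fintype.card F = 4 ∨ Fintype.card F = 5) ∧ Cfsg.IsJ1 G) := by
  haveI : Fact (Nat.Prime 2) := ⟨Nat.prime_two⟩
  obtain ⟨h4, h3, h8F⟩ := psl_card_facts F hq
  set Q := Matrix.ProjectiveSpecialLinearGroup (Fin 2) F
  have hcardC : Nat.card ↥(centralizer ({t} : Set G)) = 2 * Nat.card Q := by
    rw [Nat.card_congr e.toEquiv, Nat.card_prod, Nat.card_congr Multiplicative.toAdd, Nat.card_zmod]
  have hCG : Nat.card ↥(centralizer ({t} : Set G)) ∣ Nat.card G := Subgroup.card_subgroup_dvd_card _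
  have h8G : 8 ∣ Nat.card G := (show 8 ∣ 2 * Nat.card Q by
    obtain ⟨j, hj⟩ := h4; exact ⟨j, by rw [hj]; ring⟩).trans (hcardC ▸ hCG)
  have hG : ¬ IsMulCommutative G := by
    intro hc
    letI : CommGroup G := { (inferInstance : Group G) with mul_comm := hc.is_comm.comm }
    have hp : (Nat.card G).Prime := IsSimpleGroup.prime_card
    rcases hp.eq_one_or_self_of_dvd 8 h8G with h | h
    · omega
    · rw [← h] at hp; norm_num at hp
  let S : Sylow 2 G := default
  have hS : IsMulCommutative ↥(S : Subgroup G) := ⟨⟨hab S⟩⟩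
  rcases AbelTwo.trichotomy hG ((by norm_num : 2 ∣ 8).trans h8G) S hS with
    ⟨K, i, j, n, hn, hK, ⟨g⟩⟩ | ⟨K, i, j, hKodd, -, hK8, ⟨g⟩⟩ | ⟨h8, hel, hJ⟩
  · -- characteristic two: the centraliser has exponent two
    exfalso
    haveI : CharP K 2 := by
      obtain ⟨p, hp⟩ := CharP.exists K
      haveI : Fact p.Prime := ⟨CharP.char_is_prime K p⟩
      obtain rfl : p = 2 := Dickson.p_eq_two p (by rw [hK]; exact Nat.even_pow.2 ⟨even_two, by omega⟩)
      exact hp
    let D := Dickson.pslData (F := K) 2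
    haveI : Fact (Nat.Prime 3) := ⟨Nat.prime_three⟩
    obtain ⟨x, hx⟩ := exists_prime_orderOf_dvd_card' (G := Q) 3 h3
    set y : G := (e.symm (1, x)).1 with hy
    have hyo : orderOf y = 3 := by
      rw [hy, Subgroup.orderOf_coe, MulEquiv.orderOf_eq]
      exact (orderOf_injective (MonoidHom.inr (Multiplicative (ZMod 2)) Q)
        (fun a b h => congrArg Prod.snd h) x).trans hx
    have hyt : Commute y t := mem_centralizer_singleton_iff.1 (e.symm (1, x)).2
    have hv1 : g t ≠ 1 := fun h => by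
      rw [g.map_eq_one_iff] at h
      rw [h, orderOf_one] at ht
      omega
    have hvp : (g t) ^ 2 = 1 := by rw [← map_pow, orderOf_dvd_iff_pow_eq_one.1 (dvd_of_eq ht), map_one]
    have h1 := D.uni_exp hv1 hvp (D.uni_cent hv1 hvp (hyt.map g))
    rw [← map_pow, g.map_eq_one_iff] at h1
    have := orderOf_dvd_of_pow_eq_one h1
    rw [hyo] at this
    norm_num at this
  · -- Sylow 2-subgroups of order four
    exfalso
    rw [Nat.card_congr g.toEquiv] at h8G
    have h16 : 16 ∣ 2 * Nat.card (Matrix.ProjectiveSpecialLinearGroup (Fin 2) K) := by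
      obtain ⟨j, hj⟩ := h8G; exact ⟨j, by rw [hj]; ring⟩
    rw [Invol.GW.card_PSLTwo hKodd, sixteen_dvd_mul_iff hKodd] at h16
    omega
  have h16 : ¬ 16 ∣ Nat.card G := by
    intro h
    have h1 := (Nat.prime_two.pow_dvd_iff_le_factorization (k := 4) Nat.card_pos.ne').1 (by simpa using h)
    have h2 := S.card_eq_multiplicity
    rw [h8, show (8 : ℕ) = 2 ^ 3 from rfl] at h2
    have := Nat.pow_right_injective le_rfl h2
    omega
  have hF : Fintype.card F = 4 ∨ Fintype.card F % 8 = 3 ∨ Fintype.card F % 8 = 5 := by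
    rcases h8F with ⟨j, hj⟩ | h
    · exact absurd ((show 16 ∣ 2 * Nat.card Q from ⟨j, by rw [hj]; ring⟩).trans (hcardC ▸ hCG)) h16
    · exact h
  have h3F : Fintype.card F ≠ 3 := by
    intro h
    obtain ⟨c, hc⟩ := Invol.exists_conj_mem_sylow (n := 1) (x := t) (by rw [ht, pow_one]) S
    have hne : c * t * c⁻¹ ≠ 1 := fun e0 => by
      rw [conj_eq_one_iff] at e0
      rw [e0, orderOf_one] at ht
      omega
    obtain ⟨-, E, hE, K, i, j, hKodd, hK3, N, -, ⟨g⟩, -⟩ := hJ _ hc hne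
    have ho : orderOf (c * t * c⁻¹) = 2 := by
      rw [← ht]
      exact orderOf_injective (MulAut.conj c).toMonoidHom (MulAut.conj c).injective t
    have h1 := AbelTwo.card_prod ho hE
    rw [Block.card_centralizer_conj, hcardC] at h1
    have hN := Invol.GW.card_PSLTwo (F := K) hKodd
    rw [← Nat.card_congr g.toEquiv] at hN
    have hle : Nat.card ↥N ≤ Nat.card ↥E := Nat.card_le_card_of_injective _ Subtype.val_injective
    have hP := Invol.GW.card_PSLTwo (F := F) (by rw [h]; decide)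
    rw [h] at hP
    have hQ : Nat.card Q = 12 := by norm_num at hP; simp only [Q] at *; omega
    have hK5 : 5 ≤ Fintype.card K := by obtain ⟨k, hk⟩ := hKodd; omega
    have : 5 * (4 * 6) ≤ 2 * Nat.card ↥N := hN ▸ Nat.mul_le_mul hK5
      (Nat.mul_le_mul (by omega) (by omega))
    omega
  have hsimp : IsSimpleGroup Q := Classical.PSL_isSimple le_rfl fun _ => by omega
  have hcen : center Q = ⊥ := by
    refine (IsSimpleGroup.eq_bot_or_eq_top_of_normal _ inferInstance).resolve_right fun htop => ?_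
    have hc : IsMulCommutative Q := ⟨⟨fun a b => Subgroup.mem_center_iff.1 (htop ▸ mem_top b) a⟩⟩
    letI : CommGroup Q := { (inferInstance : Group Q) with mul_comm := hc.is_comm.comm }
    have hp : (Nat.card Q).Prime := IsSimpleGroup.prime_card
    rcases hp.eq_one_or_self_of_dvd 3 h3 with h | h
    · omega
    · rw [← h] at h4; omega
  obtain ⟨L, hL, ⟨eL⟩⟩ := exists_factor ht hcen e
  by_cases h45 : Fintype.card F = 4 ∨ Fintype.card F = 5
  · refine Or.inr ⟨h45, ?_⟩
    haveI : Fact (Nat.Prime 5) := ⟨by norm_num⟩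
    rcases h45 with h | h
    · obtain ⟨p, hp⟩ := CharP.exists F
      haveI : Fact p.Prime := ⟨CharP.char_is_prime F p⟩
      obtain rfl : p = 2 := Dickson.p_eq_two p (by rw [h]; decide)
      haveI := Classical.decEq F
      obtain ⟨e5⟩ := AbelTwo.psl_five_of_four (G := Q) h (Invol.GW.SLTwoEquivPSL (F := F)).symm
      exact (AbelTwo.j1_of_five S hS h8 ht hL (ZMod.card 5) (eL.trans e5)).2
    · exact (AbelTwo.j1_of_five S hS h8 ht hL h eL).2
  refine Or.inl ?_
  push Not at h45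
  have hgt : 5 < Fintype.card F := by omega
  have hodd := odd_index S hel ht
  haveI : Fintype G := Fintype.ofFinite G
  haveI : Fintype Q := Fintype.ofFinite _
  obtain ⟨D, ⟨X⟩, hDq⟩ := PSL.exists_lData_lChars F (by omega) hgt
  obtain ⟨B, -, hBD⟩ := exists_base D ht hodd hL eL
  subst hBD
  obtain ⟨Loc⟩ := B.exists_locals (Amb.of_sylow hG S h8 hel)
  obtain ⟨-, hp3, ⟨n, hn⟩, hord⟩ := Loc.order X hG
  rw [B.D.hf, hp3, hn] at hDq
  rw [B.D.hf, hp3, hn] at hord
  refine ⟨n, ?_, hDq.symm, hord⟩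
  rcases n with _ | n
  · norm_num at hDq; omega
  · omega

/-- The same with a field in any universe. -/
theorem shape_cases' (hab : ∀ P : Sylow 2 G, ∀ a b : P, a * b = b * a) {F : Type v} [Field F] [Fintype F]
    (hq : 3 ≤ Fintype.card F) {t : G} (ht : orderOf t = 2)
    (hC : Nonempty (↥(centralizer ({t} : Set G)) ≃*
      Multiplicative (ZMod 2) × Matrix.ProjectiveSpecialLinearGroup (Fin 2) F)) :
    (∃ m : ℕ, 1 ≤ m ∧ Fintype.card F = 3 ^ (2 * m + 1) ∧
        Nat.card G = (3 ^ (2 * m + 1)) ^ 3 * ((3 ^ (2 * m + 1)) ^ 3 + 1) * (3 ^ (2 * m + 1) - 1)) ∨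
      ((Fintype.card F = 4 ∨ Fintype.card F = 5) ∧ Cfsg.IsJ1 G) := by
  obtain ⟨e⟩ := hC
  haveI : Fintype (Shrink.{0} F) := Fintype.ofFinite _
  let σ : Shrink.{0} F ≃+* F := Shrink.ringEquiv.{0} F
  obtain ⟨f⟩ := Block.OrdP.psl_congr' (n := 2) σ
  have hcard : Fintype.card (Shrink.{0} F) = Fintype.card F := Fintype.card_congr σ.toEquiv
  have h := shape_cases hab (F := Shrink.{0} F) (hcard ▸ hq) ht
    (e.trans (MulEquiv.prodCongr (MulEquiv.refl _) f.symm))
  rwa [hcard] at h

end Cfsg.Agent.Invol.JankoWard
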