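import Cfsg.Agent.Lib.Invol.JankoWard.ExtInterface
import Cfsg.Agent.Lib.Invol.JankoWard.ExtField
import Cfsg.Agent.Lib.Invol.JankoWard.LocalBase
import Cfsg.Agent.Lib.Invol.JankoWard.LCharsPSL
import Cfsg.Agent.Lib.Invol.JankoWard.Shape

/-!
# An `ExtBase` from the shape of a centraliser

If the centraliser of an involution is `⟨t⟩ × E` with `E` having a normal subgroup `L2(q)`, `q > 5`, of trivial
centraliser, and the Sylow 2-subgroups are of order eight, then `E = L2(q) ⋊ Fld` as in `ExtBase`.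
-/

set_option autoImplicit false
set_option linter.unusedSectionVars false
set_option linter.style.haveILetI false

open scoped Classical Pointwise

namespace Cfsg.Agent.Invol.JankoWard

open Subgroup

universe u v

namespace SetupAux

variable {E : Type u} [Group E] {P : Type v} [Group P] (D : LData P) (j : P →* E)

/-- An involution commuting with `u` is `u`, or a conjugate of `w` or `u w` by an element of `Y`. -/
theorem invol_cases {b : P} (hb : b * b = 1) (hb1 : b ≠ 1) (hbu : b * D.u = D.u * b) (hne : b ≠ D.u) :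
    ∃ z ∈ D.Y, z * b * z⁻¹ = D.w ∨ z * b * z⁻¹ = D.u * D.w := by
  obtain ⟨y, hy, hcase⟩ := D.cent_u b hbu
  obtain ⟨z, hz, hzy⟩ : ∃ z ∈ D.Y, z * z = y := by
    obtain ⟨k, hk⟩ := D.r_odd
    refine ⟨y ^ (k + 1), pow_mem hy _, ?_⟩
    rw [← pow_add, show k + 1 + (k + 1) = D.r + 1 by omega, pow_succ, D.pow_r hy, one_mul]
  have hzw : D.w * z = z⁻¹ * D.w := by rw [← D.w_Y z hz, inv_mul_cancel_right]
  have hwy : z * (D.w * y) * z⁻¹ = D.w := by
    rw [← hzy, show D.w * (z * z) = D.w * z * z by group, hzw]; group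
  have hzu : z * D.u = D.u * z := (D.u_Y z hz).symm
  rcases hcase with rfl | rfl | rfl | rfl
  · exact absurd (D.Y_inv hy hb) hb1
  · exfalso
    refine hne ?_
    rw [D.Y_inv hy (y := y) (by
      have h : D.u * y * (D.u * y) = D.u * D.u * (y * y) := (show Commute D.u y from D.u_Y y hy).symm.mul_mul_mul_comm _ _
      rw [hb, D.u2, one_mul] at h
      exact h.symm), mul_one]
  · exact ⟨z, hz, Or.inl hwy⟩
  · refine ⟨z, hz, Or.inr ?_⟩
    calc z * (D.u * D.w * y) * z⁻¹ = z * D.u * (D.w * y) * z⁻¹ := by group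
      _ = D.u * (z * (D.w * y) * z⁻¹) := by rw [hzu]; group
      _ = D.u * D.w := by rw [hwy]

/-- No element centralising `u` moves `w` to `u w`. -/
theorem not_move {n : P} (hu : n * D.u = D.u * n) : n * D.w * n⁻¹ ≠ D.u * D.w := by
  obtain ⟨y, hy, hcase⟩ := D.cent_u n hu
  have h1 : y * D.w * y⁻¹ = D.w * (y⁻¹ * y⁻¹) := by
    rw [show y * D.w = D.w * y⁻¹ by
      rw [← D.w_Y y hy]; calc y * D.w = D.w * D.w * y * D.w := by rw [D.w2, one_mul]
        _ = D.w * (D.w * y * D.w⁻¹) := by rw [inv_eq_of_mul_eq_one_right D.w2]; group]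
    group
  have key : ∀ a : P, a * D.u = D.u * a → a * D.w = D.w * a → a * y * D.w * (a * y)⁻¹ ≠ D.u * D.w := by
    intro a hau haw h
    have h2 : a * (D.w * (y⁻¹ * y⁻¹)) * a⁻¹ = D.u * D.w := by rw [← h1, ← h]; group
    have h3 : D.w * (y⁻¹ * y⁻¹) = a⁻¹ * (D.u * D.w) * a := by rw [← h2]; group
    have h4 : a⁻¹ * (D.u * D.w) * a = D.u * D.w := by
      have : D.u * D.w * a = a * (D.u * D.w) := by rw [mul_assoc, ← haw, ← mul_assoc, ← hau, mul_assoc]
      rw [mul_assoc, this, inv_mul_cancel_left]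
    rw [h4, D.comm] at h3
    have h5 := mul_left_cancel h3
    exact D.u1 (D.Y_inv (h5 ▸ mul_mem (inv_mem hy) (inv_mem hy)) D.u2)
  rcases hcase with rfl | rfl | rfl | rfl
  · simpa using key 1 (by simp) (by simp)
  · exact key D.u rfl D.comm
  · exact key D.w D.comm.symm rfl
  · exact key (D.u * D.w) (by rw [mul_assoc, ← D.comm, ← mul_assoc]) (by rw [mul_assoc, ← mul_assoc D.w, ← D.comm, mul_assoc])

/-- The Frattini argument for the four-group. -/
theorem frattini [Finite E] [hn : j.range.Normal] (hinj : Function.Injective j) (hodd : Odd j.range.index) (x : E) :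
    ∃ n : P, j n * x * j D.u = j D.u * (j n * x) ∧ j n * x * j D.w = j D.w * (j n * x) := by
  have himg : ∀ (e : E) (b : P), ∃ b', e * j b * e⁻¹ = j b' := fun e b => by
    obtain ⟨b', hb'⟩ := hn.conj_mem _ ⟨b, rfl⟩ e
    exact ⟨b', hb'.symm⟩
  have hinv : ∀ (e : E) (b b' : P), e * j b * e⁻¹ = j b' → b * b = 1 → b ≠ 1 → b' * b' = 1 ∧ b' ≠ 1 := by
    intro e b b' h hb hb1
    refine ⟨hinj ?_, fun h1 => ?_⟩
    · rw [map_mul, ← h, conj_mul, ← map_mul, hb, map_one, mul_one, mul_inv_cancel]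
    · rw [h1, map_one, conj_eq_one_iff] at h
      exact hb1 (hinj (h.trans (map_one j).symm))
  obtain ⟨u', hu'⟩ := himg x D.u
  obtain ⟨h2, h1⟩ := hinv _ _ _ hu' D.u2 D.u1
  obtain ⟨n1, hn1⟩ := isConj_iff.1 (D.one_class u' h2 h1).symm
  set x1 := j n1 * x with hx1
  have hx1u : x1 * j D.u * x1⁻¹ = j D.u := by
    rw [hx1, show j n1 * x * j D.u * (j n1 * x)⁻¹ = j n1 * (x * j D.u * x⁻¹) * (j n1)⁻¹ by group, hu',
      ← map_inv, ← map_mul, ← map_mul, hn1]
  obtain ⟨w', hw'⟩ := himg x1 D.w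
  obtain ⟨h2', h1'⟩ := hinv _ _ _ hw' D.w2 D.w1
  have hw'u : w' * D.u = D.u * w' := hinj (by
    rw [map_mul, map_mul, ← hw']
    nth_rw 1 [← hx1u]
    nth_rw 2 [← hx1u]
    rw [conj_mul, conj_mul, ← map_mul, ← map_mul, D.comm])
  have hne : w' ≠ D.u := fun h => by
    rw [h] at hw'
    exact D.uw (hinj (mul_left_cancel (mul_right_cancel (hx1u.trans hw'.symm))))
  obtain ⟨z, hz, hzw⟩ := invol_cases D h2' h1' hw'u hne
  set x2 := j z * x1 with hx2
  have hx2u : x2 * j D.u * x2⁻¹ = j D.u := by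
    rw [hx2, show j z * x1 * j D.u * (j z * x1)⁻¹ = j z * (x1 * j D.u * x1⁻¹) * (j z)⁻¹ by group, hx1u,
      ← map_inv, ← map_mul, ← map_mul, ← D.u_Y z hz, mul_inv_cancel_right]
  have hx2w : x2 * j D.w * x2⁻¹ = j (z * w' * z⁻¹) := by
    rw [hx2, show j z * x1 * j D.w * (j z * x1)⁻¹ = j z * (x1 * j D.w * x1⁻¹) * (j z)⁻¹ by group, hw',
      ← map_inv, ← map_mul, ← map_mul]
  rcases hzw with h | h
  · refine ⟨z * n1, ?_, ?_⟩ <;>
      rw [show j (z * n1) * x = x2 by rw [hx2, hx1, map_mul, mul_assoc], ← mul_inv_eq_iff_eq_mul]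
    · exact hx2u
    · rw [hx2w, h]
  exfalso
  rw [h] at hx2w
  -- an odd power lies in the normal subgroup
  have hpow : x2 ^ j.range.index ∈ j.range := Subgroup.pow_index_mem _ x2
  obtain ⟨n, hn'⟩ := hpow
  have hodd' : ∀ m : ℕ, x2 ^ m * j D.u * (x2 ^ m)⁻¹ = j D.u ∧
      x2 ^ m * j D.w * (x2 ^ m)⁻¹ = j (if Odd m then D.u * D.w else D.w) := by
    intro m
    induction m with
    | zero => simp
    | succ m ih =>
      refine ⟨?_, ?_⟩
      · rw [pow_succ, show x2 ^ m * x2 * j D.u * (x2 ^ m * x2)⁻¹ = x2 ^ m * (x2 * j D.u * x2⁻¹) * (x2 ^ m)⁻¹ by group,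
          hx2u, ih.1]
      · rw [pow_succ, show x2 ^ m * x2 * j D.w * (x2 ^ m * x2)⁻¹ = x2 ^ m * (x2 * j D.w * x2⁻¹) * (x2 ^ m)⁻¹ by group,
          hx2w, map_mul, ← conj_mul, ih.1, ih.2, ← map_mul]
        congr 1
        by_cases hm : Odd m
        · rw [if_pos hm, if_neg (by rw [Nat.odd_add_one]; exact not_not.2 hm), ← mul_assoc, D.u2, one_mul]
        · rw [if_neg hm, if_pos (by rw [Nat.odd_add_one]; exact hm)]
  obtain ⟨h3, h4⟩ := hodd' j.range.index
  rw [if_pos hodd, ← hn', ← map_inv, ← map_mul, ← map_mul] at h4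
  rw [← hn', ← map_inv, ← map_mul, ← map_mul] at h3
  exact not_move D (mul_inv_eq_iff_eq_mul.1 (hinj h3)) (hinj h4)

end SetupAux

/-- The `ExtBase` of a centraliser. -/
theorem exists_extBase {G : Type u} [Group G] [Finite G] (A : Amb G) {t : G} (ht : orderOf t = 2)
    (hodd : Odd (centralizer ({t} : Set G)).index) {E : Subgroup G}
    (hE : Cfsg.IsInternalDirectProduct (zpowers t) E (centralizer ({t} : Set G))) {F : Type} [Field F] [Fintype F]
    (h5 : 5 < Fintype.card F) (hFodd : Odd (Fintype.card F)) (N : Subgroup ↥E) [N.Normal]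
    (e : ↥N ≃* Matrix.ProjectiveSpecialLinearGroup (Fin 2) F) (hcN : centralizer (N : Set ↥E) = ⊥) :
    (Fintype.card F % 8 = 3 ∨ Fintype.card F % 8 = 5) ∧
      ∃ S : ExtBase G (Matrix.ProjectiveSpecialLinearGroup (Fin 2) F), S.t = t ∧ S.D.q = Fintype.card F ∧
        Nat.card S.Fld = N.index ∧ Nonempty (LChars S.D) := by
  haveI : Fact (Nat.Prime 2) := ⟨Nat.prime_two⟩
  -- the Sylow bound
  have hcardC := AbelTwo.card_prod ht hE
  have h16 : ¬ 16 ∣ Nat.card G := by
    intro h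
    let T : Sylow 2 G := default
    have h1 := (Nat.prime_two.pow_dvd_iff_le_factorization (k := 4) Nat.card_pos.ne').1 (by simpa using h)
    have h2 := T.card_eq_multiplicity
    rw [A.eight T, show (8 : ℕ) = 2 ^ 3 from rfl] at h2
    have := Nat.pow_right_injective le_rfl h2
    omega
  have h8E : ¬ 8 ∣ Nat.card E := fun h => by
    refine h16 ((show 16 ∣ 2 * Nat.card E from ?_).trans (hcardC ▸ Subgroup.card_subgroup_dvd_card _))
    obtain ⟨i, hi⟩ := h
    exact ⟨i, by rw [hi]; ring⟩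
  obtain ⟨h4, -, h8F⟩ := psl_card_facts F (by omega)
  have hmod : Fintype.card F % 8 = 3 ∨ Fintype.card F % 8 = 5 := by
    rcases h8F with h | h | h
    · rw [← Nat.card_congr e.toEquiv] at h
      exact absurd (h.trans (Subgroup.card_subgroup_dvd_card N)) h8E
    · omega
    · exact h
  refine ⟨hmod, ?_⟩
  have hidx : Odd N.index := by
    refine Nat.not_even_iff_odd.1 fun he => h8E ?_
    rw [← Nat.card_congr e.toEquiv] at h4
    obtain ⟨a, ha⟩ := h4
    obtain ⟨b, hb⟩ := even_iff_two_dvd.1 he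
    exact ⟨a * b, by rw [← N.card_mul_index, ha, hb]; ring⟩
  obtain ⟨D, hX, hq⟩ := PSL.exists_lData_lChars F hmod h5
  haveI : Fact D.p.Prime := ⟨D.hp⟩
  have hFc : Fintype.card F = D.p ^ D.f := hq ▸ D.hf
  haveI : CharP F D.p := charP_of_card_eq_prime_pow hFc
  obtain ⟨ψ, hψrep, hψinn, hψsq⟩ := PSLField.exists_fieldHom (F := F) (p := D.p)
  -- the embedding and the action
  let j : Matrix.ProjectiveSpecialLinearGroup (Fin 2) F →* ↥E := N.subtype.comp e.symm.toMonoidHom
  have hj : Function.Injective j := N.subtype_injective.comp e.symm.injective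
  have hjr : j.range = N := by
    ext x
    exact ⟨fun ⟨c, hc⟩ => hc ▸ (e.symm c).2, fun hx => ⟨e ⟨x, hx⟩, by simp [j]⟩⟩
  haveI : j.range.Normal := by rw [hjr]; infer_instance
  let cE : ↥E →* MulAut (Matrix.ProjectiveSpecialLinearGroup (Fin 2) F) :=
    (MulAut.congr e).toMonoidHom.comp MulAut.conjNormal
  have hcE : ∀ x c, j (cE x c) = x * j c * x⁻¹ := fun x c => by
    show ((e.symm (e (MulAut.conjNormal x (e.symm c))) : N) : ↥E) = _
    rw [e.symm_apply_apply, MulAut.conjNormal_apply]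
    rfl
  have hcE1 : ∀ x, cE x = 1 → x = 1 := by
    intro x hx
    have : x ∈ centralizer (N : Set ↥E) := mem_centralizer_iff.2 fun n hn => by
      obtain ⟨c, rfl⟩ := hjr.symm ▸ hn
      have h := hcE x c
      rw [hx, MulAut.one_apply] at h
      exact (eq_mul_inv_iff_mul_eq.1 h)
    rwa [hcN, mem_bot] at this
  have hcEj : ∀ c, cE (j c) = MulAut.conj c := fun c => MulEquiv.ext fun d => hj (by
    rw [hcE, MulAut.conj_apply, map_mul, map_mul, map_inv])
  have hker : ∀ x, ψ (cE x) = 1 → x ∈ j.range := by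
    intro x hx
    obtain ⟨c, hc⟩ := hψsq _ hx
    have h1 : x * x = j c := by
      have : cE (x * x * (j c)⁻¹) = 1 := by rw [map_mul, map_mul, map_inv, hc, hcEj, mul_inv_cancel]
      exact mul_inv_eq_one.1 (hcE1 _ this)
    obtain ⟨k, hk⟩ := hidx
    have h2 : x ^ N.index ∈ j.range := by rw [hjr]; exact Subgroup.pow_index_mem _ x
    rw [hk, pow_succ, pow_mul, pow_two, h1] at h2
    exact (Subgroup.mul_mem_cancel_left j.range (pow_mem (show j c ∈ j.range from ⟨c, rfl⟩) k)).1 h2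
  -- the centraliser of the four-group
  let CV : Subgroup ↥E := centralizer ({j D.u, j D.w} : Set ↥E)
  have hCV : ∀ x, x ∈ CV ↔ x * j D.u = j D.u * x ∧ x * j D.w = j D.w * x := fun x => by
    simp only [CV, mem_centralizer_iff, Set.mem_insert_iff, Set.mem_singleton_iff, forall_eq_or_imp, forall_eq]
    exact and_congr eq_comm eq_comm
  have hCVN : ∀ c, j c ∈ CV → c = 1 ∨ c = D.u ∨ c = D.w ∨ c = D.u * D.w := fun c hc => by
    obtain ⟨h1, h2⟩ := (hCV _).1 hc
    exact D.comm_uw (hj (by rw [map_mul, map_mul, h1])) (hj (by rw [map_mul, map_mul, h2]))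
  have hcen : ∀ c, j c ∈ CV → ∀ x ∈ CV, j c * x = x * j c := by
    intro c hc x hx
    obtain ⟨h1, h2⟩ := (hCV x).1 hx
    rcases hCVN c hc with rfl | rfl | rfl | rfl
    · simp
    · exact h1.symm
    · exact h2.symm
    · rw [map_mul, mul_assoc, ← h2, ← mul_assoc, ← h1, mul_assoc]
  have hab : ∀ x ∈ CV, ∀ y ∈ CV, x * y = y * x := by
    haveI : Finite (RingAut F) := Finite.of_injective (fun τ => (τ : F → F)) DFunLike.coe_injective
    haveI : IsCyclic (RingAut F) := (Classical.PSLAut.card_ringAut hFc).1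
    let χ : ↥CV →* (((ψ.comp cE).comp CV.subtype)).range := ((ψ.comp cE).comp CV.subtype).rangeRestrict
    intro x hx y hy
    have h := commutative_of_cyclic_center_quotient χ (fun z hz => by
      obtain ⟨c, hc⟩ := hker (z : ↥E) (congrArg Subtype.val (MonoidHom.mem_ker.1 hz))
      rw [Subgroup.mem_center_iff]
      intro g
      refine Subtype.ext ?_
      show (g : ↥E) * z = z * g
      rw [← hc]
      exact (hcen c (hc ▸ z.2) g g.2).symm) ⟨x, hx⟩ ⟨y, hy⟩
    exact congrArg Subtype.val h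
  let F0 : Subgroup ↥E :=
    { carrier := {x | x ∈ CV ∧ x ^ N.index = 1}
      one_mem' := ⟨one_mem _, one_pow _⟩
      mul_mem' := fun {a b} ha hb => ⟨mul_mem ha.1 hb.1, by
        rw [(show Commute a b from hab a ha.1 b hb.1).mul_pow, ha.2, hb.2, one_mul]⟩
      inv_mem' := fun {a} ha => ⟨inv_mem ha.1, by rw [inv_pow, ha.2, inv_one]⟩ }
  have hdisj : ∀ a ∈ F0, ∀ c, a = j c → a = 1 := by
    intro a ha c hc
    have h2 : c * c = 1 := by
      rcases hCVN c (hc ▸ ha.1) with rfl | rfl | rfl | rfl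
      · exact one_mul 1
      · exact D.u2
      · exact D.w2
      · rw [show D.u * D.w * (D.u * D.w) = D.u * (D.w * D.u) * D.w by group, ← D.comm,
          show D.u * (D.u * D.w) * D.w = (D.u * D.u) * (D.w * D.w) by group, D.u2, D.w2, one_mul]
    have h3 := ha.2
    obtain ⟨k, hk⟩ := hidx
    rw [hc, ← map_pow, hk, pow_succ, pow_mul, pow_two, h2, one_pow, one_mul] at h3
    rw [hc, h3]
  have hdec : ∀ x : ↥E, ∃ c, ∃ a ∈ F0, x = j c * a := by
    intro x
    obtain ⟨n, hn1, hn2⟩ := SetupAux.frattini D j hj (hjr.symm ▸ hidx) x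
    set x' := j n * x with hx'
    have hx'C : x' ∈ CV := (hCV _).2 ⟨hn1, hn2⟩
    have hk0 : x' ^ N.index ∈ j.range := by rw [hjr]; exact Subgroup.pow_index_mem _ x'
    obtain ⟨v, hv⟩ := hk0
    have hv2 : v * v = 1 := by
      rcases hCVN v (hv ▸ pow_mem hx'C _) with rfl | rfl | rfl | rfl
      · exact one_mul 1
      · exact D.u2
      · exact D.w2
      · rw [show D.u * D.w * (D.u * D.w) = D.u * (D.w * D.u) * D.w by group, ← D.comm,
          show D.u * (D.u * D.w) * D.w = (D.u * D.u) * (D.w * D.w) by group, D.u2, D.w2, one_mul]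
    obtain ⟨k, hk⟩ := hidx
    refine ⟨n⁻¹ * v, x' ^ (N.index + 1), ⟨pow_mem hx'C _, ?_⟩, ?_⟩
    · rw [← pow_mul, mul_comm, pow_mul, hk, show 2 * k + 1 + 1 = 2 * (k + 1) by ring, pow_mul, pow_two, ← hk,
        ← hv, ← map_mul, hv2, map_one, one_pow]
    · rw [map_mul, map_inv, hv, pow_succ', mul_assoc, ← mul_assoc (x' ^ N.index), ← pow_succ, pow_succ',
        mul_assoc x', ← pow_add, ← two_mul, mul_comm 2, pow_mul, ← hv, pow_two, ← map_mul, hv2, map_one,
        mul_one, hx', inv_mul_cancel_left]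
  have hcard0 : Nat.card F0 = N.index := by
    rw [← hjr]
    refine Nat.card_eq_of_bijective (fun a : F0 => ((a : ↥E) : ↥E ⧸ j.range)) ⟨?_, ?_⟩
    · intro a b h
      obtain ⟨c, hc⟩ := QuotientGroup.eq.1 h
      have := hdisj _ (mul_mem (inv_mem a.2) b.2) c hc.symm
      exact Subtype.ext (inv_mul_eq_one.1 this)
    · intro q
      induction q using QuotientGroup.induction_on with
      | H x =>
        obtain ⟨c, a, ha, rfl⟩ := hdec x
        refine ⟨⟨a, ha⟩, QuotientGroup.eq.2 ?_⟩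
        have := ‹j.range.Normal›.conj_mem (j c) ⟨c, rfl⟩ a⁻¹
        simpa [mul_assoc] using this
  -- the field part in `G`
  let Fld : Subgroup G := F0.map E.subtype
  have hmemF : ∀ a ∈ Fld, ∃ a' ∈ F0, (a' : G) = a := fun a ha => ha
  have hψinj : ∀ a ∈ F0, ψ (cE a) = 1 → a = 1 := fun a ha h => by
    obtain ⟨c, hc⟩ := hker a h
    exact hdisj a ha c hc.symm
  have hord : ∀ a ∈ F0, orderOf (ψ (cE a)) = orderOf a ∧ orderOf (cE a) = orderOf a := by
    intro a ha
    refine ⟨?_, orderOf_injective cE (fun x y h => mul_inv_eq_one.1 (hcE1 _ (by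
      rw [map_mul, map_inv, h, mul_inv_cancel]))) a⟩
    let χ : ↥F0 →* RingAut F := (ψ.comp cE).comp F0.subtype
    have hχ : Function.Injective χ := fun x y h => Subtype.ext (mul_inv_eq_one.1 (hψinj _
      (mul_mem x.2 (inv_mem y.2)) (by
        rw [map_mul, map_mul, map_inv, map_inv, show ψ (cE (x : ↥E)) = ψ (cE (y : ↥E)) from h, mul_inv_cancel])))
    exact (orderOf_injective χ hχ ⟨a, ha⟩).trans (Subgroup.orderOf_coe (⟨a, ha⟩ : ↥F0)).symm
  have hcardF : Nat.card Fld = N.index := (Subgroup.card_map_of_injective E.subtype_injective).trans hcard0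
  have hχcyc : IsCyclic ↥F0 ∧ Nat.card F0 ∣ D.f := by
    obtain ⟨hcyc, hcard⟩ := Classical.PSLAut.card_ringAut hFc
    haveI := hcyc
    let χ : ↥F0 →* RingAut F := (ψ.comp cE).comp F0.subtype
    have hχ : Function.Injective χ := fun x y h => Subtype.ext (mul_inv_eq_one.1 (hψinj _
      (mul_mem x.2 (inv_mem y.2)) (by
        rw [map_mul, map_mul, map_inv, map_inv, show ψ (cE (x : ↥E)) = ψ (cE (y : ↥E)) from h, mul_inv_cancel])))
    exact ⟨isCyclic_of_injective χ hχ, hcard ▸ Subgroup.card_dvd_of_injective χ hχ⟩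
  let ι : Matrix.ProjectiveSpecialLinearGroup (Fin 2) F →* G := E.subtype.comp j
  refine ⟨⟨D, t, ι, Fld, E.subtype_injective.comp hj, ht, hodd, ?_, ?_, ?_, ?_, ?_, ?_, ?_, ?_, ?_, ?_, ?_, ?_, ?_⟩,
    rfl, hq, hcardF, hX⟩
  · exact fun k => (hE.2.2.1 t (mem_zpowers t) _ (j k).2).symm
  · intro k hk
    have : t ∈ zpowers t ⊓ E := ⟨mem_zpowers t, hk ▸ (j k).2⟩
    rw [hE.2.2.2.1, mem_bot] at this
    rw [this, orderOf_one] at ht
    omega
  · intro a ha
    obtain ⟨a', -, rfl⟩ := hmemF a ha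
    exact (hE.2.2.1 t (mem_zpowers t) _ a'.2).symm
  · intro a ha
    obtain ⟨a', ha', rfl⟩ := hmemF a ha
    exact congrArg Subtype.val ((hCV a').1 ha'.1).1
  · intro a ha
    obtain ⟨a', ha', rfl⟩ := hmemF a ha
    exact congrArg Subtype.val ((hCV a').1 ha'.1).2
  · intro a ha k
    obtain ⟨a', ha', rfl⟩ := hmemF a ha
    exact ⟨cE a' k, congrArg Subtype.val (hcE a' k).symm⟩
  · intro a ha k hk
    obtain ⟨a', ha', rfl⟩ := hmemF a ha
    exact congrArg Subtype.val (hdisj a' ha' k (Subtype.ext hk))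
  · intro a ha h
    obtain ⟨a', ha', rfl⟩ := hmemF a ha
    refine congrArg Subtype.val (hcE1 a' (MulEquiv.ext fun k => hj ?_))
    rw [hcE, MulAut.one_apply, mul_inv_eq_iff_eq_mul]
    exact Subtype.ext (h k).symm.symm
  · haveI := hχcyc.1
    exact isCyclic_of_surjective (F0.equivMapOfInjective E.subtype E.subtype_injective).toMonoidHom
      (MulEquiv.surjective _)
  · exact hcardF ▸ hidx
  · rw [hcardF, ← hcard0]; exact hχcyc.2
  · intro c hc
    have hcC : c ∈ zpowers t ⊔ E := hE.2.2.2.2.symm ▸ mem_centralizer_singleton_iff.2 hc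
    obtain ⟨i, x, rfl⟩ : ∃ i : ℤ, ∃ x : ↥E, c = t ^ i * x := by
      have hnorm : E ≤ normalizer ((zpowers t : Subgroup G) : Set G) := fun x hx => centralizer_le_normalizer _
        (mem_centralizer_iff.2 fun d hd => hE.2.2.1 d hd x hx)
      have hmem : c ∈ ((zpowers t : Subgroup G) : Set G) * (E : Set G) := by
        rw [← Subgroup.coe_mul_of_right_le_normalizer_left (zpowers t) E hnorm]; exact hcC
      obtain ⟨a, ha, b, hb, rfl⟩ := Set.mem_mul.1 hmem
      obtain ⟨i, rfl⟩ := mem_zpowers_iff.1 ha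
      exact ⟨i, ⟨b, hb⟩, rfl⟩
    obtain ⟨k, a, ha, hx⟩ := hdec x
    refine ⟨k, a, ⟨a, ha, rfl⟩, ?_⟩
    have hxv : (x : G) = ι k * (a : G) := congrArg Subtype.val hx
    have ht2 : t ^ (2 : ℤ) = 1 := by rw [zpow_two, ← pow_two, ← ht, pow_orderOf_eq_one]
    rw [← hxv]
    rcases Int.even_or_odd i with ⟨m, rfl⟩ | ⟨m, rfl⟩
    · exact Or.inl (by rw [← two_mul, zpow_mul, ht2, one_zpow, one_mul])
    · exact Or.inr (by rw [zpow_add, zpow_one, zpow_mul, ht2, one_zpow, one_mul])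
  · intro a ha
    obtain ⟨a', ha', rfl⟩ := hmemF a ha
    obtain ⟨g, hg⟩ := hψrep (cE a')
    have hodd' : Odd (orderOf (cE a')) := by
      rw [(hord a' ha').2]
      exact hidx.of_dvd_nat (orderOf_dvd_of_pow_eq_one ha'.2)
    obtain ⟨-, K, i1, i2, hK, ⟨f⟩⟩ := PSLField.fixed_iso hFc D.p_odd hg hodd'
      ((hord a' ha').1.trans (hord a' ha').2.symm)
    refine ⟨K, i1, i2, by rw [hK, (hord a' ha').2, Subgroup.orderOf_coe], ⟨(MulEquiv.subgroupCongr ?_).trans f⟩⟩
    ext c
    rw [Subgroup.mem_comap, mem_centralizer_singleton_iff]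
    show (j c : G) * (a' : G) = (a' : G) * (j c : G) ↔ cE a' c = c
    rw [← hj.eq_iff, hcE, mul_inv_eq_iff_eq_mul]
    exact ⟨fun h => Subtype.ext h.symm, fun h => (congrArg Subtype.val h).symm⟩

end Cfsg.Agent.Invol.JankoWard
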