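import Mathlib.Data.Rat.Cast.CharZero
import Mathlib.Algebra.Ring.Int.Parity
import Mathlib.Algebra.Order.Ring.Abs
import Mathlib.RingTheory.Int.Basic
import Mathlib.RingTheory.Coprime.Lemmas
import Mathlib.Data.Int.ModEq
import Mathlib.Tactic.GCongr
import Mathlib.Tactic.Positivity
import Mathlib.NumberTheory.Padics.PadicVal.Basic
import Mathlib.Tactic.FieldSimp
import Mathlib.Tactic.LinearCombination
import Mathlib.Tactic.Linarith

/-!
# The standard case and the congruence case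

`standard`: the degrees force `Q = 3^f` with `f` odd and give `K Q x = 16 M²`.  `no_T3a`: a contradiction modulo `R`.
-/

set_option autoImplicit false

namespace Cfsg.Agent.Invol.JankoWard.Arith

theorem standard {Q M R : ℤ} (hQ : Q = 4 * R - 1) (hM : M = 2 * R - 1) (hbig : 7 ≤ |R|)
    {p f : ℕ} (hp : p.Prime) (hf : Q.natAbs = p ^ f) {a b b' c c' x : ℤ} (ha : a ≠ 0) (hb : b ≠ 0)
    (hb' : b' ≠ 0) (hc : c ≠ 0) (hc' : c' ≠ 0) (hx : x ≠ 0) (hF : a - b' - x = 0) (L0 : 1 + a + b + b' = 0)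
    (L1 : b + b' + c + c' = 0) {K : ℚ}
    (FC : 1 / (a : ℚ) - Q ^ 2 / b' - (Q - 1) ^ 2 / x = 0)
    (E0 : 1 + 1 / (a : ℚ) + Q ^ 2 * (1 / (b : ℚ) + 1 / b') = 2 * M * R * K)
    (E1 : (Q : ℚ) ^ 2 * (1 / (b : ℚ) + 1 / b') + M ^ 2 * (1 / (c : ℚ) + 1 / c') = (3 * R - 1) * K)
    (Eg : -1 + (Q : ℚ) ^ 2 / b + 2 * M ^ 2 * (1 / (c : ℚ) + 1 / c') - 9 * (Q - 1) ^ 2 / x = -4 * R ^ 2 * K) :
    0 < Q ∧ p = 3 ∧ Odd f ∧ K * (Q * x) = 16 * M ^ 2 ∧ x = (Q - 1) * (Q ^ 2 - Q + 1) := by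
  have hR : R ≤ -7 ∨ 7 ≤ R := by rcases le_abs.1 hbig with h | h <;> omega
  have hQ2 : Q ≤ -29 ∨ 27 ≤ Q := by omega
  have hQ0 : (Q : ℚ) ≠ 0 := by exact_mod_cast (show Q ≠ 0 by omega)
  have qa : (a : ℚ) ≠ 0 := Int.cast_ne_zero.2 ha
  have qb : (b : ℚ) ≠ 0 := Int.cast_ne_zero.2 hb
  have qb' : (b' : ℚ) ≠ 0 := Int.cast_ne_zero.2 hb'
  have qc : (c : ℚ) ≠ 0 := Int.cast_ne_zero.2 hc
  have qc' : (c' : ℚ) ≠ 0 := Int.cast_ne_zero.2 hc'
  have qx : (x : ℚ) ≠ 0 := Int.cast_ne_zero.2 hx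
  have qQ : (Q : ℚ) = 4 * R - 1 := by exact_mod_cast hQ
  have qM : (M : ℚ) = 2 * R - 1 := by exact_mod_cast hM
  have qF : (x : ℚ) = a - b' := by exact_mod_cast (show x = a - b' by omega)
  have qL0 : (b : ℚ) = -1 - a - b' := by exact_mod_cast (show b = -1 - a - b' by omega)
  have hK : K * (Q * x) = 16 * M ^ 2 := by
    have h : 32 * (M : ℚ) ^ 2 / x = 2 * Q * K := by
      have hD : ((Q : ℚ) - 1) ^ 2 = 4 * M ^ 2 := by rw [qQ, qM]; ring
      linear_combination (-1) * (Eg + E0 - 2 * E1 - FC) - 8 / (x : ℚ) * hD +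
        (-(K * 2)) * qQ - (2 * R * K) * qM
    field_simp at h
    linear_combination -h / 2
  -- `b' = Q a`
  have hb'eq : b' = Q * a := by
    have h := FC
    rw [qF] at h
    have hab : (a : ℚ) - b' ≠ 0 := by rw [← qF]; exact qx
    field_simp at h
    have h2 : ((b' - Q * a : ℤ) : ℚ) ^ 2 = 0 := by push_cast; linear_combination -h
    have h3 : b' - Q * a = 0 := by exact_mod_cast (pow_eq_zero_iff two_ne_zero).1 h2
    omega
  have qb'eq : (b' : ℚ) = Q * a := by exact_mod_cast hb'eq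
  have qbe : (b : ℚ) = -1 - a - Q * a := by rw [qL0, qb'eq]
  have qxe : (x : ℚ) = a * (1 - Q) := by rw [qF, qb'eq]; ring
  have hQ1 : (1 : ℚ) - Q ≠ 0 := by exact_mod_cast (show (1 : ℤ) - Q ≠ 0 by omega)
  have hKe : K = 16 * M ^ 2 / (Q * x) := by rw [eq_div_iff (mul_ne_zero hQ0 qx)]; exact hK
  -- the quadratic
  have hquad : (a + (Q ^ 2 - Q + 1)) * (Q * a + 1) = 0 := by
    have h := E0
    rw [hKe, qb'eq, qxe] at h
    field_simp at h
    rw [qbe] at h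
    have h2 : (1 - (Q : ℚ)) * (((a + (Q ^ 2 - Q + 1)) * (Q * a + 1) : ℤ) : ℚ) * (1 + Q) = 0 := by
      push_cast
      rw [qQ, qM] at *
      linear_combination -h
    have h3 : (1 : ℚ) + Q ≠ 0 := by exact_mod_cast (show (1 : ℤ) + Q ≠ 0 by omega)
    simp only [mul_eq_zero, hQ0, qa, hQ1, h3, false_or, or_false, Int.cast_eq_zero] at h2
    rcases h2 with h2 | h2 <;> rw [h2] <;> ring
  have hae : a = -(Q ^ 2 - Q + 1) := by
    rcases mul_eq_zero.1 hquad with h | h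
    · linarith
    · exfalso
      have h1 : Q ∣ 1 := ⟨-a, by linarith⟩
      rcases Int.isUnit_iff.1 (isUnit_of_dvd_one h1) with e | e <;> omega
  have hxe : x = (Q - 1) * (Q ^ 2 - Q + 1) := by
    rw [show x = a - b' by omega, hb'eq, hae]; ring
  set A : ℤ := Q ^ 2 - Q + 1 with hA
  have hA0 : A ≠ 0 := by
    intro h; rw [h] at hae; exact ha (by omega)
  -- the discriminant of `c, c'`
  have hsum : c + c' = Q * (1 - Q) := by
    have : c + c' = 1 + a := by linarith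
    rw [this, hae, hA]; ring
  have hprod : 3 * (c * c') = -(Q * M ^ 2 * A) := by
    have h := E1
    have qae : (a : ℚ) = -(A : ℚ) := by exact_mod_cast hae
    have qbe3 : (b : ℚ) = (Q : ℚ) ^ 3 := by
      rw [qbe, qae, hA]; push_cast; ring
    have qsum : (c : ℚ) + c' = Q * (1 - Q) := by exact_mod_cast hsum
    have qA : (A : ℚ) ≠ 0 := Int.cast_ne_zero.2 hA0
    have qA' : (A : ℚ) = Q ^ 2 - Q + 1 := by rw [hA]; push_cast; ring
    have hcd : 1 / (c : ℚ) + 1 / c' = Q * (1 - Q) / (c * c') := by rw [← qsum]; field_simp; ring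
    rw [hKe, qb'eq, qbe3, qxe, hcd, qae] at h
    have hM0 : (M : ℚ) ≠ 0 := by exact_mod_cast (show M ≠ 0 by omega)
    field_simp at h
    have h2 : ((Q : ℚ) * M * (Q - 1)) * ((3 * (c * c') + Q * M ^ 2 * A : ℤ) : ℚ) = 0 := by
      push_cast
      rw [qA', qQ, qM] at *
      linear_combination h / 2
    have hQ1' : (Q : ℚ) - 1 ≠ 0 := by exact_mod_cast (show Q - 1 ≠ 0 by omega)
    simp only [mul_eq_zero, hQ0, hM0, hQ1', false_or, Int.cast_eq_zero] at h2
    linarith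
  have hD : 3 * (c - c') ^ 2 = Q * (Q ^ 2 - 1) ^ 2 := by
    have h2M : 2 * M = Q - 1 := by omega
    linear_combination 3 * (c + c' + Q * (1 - Q)) * hsum - 4 * hprod + Q * A * (2 * M + Q - 1) * h2M +
      Q * (Q - 1) ^ 2 * hA
  have hN : Q ^ 2 - 1 ≠ 0 := by intro h; rcases hQ2 with z | z <;> nlinarith
  have hpos : 0 < Q := by
    by_contra h
    have hN2 : 0 < (Q ^ 2 - 1) ^ 2 := by positivity
    nlinarith [sq_nonneg (c - c'), mul_neg_of_neg_of_pos (show Q < 0 by omega) hN2]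
  refine ⟨hpos, ?_, ?_, hK, hxe⟩ <;>
  · haveI : Fact (Nat.Prime 3) := ⟨Nat.prime_three⟩
    have hne : c - c' ≠ 0 := by
      intro h
      rw [h] at hD
      simp only [zero_pow two_ne_zero, mul_zero] at hD
      exact absurd hD.symm (mul_ne_zero hpos.ne' (pow_ne_zero 2 hN))
    have h := congrArg Int.natAbs hD
    simp only [Int.natAbs_mul, Int.natAbs_pow, hf] at h
    have hu : (c - c').natAbs ≠ 0 := Int.natAbs_ne_zero.2 hne
    have hv : (Q ^ 2 - 1).natAbs ≠ 0 := Int.natAbs_ne_zero.2 hN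
    have h3 := congrArg (padicValNat 3) h
    rw [show Int.natAbs 3 = 3 from rfl, padicValNat.mul (by norm_num) (pow_ne_zero 2 hu), padicValNat.self (by norm_num),
      padicValNat.pow, padicValNat.mul (pow_ne_zero f hp.ne_zero) (pow_ne_zero 2 hv), padicValNat.pow,
      padicValNat.pow] at h3
    by_cases h33 : p = 3
    · subst h33
      rw [padicValNat.self (by norm_num)] at h3
      all_goals exact Nat.odd_iff.2 (by omega)
    · exfalso
      haveI : Fact p.Prime := ⟨hp⟩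
      rw [padicValNat_primes (fun h => h33 h.symm)] at h3
      omega

theorem no_T3a {Q M R : ℤ} (hR : Odd R) (hQ : Q = 4 * R - 1) (hM : M = 2 * R - 1) (hbig : 7 ≤ |R|)
    {p b h c z : ℤ} (hp : p ≠ 0) (hh : h ≠ 0) (hc : c ≠ 0) (dp : R ∣ p) (dh : R ∣ h - 2) (dc : R ∣ c + 1)
    (L0 : b = -1 - 2 * p) {K : ℚ} (hz : (z : ℚ) * p * K = 16 * Q * M * R)
    (E0 : 1 + 8 * R ^ 2 / (p : ℚ) + Q ^ 2 / (b : ℚ) = 2 * M * R * K)
    (E1 : 4 * R ^ 2 / (p : ℚ) + Q ^ 2 / (b : ℚ) + 4 * M ^ 2 / (h : ℚ) + M ^ 2 / (c : ℚ) = (3 * R - 1) * K) :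
    False := by
  obtain ⟨t, rfl⟩ := dp
  have hR0 : R ≠ 0 := by intro e; rw [e] at hbig; simp at hbig
  have ht : t ≠ 0 := fun e => hp (by rw [e, mul_zero])
  have qR : (R : ℚ) ≠ 0 := Int.cast_ne_zero.2 hR0
  have qt : (t : ℚ) ≠ 0 := Int.cast_ne_zero.2 ht
  have qM0 : (M : ℚ) ≠ 0 := by exact_mod_cast (show M ≠ 0 by obtain ⟨k, hk⟩ := hR; omega)
  set B : ℤ := 2 * R * t + 1 with hB
  have hbB : b = -B := by rw [L0, hB]; ring
  have hB0 : B ≠ 0 := by
    intro e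
    have : R ∣ (1 : ℤ) := ⟨-2 * t, by linarith⟩
    rcases Int.isUnit_iff.1 (isUnit_of_dvd_one this) with e' | e' <;> rw [e'] at hbig <;> norm_num at hbig
  have qB : (B : ℚ) ≠ 0 := Int.cast_ne_zero.2 hB0
  have qQ : (Q : ℚ) = 4 * R - 1 := by exact_mod_cast hQ
  have qM : (M : ℚ) = 2 * R - 1 := by exact_mod_cast hM
  have qb : (b : ℚ) = -(B : ℚ) := by exact_mod_cast hbB
  have qBe : (B : ℚ) = 2 * R * t + 1 := by rw [hB]; push_cast; ring
  have hK : K * (M * t * B) = (t + 2 : ℚ) ^ 2 := by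
    have h' := E0
    rw [qb] at h'
    push_cast at h'
    field_simp at h'
    refine mul_left_cancel₀ (mul_ne_zero (mul_ne_zero two_ne_zero qR) qR) ?_
    rw [qQ, qBe] at h'
    rw [qBe]
    linear_combination (-(R : ℚ)) * h'
  have hK0 : K = (t + 2 : ℚ) ^ 2 / (M * t * B) := by
    rw [eq_div_iff (mul_ne_zero (mul_ne_zero qM0 qt) qB)]; exact hK
  -- integrality makes `t + 2` prime to `R`
  have hz' : z * (t + 2) ^ 2 = 16 * Q * M ^ 2 * B := by
    have h1 : (((z * (t + 2) ^ 2 : ℤ)) : ℚ) = ((16 * Q * M ^ 2 * B : ℤ) : ℚ) := by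
      push_cast
      have h2 := hz
      rw [hK0] at h2
      push_cast at h2
      field_simp at h2
      linear_combination h2
    exact_mod_cast h1
  -- the second equation
  have hmain : 2 * M * B * ((t + 4 * R) * h * c - t * (4 * M ^ 2 * c + M ^ 2 * h)) =
      Q * (M - 1) * (t + 2) ^ 2 * (h * c) := by
    have h1 : (((2 * M * B * ((t + 4 * R) * h * c - t * (4 * M ^ 2 * c + M ^ 2 * h)) : ℤ)) : ℚ) =
        ((Q * (M - 1) * (t + 2) ^ 2 * (h * c) : ℤ) : ℚ) := by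
      have qh : (h : ℚ) ≠ 0 := Int.cast_ne_zero.2 hh
      have qc : (c : ℚ) ≠ 0 := Int.cast_ne_zero.2 hc
      have hd : 1 + 4 * (R : ℚ) / t - 4 * M ^ 2 / h - M ^ 2 / c = Q * (M - 1) / 2 * K := by
        have h2 : 4 * (R : ℚ) ^ 2 / ((R * t : ℤ) : ℚ) = 4 * R / t := by push_cast; field_simp
        have h3 : 8 * (R : ℚ) ^ 2 / ((R * t : ℤ) : ℚ) = 8 * R / t := by push_cast; field_simp
        rw [h2] at E1; rw [h3] at E0
        linear_combination E0 - E1 - (M - 1) / 2 * K * qQ + (1 / 2) * K * qM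
      rw [hK0] at hd
      field_simp at hd
      push_cast
      linear_combination hd
    exact_mod_cast h1
  haveI hcom : IsCoprime R (t + 2) := by
    have c0 : IsCoprime R (16 * Q * M ^ 2 * B) := by
      have c16 : IsCoprime R 16 := by
        obtain ⟨k, hk⟩ := hR
        have c2 : IsCoprime R 2 := ⟨1, -k, by rw [hk]; ring⟩
        rw [show (16 : ℤ) = 2 ^ 4 by norm_num]; exact c2.pow_right
      have cQ : IsCoprime R Q := ⟨4, -1, by rw [hQ]; ring⟩
      have cM : IsCoprime R M := ⟨2, -1, by rw [hM]; ring⟩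
      have cB : IsCoprime R B := ⟨-(2 * t), 1, by rw [hB]; ring⟩
      exact ((c16.mul_right cQ).mul_right cM.pow_right).mul_right cB
    rw [← hz'] at c0
    exact (IsCoprime.of_mul_right_right c0).of_isCoprime_of_dvd_right (dvd_pow_self _ two_ne_zero)
  obtain ⟨h', hh'⟩ := dh
  obtain ⟨c', hc'⟩ := dc
  obtain rfl : h = R * h' + 2 := by linarith
  obtain rfl : c = R * c' - 1 := by linarith
  subst hQ hM
  have h4 : R ∣ 4 * (t + 2) ^ 2 := by
    have key : ∀ X Y : ℤ, X = Y → R ∣ X - Y := fun X Y e => by rw [e, sub_self]; exact dvd_zero R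
    have h5 := key _ _ hmain
    rw [hB] at h5
    set e := 2 * (2 * R - 1) * (2 * R * t + 1) *
        ((t + 4 * R) * (R * h' + 2) * (R * c' - 1) - t * (4 * (2 * R - 1) ^ 2 * (R * c' - 1) + (2 * R - 1) ^ 2 * (R * h' + 2))) -
      (4 * R - 1) * (2 * R - 1 - 1) * (t + 2) ^ 2 * ((R * h' + 2) * (R * c' - 1)) with he
    have h6 : R ∣ e - 4 * (t + 2) ^ 2 := by
      rw [he]
      refine (Int.modEq_iff_dvd).1 ?_
      have z0 : R ≡ 0 [ZMOD R] := by simp [Int.ModEq]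
      symm
      calc 2 * (2 * R - 1) * (2 * R * t + 1) *
            ((t + 4 * R) * (R * h' + 2) * (R * c' - 1) -
              t * (4 * (2 * R - 1) ^ 2 * (R * c' - 1) + (2 * R - 1) ^ 2 * (R * h' + 2))) -
          (4 * R - 1) * (2 * R - 1 - 1) * (t + 2) ^ 2 * ((R * h' + 2) * (R * c' - 1))
          ≡ 2 * (2 * 0 - 1) * (2 * 0 * t + 1) *
            ((t + 4 * 0) * (0 * h' + 2) * (0 * c' - 1) -
              t * (4 * (2 * 0 - 1) ^ 2 * (0 * c' - 1) + (2 * 0 - 1) ^ 2 * (0 * h' + 2))) -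
          (4 * 0 - 1) * (2 * 0 - 1 - 1) * (t + 2) ^ 2 * ((0 * h' + 2) * (0 * c' - 1)) [ZMOD R] := by
            gcongr
        _ = 4 * (t + 2) ^ 2 := by ring
    simpa using dvd_sub h5 h6
  have hc4 : IsCoprime R ((4 : ℤ) * (t + 2) ^ 2) := by
    obtain ⟨k, hk⟩ := hR
    have c2 : IsCoprime R 2 := ⟨1, -k, by rw [hk]; ring⟩
    rw [show (4 : ℤ) = 2 ^ 2 by norm_num]
    exact c2.pow_right.mul_right hcom.pow_right
  rcases Int.isUnit_iff.1 (hc4.isUnit_of_dvd' dvd_rfl h4) with e | e <;> rw [e] at hbig <;> norm_num at hbig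

end Cfsg.Agent.Invol.JankoWard.Arith
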