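import Mathlib

/-!
# Arithmetic of the character lattice, case `T2b`

The greatest common divisor of two degrees is a power of the characteristic not above `|Q|`; after that
the two count equations contradict each other in size.
-/

set_option autoImplicit false
set_option maxHeartbeats 1000000

namespace Cfsg.Agent.Invol.JankoWard.Arith

/-- The size comparison when `3g ≤ |Q|`. -/
theorem size_small {m g k : ℤ} (hm : 13 ≤ m) (hg : 3 ≤ g) (hgm : 3 * g ≤ 2 * m + 1) (hk : 1 ≤ k)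
    (hk2 : k ≤ 2 * g + 1) :
    (g ^ 2 + k * m ^ 2) * (g ^ 2 + k + 4) < 2 * g * (k * (4 * m ^ 2 * (m - 1) - 2) - 2 * g ^ 2) := by
  have hg9 : 9 * g ^ 2 ≤ 5 * m ^ 2 := by nlinarith
  have h1 : g ^ 2 + k + 4 ≤ 3 * g ^ 2 := by nlinarith
  have h2 : g ^ 2 + k * m ^ 2 ≤ k * (g ^ 2 + m ^ 2) := by nlinarith
  have h3 : (g ^ 2 + k * m ^ 2) * (g ^ 2 + k + 4) ≤ k * (g ^ 2 + m ^ 2) * (3 * g ^ 2) :=
    mul_le_mul h2 h1 (by positivity) (by positivity)
  have h4 : 3 * g * (g ^ 2 + m ^ 2) < 2 * (4 * m ^ 2 * (m - 1) - 2 - 2 * g ^ 2) := by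
    nlinarith [mul_le_mul_of_nonneg_left hgm (show (0 : ℤ) ≤ g ^ 2 + m ^ 2 by positivity)]
  have h5 : 4 * m ^ 2 * (m - 1) - 2 - 2 * g ^ 2 ≤ (4 * m ^ 2 * (m - 1) - 2) - 2 * g ^ 2 := le_rfl
  have h6 : k * (4 * m ^ 2 * (m - 1) - 2 - 2 * g ^ 2) ≤ k * (4 * m ^ 2 * (m - 1) - 2) - 2 * g ^ 2 := by
    nlinarith
  calc (g ^ 2 + k * m ^ 2) * (g ^ 2 + k + 4) ≤ k * (g ^ 2 + m ^ 2) * (3 * g ^ 2) := h3
    _ = (g * k) * (3 * g * (g ^ 2 + m ^ 2)) := by ring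
    _ < (g * k) * (2 * (4 * m ^ 2 * (m - 1) - 2 - 2 * g ^ 2)) :=
        mul_lt_mul_of_pos_left h4 (by positivity)
    _ = 2 * g * (k * (4 * m ^ 2 * (m - 1) - 2 - 2 * g ^ 2)) := by ring
    _ ≤ _ := mul_le_mul_of_nonneg_left h6 (by positivity)

/-- The size comparison when `g = |Q|` and `|k| ≥ 3`. -/
theorem size_big {m g k : ℤ} (hm : 13 ≤ m) (hg : g = 2 * m + 1 ∨ g = 2 * m - 1) (hk : 3 ≤ k)
    (hk2 : k ≤ 2 * g + 1) :
    (g ^ 2 + k * m ^ 2) * (g ^ 2 + k + 4) < 2 * g * (k * (4 * m ^ 2 * (m - 1) - 2) - 2 * g ^ 2) := by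
  have hs : 0 ≤ m ^ 2 * ((k - 3) * (2 * g + 1 - k)) :=
    mul_nonneg (by positivity) (mul_nonneg (by linarith) (by linarith))
  obtain ⟨t, ht, rfl⟩ : ∃ t : ℤ, 0 ≤ t ∧ m = 13 + t := ⟨m - 13, by omega, by omega⟩
  rcases hg with rfl | rfl <;>
    nlinarith [pow_nonneg ht 2, pow_nonneg ht 3, pow_nonneg ht 4,
      mul_nonneg (sub_nonneg.2 hk) ht, mul_nonneg (sub_nonneg.2 hk) (pow_nonneg ht 2),
      mul_nonneg (sub_nonneg.2 hk) (pow_nonneg ht 3), mul_nonneg (sub_nonneg.2 hk) (pow_nonneg ht 4)]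

/-- The size comparison when `g = |Q|`, `|k| = 1` and both factors are at least four. -/
theorem size_one {m g : ℤ} (hm : 13 ≤ m) (hg : g = 2 * m + 1 ∨ g = 2 * m - 1) :
    (g ^ 2 + m ^ 2) * (g ^ 2 + 17) < 4 * g * ((4 * m ^ 2 * (m - 1) - 2) - 2 * g ^ 2) := by
  obtain ⟨t, ht, rfl⟩ : ∃ t : ℤ, 0 ≤ t ∧ m = 13 + t := ⟨m - 13, by omega, by omega⟩
  rcases hg with rfl | rfl <;> nlinarith [pow_nonneg ht 2, pow_nonneg ht 3, pow_nonneg ht 4]

/-- The two small cases: one factor is `±2`. -/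
theorem no_two {M k e f : ℤ} (hM : 13 ≤ M ∨ M ≤ -13) (hk : k = 1 ∨ k = -1) {g : ℤ}
    (hg : g = |2 * M + 1|) (hef : e * f = -(g ^ 2 + k))
    (h2 : e * (f ^ 2 + g ^ 2 + k * M ^ 2) = -g * (k * (2 + 4 * M ^ 2 * (M - 1)) + 2 * g ^ 2))
    (htwo : e = 2 ∨ e = -2 ∨ f = 2 ∨ f = -2) : False := by
  rcases hM with h | h
  · rw [abs_of_pos (by linarith)] at hg
    obtain ⟨t, ht, rfl⟩ : ∃ t : ℤ, 0 ≤ t ∧ M = 13 + t := ⟨M - 13, by omega, by omega⟩
    subst hg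
    have p2 := pow_nonneg ht 2
    have p3 := pow_nonneg ht 3
    have p4 := pow_nonneg ht 4
    rcases hk with rfl | rfl <;> rcases htwo with rfl | rfl | rfl | rfl
    · have hf : f = -(((2 * (13 + t) + 1) ^ 2 + 1) / 2) := by omega
      nlinarith
    all_goals first | nlinarith | (rcases le_or_gt t 5 with h5 | h5 <;> [interval_cases t <;> omega; nlinarith])
  · rw [abs_of_neg (by linarith)] at hg
    obtain ⟨t, ht, rfl⟩ : ∃ t : ℤ, 0 ≤ t ∧ M = -(13 + t) := ⟨-M - 13, by omega, by omega⟩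
    subst hg
    have p2 := pow_nonneg ht 2
    have p3 := pow_nonneg ht 3
    have p4 := pow_nonneg ht 4
    rcases hk with rfl | rfl <;> rcases htwo with rfl | rfl | rfl | rfl
    all_goals nlinarith

/-- The gcd of the degrees is a proper divisor of `|Q|` or `|Q|` itself. -/
theorem gcd_power {Q M R : ℤ} (hQ : Q = 4 * R - 1) (hM : M = 2 * R - 1) (hbig : 7 ≤ |R|)
    {p f : ℕ} (hp : p.Prime) (hf : Q.natAbs = p ^ f) {a b b' G g : ℤ} (hg0 : 0 < g) (hga : g ∣ a)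
    (hgQ : g ∣ Q ^ 2) (hgG : g ∣ G + 1) (h0 : b + b' = -1 - a)
    (hE : (1 + a) * (b * b' - Q ^ 2 * a) * Q * G = 16 * R * M ^ 3 * a * (b * b'))
    (db : b ∣ Q ^ 3 * G) (db' : b' ∣ Q ^ 3 * G) : g = |Q| ∨ 3 * g ≤ |Q| := by
  obtain ⟨P, hP⟩ : ∃ P : ℤ, P = (p : ℤ) := ⟨_, rfl⟩
  have hPp : Prime P := hP ▸ Nat.prime_iff_prime_int.1 hp
  have habs : |Q| = P ^ f := by rw [hP, Int.abs_eq_natAbs, hf, Nat.cast_pow]
  have hQP : Q ∣ P ^ f := habs ▸ (self_dvd_abs Q)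
  have hPQ : P ^ f ∣ Q := habs ▸ (abs_dvd_self Q)
  have hQ2 : 2 ≤ |Q| := by
    have := le_abs'.1 hbig
    rcases abs_cases Q with ⟨e', _⟩ | ⟨e', _⟩ <;> rw [e'] <;> omega
  have hf1 : 1 ≤ f := by
    by_contra hf0
    obtain rfl : f = 0 := by omega
    rw [pow_zero] at habs
    omega
  have hPdQ : P ∣ Q := (dvd_pow_self P (by omega)).trans hPQ
  have hp3 : 3 ≤ p := by
    rcases (show p = 2 ∨ 3 ≤ p by have := hp.two_le; omega) with e | e
    · subst e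
      rw [hP] at hPdQ
      omega
    · exact e
  obtain ⟨i, hi, hgi⟩ : ∃ i, i ≤ 2 * f ∧ g = P ^ i := by
    have h1 : g.natAbs ∣ p ^ (2 * f) := by
      rw [mul_comm, pow_mul, ← hf, ← Int.natAbs_pow]
      exact Int.natAbs_dvd_natAbs.2 hgQ
    obtain ⟨i, hi, e⟩ := (Nat.dvd_prime_pow hp).1 h1
    refine ⟨i, hi, ?_⟩
    rw [hP, ← Nat.cast_pow, ← e, Int.natAbs_of_nonneg hg0.le]
  rcases lt_trichotomy i f with hlt | rfl | hgt
  · right
    have h1 : P * P ^ i ≤ P ^ f := by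
      rw [← pow_succ']
      exact pow_le_pow_right₀ (by rw [hP]; exact_mod_cast hp.one_lt.le) hlt
    have h2 : (3 : ℤ) * P ^ i ≤ P * P ^ i :=
      mul_le_mul_of_nonneg_right (by rw [hP]; exact_mod_cast hp3) (by rw [← hgi]; exact hg0.le)
    rw [hgi, habs]
    linarith
  · exact Or.inl (by rw [hgi, habs])
  exfalso
  have hPg : P ^ (f + 1) ∣ g := hgi ▸ pow_dvd_pow P hgt
  have hPa : P ∣ a := (dvd_pow_self P (by omega)).trans (hPg.trans hga)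
  have one : ∀ {x : ℤ}, P ∣ x → P ∣ x + 1 → False := fun {x} h1 h2 =>
    hPp.not_isUnit (isUnit_of_dvd_one ((dvd_add_right h1).1 h2))
  have nG : ¬ P ∣ G := fun h => one h (((dvd_pow_self P (by omega)).trans hPg).trans hgG)
  have n1a : ¬ P ∣ 1 + a := fun h => one hPa (by rwa [add_comm] at h)
  have hQ0 : Q ≠ 0 := fun e => by rw [e, abs_zero] at hQ2; omega
  have step : ∀ j, j ≤ 3 * f + 1 → P ^ j ∣ b * b' := by
    intro j
    induction j with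
    | zero => intro _; simp
    | succ j ih =>
      intro hj
      have h1 : Q * P ^ (j + 1) ∣ Q * (((1 + a) * G) * (b * b' - Q ^ 2 * a)) := by
        have e1 : P ^ f * P ^ (j + 1) ∣ 16 * R * M ^ 3 * (a * (b * b')) := by
          refine dvd_mul_of_dvd_right ?_ _
          rw [show P ^ f * P ^ (j + 1) = P ^ (f + 1) * P ^ j by rw [pow_succ, pow_succ]; ring]
          exact mul_dvd_mul (hPg.trans hga) (ih (by omega))
        refine (mul_dvd_mul_right hQP _).trans ?_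
        rw [show Q * (((1 + a) * G) * (b * b' - Q ^ 2 * a)) = 16 * R * M ^ 3 * (a * (b * b')) by
          linear_combination hE]
        exact e1
      have h2 := Prime.pow_dvd_of_dvd_mul_left hPp (j + 1)
        (fun h => (hPp.dvd_or_dvd h).elim n1a nG) ((mul_dvd_mul_iff_left hQ0).1 h1)
      have h3 : P ^ (3 * f + 1) ∣ Q ^ 2 * a := by
        rw [show 3 * f + 1 = 2 * f + (f + 1) by omega, pow_add, mul_comm 2 f, pow_mul]
        exact mul_dvd_mul (pow_dvd_pow_of_dvd hPQ 2) (hPg.trans hga)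
      exact (dvd_sub_left ((pow_dvd_pow P hj).trans h3)).1 h2
  have hall := step _ le_rfl
  have fin : ∀ {x y : ℤ}, x + y = -1 - a → P ^ (3 * f + 1) ∣ x * y → x ∣ Q ^ 3 * G → P ∣ x →
      False := by
    intro x y hxy hxyd hx hPx
    have ny : ¬ P ∣ y := fun h => n1a (by
      have := dvd_add hPx h
      rw [hxy, show -1 - a = -(1 + a) by ring] at this
      exact dvd_neg.1 this)
    have h1 := (Prime.pow_dvd_of_dvd_mul_right hPp _ ny hxyd).trans hx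
    have h2 : P ^ (3 * f + 1) ∣ P ^ (3 * f) * G := by
      refine h1.trans (mul_dvd_mul_right ?_ _)
      rw [mul_comm 3 f, pow_mul]
      exact pow_dvd_pow_of_dvd hQP 3
    rw [pow_succ, mul_dvd_mul_iff_left (pow_ne_zero _ hPp.ne_zero)] at h2
    exact nG h2
  rcases hPp.dvd_or_dvd ((dvd_pow_self P (by omega)).trans hall) with h | h
  · exact fin h0 hall db h
  · exact fin ((add_comm b' b).trans h0) (mul_comm b b' ▸ hall) db' h

/-- The size contradiction. -/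
theorem size_contra {Q M g k e y : ℤ} (hQM : Q = 2 * M + 1) (hbigM : 13 ≤ M ∨ M ≤ -13)
    (hcases : g = |Q| ∨ 3 * g ≤ |Q|) (hg0 : 0 < g) (hg3 : 3 ≤ g) (ok : Odd k) (hk1 : 1 ≤ |k|)
    (hk2 : |k| ≤ 2 * g + 1) (hey : e * y = -(g ^ 2 + k))
    (hb2 : e * (y ^ 2 + g ^ 2 + k * M ^ 2) = -g * (k * (2 + 4 * M ^ 2 * (M - 1)) + 2 * g ^ 2))
    (hX : 2 ≤ |e|) (hY : 2 ≤ |y|) (hXe : |e| % 2 = 0) (hYe : |y| % 2 = 0) : False := by
  -- the size of both sides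
  set m := |M| with hm
  have hm13 : 13 ≤ m := by rcases abs_cases M with ⟨a1, _⟩ | ⟨a1, _⟩ <;> rw [hm, a1] <;> omega
  have hmm : M ^ 2 = m ^ 2 := (sq_abs M).symm
  have hB0 : |g ^ 2 + k * M ^ 2| ≤ g ^ 2 + |k| * m ^ 2 := by
    refine (abs_add_le _ _).trans_eq ?_
    rw [abs_mul, abs_of_nonneg (sq_nonneg g), abs_of_nonneg (sq_nonneg M), hmm]
  have hn : |e| * |y| ≤ g ^ 2 + |k| := by
    rw [← abs_mul, hey, abs_neg]
    exact (abs_add_le _ _).trans_eq (by rw [abs_of_nonneg (sq_nonneg g)])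
  have hnB : g ^ 2 + |k| ≤ g ^ 2 + |k| * m ^ 2 := by
    linarith [le_mul_of_one_le_right (abs_nonneg k) (one_le_pow₀ (show (1 : ℤ) ≤ m by linarith) (n := 2))]
  have hL : |e * (y ^ 2 + g ^ 2 + k * M ^ 2)| ≤ (g ^ 2 + |k| * m ^ 2) * (|e| + |y|) := by
    rw [show e * (y ^ 2 + g ^ 2 + k * M ^ 2) = e * y * y + e * (g ^ 2 + k * M ^ 2) by ring]
    refine (abs_add_le _ _).trans ?_
    rw [abs_mul, abs_mul, abs_mul e (g ^ 2 + k * M ^ 2), mul_add]
    linarith [mul_le_mul_of_nonneg_right (hn.trans hnB) (abs_nonneg y),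
      mul_le_mul_of_nonneg_left hB0 (abs_nonneg e)]
  have hW : 4 * m ^ 2 * (m - 1) - 2 ≤ |2 + 4 * M ^ 2 * (M - 1)| := by
    rw [hmm]
    rcases abs_cases M with ⟨a1, _⟩ | ⟨a1, _⟩ <;> rw [hm, a1]
    · exact le_trans (by linarith) (le_abs_self _)
    · refine le_trans ?_ (neg_le_abs _)
      nlinarith
  have hR' : g * (|k| * (4 * m ^ 2 * (m - 1) - 2) - 2 * g ^ 2) ≤
      |e * (y ^ 2 + g ^ 2 + k * M ^ 2)| := by
    rw [hb2, abs_mul, abs_neg, abs_of_pos hg0]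
    refine mul_le_mul_of_nonneg_left ?_ hg0.le
    have := abs_sub_abs_le_abs_sub (k * (2 + 4 * M ^ 2 * (M - 1))) (-(2 * g ^ 2))
    rw [abs_neg, sub_neg_eq_add, abs_of_nonneg (show (0 : ℤ) ≤ 2 * g ^ 2 by positivity), abs_mul] at this
    linarith [mul_le_mul_of_nonneg_left hW (abs_nonneg k)]
  have hBpos : 0 ≤ g ^ 2 + |k| * m ^ 2 := by positivity
  have h2X : 2 * (|e| + |y|) ≤ g ^ 2 + |k| + 4 := by
    nlinarith [mul_nonneg (sub_nonneg.2 hX) (sub_nonneg.2 hY)]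
  have hmain := mul_le_mul_of_nonneg_left h2X hBpos
  have hQm : |Q| = 2 * m + 1 ∨ |Q| = 2 * m - 1 := by
    rcases hbigM with a1 | a1
    · left; rw [hm, abs_of_pos (by omega), abs_of_pos (by omega)]; omega
    · right; rw [hm, abs_of_neg (by omega), abs_of_neg (by omega)]; omega
  rcases hcases with hgq | hgq
  · by_cases hk3 : 3 ≤ |k|
    · nlinarith [size_big hm13 (hgq ▸ hQm) hk3 hk2]
    have hkone : k = 1 ∨ k = -1 := by
      obtain ⟨j, hj⟩ := ok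
      rcases abs_cases k with ⟨a1, _⟩ | ⟨a1, _⟩ <;> rw [a1] at hk1 hk3 <;> omega
    by_cases htwo : e = 2 ∨ e = -2 ∨ y = 2 ∨ y = -2
    · exact no_two hbigM hkone (by rw [hgq, hQM]) hey hb2 htwo
    have hk' : |k| = 1 := by rcases hkone with rfl | rfl <;> simp
    have hX4 : 4 ≤ |e| := by rcases abs_cases e with ⟨a1, _⟩ | ⟨a1, _⟩ <;> omega
    have hY4 : 4 ≤ |y| := by rcases abs_cases y with ⟨a1, _⟩ | ⟨a1, _⟩ <;> omega
    have h4X : 4 * (|e| + |y|) ≤ g ^ 2 + 17 := by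
      rw [hk'] at hn
      nlinarith [mul_nonneg (sub_nonneg.2 hX4) (sub_nonneg.2 hY4)]
    rw [hk', one_mul] at hL hR' hBpos
    nlinarith [size_one hm13 (hgq ▸ hQm), mul_le_mul_of_nonneg_left h4X hBpos]
  · rcases hQm with a1 | a1 <;> rw [a1] at hgq <;>
      nlinarith [size_small hm13 hg3 (by linarith) hk1 hk2]

/-- case "T2b/S2" (`Q = -δ q`, so `Q = 4R - 1` with `R = ±r`) -/
theorem no_T2b {Q M R : ℤ} (hR : Odd R) (hQ : Q = 4 * R - 1) (hM : M = 2 * R - 1) (hbig : 7 ≤ |R|)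
    {p f : ℕ} (hp : p.Prime) (hf : Q.natAbs = p ^ f) {a b b' c u : ℤ} (ha : 2 ≤ |a|) (hu : 2 ≤ |u|)
    (hb : b ≠ 0) (hb' : b' ≠ 0) (oa : Odd a) (oc : Odd c) (ou : Odd u) (h0 : b + b' = -1 - a)
    (h1 : c + u = 1 + a) {K : ℚ} (hK : K * (Q * c) = -8 * M ^ 2)
    (E0 : 1 + 1 / (a : ℚ) + Q ^ 2 * (1 / (b : ℚ) + 1 / b') = 2 * M * R * K)
    (E1 : (Q : ℚ) ^ 2 * (1 / (b : ℚ) + 1 / b') + M ^ 2 * (1 / (c : ℚ) + 1 / u) = (3 * R - 1) * K)
    (da : a ∣ Q ^ 2 * c) (du : u ∣ Q ^ 2 * c) (db : b ∣ Q ^ 3 * c) (db' : b' ∣ Q ^ 3 * c) : False := by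
  have _ := hR
  have hQM : Q = 2 * M + 1 := by omega
  have hbigM : 13 ≤ M ∨ M ≤ -13 := by
    rcases abs_cases R with ⟨e, _⟩ | ⟨e, _⟩ <;> rw [e] at hbig <;> omega
  have ha0 : a ≠ 0 := fun e => by simp [e] at ha
  have hu0 : u ≠ 0 := fun e => by simp [e] at hu
  have hc0 : c ≠ 0 := fun e => by simp [e] at oc
  have hQ0 : Q ≠ 0 := by omega
  -- the integral forms of the two equations
  have cQ : (Q : ℚ) = 2 * M + 1 := by rw [hQM]; push_cast; ring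
  have cR : (R : ℚ) = ((M : ℚ) + 1) / 2 := by rw [hM]; push_cast; ring
  have qa : (a : ℚ) ≠ 0 := Int.cast_ne_zero.2 ha0
  have qu : (u : ℚ) ≠ 0 := Int.cast_ne_zero.2 hu0
  have qb : (b : ℚ) ≠ 0 := Int.cast_ne_zero.2 hb
  have qb' : (b' : ℚ) ≠ 0 := Int.cast_ne_zero.2 hb'
  have qc : (c : ℚ) ≠ 0 := Int.cast_ne_zero.2 hc0
  have qQ : (Q : ℚ) ≠ 0 := Int.cast_ne_zero.2 hQ0
  have hE : (1 + a) * (b * b' - Q ^ 2 * a) * Q * (-c) = 16 * R * M ^ 3 * a * (b * b') := by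
    have q0 : (b : ℚ) + b' = -1 - a := by exact_mod_cast h0
    have key : (1 + (a : ℚ)) * (b * b' - Q ^ 2 * a) * Q * (-c) = 16 * R * M ^ 3 * a * (b * b') := by
      field_simp at E0
      linear_combination (-(Q : ℚ) * c) * E0 +
        ((Q : ℚ) ^ 3 * a * c) * q0 - 2 * M * R * a * b * b' * hK
    exact_mod_cast key
  have hB : c * (a * u + u - M ^ 2 * a) = -(M ^ 2 * (4 * M - 5) * a * u) := by
    have key : (c : ℚ) * (a * u + u - M ^ 2 * a) = -(M ^ 2 * (4 * M - 5) * a * u) := by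
      have e : 1 + 1 / (a : ℚ) - M ^ 2 * (1 / (c : ℚ) + 1 / u) =
          (2 * M * R - (3 * R - 1)) * K := by linear_combination E0 - E1
      rw [cR] at e
      have hK' : K * c * (2 * M + 1) = -8 * M ^ 2 := by rw [← cQ]; linear_combination hK
      field_simp at e
      have hne : (2 : ℚ) * M + 1 ≠ 0 := cQ ▸ qQ
      refine mul_left_cancel₀ (mul_ne_zero two_ne_zero hne) ?_
      linear_combination (2 * M + 1) * e + a * u * (2 * M ^ 2 - M - 1) * hK'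
    exact_mod_cast key
  -- the gcd
  obtain ⟨G, rfl⟩ : ∃ G, c = -G := ⟨-c, (neg_neg c).symm⟩
  rw [neg_neg] at hE
  rw [mul_neg, dvd_neg] at da du db db'
  have oG : Odd G := odd_neg.1 oc
  obtain ⟨g, hg⟩ : ∃ g : ℤ, g = (Int.gcd a u : ℤ) := ⟨_, rfl⟩
  have hg0 : 0 < g := by
    rw [hg]; exact_mod_cast Int.gcd_pos_of_ne_zero_left _ ha0
  have hga : g ∣ a := hg ▸ Int.gcd_dvd_left a u
  have hgu : g ∣ u := hg ▸ Int.gcd_dvd_right a u
  have hgG : g ∣ G + 1 := by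
    rw [show G + 1 = u - a by omega]; exact dvd_sub hgu hga
  have hgQ : g ∣ Q ^ 2 := by
    obtain ⟨x, hx⟩ := hgG
    exact IsCoprime.dvd_of_dvd_mul_right (show IsCoprime g G from ⟨x, -1, by linarith⟩) (hga.trans da)
  have hcases := gcd_power hQ hM hbig hp hf hg0 hga hgQ hgG h0 hE db db'
  obtain ⟨A, rfl⟩ := hga
  obtain ⟨U, rfl⟩ := hgu
  have hAU : IsCoprime A U := by
    rw [Int.isCoprime_iff_gcd_eq_one]
    have e : g = g * (Int.gcd A U : ℤ) := by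
      conv_lhs => rw [hg, Int.gcd_mul_left]
      rw [Nat.cast_mul, Int.natAbs_of_nonneg hg0.le]
    exact_mod_cast (mul_eq_left₀ hg0.ne').1 e.symm
  have hA0 : A ≠ 0 := fun e => ha0 (by rw [e, mul_zero])
  have hU0 : U ≠ 0 := fun e => hu0 (by rw [e, mul_zero])
  obtain ⟨og, oA⟩ := Int.odd_mul.1 oa
  obtain ⟨-, oU⟩ := Int.odd_mul.1 ou
  have hbr : G * (g * A * U + U - M ^ 2 * A) = g * M ^ 2 * (4 * M - 5) * (A * U) := by
    refine mul_left_cancel₀ hg0.ne' ?_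
    linear_combination -hB
  have hAG : A ∣ G := by
    refine IsCoprime.dvd_of_dvd_mul_right (z := g * A * U + U - M ^ 2 * A) ?_
      ⟨g * M ^ 2 * (4 * M - 5) * U, by rw [hbr]; ring⟩
    rw [show g * A * U + U - M ^ 2 * A = U + A * (g * U - M ^ 2) by ring]
    exact hAU.add_mul_left_right _
  have hUG : U ∣ G := by
    have h2 : U ∣ M ^ 2 * G * A := by
      have h3 : U ∣ G * (g * A * U + U - M ^ 2 * A) :=
        ⟨g * M ^ 2 * (4 * M - 5) * A, by rw [hbr]; ring⟩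
      have h4 : U ∣ G * (g * A * U + U) := ⟨G * (g * A + 1), by ring⟩
      have h5 := dvd_sub h4 h3
      rwa [show G * (g * A * U + U) - G * (g * A * U + U - M ^ 2 * A) = M ^ 2 * G * A by ring] at h5
    have hU1 : U ∣ M ^ 2 * G := hAU.symm.dvd_of_dvd_mul_right h2
    have hU2 : U ∣ Q ^ 2 * G := (dvd_mul_left U g).trans du
    obtain ⟨x, y, hxy⟩ := (show IsCoprime Q M from ⟨1, -2, by omega⟩).pow (m := 2) (n := 2)
    rw [show G = x * (Q ^ 2 * G) + y * (M ^ 2 * G) by linear_combination -G * hxy]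
    exact dvd_add (dvd_mul_of_dvd_right hU2 _) (dvd_mul_of_dvd_right hU1 _)
  obtain ⟨k, hk⟩ := hAU.mul_dvd hAG hUG
  obtain ⟨-, ok⟩ := Int.odd_mul.1 (hk ▸ oG)
  have hI : k * (A * U) = g * (U - A) - 1 := by linear_combination -h1 - hk
  have hII : k * (g * A * U + U - M ^ 2 * A) = g * M ^ 2 * (4 * M - 5) := by
    refine mul_left_cancel₀ (mul_ne_zero hA0 hU0) ?_
    rw [hk] at hbr
    linear_combination hbr
  -- the bound on `k`
  have hA1 : 1 ≤ |A| := Int.one_le_abs hA0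
  have hU1 : 1 ≤ |U| := Int.one_le_abs hU0
  have hkb : |k| * (|A| * |U|) ≤ g * (|A| + |U|) + 1 := by
    rw [← abs_mul, ← abs_mul, hI]
    calc |g * (U - A) - 1| ≤ |g * (U - A)| + |(1 : ℤ)| := abs_sub _ _
      _ ≤ g * (|A| + |U|) + 1 := by
        rw [abs_mul, abs_of_pos hg0, abs_one]
        linarith [mul_le_mul_of_nonneg_left (abs_sub U A) hg0.le]
  have hk1 : 1 ≤ |k| := Int.one_le_abs fun e => by simp [e] at ok
  have hk2 : |k| ≤ 2 * g + 1 := by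
    nlinarith [mul_nonneg (mul_nonneg (sub_nonneg.2 hA1) (sub_nonneg.2 hU1)) hg0.le,
      mul_le_mul hA1 hU1 zero_le_one (abs_nonneg A), mul_pos hg0 (show (0 : ℤ) < |A| * |U| by positivity)]
  have hg3 : 3 ≤ g := by
    rcases (show g = 1 ∨ 3 ≤ g by obtain ⟨j, hj⟩ := og; omega) with e | e
    · exfalso
      subst e
      rw [one_mul] at ha hu
      have hA3 : 3 ≤ |A| := by obtain ⟨j, hj⟩ := oA; rcases abs_cases A with ⟨e, _⟩ | ⟨e, _⟩ <;> omega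
      have hU3 : 3 ≤ |U| := by obtain ⟨j, hj⟩ := oU; rcases abs_cases U with ⟨e, _⟩ | ⟨e, _⟩ <;> omega
      nlinarith [mul_le_mul_of_nonneg_right hk1 (show (0 : ℤ) ≤ |A| * |U| by positivity),
        mul_nonneg (sub_nonneg.2 hA3) (sub_nonneg.2 hU3)]
    · exact e
  -- the factors `e`, `f`
  obtain ⟨e, he⟩ : ∃ e, e = k * A - g := ⟨_, rfl⟩
  obtain ⟨y, hy⟩ : ∃ y, y = k * U + g := ⟨_, rfl⟩
  have hey : e * y = -(g ^ 2 + k) := by rw [he, hy]; linear_combination k * hI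
  have hb2 : e * (y ^ 2 + g ^ 2 + k * M ^ 2) = -g * (k * (2 + 4 * M ^ 2 * (M - 1)) + 2 * g ^ 2) := by
    have h2' : U * (g ^ 2 + k) - A * (g ^ 2 + k * M ^ 2) = g * (1 + M ^ 2 * (4 * M - 5)) := by
      linear_combination hII - g * hI
    rw [show e * (y ^ 2 + g ^ 2 + k * M ^ 2) = e * y * y + e * (g ^ 2 + k * M ^ 2) by ring, hey,
      he, hy]
    linear_combination -k * h2'
  have he2 : 2 ≤ |e| ∧ 2 ≤ |y| ∧ |e| % 2 = 0 ∧ |y| % 2 = 0 := by
    have ev1 : Even e := he ▸ (ok.mul oA).sub_odd og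
    have ev2 : Even y := hy ▸ (ok.mul oU).add_odd og
    obtain ⟨i1, e1⟩ := ev1
    obtain ⟨i2, e2⟩ := ev2
    have hne : g ^ 2 + k ≠ 0 := by
      rcases abs_cases k with ⟨e', _⟩ | ⟨e', _⟩ <;> rw [e'] at hk1 hk2 <;> nlinarith
    have hne' : e * y ≠ 0 := by rw [hey]; exact neg_ne_zero.2 hne
    obtain ⟨n1, n2⟩ := mul_ne_zero_iff.1 hne'
    refine ⟨?_, ?_, Int.even_iff.1 (even_abs.2 ⟨i1, e1⟩), Int.even_iff.1 (even_abs.2 ⟨i2, e2⟩)⟩
    · rcases abs_cases e with ⟨a1, _⟩ | ⟨a1, _⟩ <;> rw [a1] <;> omega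
    · rcases abs_cases y with ⟨a2, _⟩ | ⟨a2, _⟩ <;> rw [a2] <;> omega
  exact size_contra hQM hbigM hcases hg0 hg3 ok hk1 hk2 hey hb2 he2.1 he2.2.1 he2.2.2.1 he2.2.2.2

end Cfsg.Agent.Invol.JankoWard.Arith
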