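import Mathlib

/-!
# Arithmetic of the character lattice, case `T3b`

The two count equations force a quadratic equation with negative discriminant.
-/

set_option autoImplicit false
set_option maxHeartbeats 1000000

namespace Cfsg.Agent.Invol.JankoWard.Arith

/-- The quadratic has no real root. -/
theorem quad_pos {m Y K z : ℚ} (hm : 0 < m) (hY1 : 3 / 5 * m ≤ Y) (hY2 : Y ≤ 3 / 2 * m)
    (hK1 : 69 / 10 * m ≤ K) (hK2 : K ≤ 71 / 10 * m) : Y * z ^ 2 + (Y + K - 4 * m) * z + K ≠ 0 := by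
  intro h
  have hd : (Y + K - 4 * m) ^ 2 - 4 * Y * K < 0 := by
    nlinarith [mul_nonneg (sub_nonneg.2 hY1) (sub_nonneg.2 hY2),
      mul_nonneg (sub_nonneg.2 hK1) (sub_nonneg.2 hK2), mul_le_mul_of_nonneg_left hK1
        (show (0 : ℚ) ≤ Y by linarith), mul_pos hm hm]
  nlinarith [sq_nonneg (2 * Y * z + (Y + K - 4 * m))]

/-- The bounds on the leading coefficient. -/
theorem lead_bounds {M p : ℚ} (hM : 13 ≤ M ∨ M ≤ -13) (hp : 2 ≤ p ∨ p ≤ -2) :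
    3 / 5 * M ^ 2 * (2 * p ^ 2 + p) ≤ ((2 * M ^ 2 - 1) * p - (M + 1) ^ 2) * (p + 1) ∧
      ((2 * M ^ 2 - 1) * p - (M + 1) ^ 2) * (p + 1) ≤ 3 / 2 * M ^ 2 * (2 * p ^ 2 + p) := by
  have hM2 : (169 : ℚ) ≤ M ^ 2 := by rcases hM with h | h <;> nlinarith
  have hl : -(M ^ 2) / 13 ≤ M ∧ M ≤ M ^ 2 / 13 := by
    rcases hM with h | h <;> constructor <;> nlinarith
  constructor <;> rcases hp with h | h <;>
    nlinarith [mul_nonneg (sub_nonneg.2 hM2) (show (0 : ℚ) ≤ p ^ 2 - 4 by nlinarith),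
      mul_le_mul_of_nonneg_left (show (2 : ℚ) * |p| ≤ p ^ 2 by
        rw [← sq_abs p]; rcases abs_cases p with ⟨e, _⟩ | ⟨e, _⟩ <;> rw [e] <;> nlinarith)
        (show (0 : ℚ) ≤ M ^ 2 by positivity), le_abs_self p, neg_abs_le p,
      mul_le_mul_of_nonneg_left (le_abs_self p) (show (0 : ℚ) ≤ M ^ 2 by positivity),
      mul_le_mul_of_nonneg_left (neg_abs_le p) (show (0 : ℚ) ≤ M ^ 2 by positivity),
      mul_nonneg (abs_nonneg p) (show (0 : ℚ) ≤ M ^ 2 by positivity)]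

/-- case "T3b/U2" -/
theorem no_T3b {Q M R : ℤ} (hQ : Q = 4 * R - 1) (hM : M = 2 * R - 1) (hbig : 7 ≤ |R|)
    {p b c h : ℤ} (hp : 2 ≤ |p|) (hc : c ≠ 0) (hh : h ≠ 0) (h0 : b = -1 - 2 * p)
    (h1 : h = 1 + p - c) {K : ℚ} (hK : K * (Q * c) = -8 * M ^ 2)
    (E0 : 1 + 8 * R ^ 2 / (p : ℚ) + Q ^ 2 / (b : ℚ) = 2 * M * R * K)
    (E1 : 4 * R ^ 2 / (p : ℚ) + Q ^ 2 / (b : ℚ) + 4 * M ^ 2 / (h : ℚ) + M ^ 2 / (c : ℚ) =
      (3 * R - 1) * K) :
    False := by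
  have hp0 : p ≠ 0 := fun e => by simp [e] at hp
  have hb0 : b ≠ 0 := by omega
  have hQ0 : Q ≠ 0 := by omega
  have hp' : (2 : ℚ) ≤ p ∨ (p : ℚ) ≤ -2 := by
    rcases le_abs'.1 hp with e | e
    · exact Or.inr (by exact_mod_cast e)
    · exact Or.inl (by exact_mod_cast e)
  have hM' : (13 : ℚ) ≤ M ∨ (M : ℚ) ≤ -13 := by
    rcases le_abs'.1 hbig with e | e
    · exact Or.inr (by exact_mod_cast (by omega : M ≤ -13))
    · exact Or.inl (by exact_mod_cast (by omega : 13 ≤ M))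
  have hRM : (R : ℚ) = ((M : ℚ) + 1) / 2 := by rw [hM]; push_cast; ring
  have hQM : (Q : ℚ) = 2 * M + 1 := by rw [hQ, hM]; push_cast; ring
  have hbq : (b : ℚ) = -(2 * p + 1) := by rw [h0]; push_cast; ring
  have hpq : (p : ℚ) ≠ 0 := Int.cast_ne_zero.2 hp0
  have hhq : (h : ℚ) ≠ 0 := Int.cast_ne_zero.2 hh
  have hcq : (c : ℚ) ≠ 0 := Int.cast_ne_zero.2 hc
  have hQq : (2 : ℚ) * M + 1 ≠ 0 := by rcases hM' with e | e <;> intro e' <;> linarith
  have hbq' : (2 : ℚ) * p + 1 ≠ 0 := by rcases hp' with e | e <;> intro e' <;> linarith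
  have hQq2 : (1 : ℚ) + M * 2 ≠ 0 := fun e => hQq (by linarith)
  have hKv : K = -8 * (M : ℚ) ^ 2 / ((2 * M + 1) * c) := by
    rw [eq_div_iff (mul_ne_zero hQq hcq), ← hQM]; exact hK
  rw [hKv, hRM, hQM, hbq] at E0 E1
  set X : ℚ := ((2 * (M : ℚ) ^ 2 - 1) * p - (M + 1) ^ 2) / (p * (2 * p + 1)) with hX
  set K7 : ℚ := (M : ℚ) ^ 2 * (14 * M + 5) / (2 * M + 1) with hK7
  have hB : (p : ℚ) * (2 * p + 1) ≠ 0 := mul_ne_zero hpq hbq'
  have key : 4 * (M : ℚ) ^ 2 / h = X - K7 / c := by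
    rw [hX, hK7]
    linear_combination (norm := (field_simp [hQq, hbq']; ring_nf; field_simp; ring)) E1
  set w : ℚ := 1 + (p : ℚ) with hw
  have hw0 : w ≠ 0 := by rcases hp' with e | e <;> rw [hw] <;> intro e' <;> linarith
  have hh' : (h : ℚ) = w - c := by rw [hw, h1]; push_cast; ring
  have hpos : 0 < (M : ℚ) ^ 2 := by rcases hM' with e | e <;> nlinarith
  have hY : 3 / 5 * (M : ℚ) ^ 2 ≤ X * w ∧ X * w ≤ 3 / 2 * (M : ℚ) ^ 2 := by
    have hden : 0 < (p : ℚ) * (2 * p + 1) := by rcases hp' with e | e <;> nlinarith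
    obtain ⟨l1, l2⟩ := lead_bounds hM' hp'
    rw [show X * w = ((2 * (M : ℚ) ^ 2 - 1) * p - (M + 1) ^ 2) * ((p : ℚ) + 1) / (p * (2 * p + 1)) by
      rw [hX, hw]; ring, le_div_iff₀ hden, div_le_iff₀ hden]
    constructor <;> linarith
  have hK : 69 / 10 * (M : ℚ) ^ 2 ≤ K7 ∧ K7 ≤ 71 / 10 * (M : ℚ) ^ 2 := by
    rw [hK7]
    rcases hM' with e | e
    · rw [le_div_iff₀ (by linarith), div_le_iff₀ (by linarith)]
      constructor <;> nlinarith
    · rw [le_div_iff_of_neg (by linarith), div_le_iff_of_neg (by linarith)]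
      constructor <;> nlinarith
  refine quad_pos (z := -(c : ℚ) / w) hpos hY.1 hY.2 hK.1 hK.2 ?_
  rw [div_eq_iff hhq] at key
  rw [hh'] at key
  have key' : 4 * (M : ℚ) ^ 2 * c = (X * c - K7) * (w - c) := by
    rw [key]; field_simp
  field_simp
  linear_combination key'

end Cfsg.Agent.Invol.JankoWard.Arith
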