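import Cfsg.Agent.Lib.Invol.JankoWard.Rows
import Cfsg.Agent.Lib.Invol.JankoWard.ArithT2a
import Cfsg.Agent.Lib.Invol.JankoWard.ArithT2b
import Cfsg.Agent.Lib.Invol.JankoWard.ArithT3b
import Cfsg.Agent.Lib.Char.ModP

/-!
# The order of the group

From a base, its locals and the three characters: `δ = -1`, `q = 3^f` with `f` odd and
`|G| = q³ (q³ + 1) (q - 1)`.
-/

open scoped ComplexConjugate

set_option autoImplicit false
set_option linter.unusedSectionVars false
set_option linter.style.haveILetI false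

open scoped Classical

namespace Cfsg.Agent.Invol.JankoWard

open Cfsg Cfsg.Agent.Char Cfsg.Agent.Block

universe u v

/-- Transfer of an equation of rational numbers to the complex numbers. -/
theorem rat_of_complex {a b : ℚ} (h : (a : ℂ) = b) : a = b := by exact_mod_cast h

/-- Split off the trivial character. -/
theorem sum_split_trivial {G : Type u} [Group G] [Fintype G] {A : Type v} [AddCommMonoid A]
    (F : IrrCharacter G → A) :
    ∑ χ : IrrCharacter G, F χ =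
      F (trivialIrr G) + ∑ χ : {χ : IrrCharacter G // χ ≠ trivialIrr G}, F χ.1 := by
  rw [← Finset.add_sum_erase _ _ (Finset.mem_univ (trivialIrr G))]
  congr 1
  exact Finset.sum_subtype (Finset.univ.erase (trivialIrr G)) (fun χ => by simp) F

namespace Base

variable {G : Type u} [Group G] [Fintype G] {P : Type v} [Group P] [Fintype P] (S : Base G P) (X : LChars S.D)

/-- The degree as an integer. -/
noncomputable def dg (χ : IrrCharacter G) : ℤ := (charDegree (χ : G → ℂ) : ℤ)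

/-- The weight as a rational number. -/
noncomputable def wq (χ : IrrCharacter G) : ℚ := (S.tv χ : ℚ) ^ 2 / (dg χ : ℚ)

/-- `κ / r` as a rational number. -/
noncomputable def Kq : ℚ := (Nat.card S.C : ℚ) ^ 2 / (Nat.card G : ℚ) / (S.D.r : ℚ)

theorem K_eq : S.K = (S.Kq : ℂ) := by
  simp [K, kap, Kq]

theorem wt_cast (χ : IrrCharacter G) : S.wt χ = (S.wq χ : ℂ) := by
  rw [S.wt_eq, wq, dg]
  push_cast; rfl

theorem dg_trivial : dg (trivialIrr G) = 1 := by
  have h : ((trivialIrr G : IrrCharacter G) : G → ℂ) 1 = 1 := rfl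
  rw [charDeg_spec'] at h
  simp only [dg]
  exact_mod_cast h

theorem tv_trivial : S.tv (trivialIrr G) = 1 := by
  have h : ((trivialIrr G : IrrCharacter G) : G → ℂ) S.t = 1 := rfl
  rw [S.tv_spec] at h
  exact_mod_cast h

theorem sum_dg_w (j : Fin 3) :
    ![1, 0, 0] j + ∑ χ : {χ : IrrCharacter G // χ ≠ trivialIrr G}, S.w X j χ.1 * dg χ.1 = 0 := by
  have h : ((∑ χ : IrrCharacter G, S.w X j χ * dg χ : ℤ) : ℂ) = 0 := by
    rw [← S.sum_w_one X j]
    push_cast
    exact Finset.sum_congr rfl fun χ _ => by rw [charDeg_spec', dg]; push_cast; rfl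
  have h2 : ∑ χ : IrrCharacter G, S.w X j χ * dg χ = 0 := by exact_mod_cast h
  rw [sum_split_trivial, S.w_trivial, dg_trivial, mul_one] at h2
  exact h2

variable (hone : ∀ x : G, orderOf x = 2 → IsConj S.t x)
include hone

theorem sum_wq_w :
    1 + ∑ χ : {χ : IrrCharacter G // χ ≠ trivialIrr G}, (S.w X 0 χ.1 : ℚ) * S.wq χ.1 =
      2 * S.D.qM * S.D.qR * S.Kq ∧
    ∑ χ : {χ : IrrCharacter G // χ ≠ trivialIrr G}, (S.w X 1 χ.1 : ℚ) * S.wq χ.1 = (3 * S.D.qR - 1) * S.Kq := by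
  obtain ⟨h0, h1⟩ := S.sum_w_wt X hone
  have key : ∀ (j : Fin 3) (R : ℚ), ∑ χ : IrrCharacter G, (S.w X j χ : ℂ) * S.wt χ = (R : ℂ) →
      (![1, 0, 0] j : ℤ) + ∑ χ : {χ : IrrCharacter G // χ ≠ trivialIrr G}, (S.w X j χ.1 : ℚ) * S.wq χ.1 = R := by
    intro j R h
    refine rat_of_complex ?_
    rw [← h, sum_split_trivial, S.w_trivial, S.wt_cast, wq, tv_trivial, dg_trivial]
    push_cast
    simp only [S.wt_cast]
    norm_num
  refine ⟨?_, ?_⟩
  · have := key 0 (2 * S.D.qM * S.D.qR * S.Kq) (by rw [h0, S.K_eq]; push_cast; ring)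
    simpa using this
  · have := key 1 ((3 * S.D.qR - 1) * S.Kq) (by rw [h1, S.K_eq]; push_cast; ring)
    simpa using this

theorem omega_rat (χ : IrrCharacter G) :
    ∃ z : ℤ, (z : ℚ) * dg χ * S.Kq = 8 * S.D.qQ * S.D.qM * S.tv χ := by
  obtain ⟨z, hz⟩ := S.omega_dvd hone χ
  refine ⟨z, rat_of_complex ?_⟩
  rw [S.K_eq] at hz
  simp only [dg]
  push_cast
  exact hz

end Base

namespace Locals

variable {G : Type u} [Group G] [Fintype G] {P : Type v} [Group P] [Fintype P] {S : Base G P} (L : Locals S)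
  (X : LChars S.D) (l : S.D.Y →* ℂˣ)
include L

theorem sum_e_dg (hl : l ≠ 1) (b : Bool) :
    (if b then 0 else -1) + ∑ χ : {χ : IrrCharacter G // χ ≠ trivialIrr G}, L.e l b χ.1 * Base.dg χ.1 = 0 ∧
    (if b then 0 else -1) + ∑ χ : {χ : IrrCharacter G // χ ≠ trivialIrr G}, L.e l b χ.1 * S.tv χ.1 = 0 ∧
    (if b then 0 else -1 : ℚ) + ∑ χ : {χ : IrrCharacter G // χ ≠ trivialIrr G}, (L.e l b χ.1 : ℚ) * S.wq χ.1 =
      if b then 0 else -4 * (S.D.qR : ℚ) ^ 2 * S.Kq := by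
  refine ⟨?_, ?_, ?_⟩
  · have h : ((∑ χ : IrrCharacter G, L.e l b χ * Base.dg χ : ℤ) : ℂ) = 0 := by
      rw [← L.sum_e_value l b (z := 1) (one_mul 1)]
      push_cast
      exact Finset.sum_congr rfl fun χ _ => by rw [charDeg_spec', Base.dg]; push_cast; rfl
    have h2 : ∑ χ : IrrCharacter G, L.e l b χ * Base.dg χ = 0 := by exact_mod_cast h
    rw [sum_split_trivial, L.e_trivial l hl, Base.dg_trivial, mul_one] at h2
    exact h2
  · have h : ((∑ χ : IrrCharacter G, L.e l b χ * S.tv χ : ℤ) : ℂ) = 0 := by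
      rw [← L.sum_e_value l b S.tt]
      push_cast
      exact Finset.sum_congr rfl fun χ _ => by rw [S.tv_spec]
    have h2 : ∑ χ : IrrCharacter G, L.e l b χ * S.tv χ = 0 := by exact_mod_cast h
    rw [sum_split_trivial, L.e_trivial l hl, S.tv_trivial, mul_one] at h2
    exact h2
  · refine rat_of_complex ?_
    have h := L.sum_e_wt l hl b
    rw [sum_split_trivial, L.e_trivial l hl, S.wt_cast, Base.wq, S.tv_trivial, Base.dg_trivial] at h
    simp only [S.wt_cast] at h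
    have hr : (S.D.r : ℂ) ≠ 0 := Nat.cast_ne_zero.2 (by have := S.D.r3; omega)
    have hK : (S.D.r : ℂ) ^ 2 * (S.Kq : ℂ) = S.D.r * S.kap := by
      rw [← S.K_eq, Base.K]; field_simp
    have hR : (S.D.qR : ℂ) ^ 2 = (S.D.r : ℂ) ^ 2 := by
      rcases S.D.hδ with e | e <;> simp [LData.qR, e]
    cases b <;> simp at h ⊢ <;> rw [h]
    rw [hR]; linear_combination 4 * hK

/-- What is known about a shape: values, linear equations and counts. -/
theorem shape_facts [IsSimpleGroup G] (hna : ¬ IsMulCommutative G) {M : Ideal AlgInt} (hM : IsPModular 2 M) {n : ℕ}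
    {row : Fin n → Fin 3 → ℤ} (hrow : ∀ k, ∃ j, row k j ≠ 0)
    {x : Fin n → {χ : IrrCharacter G // χ ≠ trivialIrr G}} {s : Fin n → ℤ} (hS : (S.sys X).Shape row x s) :
    let rv := fun k => row k 0 + (row k 1 + row k 2) * S.D.qM
    ∃ D : Fin n → ℤ, (∀ k, D k = s k * Base.dg (x k).1) ∧
    (∀ k, 2 ≤ |D k| ∧ (2 : ℤ) ∣ D k - rv k ∧ (∃ z : ℤ, (z : ℚ) * D k * S.Kq = 8 * S.D.qQ * S.D.qM * rv k) ∧
      ∀ l : S.D.Y →* ℂˣ, l ≠ 1 →
        s k * L.e l false (x k).1 = s k * L.e l true (x k).1 - (row k 0 - row k 1 - row k 2)) ∧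
    (∀ j, ![1, 0, 0] j + ∑ k, row k j * D k = 0) ∧
    1 + ∑ k, (row k 0 : ℚ) * ((rv k : ℚ) ^ 2 / D k) = 2 * S.D.qM * S.D.qR * S.Kq ∧
    ∑ k, (row k 1 : ℚ) * ((rv k : ℚ) ^ 2 / D k) = (3 * S.D.qR - 1) * S.Kq := by
  obtain ⟨hinj, hs, hw, hout⟩ := hS
  intro rv
  set D := fun k => s k * Base.dg (x k).1 with hDdef
  refine ⟨D, fun k => rfl, ?_⟩
  have hw' : ∀ k j, S.w X j (x k).1 = s k * row k j := fun k j => hw k j
  have hne : ∀ k, ∃ j, S.w X j (x k).1 ≠ 0 := fun k => by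
    obtain ⟨j, hj⟩ := hrow k
    exact ⟨j, by rw [hw']; exact mul_ne_zero (fun e => by have := hs k; rw [e] at this; norm_num at this) hj⟩
  have htv : ∀ k, S.tv (x k).1 = s k * rv k := fun k => by
    rw [(S.value_w X hM (hne k)).1, hw', hw', hw']; simp only [rv]; ring
  have hwq : ∀ k, (s k : ℚ) * S.wq (x k).1 = (rv k : ℚ) ^ 2 / D k := fun k => by
    rcases Int.eq_one_or_neg_one_of_mul_eq_one (hs k) with e | e <;>
      simp [Base.wq, htv, D, e, neg_div, div_neg]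
  refine ⟨fun k => ⟨?_, ?_, ?_, fun l hl => ?_⟩, fun j => ?_, ?_, ?_⟩
  · rw [abs_mul, show |s k| = 1 by rcases Int.eq_one_or_neg_one_of_mul_eq_one (hs k) with e | e <;> simp [e],
      one_mul, Base.dg, Nat.abs_cast]
    exact_mod_cast OrdP.two_le_deg hna (x k).2
  · have h := S.tv_parity (x k).1
    rw [htv] at h
    simp only [D, Base.dg]
    rcases Int.eq_one_or_neg_one_of_mul_eq_one (hs k) with e | e <;> rw [e] at h ⊢ <;> omega
  · obtain ⟨z, hz⟩ := S.omega_rat L.one_class (x k).1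
    refine ⟨z, ?_⟩
    rw [htv] at hz
    have h1 : (s k : ℚ) * s k = 1 := by exact_mod_cast hs k
    push_cast at hz ⊢
    simp only [D]; push_cast
    linear_combination (s k : ℚ) * hz + 8 * (S.D.qQ : ℚ) * S.D.qM * rv k * h1
  · rw [L.e_false_w X l hM hl (hne k), hw', hw', hw']
    linear_combination (-(row k 0 - row k 1 - row k 2)) * hs k
  · have h := S.sum_dg_w X j
    rw [Lattice.sum_rows hinj (fun χ : {χ : IrrCharacter G // χ ≠ trivialIrr G} => S.w X j χ.1 * Base.dg χ.1)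
      fun i hi => by rw [show S.w X j i.1 = 0 from hout i hi j, zero_mul]] at h
    rw [Finset.sum_congr rfl (g := fun k => row k j * D k) fun k _ => by rw [hw']; simp only [D]; ring] at h
    exact h
  · have h := (S.sum_wq_w X L.one_class).1
    rw [Lattice.sum_rows hinj (fun χ : {χ : IrrCharacter G // χ ≠ trivialIrr G} => (S.w X 0 χ.1 : ℚ) * S.wq χ.1)
      fun i hi => by rw [show S.w X 0 i.1 = 0 from hout i hi 0, Int.cast_zero, zero_mul]] at h
    rw [← h]
    congr 1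
    exact Finset.sum_congr rfl fun k _ => by rw [hw', ← hwq]; push_cast; ring
  · have h := (S.sum_wq_w X L.one_class).2
    rw [Lattice.sum_rows hinj (fun χ : {χ : IrrCharacter G // χ ≠ trivialIrr G} => (S.w X 1 χ.1 : ℚ) * S.wq χ.1)
      fun i hi => by rw [show S.w X 1 i.1 = 0 from hout i hi 1, Int.cast_zero, zero_mul]] at h
    rw [← h]
    exact Finset.sum_congr rfl fun k _ => by rw [hw', ← hwq]; push_cast; ring

/-- A coordinate vector that has one unit outside a shape: the three sums. -/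
theorem rest_facts (hl : l ≠ 1) {M : Ideal AlgInt} (hM : IsPModular 2 M) {n : ℕ}
    {row : Fin n → Fin 3 → ℤ} (hrow : ∀ k, ∃ j, row k j ≠ 0)
    {x : Fin n → {χ : IrrCharacter G // χ ≠ trivialIrr G}} {s : Fin n → ℤ} (hS : (S.sys X).Shape row x s)
    (b : Bool) {E : Fin n → ℤ} (hE : ∀ k, s k * L.e l b (x k).1 = E k)
    (hn : ∑ k, E k * E k = if b then 2 else 5) :
    let rv := fun k => row k 0 + (row k 1 + row k 2) * S.D.qM
    ∀ D : Fin n → ℤ, (∀ k, D k = s k * Base.dg (x k).1) →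
    ∃ xd : ℤ, xd ≠ 0 ∧ (if b then 0 else -1) + ∑ k, E k * D k + xd = 0 ∧
      (if b then 0 else -1 : ℚ) + ∑ k, (E k : ℚ) * ((rv k : ℚ) ^ 2 / D k) +
          (((if b then 0 else -1) + ∑ k, E k * rv k : ℤ) : ℚ) ^ 2 / xd =
        if b then 0 else -4 * (S.D.qR : ℚ) ^ 2 * S.Kq := by
  obtain ⟨hinj, hs, hw, hout⟩ := hS
  intro rv D hDe
  obtain rfl : D = fun k => s k * Base.dg (x k).1 := funext hDe
  have hw' : ∀ k j, S.w X j (x k).1 = s k * row k j := fun k j => hw k j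
  have hne : ∀ k, ∃ j, S.w X j (x k).1 ≠ 0 := fun k => by
    obtain ⟨j, hj⟩ := hrow k
    exact ⟨j, by rw [hw']; exact mul_ne_zero (fun e => by have := hs k; rw [e] at this; norm_num at this) hj⟩
  have htv : ∀ k, S.tv (x k).1 = s k * rv k := fun k => by
    rw [(S.value_w X hM (hne k)).1, hw', hw', hw']; simp only [rv]; ring
  have hek : ∀ k, L.e l b (x k).1 = s k * E k := fun k => by
    rw [← hE]; linear_combination (-(L.e l b (x k).1)) * hs k
  have hnorm : ∑ χ : {χ : IrrCharacter G // χ ≠ trivialIrr G}, L.e l b χ.1 * L.e l b χ.1 =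
      ∑ k, L.e l b (x k).1 * L.e l b (x k).1 + 1 := by
    have h := L.norm_e l hl b
    rw [sum_split_trivial, L.e_trivial l hl] at h
    have h2 : ∑ k, L.e l b (x k).1 * L.e l b (x k).1 = ∑ k, E k * E k :=
      Finset.sum_congr rfl fun k _ => by rw [hek]; linear_combination (E k * E k) * hs k
    rw [h2, hn]
    simp only [pow_two] at h
    cases b <;> simp at h ⊢ <;> linarith
  obtain ⟨Z, hZ, hZ1, hZ0⟩ := Lattice.exists_unit hinj (fun χ => L.e l b χ.1) hnorm
  obtain ⟨h1, h2, h3⟩ := L.sum_e_dg l hl b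
  rw [Lattice.sum_unit hinj hZ (fun χ : {χ : IrrCharacter G // χ ≠ trivialIrr G} => L.e l b χ.1 * Base.dg χ.1)
    fun i hi hiZ => by rw [hZ0 i hi hiZ, zero_mul]] at h1
  rw [Lattice.sum_unit hinj hZ (fun χ : {χ : IrrCharacter G // χ ≠ trivialIrr G} => L.e l b χ.1 * S.tv χ.1)
    fun i hi hiZ => by rw [hZ0 i hi hiZ, zero_mul]] at h2
  rw [Lattice.sum_unit hinj hZ (fun χ : {χ : IrrCharacter G // χ ≠ trivialIrr G} => (L.e l b χ.1 : ℚ) * S.wq χ.1)
    fun i hi hiZ => by rw [hZ0 i hi hiZ, Int.cast_zero, zero_mul]] at h3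
  have hd : Base.dg Z.1 ≠ 0 := Int.natCast_ne_zero.2 (charDeg_pos Z.1).ne'
  refine ⟨L.e l b Z.1 * Base.dg Z.1, mul_ne_zero (fun e => by rw [e] at hZ1; norm_num at hZ1) hd, ?_, ?_⟩
  · rw [Finset.sum_congr rfl (g := fun k => E k * (s k * Base.dg (x k).1)) fun k _ => by rw [hek]; ring] at h1
    linarith
  · have ht : (if b then 0 else -1) + ∑ k, E k * rv k = -(L.e l b Z.1 * S.tv Z.1) := by
      have : ∑ k, L.e l b (x k).1 * S.tv (x k).1 = ∑ k, E k * rv k := Finset.sum_congr rfl fun k _ => by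
        rw [hek, htv]; linear_combination (E k * rv k) * hs k
      rw [this] at h2
      linarith
    rw [← h3, ← add_assoc]
    congr 1
    · congr 1
      refine Finset.sum_congr rfl fun k _ => ?_
      rw [hek, Base.wq, htv]
      rcases Int.eq_one_or_neg_one_of_mul_eq_one (hs k) with e | e <;> simp [e, neg_div, div_neg]
    · rw [ht]
      rcases Int.eq_one_or_neg_one_of_mul_eq_one hZ1 with e | e <;>
        simp [Base.wq, e, neg_div, div_neg]

/-- The theorem of Janko–Thompson and Ward at a base with locals. -/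
theorem order [IsSimpleGroup G] (X : LChars S.D) (hna : ¬ IsMulCommutative G) :
    S.D.δ = -1 ∧ S.D.p = 3 ∧ Odd S.D.f ∧ Nat.card G = S.D.q ^ 3 * (S.D.q ^ 3 + 1) * (S.D.q - 1) := by
  obtain ⟨M, hM⟩ := exists_isPModular 2 Nat.prime_two
  set Q := S.D.qQ
  set R := S.D.qR
  set m := S.D.qM
  have hQ : Q = 4 * R - 1 := rfl
  have hm : m = 2 * R - 1 := rfl
  have hbig : 7 ≤ |R| := by rw [S.D.qR_abs]; exact_mod_cast L.r_ge
  have hf : Q.natAbs = S.D.p ^ S.D.f := by rw [S.D.qQ_natAbs, S.D.hf]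
  have hl0 : S.D.l0 ≠ 1 := fun h => by
    have h1 : ∀ y : S.D.Y, y = 1 := fun y => S.D.l0_inj (by rw [h]; simp)
    have h2 : Nat.card S.D.Y = 1 :=
      Nat.card_eq_one_iff_unique.2 ⟨⟨fun a c => (h1 a).trans (h1 c).symm⟩, ⟨1⟩⟩
    have := S.D.card_Y
    have := S.D.r3
    omega
  have hmQ : 2 * m = Q - 1 := by omega
  -- the three data for the coordinates of `Ex true`
  have hsys : ∀ l : S.D.Y →* ℂˣ, l ≠ 1 →
      (∀ χ, L.e l true ((S.sys X).σ χ).1 = L.e l true χ.1) ∧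
      ∑ χ : {χ : IrrCharacter G // χ ≠ trivialIrr G}, L.e l true χ.1 * L.e l true χ.1 = 3 ∧
      ∀ j, ∑ χ : {χ : IrrCharacter G // χ ≠ trivialIrr G}, L.e l true χ.1 * (S.sys X).w j χ = ![0, -1, -1] j := by
    intro l hl
    refine ⟨fun χ => L.e_swap l X true χ.1, ?_, fun j => ?_⟩
    · have h := L.norm_e l hl true
      rw [sum_split_trivial, L.e_trivial l hl] at h
      simpa [pow_two] using h
    · have h := L.sum_e_w X l hl j
      rw [sum_split_trivial, L.e_trivial l hl] at h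
      simpa [Base.sys] using h
  rcases (S.sys X).shapes with hT | hT
  · obtain ⟨he, hn, hw⟩ := hsys S.D.l0 hl0
    obtain ⟨x, s, hS, h5, h6, s5, s6, hcase⟩ := (S.sys X).coord2 (fun χ => L.e S.D.l0 true χ.1) hT he hn hw
    have hrow : ∀ k, ∃ j, Lattice.row2 k j ≠ 0 := by
      intro k; fin_cases k <;> first | exact ⟨0, by decide⟩ | exact ⟨1, by decide⟩ | exact ⟨2, by decide⟩
    obtain ⟨D, hD, hk, hlin, hE0, hE1⟩ := L.shape_facts X hna hM hrow hS
    have hD5 : D 5 = D 3 := by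
      rw [hD, hD, s5, ← h5]; congr 1; exact congrArg Nat.cast (Base.gal_deg _ _)
    have hD6 : D 6 = D 4 := by
      rw [hD, hD, s6, ← h6]; congr 1; exact congrArg Nat.cast (Base.gal_deg _ _)
    set a := D 0 with ha
    set b := D 1 with hb
    set b' := D 2 with hb'
    set c := D 3 with hc
    set c' := D 4 with hc'
    obtain ⟨da, pa, oa, fa⟩ := hk 0
    obtain ⟨db, -, ob, fb⟩ := hk 1
    obtain ⟨db', -, ob', fb'⟩ := hk 2
    obtain ⟨dc, pc, -, fc⟩ := hk 3
    obtain ⟨dc', pc', oc', fc'⟩ := hk 4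
    obtain ⟨-, -, -, f5⟩ := hk 5
    obtain ⟨-, -, -, f6⟩ := hk 6
    simp only [← ha, ← hb, ← hb', ← hc, ← hc', Lattice.row2] at da pa oa db ob db' ob' dc pc dc' pc' oc'
    have hne : ∀ z : ℤ, 2 ≤ |z| → z ≠ 0 := fun z h e => by rw [e] at h; norm_num at h
    have L0 : 1 + a + b + b' = 0 := by
      have := hlin 0
      simp [Fin.sum_univ_seven, Lattice.row2, ← ha, ← hb, ← hb'] at this
      linarith
    have L1 : b + b' + c + c' = 0 := by
      have := hlin 1
      simp [Fin.sum_univ_seven, Lattice.row2, ← hb, ← hb', ← hc, ← hc'] at this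
      linarith
    have hQm : (Q : ℚ) = 1 + 2 * m := by exact_mod_cast (show Q = 1 + 2 * m by omega)
    have E0 : 1 + 1 / (a : ℚ) + Q ^ 2 * (1 / (b : ℚ) + 1 / b') = 2 * m * R * S.Kq := by
      rw [← hE0]
      simp [Fin.sum_univ_seven, Lattice.row2, ← ha, ← hb, ← hb', hQm]
      ring
    have E1 : (Q : ℚ) ^ 2 * (1 / (b : ℚ) + 1 / b') + m ^ 2 * (1 / (c : ℚ) + 1 / c') = (3 * R - 1) * S.Kq := by
      rw [← hE1]
      simp [Fin.sum_univ_seven, Lattice.row2, ← hb, ← hb', ← hc, ← hc', hQm]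
      ring
    rcases hcase with hA | hB
    · -- the standard case
      have hEt : ∀ k, s k * L.e S.D.l0 true (x k).1 = ![1, 0, -1, 0, 0, 0, 0] k := fun k => by
        rw [hA k]; exact (mul_assoc _ _ _).symm.trans (by rw [hS.2.1 k, one_mul])
      have hEf : ∀ k, s k * L.e S.D.l0 false (x k).1 = ![0, 1, 0, 1, 1, 1, 1] k := fun k => by
        rw [((hk k).2.2.2 S.D.l0 hl0), hEt]; fin_cases k <;> simp [Lattice.row2]
      obtain ⟨xt, hxt, ft1, ft3⟩ := L.rest_facts X S.D.l0 hl0 hM hrow hS true hEt (by simp [Fin.sum_univ_seven]) D hD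
      obtain ⟨xf, -, ff1, ff3⟩ := L.rest_facts X S.D.l0 hl0 hM hrow hS false hEf (by simp [Fin.sum_univ_seven]) D hD
      simp [Fin.sum_univ_seven, Lattice.row2, ← ha, ← hb', ← hb, ← hc, ← hc', hD5, hD6] at ft1 ft3 ff1 ff3
      have hxf : xf = xt := by linarith
      have FC : 1 / (a : ℚ) - Q ^ 2 / b' - (Q - 1) ^ 2 / (-xt : ℤ) = 0 := by
        rw [← ft3]; push_cast; rw [div_neg, hQm]; ring
      have Eg : -1 + (Q : ℚ) ^ 2 / b + 2 * m ^ 2 * (1 / (c : ℚ) + 1 / c') - 9 * (Q - 1) ^ 2 / (-xt : ℤ) =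
          -4 * (R : ℚ) ^ 2 * S.Kq := by
        rw [hxf] at ff3
        rw [show -4 * (R : ℚ) ^ 2 * S.Kq = -(4 * (R : ℚ) ^ 2 * S.Kq) by ring, ← ff3]
        push_cast; rw [div_neg, hQm]; ring
      obtain ⟨hQpos, hp3, hfo, hK, hx⟩ := Arith.standard hQ hm hbig S.D.hp hf (hne _ da) (hne _ db) (hne _ db')
        (hne _ dc) (hne _ dc') (neg_ne_zero.2 hxt) (by linarith) L0 L1 FC E0 E1 Eg
      have hδ : S.D.δ = -1 := by
        rcases S.D.hδ with e | e
        · exfalso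
          have h1 : Q = -1 * (S.D.q : ℤ) := by rw [← e]; simpa using S.D.qQ_eq
          omega
        · exact e
      refine ⟨hδ, hp3, hfo, ?_⟩
      -- the order
      have hQq : Q = (S.D.q : ℤ) := by rw [show Q = S.D.qQ from rfl, S.D.qQ_eq, hδ]; ring
      have hMm : m = S.D.m := by rw [show m = S.D.qM from rfl, S.D.qM_eq, hδ]; ring
      have hC : (Nat.card S.C : ℚ) = 8 * ((S.D.r : ℚ) * ((Q : ℚ) * m)) := by
        have h1 : (Nat.card S.C : ℤ) = 8 * ((S.D.r : ℤ) * (Q * m)) := by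
          rw [S.card_C, S.D.card_eq, LData.E, hQq, hMm]; push_cast [S.D.natAbs_m]; ring
        exact_mod_cast h1
      rw [hx, Base.Kq, hC] at hK
      have hG0 : (Nat.card G : ℚ) ≠ 0 := Nat.cast_ne_zero.2 Nat.card_pos.ne'
      have hr0 : (S.D.r : ℚ) ≠ 0 := Nat.cast_ne_zero.2 (by have := S.D.r3; omega)
      have hm0 : (m : ℚ) ≠ 0 := Int.cast_ne_zero.2 S.D.qM_ne
      have hr4 : 4 * (S.D.r : ℚ) = Q + 1 := by
        have h1 : 4 * (S.D.r : ℤ) = Q + 1 := by
          have := S.D.hq; rw [hδ] at this; rw [hQq]; linarith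
        exact_mod_cast h1
      have hG : ((Nat.card G : ℤ) : ℚ) = ((Q ^ 3 * (Q ^ 3 + 1) * (Q - 1) : ℤ) : ℚ) := by
        push_cast at hK ⊢
        field_simp at hK
        refine mul_left_cancel₀ (mul_ne_zero (mul_ne_zero (pow_ne_zero 2 hm0) hr0) (by norm_num : (16 : ℚ) ≠ 0)) ?_
        linear_combination (-(S.D.r : ℚ) * m ^ 2) * hK +
          (16 * (S.D.r : ℚ) * m ^ 2 * Q ^ 3 * (Q - 1) * (Q ^ 2 - Q + 1)) * hr4
      have hGZ : (Nat.card G : ℤ) = Q ^ 3 * (Q ^ 3 + 1) * (Q - 1) := by exact_mod_cast hG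
      rw [hQq] at hGZ
      have h1q : 1 ≤ S.D.q := by omega
      exact_mod_cast (show (Nat.card G : ℤ) = ((S.D.q ^ 3 * (S.D.q ^ 3 + 1) * (S.D.q - 1) : ℕ) : ℤ) by
        rw [hGZ]; push_cast [Nat.cast_sub h1q]; ring)
    · exfalso
      have hEt : ∀ k, s k * L.e S.D.l0 true (x k).1 = ![0, 0, 0, -1, 0, -1, 0] k := fun k => by
        rw [hB k]; exact (mul_assoc _ _ _).symm.trans (by rw [hS.2.1 k, one_mul])
      have hEf : ∀ k, s k * L.e S.D.l0 false (x k).1 = ![-1, 1, 1, 0, 1, 0, 1] k := fun k => by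
        rw [((hk k).2.2.2 S.D.l0 hl0), hEt]; fin_cases k <;> simp [Lattice.row2]
      obtain ⟨xf, -, ff1, ff3⟩ := L.rest_facts X S.D.l0 hl0 hM hrow hS false hEf (by simp [Fin.sum_univ_seven]) D hD
      simp [Fin.sum_univ_seven, Lattice.row2, ← ha, ← hb', ← hb, ← hc', hD6] at ff1 ff3
      have hxf : xf = 2 * c := by linarith
      have qc : (c : ℚ) ≠ 0 := Int.cast_ne_zero.2 (hne _ dc)
      have hK : S.Kq * (Q * c) = -8 * m ^ 2 := by
        rw [hxf] at ff3
        push_cast at ff3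
        have h16 : (16 : ℚ) * m ^ 2 / c = -2 * Q * S.Kq := by
          have e1 : (Q : ℚ) = 4 * R - 1 := by exact_mod_cast hQ
          have e2 : (m : ℚ) = 2 * R - 1 := by exact_mod_cast hm
          rw [hQm] at E0 E1
          linear_combination ff3 + E0 - 2 * E1 + 2 * S.Kq * e1 + 2 * R * S.Kq * e2
        field_simp at h16
        linear_combination (1 / 2 : ℚ) * h16
      have hdvd : ∀ (d rv e : ℤ), (∃ z : ℤ, (z : ℚ) * d * S.Kq = 8 * Q * m * rv) → e * m = Q * rv →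
          d ∣ Q * c * e := by
        intro d rv e ⟨z, hz⟩ he
        refine ⟨-z, ?_⟩
        have h1 : ((Q * c * e : ℤ) : ℚ) = ((d * -z : ℤ) : ℚ) := by
          have he' : (e : ℚ) * m = Q * rv := by exact_mod_cast he
          have hm0 : (m : ℚ) ≠ 0 := Int.cast_ne_zero.2 S.D.qM_ne
          push_cast
          refine mul_left_cancel₀ (mul_ne_zero (by norm_num : (8 : ℚ) ≠ 0) (pow_ne_zero 2 hm0)) ?_
          linear_combination (8 * (m : ℚ) * Q * c) * he' - (Q : ℚ) * c * hz + (z : ℚ) * d * hK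
        exact_mod_cast h1
      have hQ2 : ∀ d : ℤ, (∃ z : ℤ, (z : ℚ) * d * S.Kq = 8 * Q * m * m) → d ∣ Q ^ 2 * c := fun d h => by
        rw [show Q ^ 2 * c = Q * c * Q by ring]; exact hdvd d m Q h rfl
      have odd_of : ∀ {d rv : ℤ}, 2 ∣ d - rv → Odd rv → Odd d := fun h1 h2 => by
        obtain ⟨k, hk⟩ := h2; obtain ⟨i, hi⟩ := h1; exact ⟨k + i, by linarith⟩
      have hodd : Odd m := ⟨R - 1, by rw [hm]; ring⟩
      simp at oa ob ob' oc' pa pc pc'
      have oQb : ∀ d : ℤ, (∃ z : ℤ, (z : ℚ) * d * S.Kq = 8 * Q * m * (1 + 2 * m)) → d ∣ Q ^ 3 * c := fun d ⟨z, hz⟩ => by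
        obtain ⟨k, hk⟩ : d * m ∣ Q ^ 3 * c * 1 := by
          refine ⟨-z, ?_⟩
          have h1 : ((Q ^ 3 * c * 1 : ℤ) : ℚ) = ((d * m * -z : ℤ) : ℚ) := by
            have hm0 : (m : ℚ) ≠ 0 := Int.cast_ne_zero.2 S.D.qM_ne
            push_cast
            refine mul_left_cancel₀ (mul_ne_zero (by norm_num : (8 : ℚ) ≠ 0) hm0) ?_
            linear_combination -(Q : ℚ) * c * hz + (z : ℚ) * d * hK + 8 * (Q : ℚ) ^ 2 * c * (m : ℚ) * hQm
          exact_mod_cast h1
        exact ⟨m * k, by linarith⟩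
      have oaa : a ∣ Q ^ 2 * c := by
        obtain ⟨z, hz⟩ := oa
        obtain ⟨k, hk⟩ : a * m ∣ Q ^ 2 * c := by
          refine ⟨-z, ?_⟩
          have h1 : ((Q ^ 2 * c : ℤ) : ℚ) = ((a * m * -z : ℤ) : ℚ) := by
            have hm0 : (m : ℚ) ≠ 0 := Int.cast_ne_zero.2 S.D.qM_ne
            push_cast
            refine mul_left_cancel₀ (mul_ne_zero (by norm_num : (8 : ℚ) ≠ 0) hm0) ?_
            linear_combination -(Q : ℚ) * c * hz + (z : ℚ) * a * hK
          exact_mod_cast h1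
        exact ⟨m * k, by linarith⟩
      exact Arith.no_T2b S.D.qR_odd hQ hm hbig S.D.hp hf da dc' (hne _ db) (hne _ db') (odd_of pa odd_one)
        (odd_of pc hodd) (odd_of pc' hodd) (by linarith) (by linarith) hK E0 E1 oaa (hQ2 _ oc') (oQb _ ob)
        (oQb _ ob')
  · exfalso
    obtain ⟨x, s, hS, h1, h5, s1, s5⟩ := hT
    have hrow : ∀ k, ∃ j, Lattice.row3 k j ≠ 0 := by
      intro k; fin_cases k <;> first | exact ⟨0, by decide⟩ | exact ⟨1, by decide⟩ | exact ⟨2, by decide⟩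
    obtain ⟨D, hD, hk, hlin, hE0, hE1⟩ := L.shape_facts X hna hM hrow hS
    have hD1 : D 1 = D 0 := by
      rw [hD, hD, s1, ← h1]; congr 1; exact congrArg Nat.cast (Base.gal_deg _ _)
    have hD5 : D 5 = D 4 := by
      rw [hD, hD, s5, ← h5]; congr 1; exact congrArg Nat.cast (Base.gal_deg _ _)
    set p := D 0 with hp
    set b := D 2 with hb
    set h := D 3 with hh
    set c := D 4 with hc
    obtain ⟨dp, -, op, -⟩ := hk 0
    obtain ⟨dh, -, -, -⟩ := hk 3
    obtain ⟨dc, -, -, -⟩ := hk 4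
    simp only [← hp, ← hh, ← hc] at dp op dh dc
    have hne : ∀ z : ℤ, 2 ≤ |z| → z ≠ 0 := fun z h e => by rw [e] at h; norm_num at h
    have L0 : b = -1 - 2 * p := by
      have := hlin 0
      simp [Fin.sum_univ_six, Lattice.row3, ← hp, ← hb, hD1] at this
      linarith
    have L1 : h = 1 + p - c := by
      have := hlin 1
      simp [Fin.sum_univ_six, Lattice.row3, ← hp, ← hb, ← hh, ← hc] at this
      linarith
    have hmR : (m : ℚ) = 2 * R - 1 := by exact_mod_cast hm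
    have hQR : (Q : ℚ) = 4 * R - 1 := by exact_mod_cast hQ
    have E0 : 1 + 8 * (R : ℚ) ^ 2 / (p : ℚ) + Q ^ 2 / (b : ℚ) = 2 * m * R * S.Kq := by
      rw [← hE0]
      simp [Fin.sum_univ_six, Lattice.row3, ← hp, ← hb, hD1, hQR, show (S.D.qM : ℚ) = 2 * R - 1 from hmR]
      ring
    have E1 : 4 * (R : ℚ) ^ 2 / (p : ℚ) + Q ^ 2 / (b : ℚ) + 4 * m ^ 2 / (h : ℚ) + m ^ 2 / (c : ℚ) =
        (3 * R - 1) * S.Kq := by
      rw [← hE1]
      simp [Fin.sum_univ_six, Lattice.row3, ← hp, ← hb, ← hh, ← hc, hQR, show (S.D.qM : ℚ) = 2 * R - 1 from hmR]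
      rw [hmR]
      ring
    -- the second sub-case is impossible
    have hB : ∀ l : S.D.Y →* ℂˣ, l ≠ 1 →
        ¬ ∀ k, L.e l true (x k).1 = s k * ![0, 0, 0, 0, -1, -1] k := by
      intro l hl hB
      have hEt : ∀ k, s k * L.e l true (x k).1 = ![0, 0, 0, 0, -1, -1] k := fun k => by
        rw [hB k]; exact (mul_assoc _ _ _).symm.trans (by rw [hS.2.1 k, one_mul])
      have hEf : ∀ k, s k * L.e l false (x k).1 = ![0, 0, 1, 2, 0, 0] k := fun k => by
        rw [((hk k).2.2.2 l hl), hEt]; fin_cases k <;> simp [Lattice.row3]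
      obtain ⟨xf, -, ff1, ff3⟩ := L.rest_facts X l hl hM hrow hS false hEf (by simp [Fin.sum_univ_six]) D hD
      simp [Fin.sum_univ_six, Lattice.row3, ← hb, ← hh] at ff1 ff3
      have hxf : xf = 2 * c := by linarith
      have qc : (c : ℚ) ≠ 0 := Int.cast_ne_zero.2 (hne _ dc)
      have hK : S.Kq * (Q * c) = -8 * m ^ 2 := by
        rw [hxf] at ff3
        push_cast at ff3
        have h16 : (16 : ℚ) * m ^ 2 / c = -2 * Q * S.Kq := by
          rw [hQR, hmR] at *
          linear_combination ff3 + E0 - 2 * E1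
        field_simp at h16
        linear_combination (1 / 2 : ℚ) * h16
      exact Arith.no_T3b hQ hm hbig dp (hne _ dc) (hne _ dh) L0 L1 hK E0 E1
    have hA : ∀ l : S.D.Y →* ℂˣ, l ≠ 1 → ∀ k, L.e l true (x k).1 = s k * ![0, 0, 0, -1, 0, 0] k := by
      intro l hl
      obtain ⟨he, hn, hw⟩ := hsys l hl
      rcases (S.sys X).coord3 (fun χ => L.e l true χ.1) hS h1 h5 s1 s5 he hn hw with e | e
      · exact e
      · exact absurd e (hB l hl)
    have hcong : ∀ k, R ∣ D k -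
        (Lattice.row3 k 0 - Lattice.row3 k 1 - Lattice.row3 k 2 - 4 * ![0, 0, 0, -1, 0, 0] k) := by
      intro k
      obtain ⟨hinj, hs, hw, hout⟩ := hS
      obtain ⟨j, hj⟩ := hrow k
      have hw' : ∀ j, S.w X j (x k).1 = s k * Lattice.row3 k j := fun j => hw k j
      have hne' : ∃ j, S.w X j (x k).1 ≠ 0 :=
        ⟨j, by rw [hw']; exact mul_ne_zero (fun e => by have := hs k; rw [e] at this; norm_num at this) hj⟩
      obtain ⟨i, hi⟩ := S.v_of_w X hne'
      have hφ : ∀ y ∈ S.D.Y, y ≠ 1 → ((x k).1 : G → ℂ) (S.t * S.ι y) =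
          ((s k * (Lattice.row3 k 0 - Lattice.row3 k 1 - Lattice.row3 k 2) : ℤ) : ℂ) := fun y hy hy1 => by
        rw [S.value_Y X hM (S.mem_of_v X hM hi) hy hy1, (S.value_w X hM hne').2, hw', hw', hw']
        congr 1; ring
      have h := L.deg_mod hφ (E := s k * ![0, 0, 0, -1, 0, 0] k) fun l hl => hA l hl k
      have habs : R ∣ (S.D.r : ℤ) := by
        rw [← S.D.qR_abs]; exact (dvd_abs _ _).2 dvd_rfl
      obtain ⟨z, hz⟩ := habs.trans h
      refine ⟨s k * z, ?_⟩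
      rw [hD, Base.dg]
      linear_combination (s k) * hz +
        (Lattice.row3 k 0 - Lattice.row3 k 1 - Lattice.row3 k 2 - 4 * ![0, 0, 0, -1, 0, 0] k) * hs k
    have c0 := hcong 0
    have c3 := hcong 3
    have c4 := hcong 4
    simp [Lattice.row3, ← hp, ← hh, ← hc] at c0 c3 c4
    obtain ⟨z, hz⟩ := op
    simp [Lattice.row3] at hz
    refine Arith.no_T3a S.D.qR_odd hQ hm hbig (hne _ dp) (hne _ dh) (hne _ dc) c0 c3 c4 L0 ?_ E0 E1 (z := z)
    rw [hz]
    have e : (S.D.qM : ℚ) = 2 * R - 1 := hmR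
    rw [e]; ring

end Locals

end Cfsg.Agent.Invol.JankoWard
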