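import Cfsg.Agent.Lib.Invol.JankoWard.LocalEven

/-!
# The fusion of `⟨t, u⟩ × Y`

From a base in a simple group with elementary abelian Sylow 2-subgroups of order eight: the data `Locals`, and
three does not divide `r`.
-/

set_option autoImplicit false
set_option linter.unusedSectionVars false
set_option linter.style.haveILetI false

namespace Cfsg.Agent.Invol.JankoWard

open Subgroup

universe u v

namespace Cyc

variable {G : Type u} [Group G] [Finite G] {P : Type v} [Group P] [Finite P] {S : Base G P} (C : Cyc S)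
include C

/-- The element of order three acts freely. -/
theorem g_free (A : Amb G) {y : P} (hy : y ∈ S.D.Y) (hg : C.g * S.ι y * C.g⁻¹ = S.ι y) : y = 1 := by
  by_contra hy1
  by_cases hodd : Odd (Nat.card ↥(centralizer ({C.d} : Set P)))
  · obtain ⟨l, hl, hdvd⟩ := Nat.exists_prime_and_dvd (show orderOf y ≠ 1 from fun h => hy1 (orderOf_eq_one_iff.1 h))
    refine C.not_fix_odd A hodd hl (t0 := y ^ (orderOf y / l)) (pow_mem hy _) ?_ ?_
    · exact orderOf_pow_orderOf_div (orderOf_pos y).ne' hdvd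
    · rw [map_pow]
      exact ((show Commute C.g (S.ι y) from mul_inv_eq_iff_eq_mul.1 hg).pow_right _).eq
  · exact C.not_even A hodd

theorem cent_gen {y : P} (hy : y ∈ S.D.Y) (hy1 : y ≠ 1) {v : G} (hv : v ∈ S.V4) (hv1 : v ≠ 1) {x : G}
    (hxv : x * v = v * x) (hxy : x * S.ι y = S.ι y * x) : ∃ z ∈ S.YG, ∃ w ∈ S.V4, x = w * z := by
  -- conjugation by `g⁻¹`
  have hcomm : ∀ {a b : G}, a * b = b * a →
      (C.g⁻¹ * a * C.g) * (C.g⁻¹ * b * C.g) = (C.g⁻¹ * b * C.g) * (C.g⁻¹ * a * C.g) := by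
    intro a b h
    calc _ = C.g⁻¹ * (a * b) * C.g := by group
      _ = _ := by rw [h]; group
  have hlift : ∀ x' : G, (∃ z ∈ S.YG, ∃ w ∈ S.V4, C.g⁻¹ * x' * C.g = w * z) →
      ∃ z ∈ S.YG, ∃ w ∈ S.V4, x' = w * z := by
    rintro x' ⟨z, hz, w, hw, e⟩
    refine ⟨_, C.g_YG hz, _, C.gV hw, ?_⟩
    rw [conj_mul, ← e]; group
  have hy' : ∀ y : P, y ∈ S.D.Y → y ≠ 1 → ∃ y' ∈ S.D.Y, y' ≠ 1 ∧ C.g⁻¹ * S.ι y * C.g = S.ι y' := by
    intro y hy hy1
    obtain ⟨y', hy', e⟩ := C.g_inv_YG (S.mem_YG hy)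
    refine ⟨y', hy', fun h => hy1 (S.inj ?_), e.symm⟩
    rw [h, map_one] at e
    rw [map_one]
    exact conj_eq_one_iff.1 (show C.g⁻¹ * S.ι y * C.g⁻¹⁻¹ = 1 by rw [inv_inv]; exact e.symm)
  have hU : ∀ (y : P), y ∈ S.D.Y → y ≠ 1 → ∀ x : G, x * S.ι S.D.u = S.ι S.D.u * x → x * S.ι y = S.ι y * x →
      ∃ z ∈ S.YG, ∃ w ∈ S.V4, x = w * z := by
    intro y hy hy1 x h1 h2
    obtain ⟨y', hy'', hy1', e⟩ := hy' y hy hy1
    refine hlift x (S.cent_t_y hy'' hy1' ?_ ?_)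
    · rw [← C.g_inv_t]; exact hcomm h1
    · rw [← e]; exact hcomm h2
  rcases hv with rfl | rfl | rfl | rfl
  · exact absurd rfl hv1
  · exact S.cent_t_y hy hy1 hxv hxy
  · exact hU y hy hy1 x hxv hxy
  · obtain ⟨y', hy'', hy1', e⟩ := hy' y hy hy1
    refine hlift x (hU y' hy'' hy1' _ ?_ ?_)
    · rw [← C.g_inv_tu]; exact hcomm hxv
    · rw [← e]; exact hcomm hxy

/-- The centraliser of a nontrivial element of `Y`. -/
theorem cent_y (A : Amb G) {y : P} (hy : y ∈ S.D.Y) (hy1 : y ≠ 1) {x : G} (hxy : x * S.ι y = S.ι y * x) :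
    ∃ z ∈ S.YG, ∃ w ∈ S.V4, x = w * z := by
  classical
  haveI : Fact (Nat.Prime 2) := ⟨Nat.prime_two⟩
  haveI hVK := S.V4_klein
  haveI : IsMulCommutative ↥S.V4 := IsKleinFour.isMulCommutative (G := ↥S.V4)
  set X := centralizer ({S.ι y} : Set G) with hX
  set V := S.V4.subgroupOf X with hV
  have hVle := S.V_le_cent hy
  have hmemX : ∀ a : ↥X, (a : G) * S.ι y = S.ι y * a := fun a => mem_centralizer_singleton_iff.1 a.2
  have hYpow : ∀ z ∈ S.YG, z ^ S.D.r = 1 := by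
    rintro _ ⟨y, hy, rfl⟩
    rw [← map_pow, S.D.Y_pow hy, map_one]
  have hVp : IsPGroup 2 V := IsPGroup.of_card (n := 2) (by
    rw [hV, Nat.card_congr (subgroupOfEquivOfLe hVle).toEquiv, IsKleinFour.card_four]; norm_num)
  obtain ⟨R, hR⟩ := hVp.exists_le_sylow
  have hRsq : ∀ a ∈ (R : Subgroup ↥X), (a : G) * a = 1 := fun a ha => by
    obtain ⟨k, hk⟩ := R.isPGroup' ⟨a, ha⟩
    exact A.sq2 _ ⟨k, congrArg Subtype.val (congrArg Subtype.val hk)⟩
  have htX : S.t ∈ X := hVle S.t_mem_V4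
  have hRV : (R : Subgroup ↥X) = V := by
    refine le_antisymm (fun a ha => ?_) hR
    have ht : (⟨S.t, htX⟩ : ↥X) ∈ (R : Subgroup ↥X) := hR S.t_mem_V4
    have h1 : (a : G) * S.t * ((a : G) * S.t) = 1 := hRsq _ (mul_mem ha ht)
    have hat : (a : G) * S.t = S.t * a := by
      rw [← inv_eq_of_mul_eq_one_left h1, mul_inv_rev, inv_eq_of_mul_eq_one_left S.tt,
        inv_eq_of_mul_eq_one_left (hRsq a ha)]
    obtain ⟨z, hz, w, hw, e⟩ := C.cent_gen hy hy1 S.t_mem_V4 S.t1 hat (hmemX a)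
    have hz1 : z = 1 := by
      refine eq_one_of_two_odd ⟨1, ?_⟩ S.D.r_odd (hYpow z hz)
      have h2 := hRsq a ha
      rw [e, (show Commute w z from S.comm_V4_Y hw hz).symm.mul_mul_mul_comm, four_sq hVK hw, one_mul] at h2
      rw [pow_one, pow_two, h2]
    show (a : G) ∈ S.V4
    rw [e, hz1, mul_one]
    exact hw
  -- the normaliser of `V` centralises it
  have htwo : ∀ e : G, (∃ k, e ^ 2 ^ k = 1) → (∀ v ∈ S.V4, e * v * e⁻¹ ∈ S.V4) → ∀ v ∈ S.V4, e * v * e⁻¹ = v := by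
    intro e he hev v hv
    have he2 := A.sq2 e he
    have hei : e⁻¹ = e := inv_eq_of_mul_eq_one_left he2
    have h2 : (v * e) ^ 2 = v * (e * v * e⁻¹) := by rw [pow_two, hei]; group
    have h4 : (v * e) ^ 2 ^ 2 = 1 := by
      rw [show (2 : ℕ) ^ 2 = 2 * 2 by norm_num, pow_mul, h2, pow_two]
      exact four_sq hVK (mul_mem hv (hev v hv))
    have h3 := A.sq2 _ ⟨2, h4⟩
    rw [← pow_two, h2] at h3
    exact (eq_inv_of_mul_eq_one_right h3).trans (inv_eq_of_mul_eq_one_left (four_sq hVK hv))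
  have hNc : ∀ b ∈ normalizer ((R : Subgroup ↥X) : Set ↥X), ∀ a ∈ (R : Subgroup ↥X), b * a * b⁻¹ = a := by
    intro b hb a ha
    rw [hRV] at hb ha
    have hbV : ∀ v ∈ S.V4, (b : G) * v * (b : G)⁻¹ ∈ S.V4 := fun v hv =>
      (mem_normalizer_iff.1 hb ⟨v, hVle hv⟩).1 hv
    obtain ⟨i, hi, hfix⟩ := norm_action S.V4_klein C.g3 (fun v hv => C.gV hv) (fun v hv => C.gmove hv) htwo hbV
    set m := (C.g ^ i)⁻¹ * (b : G) with hm
    have hmv : ∀ v ∈ S.V4, m * v = v * m := fun v hv => mul_inv_eq_iff_eq_mul.1 (hfix v hv)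
    have hi0 : C.g ^ i = 1 := by
      obtain ⟨k, hk⟩ := S.cover m (hmv _ S.t_mem_V4)
      have hku : k * S.D.u = S.D.u * k := by
        refine S.inj ?_
        rw [map_mul, map_mul]
        have := hmv _ S.u_mem_V4
        rcases hk with e | e <;> rw [e] at this
        · exact this
        · rw [mul_assoc, ← mul_assoc (S.ι S.D.u) S.t, S.tc, mul_assoc] at this
          exact mul_left_cancel this
      have hmy : m * S.ι y * m⁻¹ = S.ι y ∨ m * S.ι y * m⁻¹ = (S.ι y)⁻¹ := by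
        have h0 : k * y * k⁻¹ = y ∨ k * y * k⁻¹ = y⁻¹ := by
          obtain ⟨y', hy', hk'⟩ := S.D.cent_u k hku
          have h0 : y' * y * y'⁻¹ = y := by rw [S.D.Y_mul_comm hy' hy, mul_inv_cancel_right]
          have h1 : S.D.u * y * S.D.u⁻¹ = y := by rw [S.D.u_Y _ hy, mul_inv_cancel_right]
          rcases hk' with rfl | rfl | rfl | rfl
          · exact Or.inl h0
          · left; rw [show S.D.u * y' * y * (S.D.u * y')⁻¹ = S.D.u * (y' * y * y'⁻¹) * S.D.u⁻¹ by group, h0, h1]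
          · right
            rw [show S.D.w * y' * y * (S.D.w * y')⁻¹ = S.D.w * (y' * y * y'⁻¹) * S.D.w⁻¹ by group, h0, S.D.w_Y _ hy]
          · right
            rw [show S.D.u * S.D.w * y' * y * (S.D.u * S.D.w * y')⁻¹ =
              S.D.u * (S.D.w * (y' * y * y'⁻¹) * S.D.w⁻¹) * S.D.u⁻¹ by group, h0, S.D.w_Y _ hy]
            calc S.D.u * y⁻¹ * S.D.u⁻¹ = (S.D.u * y * S.D.u⁻¹)⁻¹ := by group
              _ = y⁻¹ := by rw [h1]
        have hmk : m * S.ι y * m⁻¹ = S.ι (k * y * k⁻¹) := by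
          rcases hk with e | e <;> rw [e]
          · rw [map_mul, map_mul, map_inv]
          · rw [map_mul, map_mul, map_inv, show S.t * S.ι k * S.ι y * (S.t * S.ι k)⁻¹ =
              S.t * (S.ι k * S.ι y * (S.ι k)⁻¹) * S.t⁻¹ by group, ← map_inv, ← map_mul, ← map_mul, ← S.tc,
              mul_inv_cancel_right]
        rw [hmk]
        rcases h0 with e | e <;> rw [e]
        · exact Or.inl rfl
        · exact Or.inr (map_inv _ _)
      have hbm : (b : G) = C.g ^ i * m := by rw [hm, mul_inv_cancel_left]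
      have hby : C.g ^ i * (m * S.ι y * m⁻¹) * (C.g ^ i)⁻¹ = S.ι y := by
        rw [show C.g ^ i * (m * S.ι y * m⁻¹) * (C.g ^ i)⁻¹ = C.g ^ i * m * S.ι y * (C.g ^ i * m)⁻¹ by group, ← hbm,
          hmemX b, mul_inv_cancel_right]
      have hpl : C.g ^ i * S.ι y * (C.g ^ i)⁻¹ = S.ι y := by
        rcases hmy with e | e <;> rw [e] at hby
        · exact hby
        · exfalso
          have h1 : C.g ^ i * S.ι y * (C.g ^ i)⁻¹ = (S.ι y)⁻¹ := by
            rw [← inv_inj, inv_inv]; refine Eq.trans ?_ hby; group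
          have h3 : (C.g ^ i) ^ 3 = 1 := by rw [← pow_mul, mul_comm, pow_mul, C.g3, one_pow]
          have h4 : C.g ^ i * (C.g ^ i * (C.g ^ i * S.ι y * (C.g ^ i)⁻¹) * (C.g ^ i)⁻¹) * (C.g ^ i)⁻¹ = S.ι y := by
            rw [show C.g ^ i * (C.g ^ i * (C.g ^ i * S.ι y * (C.g ^ i)⁻¹) * (C.g ^ i)⁻¹) * (C.g ^ i)⁻¹ =
              (C.g ^ i) ^ 3 * S.ι y * ((C.g ^ i) ^ 3)⁻¹ by simp [pow_succ, mul_assoc], h3]
            group
          rw [h1, hby, h1] at h4
          exact hy1 (S.D.Y_self_inv hy (S.inj ((map_inv _ _).trans h4)))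
      by_contra hne
      refine hy1 (C.g_free A hy ?_)
      rcases (show i = 0 ∨ i = 1 ∨ i = 2 by omega) with rfl | rfl | rfl
      · exact absurd (pow_zero _) hne
      · simpa using hpl
      · have hc : Commute (C.g ^ 2) (S.ι y) := mul_inv_eq_iff_eq_mul.1 hpl
        have h4 : C.g = (C.g ^ 2) ^ 2 := by rw [← pow_mul, pow_succ, C.g3, one_mul]
        rw [h4, (hc.pow_left 2).eq, mul_inv_cancel_right]
    refine Subtype.ext ?_
    have := hmv a ha
    rw [hm, hi0, inv_one, one_mul] at this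
    show (b : G) * a * (b : G)⁻¹ = a
    rw [this, mul_inv_cancel_right]
  haveI hRc : IsMulCommutative ↥(R : Subgroup ↥X) := ⟨⟨fun a b => by
    have := hNc a (le_normalizer a.2) b b.2
    exact Subtype.ext (mul_inv_eq_iff_eq_mul.1 this)⟩⟩
  obtain ⟨R', N, hNn, hcompl⟩ :=
    Transfer.hasNormalPComplement_of_prime_elements R hRc fun q _ _ b hb _ a ha => hNc b hb a ha
  haveI := hNn
  have hNodd : Odd (Nat.card ↥N) := by
    refine Nat.odd_iff.2 (Nat.two_dvd_ne_zero.1 fun h => R'.not_dvd_index ?_)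
    rwa [hcompl.index_eq_card]
  -- the complement lies in the image of `Y`
  have hNY : ∀ a ∈ N, (a : G) ∈ S.YG := by
    haveI : IsMulCommutative ↥V := ⟨⟨fun a b => Subtype.ext (Subtype.ext
      (congrArg Subtype.val (mul_comm' (⟨((a : ↥X) : G), a.2⟩ : ↥S.V4) ⟨((b : ↥X) : G), b.2⟩) :))⟩⟩
    have hVK' : IsKleinFour ↥V := by
      have e := subgroupOfEquivOfLe hVle
      exact ⟨by rw [hV, Nat.card_congr e.toEquiv, IsKleinFour.card_four],
        by rw [hV, Monoid.exponent_eq_of_mulEquiv e]; exact IsKleinFour.exponent_two⟩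
    have hgen := Grp.generated_by_centralizers V N IsKleinFour.not_isCyclic
      (by rw [normalizer_eq_top]; exact le_top)
      (by rw [IsKleinFour.card_four, show (4 : ℕ) = 2 ^ 2 by norm_num]
          exact (Nat.coprime_two_left.2 hNodd).pow_left 2)
    suffices N ≤ S.YG.subgroupOf X from fun a ha => this ha
    rw [← hgen]
    refine iSup₂_le fun v hv a ha => ?_
    obtain ⟨z, hz, w, hw, e⟩ := C.cent_gen hy hy1 hv.1 (fun h => hv.2 (Subtype.ext h))
      (congrArg Subtype.val (mem_centralizer_singleton_iff.1 ha.2)) (hmemX a)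
    have hpow : (a : G) ^ Nat.card ↥N = 1 := congrArg Subtype.val
      (congrArg Subtype.val (pow_card_eq_one' (x := (⟨a, ha.1⟩ : ↥N))))
    rw [e, (show Commute w z from S.comm_V4_Y hw hz).mul_pow] at hpow
    have h1 : w ^ Nat.card ↥N = 1 := by
      refine eq_one_of_two_odd ⟨1, by rw [pow_one, pow_two, four_sq hVK (pow_mem hw _)]⟩ S.D.r_odd
        (hYpow _ ?_)
      rw [eq_inv_of_mul_eq_one_left hpow]
      exact inv_mem (pow_mem hz _)
    have hw1 : w = 1 := eq_one_of_two_odd ⟨1, by rw [pow_one, pow_two, four_sq hVK hw]⟩ hNodd h1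
    show (a : G) ∈ S.YG
    rw [e, hw1, one_mul]
    exact hz
  -- the quotient is the image of the Sylow subgroup
  obtain ⟨b, hb⟩ := MulAction.exists_smul_eq ↥X R' R
  obtain ⟨⟨⟨n, hn⟩, ⟨e, he⟩⟩, hne⟩ := (hcompl).2 (b⁻¹ * ⟨x, mem_centralizer_singleton_iff.2 hxy⟩ * b)
  have heR : b * e * b⁻¹ ∈ V := hRV ▸ hb ▸ ⟨e, he, rfl⟩
  have hnY : b * n * b⁻¹ ∈ S.YG.subgroupOf X := hNY _ (hNn.conj_mem n hn b)
  refine ⟨_, hnY, _, heR, ?_⟩
  have hne' : n * e = b⁻¹ * ⟨x, mem_centralizer_singleton_iff.2 hxy⟩ * b := hne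
  rw [S.comm_V4_Y heR hnY]
  have h5 : (⟨x, mem_centralizer_singleton_iff.2 hxy⟩ : ↥X) = b * n * b⁻¹ * (b * e * b⁻¹) := by
    rw [conj_mul, hne']; group
  exact congrArg Subtype.val h5

end Cyc

namespace Base

variable {G : Type u} [Group G] [Finite G] [IsSimpleGroup G] {P : Type v} [Group P] [Finite P] (S : Base G P)

/-- The fusion data. -/
theorem exists_locals (A : Amb G) : Nonempty (Locals S) := by
  obtain ⟨C⟩ := exists_cyc S A
  obtain ⟨T, hT⟩ := S.exists_sylow A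
  refine ⟨⟨C.g, C.g3, C.gt, C.gu, fun y hy => C.gY hy, (S.fusion A T hT).1, fun y hy h => C.g_free A hy h,
    fun y hy hy1 x hx => ?_⟩⟩
  obtain ⟨_, ⟨y', hy', rfl⟩, w, hw, rfl⟩ := C.cent_y A hy hy1 hx
  refine ⟨y', hy', ?_⟩
  rcases hw with rfl | rfl | rfl | rfl
  · exact Or.inl (one_mul _)
  · exact Or.inr (Or.inl rfl)
  · exact Or.inr (Or.inr (Or.inl rfl))
  · exact Or.inr (Or.inr (Or.inr rfl))

/-- Three does not divide `r`. -/
theorem three_not_dvd_r (A : Amb G) : ¬ 3 ∣ S.D.r := by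
  intro h
  obtain ⟨L⟩ := S.exists_locals A
  haveI : Fact (Nat.Prime 3) := ⟨Nat.prime_three⟩
  haveI := S.D.Y_cyclic
  obtain ⟨⟨y, hy⟩, ho⟩ := exists_prime_orderOf_dvd_card' (G := ↥S.D.Y) 3 (by rwa [S.D.card_Y])
  rw [orderOf_mk] at ho
  obtain ⟨y', hy', e⟩ := L.gY y hy
  have hy'3 : y' ^ 3 = 1 := by
    refine S.inj ?_
    rw [map_pow, ← e, conj_pow, ← map_pow, ← ho, pow_orderOf_eq_one, map_one, mul_one, mul_inv_cancel]
  have hle : zpowers y ≤ S.D.Y := zpowers_le.2 hy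
  have hy'z : y' ∈ zpowers y := by
    by_cases h1 : y' = 1
    · rw [h1]; exact one_mem _
    · have hc : Nat.card ↥((zpowers y').subgroupOf S.D.Y) = Nat.card ↥((zpowers y).subgroupOf S.D.Y) := by
        rw [Nat.card_congr (subgroupOfEquivOfLe (zpowers_le.2 hy')).toEquiv,
          Nat.card_congr (subgroupOfEquivOfLe hle).toEquiv, Nat.card_zpowers, Nat.card_zpowers, ho,
          orderOf_eq_prime hy'3 h1]
      exact Grp.AbelianConjQuotient.le_of_card_dvd _ _ hc.dvd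
        (x := (⟨y', hy'⟩ : ↥S.D.Y)) (mem_zpowers y')
  obtain ⟨i, hi⟩ := mem_zpowers_iff.1 hy'z
  have hy1 : y ≠ 1 := fun e1 => by rw [e1, orderOf_one] at ho; omega
  have hy3 : S.ι y ^ 3 = 1 := by rw [← map_pow, ← ho, pow_orderOf_eq_one, map_one]
  rw [← zpow_mod_orderOf, ho] at hi
  rcases (show i % (3 : ℕ) = 0 ∨ i % (3 : ℕ) = 1 ∨ i % (3 : ℕ) = 2 by omega) with e0 | e0 | e0 <;>
    rw [e0] at hi <;> subst hi
  · rw [zpow_zero, map_one] at e
    exact hy1 (S.inj ((conj_eq_one_iff.1 e).trans (map_one _).symm))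
  · rw [zpow_one] at e
    exact hy1 (L.g_free y hy e)
  · rw [zpow_ofNat, map_pow] at e
    have h2 : L.g * (L.g * (L.g * S.ι y * L.g⁻¹) * L.g⁻¹) * L.g⁻¹ = S.ι y := by
      rw [show L.g * (L.g * (L.g * S.ι y * L.g⁻¹) * L.g⁻¹) * L.g⁻¹ = L.g ^ 3 * S.ι y * (L.g ^ 3)⁻¹ by
        simp [pow_succ, mul_assoc], L.g3]
      group
    rw [e, ← conj_pow, e, ← pow_mul, ← conj_pow, e, ← pow_mul, pow_eq_pow_mod _ hy3] at h2
    have h3 : S.ι y = 1 := mul_eq_left.1 ((pow_two (S.ι y)).symm.trans h2)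
    exact hy1 (S.inj (h3.trans (map_one _).symm))

end Base

end Cfsg.Agent.Invol.JankoWard
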