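import Cfsg.Agent.Lib.Invol.JankoWard.Defs
import Cfsg.Agent.Lib.Invol.JankoWard.Core
import Cfsg.Agent.Lib.Invol.JankoWard.Local
import Cfsg.Agent.Lib.Invol.JankoWard.LCharsPSL
import Cfsg.Agent.Lib.Block.Covering

/-!
# The theorem of Janko–Thompson and Ward, given the second factor

`ward_of_ext`: `WardHub` follows once the second factor of every involution centraliser is known to be `L2(q)` with
`q ≡ 3, 5` mod 8.
-/

set_option autoImplicit false
set_option linter.unusedSectionVars false
set_option linter.style.haveILetI false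

namespace Cfsg.Agent.Invol.JankoWard

open Subgroup
open scoped Classical Pointwise

universe u

/-- The centraliser of `t` is `⟨t⟩ × L2(q)` with `q ≡ 3, 5` mod 8. -/
def ExtShape {G : Type u} [Group G] (t : G) : Prop :=
  ∃ L : Subgroup G, Cfsg.IsInternalDirectProduct (zpowers t) L (centralizer ({t} : Set G)) ∧
    ∃ (F : Type) (_ : Field F) (_ : Fintype F), (Fintype.card F % 8 = 3 ∨ Fintype.card F % 8 = 5) ∧
      3 < Fintype.card F ∧ Nonempty (↥L ≃* Matrix.ProjectiveSpecialLinearGroup (Fin 2) F)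

/-- A base from an internal direct product. -/
theorem exists_base {G : Type u} [Group G] {P : Type} [Group P] (D : LData P) {t : G} (ht : orderOf t = 2)
    (hodd : Odd (centralizer ({t} : Set G)).index) {L : Subgroup G}
    (hL : Cfsg.IsInternalDirectProduct (zpowers t) L (centralizer ({t} : Set G))) (e : ↥L ≃* P) :
    ∃ S : Base G P, S.t = t ∧ S.D = D := by
  obtain ⟨-, hLC, hcomm, hinf, hsup⟩ := hL
  have htz : t ∈ zpowers t := mem_zpowers t
  have htc : ∀ k, ((e.symm k : ↥L) : G) * t = t * (e.symm k : ↥L) := fun k => (hcomm t htz _ (e.symm k).2).symm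
  refine ⟨⟨D, t, L.subtype.comp e.symm.toMonoidHom, Subtype.val_injective.comp e.symm.injective, ht, hodd, htc,
    fun c hc => ?_, fun k hk => ?_⟩, rfl, rfl⟩
  · have hcC : c ∈ zpowers t ⊔ L := hsup.symm ▸ mem_centralizer_singleton_iff.2 hc
    have hnorm : L ≤ normalizer ((zpowers t : Subgroup G) : Set G) := fun l hl => by
      rw [Subgroup.mem_normalizer_iff]
      intro n
      constructor
      · intro hn
        rw [← hcomm n hn l hl, mul_inv_cancel_right]
        exact hn
      · intro hn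
        have h1 := hcomm _ hn l hl
        have : n = l * n * l⁻¹ := by
          have h2 : l * n * l⁻¹ * l = l * (l * n * l⁻¹) := h1
          rw [inv_mul_cancel_right] at h2
          exact mul_left_cancel h2
        rw [this]; exact hn
    have hmem : c ∈ ((zpowers t : Subgroup G) : Set G) * (L : Set G) := by
      rw [← Subgroup.coe_mul_of_right_le_normalizer_left (zpowers t) L hnorm]
      exact hcC
    obtain ⟨a, ha, b, hb, rfl⟩ := Set.mem_mul.1 hmem
    refine ⟨e ⟨b, hb⟩, ?_⟩
    obtain ⟨i, rfl⟩ := mem_zpowers_iff.1 ha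
    have hsymm : ((L.subtype.comp e.symm.toMonoidHom) (e ⟨b, hb⟩) : G) = b := by simp
    rw [hsymm]
    rcases Int.even_or_odd i with ⟨j, rfl⟩ | ⟨j, rfl⟩
    · left
      rw [← two_mul, zpow_mul, show t ^ (2 : ℤ) = 1 by rw [zpow_two, ← pow_two, ← ht, pow_orderOf_eq_one],
        one_zpow, one_mul]
    · right
      rw [zpow_add, zpow_one, zpow_mul, show t ^ (2 : ℤ) = 1 by rw [zpow_two, ← pow_two, ← ht, pow_orderOf_eq_one],
        one_zpow, one_mul]
  · have : t ∈ zpowers t ⊓ L := ⟨htz, hk ▸ (e.symm k).2⟩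
    rw [hinf, mem_bot] at this
    rw [this, orderOf_one] at ht
    omega

/-- Every involution centraliser has odd index. -/
theorem odd_index {G : Type u} [Group G] [Finite G] (T : Sylow 2 G)
    (hel : ∀ x ∈ (T : Subgroup G), x * x = 1) {t : G} (ht : orderOf t = 2) :
    Odd (centralizer ({t} : Set G)).index := by
  haveI : Fact (Nat.Prime 2) := ⟨Nat.prime_two⟩
  obtain ⟨c, hc⟩ := Invol.exists_conj_mem_sylow (n := 1) (x := t) (by rw [ht, pow_one]) T
  have hab : ∀ a ∈ (T : Subgroup G), ∀ b ∈ (T : Subgroup G), a * b = b * a := fun a ha b hb => by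
    rw [← inv_eq_of_mul_eq_one_right (hel _ (mul_mem ha hb)), mul_inv_rev, inv_eq_of_mul_eq_one_right (hel _ ha),
      inv_eq_of_mul_eq_one_right (hel _ hb)]
  have hle : (T : Subgroup G) ≤ centralizer ({c * t * c⁻¹} : Set G) := fun x hx =>
    mem_centralizer_singleton_iff.2 (hab x hx _ hc)
  have heq : (centralizer ({t} : Set G)).index = (centralizer ({c * t * c⁻¹} : Set G)).index :=
    (Block.index_centralizer_conj c t).symm
  rw [heq]
  refine Nat.not_even_iff_odd.1 fun he => T.not_dvd_index ?_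
  exact (even_iff_two_dvd.1 he).trans (Subgroup.index_dvd_of_le hle)

/-- The theorem of Janko–Thompson and Ward, given the second factor. -/
theorem ward_of_ext
    (ext : ∀ (G : Type u) [Group G] [Finite G], IsSimpleGroup G → ¬ IsMulCommutative G →
      ∀ S : Sylow 2 G, Nat.card ↥(S : Subgroup G) = 8 → (∀ x ∈ (S : Subgroup G), x * x = 1) →
        (∀ t ∈ (S : Subgroup G), t ≠ 1 → AbelTwo.JRShape t) → ∀ t : G, orderOf t = 2 → ExtShape t) :
    WardHub.{u} := by
  intro G _ _ hs hna S h8 hel h t ht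
  obtain ⟨L, hL, F, i1, i2, hF8, hF3, ⟨e⟩⟩ := ext G hs hna S h8 hel h t ht
  have hodd := odd_index S hel ht
  refine ⟨hodd, L, hL, F, i1, i2, ⟨e⟩, ?_⟩
  by_cases h5 : Fintype.card F = 5
  · exact Or.inl h5
  refine Or.inr ?_
  have hgt : 5 < Fintype.card F := by omega
  haveI := hs
  haveI : Fintype G := Fintype.ofFinite G
  haveI : Fintype (Matrix.ProjectiveSpecialLinearGroup (Fin 2) F) := Fintype.ofFinite _
  obtain ⟨D, ⟨X⟩, hq⟩ := PSL.exists_lData_lChars F hF8 hgt
  obtain ⟨B, hBt, hBD⟩ := exists_base D ht hodd hL e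
  subst hBD
  obtain ⟨Loc⟩ := B.exists_locals (Amb.of_sylow hna S h8 hel)
  obtain ⟨-, hp3, ⟨n, hn⟩, hord⟩ := Loc.order X hna
  rw [B.D.hf, hp3, hn] at hq
  rw [B.D.hf, hp3, hn] at hord
  refine ⟨n, ?_, hq.symm, hord⟩
  rcases n with _ | n
  · norm_num at hq; omega
  · omega

end Cfsg.Agent.Invol.JankoWard
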