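import Cfsg.Agent.Lib.Invol.JankoWard.ExtQuot
import Cfsg.Agent.Lib.Invol.JankoWard.ExtSetup
import Cfsg.Agent.Lib.Invol.JankoWard.ExtLocalsEx
import Cfsg.Agent.Lib.Invol.JankoWard.CaseDBase
import Cfsg.Agent.Lib.Invol.JankoWard.Main

/-!
# The field part of the theorem of Janko–Thompson and Ward

`noField`: by induction on the order the second factor of an involution centraliser has no field part, given the
block configuration (`FieldBlock`) and the configuration with `f = e` squarefree (`FieldA`).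
`ext_of_noField` and `ward_of_cases` assemble `WardHub`.
-/

set_option autoImplicit false
set_option linter.unusedSectionVars false
set_option linter.style.haveILetI false

open scoped Classical Pointwise

namespace Cfsg.Agent.Invol.JankoWard

open Subgroup

universe u

local notation "PS2" F:max => Matrix.ProjectiveSpecialLinearGroup (Fin 2) F

/-- The configurations that are treated with the principal block: `p = 3`, and `f/e ≥ 3`, or `f = e` is not
squarefree. -/
def FieldBlock : Prop :=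
  ∀ (G : Type u) [Group G] [Finite G], IsSimpleGroup G →
    (∀ (H : Type u) [Group H] [Finite H], Nat.card H < Nat.card G → NoField H) →
    ∀ (F : Type) [Field F] [Fintype F] (S : ExtBase G (PS2 F)), Amb G → LChars S.D → ExtLocals S →
      S.D.q = Fintype.card F → S.D.p = 3 → Odd S.D.f → 1 < Nat.card S.Fld →
      (∀ l : ℕ, l.Prime → l ∣ Nat.card S.Fld →
        l = 3 ∨ l ∣ (3 ^ (S.D.f / l)) ^ 2 - 3 ^ (S.D.f / l) + 1) →
      (3 ≤ S.D.f / Nat.card S.Fld ∨ (S.D.f = Nat.card S.Fld ∧ ∃ l : ℕ, l.Prime ∧ l * l ∣ Nat.card S.Fld)) →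
      False

/-- The configurations with `f = e` squarefree, other than `q = 27`. -/
def FieldA : Prop :=
  ∀ (G : Type u) [Group G] [Finite G], IsSimpleGroup G →
    (∀ (H : Type u) [Group H] [Finite H], Nat.card H < Nat.card G → NoField H) →
    ∀ (F : Type) [Field F] [Fintype F] (S : ExtBase G (PS2 F)), Amb G → LChars S.D → ExtLocals S →
      S.D.q = Fintype.card F → S.D.f = Nat.card S.Fld →
      ((S.D.p = 5 ∧ (S.D.f = 7 ∨ S.D.f = 11 ∨ S.D.f = 19)) ∨
        (S.D.p = 3 ∧ Odd S.D.f ∧ 1 < S.D.f ∧ S.D.f ≠ 3 ∧ Squarefree S.D.f ∧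
          ∀ l : ℕ, l.Prime → l ∣ S.D.f → l = 3 ∨ l ∣ (3 ^ (S.D.f / l)) ^ 2 - 3 ^ (S.D.f / l) + 1)) →
      False

namespace ExtMain

/-- The second factor has no subgroup of order divisible by eight. -/
theorem no_eight {G : Type u} [Group G] [Finite G] (A : Amb G) {t : G} (ht : orderOf t = 2) {E : Subgroup G}
    (hE : Cfsg.IsInternalDirectProduct (zpowers t) E (centralizer ({t} : Set G))) : ¬ 8 ∣ Nat.card E := by
  haveI : Fact (Nat.Prime 2) := ⟨Nat.prime_two⟩
  have hcardC := AbelTwo.card_prod ht hE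
  intro h
  have h16 : 16 ∣ Nat.card G := by
    refine (show 16 ∣ 2 * Nat.card E from ?_).trans (hcardC ▸ Subgroup.card_subgroup_dvd_card _)
    obtain ⟨i, hi⟩ := h
    exact ⟨i, by rw [hi]; ring⟩
  let T : Sylow 2 G := default
  have h1 := (Nat.prime_two.pow_dvd_iff_le_factorization (k := 4) Nat.card_pos.ne').1 (by simpa using h16)
  have h2 := T.card_eq_multiplicity
  rw [A.eight T, show (8 : ℕ) = 2 ^ 3 from rfl] at h2
  have := Nat.pow_right_injective le_rfl h2
  omega

/-- For `q = 5` there is no field part. -/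
theorem top_of_five {G : Type u} [Group G] [Finite G] (A : Amb G) {t : G} (ht : orderOf t = 2) {E : Subgroup G}
    (hE : Cfsg.IsInternalDirectProduct (zpowers t) E (centralizer ({t} : Set G))) {F : Type} [Field F] [Fintype F]
    (h5 : Fintype.card F = 5) (N : Subgroup ↥E) [N.Normal] (e : ↥N ≃* PS2 F)
    (hcN : centralizer (N : Set ↥E) = ⊥) : N = ⊤ := by
  obtain ⟨h4, -, -⟩ := psl_card_facts F (by omega)
  have hidx : Odd N.index := by
    refine Nat.not_even_iff_odd.1 fun he => no_eight A ht hE ?_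
    rw [← Nat.card_congr e.toEquiv] at h4
    obtain ⟨a, ha⟩ := h4
    obtain ⟨b, hb⟩ := even_iff_two_dvd.1 he
    exact ⟨a * b, by rw [← N.card_mul_index, ha, hb]; ring⟩
  haveI : Fact (Nat.Prime 5) := ⟨Nat.prime_five⟩
  haveI : CharP F 5 := charP_of_card_eq_prime_pow (p := 5) (f := 1) (by rw [h5, pow_one])
  obtain ⟨ψ, -, -, hψsq⟩ := PSLField.exists_fieldHom (F := F) (p := 5)
  haveI : Finite (RingAut F) := Finite.of_injective (fun τ => (τ : F → F)) DFunLike.coe_injective
  haveI : Subsingleton (RingAut F) := (Nat.card_eq_one_iff_unique.1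
    (Classical.PSLAut.card_ringAut (p := 5) (f := 1) (F := F) (by rw [h5, pow_one])).2).1
  let cE : ↥E →* MulAut (PS2 F) := (MulAut.congr e).toMonoidHom.comp MulAut.conjNormal
  have hcE : ∀ x c, ((e.symm (cE x c) : N) : ↥E) = x * (e.symm c : N) * x⁻¹ := fun x c => by
    show ((e.symm (e (MulAut.conjNormal x (e.symm c))) : N) : ↥E) = _
    rw [e.symm_apply_apply, MulAut.conjNormal_apply]
  have hcE1 : ∀ x, cE x = 1 → x = 1 := by
    intro x hx
    have : x ∈ centralizer (N : Set ↥E) := mem_centralizer_iff.2 fun n hn => by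
      have h := hcE x (e ⟨n, hn⟩)
      rw [hx, MulAut.one_apply, e.symm_apply_apply] at h
      exact eq_mul_inv_iff_mul_eq.1 h
    rwa [hcN, mem_bot] at this
  have hcEj : ∀ c, cE ((e.symm c : N) : ↥E) = MulAut.conj c := fun c => MulEquiv.ext fun d => by
    refine e.symm.injective (Subtype.ext ?_)
    rw [hcE, MulAut.conj_apply, map_mul, map_mul, map_inv]
    rfl
  refine eq_top_iff.2 fun x _ => ?_
  obtain ⟨c, hc⟩ := hψsq (cE x) (Subsingleton.elim _ _)
  have h1 : x * x = ((e.symm c : N) : ↥E) := by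
    have : cE (x * x * ((e.symm c : N) : ↥E)⁻¹) = 1 := by rw [map_mul, map_mul, map_inv, hc, hcEj, mul_inv_cancel]
    exact mul_inv_eq_one.1 (hcE1 _ this)
  obtain ⟨k, hk⟩ := hidx
  have h2 := Subgroup.pow_index_mem N x
  rw [hk, pow_succ, pow_mul, pow_two, h1] at h2
  exact (Subgroup.mul_mem_cancel_left N (N.pow_mem (e.symm c).2 k)).1 h2

theorem odd_f {p f q : ℕ} (hp : p = 3 ∨ p = 5) (hq : q = p ^ f) (h8 : q % 8 = 3 ∨ q % 8 = 5) : Odd f := by
  refine Nat.not_even_iff_odd.1 fun ⟨j, hj⟩ => ?_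
  have : q % 8 = 1 := by
    rw [hq, hj, ← two_mul, pow_mul, Nat.pow_mod]
    rcases hp with rfl | rfl <;> norm_num
  omega

/-- No field part, by induction on the order. -/
theorem noField (hB : FieldBlock.{u}) (hA : FieldA.{u}) :
    ∀ (G : Type u) [Group G] [Finite G], NoField G := by
  suffices h : ∀ n : ℕ, ∀ (G : Type u) [Group G] [Finite G], Nat.card G = n → NoField G from
    fun G _ _ => h _ G rfl
  intro n
  induction n using Nat.strong_induction_on with
  | _ n ih =>
    intro G _ _ hn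
    have ih' : ∀ (H : Type u) [Group H] [Finite H], Nat.card H < Nat.card G → NoField H :=
      fun H _ _ h => ih _ (hn ▸ h) H rfl
    intro hs A t ht E hE F _ _ hFodd hF3 N hN ⟨e⟩ hcN
    haveI := hs
    haveI := hN
    have hF5 : 5 ≤ Fintype.card F := by
      obtain ⟨k, hk⟩ := hFodd; omega
    rcases hF5.eq_or_lt with h5 | h5
    · exact top_of_five A ht hE h5.symm N e hcN
    have hodd : Odd (centralizer ({t} : Set G)).index := by
      let T : Sylow 2 G := default
      refine odd_index T (fun x hx => ?_) ht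
      obtain ⟨k, hk⟩ := T.isPGroup' ⟨x, hx⟩
      exact A.sq2 x ⟨k, congrArg Subtype.val hk⟩
    obtain ⟨h8, S, -, hq, hcard, ⟨X⟩⟩ := exists_extBase A ht hodd hE h5 hFodd N e hcN
    rw [← Subgroup.index_eq_one, ← hcard]
    by_contra hne
    have h1 : 1 < Nat.card S.Fld := by
      have := Nat.card_pos (α := ↥S.Fld); omega
    obtain ⟨L⟩ := S.exists_extLocals A
    have harith := fun (r : ℕ) (hr : r.Prime) (hd : r ∣ Nat.card S.Fld) => S.arith_facts A L ih' hr hd
    obtain ⟨r0, hr0, hd0⟩ := Nat.exists_prime_and_dvd (by omega : Nat.card S.Fld ≠ 1)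
    have hdf := S.F_dvd
    by_cases hp5 : S.D.p = 5
    · rcases harith r0 hr0 hd0 with ⟨h, -, -⟩ | ⟨-, hf, hr⟩
      · omega
      · refine hA G hs ih' F S A X L hq ?_ (Or.inl ⟨hp5, hf.symm ▸ hr⟩)
        exact Nat.dvd_antisymm (hf ▸ hd0) hdf
    have hp3 : S.D.p = 3 := by
      rcases harith r0 hr0 hd0 with ⟨h, -, -⟩ | ⟨h, -, -⟩
      · exact h
      · exact absurd h hp5
    have hfo : Odd S.D.f := odd_f (Or.inl hp3) S.D.hf (hq.symm ▸ h8)
    have H3 : ∀ l : ℕ, l.Prime → l ∣ Nat.card S.Fld →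
        l = 3 ∨ l ∣ (3 ^ (S.D.f / l)) ^ 2 - 3 ^ (S.D.f / l) + 1 := by
      intro l hl hd
      rcases harith l hl hd with ⟨-, -, h⟩ | ⟨h, -, -⟩
      · exact h
      · exact absurd h hp5
    obtain ⟨k, hk⟩ := hdf
    have hkq : S.D.f / Nat.card S.Fld = k := by rw [hk, Nat.mul_div_cancel_left _ (by omega)]
    have hko : Odd k := (hk ▸ hfo).of_dvd_nat ⟨Nat.card S.Fld, mul_comm _ _⟩
    rcases Nat.lt_or_ge k 3 with hk3 | hk3
    · obtain rfl : k = 1 := by obtain ⟨j, hj⟩ := hko; omega
      rw [mul_one] at hk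
      by_cases hsf : Squarefree (Nat.card S.Fld)
      · by_cases he3 : Nat.card S.Fld = 3
        · refine S.false_of_psl_twentyseven A (F := F) ?_ (MulEquiv.refl _) he3
          rw [← hq, S.D.hf, hp3, hk, he3]; norm_num
        · exact hA G hs ih' F S A X L hq hk (Or.inr ⟨hp3, hfo, by omega, by omega, by rwa [hk],
            fun l hl hd => H3 l hl (by rwa [hk] at hd)⟩)
      · rw [Nat.squarefree_iff_prime_squarefree] at hsf
        push_neg at hsf
        exact hB G hs ih' F S A X L hq hp3 hfo h1 H3 (Or.inr ⟨hk, hsf⟩)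
    · exact hB G hs ih' F S A X L hq hp3 hfo h1 H3 (Or.inl (hkq.symm ▸ hk3))

/-- An internal direct product is carried by an isomorphism. -/
theorem iidp_map {G H : Type u} [Group G] [Group H] (f : G ≃* H) {A B C : Subgroup G}
    (h : Cfsg.IsInternalDirectProduct A B C) :
    Cfsg.IsInternalDirectProduct (A.map f.toMonoidHom) (B.map f.toMonoidHom) (C.map f.toMonoidHom) := by
  obtain ⟨h1, h2, h3, h4, h5⟩ := h
  refine ⟨map_mono h1, map_mono h2, ?_, ?_, ?_⟩
  · rintro _ ⟨a, ha, rfl⟩ _ ⟨b, hb, rfl⟩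
    rw [← map_mul, h3 a ha b hb, map_mul]
  · rw [← Subgroup.map_inf_eq _ _ _ f.injective, h4, Subgroup.map_bot]
  · rw [← Subgroup.map_sup, h5]

/-- The second factor is `L2(q)`. -/
theorem ext_of_noField (hN : ∀ (G : Type u) [Group G] [Finite G], NoField G)
    (G : Type u) [Group G] [Finite G] (hs : IsSimpleGroup G) (hna : ¬ IsMulCommutative G) (S : Sylow 2 G)
    (h8 : Nat.card ↥(S : Subgroup G) = 8) (hel : ∀ x ∈ (S : Subgroup G), x * x = 1)
    (h : ∀ t ∈ (S : Subgroup G), t ≠ 1 → AbelTwo.JRShape t) (t : G) (ht : orderOf t = 2) : ExtShape t := by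
  haveI : Fact (Nat.Prime 2) := ⟨Nat.prime_two⟩
  obtain ⟨c, hc⟩ := Invol.exists_conj_mem_sylow (n := 1) (x := t) (by rw [ht, pow_one]) S
  have ht' : orderOf (c * t * c⁻¹) = 2 :=
    (orderOf_injective (MulAut.conj c).toMonoidHom (MulAut.conj c).injective t).trans ht
  have ht1 : c * t * c⁻¹ ≠ 1 := fun e => by rw [e, orderOf_one] at ht'; omega
  obtain ⟨-, E, hE, F, i1, i2, hFodd, hF3, N, hNn, ⟨e⟩, hcN⟩ := h _ hc ht1
  have A := Amb.of_sylow hna S h8 hel
  have htop := hN G hs A _ ht' E hE F hFodd hF3 N hNn ⟨e⟩ hcN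
  have e' : ↥E ≃* PS2 F :=
    (Subgroup.topEquiv.symm.trans (MulEquiv.subgroupCongr htop.symm)).trans e
  obtain ⟨-, -, h8F⟩ := psl_card_facts F (by omega)
  have hF8 : Fintype.card F % 8 = 3 ∨ Fintype.card F % 8 = 5 := by
    rcases h8F with h' | h' | h'
    · exact absurd (Nat.card_congr e'.toEquiv ▸ h') (no_eight A ht' hE)
    · obtain ⟨k, hk⟩ := hFodd; omega
    · exact h'
  set f : G ≃* G := MulAut.conj c⁻¹
  have hft : f (c * t * c⁻¹) = t := by simp [f, mul_assoc]
  refine ⟨E.map f.toMonoidHom, ?_, F, i1, i2, hF8, hF3,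
    ⟨(E.equivMapOfInjective f.toMonoidHom f.injective).symm.trans e'⟩⟩
  have h1 := iidp_map f hE
  rw [MonoidHom.map_zpowers] at h1
  have h2 : (centralizer ({c * t * c⁻¹} : Set G)).map f.toMonoidHom = centralizer ({t} : Set G) := by
    ext x
    rw [Subgroup.mem_map_equiv, mem_centralizer_singleton_iff, mem_centralizer_singleton_iff]
    constructor
    · intro h'
      have h'' := congrArg f h'
      rw [map_mul f (f.symm x), map_mul f (c * t * c⁻¹), f.apply_symm_apply, hft] at h''
      exact h''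
    · intro h'
      refine f.injective ?_
      rw [map_mul f (f.symm x), map_mul f (c * t * c⁻¹), f.apply_symm_apply, hft]
      exact h'
  rw [h2, show f.toMonoidHom (c * t * c⁻¹) = t from hft] at h1
  exact h1

/-- The theorem, given the two remaining configurations. -/
theorem ward_of_cases (hB : FieldBlock.{u}) (hA : FieldA.{u}) : WardHub.{u} :=
  ward_of_ext (ext_of_noField (noField hB hA))

end ExtMain

end Cfsg.Agent.Invol.JankoWard
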