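import Cfsg.Agent.Lib.Invol.JankoWard.CaseAJOne
import Cfsg.Agent.Lib.Invol.JankoWard.CaseAThirtySeven
import Cfsg.Agent.Lib.Invol.JankoWard.ExtMain

/-!
Case A of the field part: `f = e` squarefree.
-/

set_option autoImplicit false
set_option linter.unusedSectionVars false
set_option linter.style.haveILetI false

open scoped Classical

namespace Cfsg.Agent.Invol.JankoWard

open Subgroup

universe u

theorem fieldA : FieldA.{u} := by
  intro G _ _ hs ih F _ _ S A _ L _ hfe h
  haveI := hs
  rcases h with ⟨hp, hf⟩ | ⟨hp, hodd, hf1, hf3, hsq, H3⟩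
  · exact S.false_five A L ih hp hfe.symm hf
  obtain ⟨r, hr, hrf, ⟨-, rfl⟩ | ⟨h3, hr'⟩⟩ := CaseA.arith_r hodd hf1 hf3 hsq H3
  · exact S.false_seven A L ih hp hfe.symm hsq hrf ((H3 7 hr hrf).resolve_left (by norm_num))
  · refine S.false_thirty A L ih hp hfe.symm hsq h3 hr' hrf ((H3 r hr hrf).resolve_left ?_)
    omega

end Cfsg.Agent.Invol.JankoWard
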