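import Cfsg.Agent.Lib.Invol.JankoWard.ExtFieldBlock
import Cfsg.Agent.Lib.Invol.JankoWard.CaseAMain

/-!
# The theorem of Janko–Thompson and Ward
-/

set_option autoImplicit false

namespace Cfsg.Agent.Invol.JankoWard

universe u

/-- The theorem of Janko–Thompson and Ward. -/
theorem ward : WardHub.{u} :=
  ExtMain.ward_of_cases fieldBlock fieldA

end Cfsg.Agent.Invol.JankoWard
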