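import Mathlib.GroupTheory.SpecificGroups.Cyclic
import Mathlib.GroupTheory.Index
import Mathlib.GroupTheory.GroupAction.Quotient
import Cfsg.Prelude.Def_Characters

/-!
# Internal interfaces of the proof of the Janko–Thompson–Ward theorem

`LData`: the subgroups of `L2(q)`, `q = 4r + δ`, that occur; `LChars`: the three non-trivial characters of its
principal 2-block; `Base`: an involution with centraliser `⟨t⟩ × P` of odd index; `Locals`: the fusion of the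
abelian subgroup `⟨t, u⟩ × Y`.
-/

set_option autoImplicit false

namespace Cfsg.Agent.Invol.JankoWard

open Subgroup

universe u v

/-- The data of `P ≅ L2(q)`, `q = 4r + δ` with `δ = ±1` and `r` odd. -/
structure LData (P : Type v) [Group P] where
  /-- the prime -/
  p : ℕ
  /-- the exponent -/
  f : ℕ
  /-- the field size -/
  q : ℕ
  /-- the odd part of the torus that contains an involution -/
  r : ℕ
  /-- the sign -/
  δ : ℤ
  hp : p.Prime
  p_odd : p ≠ 2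
  hf : q = p ^ f
  hδ : δ = 1 ∨ δ = -1
  hq : (q : ℤ) = 4 * (r : ℤ) + δ
  r_odd : Odd r
  r3 : 3 ≤ r
  card_P : Nat.card P * 2 = q * ((q - 1) * (q + 1))
  /-- an involution -/
  u : P
  /-- a commuting involution -/
  w : P
  u1 : u ≠ 1
  u2 : u * u = 1
  w1 : w ≠ 1
  w2 : w * w = 1
  uw : u ≠ w
  comm : u * w = w * u
  one_class : ∀ x : P, x * x = 1 → x ≠ 1 → IsConj u x
  /-- the cyclic subgroup of order `r` centralised by `u` -/
  Y : Subgroup P
  Y_cyclic : IsCyclic Y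
  card_Y : Nat.card Y = r
  u_Y : ∀ y ∈ Y, u * y = y * u
  w_Y : ∀ y ∈ Y, w * y * w⁻¹ = y⁻¹
  cent_u : ∀ x : P, x * u = u * x →
    ∃ y ∈ Y, x = y ∨ x = u * y ∨ x = w * y ∨ x = u * w * y
  cent_Y : ∀ y ∈ Y, y ≠ 1 → ∀ x : P, x * y = y * x → ∃ y' ∈ Y, x = y' ∨ x = u * y'
  cent_odd : ∀ x : P, x ≠ 1 → Odd (Nat.card (centralizer ({x} : Set P))) →
    (Nat.card (centralizer ({x} : Set P)) : ℤ) = 2 * (r : ℤ) + δ ∨
      Nat.card (centralizer ({x} : Set P)) = q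

namespace LData

variable {P : Type v} [Group P] (D : LData P)

/-- Half the order of the other torus: `m = 2r + δ`. -/
def m : ℤ := 2 * (D.r : ℤ) + D.δ

end LData

/-- The non-trivial characters of the principal 2-block of `P` and the values that are used. -/
structure LChars {P : Type v} [Group P] [Finite P] (D : LData P) where
  /-- the Steinberg character -/
  St : IrrCharacter P
  /-- the two characters of degree `(q + δ) / 2` -/
  e1 : IrrCharacter P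
  /-- the other one -/
  e2 : IrrCharacter P
  ne : e1 ≠ e2
  St_one : (St : P → ℂ) 1 = (D.q : ℂ)
  e1_one : (e1 : P → ℂ) 1 = ((D.q : ℂ) + D.δ) / 2
  e2_one : (e2 : P → ℂ) 1 = ((D.q : ℂ) + D.δ) / 2
  St_Y : ∀ y ∈ D.Y, y ≠ 1 → (St : P → ℂ) y = D.δ
  e1_Y : ∀ y ∈ D.Y, y ≠ 1 → (e1 : P → ℂ) y = D.δ
  e2_Y : ∀ y ∈ D.Y, y ≠ 1 → (e2 : P → ℂ) y = D.δ
  St_even : ∀ x : P, 2 ∣ orderOf x → (St : P → ℂ) x = D.δ
  e1_even : ∀ x : P, 2 ∣ orderOf x → (e1 : P → ℂ) x = -(D.δ : ℂ)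
  e2_even : ∀ x : P, 2 ∣ orderOf x → (e2 : P → ℂ) x = -(D.δ : ℂ)
  relation : ∀ x : P, ¬ 2 ∣ orderOf x →
    (St : P → ℂ) x = (e1 : P → ℂ) x + (e2 : P → ℂ) x - (D.δ : ℂ)
  swap : ∃ σ : ℂ ≃+* ℂ, (∀ z : ℂ, z ^ D.r = 1 → σ z = z) ∧
    (∀ x, σ ((e1 : P → ℂ) x) = (e2 : P → ℂ) x) ∧ (∀ x, σ ((e2 : P → ℂ) x) = (e1 : P → ℂ) x)

/-- An involution with centraliser `⟨t⟩ × P` of odd index. -/
structure Base (G : Type u) [Group G] (P : Type v) [Group P] where
  /-- the data of the second factor -/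
  D : LData P
  /-- the involution -/
  t : G
  /-- the embedding of the second factor -/
  ι : P →* G
  inj : Function.Injective ι
  ht : orderOf t = 2
  hodd : Odd (centralizer ({t} : Set G)).index
  tc : ∀ k, ι k * t = t * ι k
  cover : ∀ c : G, c * t = t * c → ∃ k, c = ι k ∨ c = t * ι k
  t_not : ∀ k, ι k ≠ t

/-- The fusion of `⟨t, u⟩ × Y`. -/
structure Locals {G : Type u} [Group G] {P : Type v} [Group P] (S : Base G P) where
  /-- the element of order three -/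
  g : G
  g3 : g ^ 3 = 1
  gt : g * S.t * g⁻¹ = S.ι S.D.u
  gu : g * S.ι S.D.u * g⁻¹ = S.t * S.ι S.D.u
  gY : ∀ y ∈ S.D.Y, ∃ y' ∈ S.D.Y, g * S.ι y * g⁻¹ = S.ι y'
  one_class : ∀ x : G, orderOf x = 2 → IsConj S.t x
  g_free : ∀ y ∈ S.D.Y, g * S.ι y * g⁻¹ = S.ι y → y = 1
  cent_y : ∀ y ∈ S.D.Y, y ≠ 1 → ∀ x : G, x * S.ι y = S.ι y * x →
    ∃ y' ∈ S.D.Y, x = S.ι y' ∨ x = S.t * S.ι y' ∨
      x = S.ι S.D.u * S.ι y' ∨ x = S.t * S.ι S.D.u * S.ι y'

end Cfsg.Agent.Invol.JankoWard
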