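import Cfsg.Agent.Lib.Invol.JankoWard.CaseDPGroup

/-!
Case D of the field part of the Janko–Thompson–Ward theorem: an element of prime order
different from three, inverted by an involutory automorphism and acting nontrivially on an
abelian normal `3`-subgroup of order at most `81`, has order five and no fixed points there.
-/

set_option autoImplicit false
set_option linter.unusedSectionVars false

namespace Cfsg.Agent.Invol.JankoWard.CaseD

open Subgroup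
open scoped commutatorElement

universe u

variable {G : Type u} [Group G] [Finite G]

/-- Splitting in a group of odd order. -/
theorem exists_split_odd (hodd : Odd (Nat.card G)) (τ : G ≃* G) (hτ : ∀ x, τ (τ x) = x) (g : G) :
    ∃ f e, g = f * e ∧ τ f = f ∧ τ e = e⁻¹ ∧ e ∈ Subgroup.zpowers (g⁻¹ * τ g) := by
  set k := g⁻¹ * τ g with hk
  have hτk : τ k = k⁻¹ := by simp [hk, hτ]
  obtain ⟨m, hm⟩ : Odd (orderOf k) := hodd.of_dvd_nat (orderOf_dvd_natCard k)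
  have hsq : k ^ (m + 1) * k ^ (m + 1) = k := by
    rw [← pow_add, show m + 1 + (m + 1) = orderOf k + 1 by omega, pow_succ, pow_orderOf_eq_one,
      one_mul]
  refine ⟨g * k ^ (m + 1), (k ^ (m + 1))⁻¹, by group, ?_, by simp [hτk],
    inv_mem (pow_mem (Subgroup.mem_zpowers k) _)⟩
  calc τ (g * k ^ (m + 1)) = g * k * (k ^ (m + 1))⁻¹ := by
        rw [map_mul, map_pow, hτk, inv_pow, hk, mul_inv_cancel_left]
    _ = g * (k ^ (m + 1) * k ^ (m + 1)) * (k ^ (m + 1))⁻¹ := by rw [hsq]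
    _ = g * k ^ (m + 1) := by group

/-- A commutator with `z` centralized by `z` is trivial, for coprime orders. -/
theorem comm_eq_one {z v : G} {r : ℕ} (hzr : z ^ r = 1) {k : ℕ} (hco : (3 ^ k).Coprime r)
    (hw : ⁅z, v⁆ ^ (3 ^ k) = 1) (hc : Commute z ⁅z, v⁆) : ⁅z, v⁆ = 1 := by
  have h1 : ⁅z ^ r, v⁆ = ⁅z, v⁆ ^ r := comm_pow_left hc.symm r
  rw [hzr, commutatorElement_one_left] at h1
  have h2 := Nat.eq_one_of_dvd_one (Nat.dvd_gcd (orderOf_dvd_of_pow_eq_one hw)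
    (orderOf_dvd_of_pow_eq_one h1.symm) |>.trans (dvd_of_eq hco))
  exact orderOf_eq_one_iff.1 h2

/-- A group acting with trivial stabilizers has order dividing that of the set. -/
theorem card_dvd_of_free {A X : Type*} [Group A] [Finite A] [MulAction A X] [Finite X]
    (h : ∀ x : X, MulAction.stabilizer A x = ⊥) : Nat.card A ∣ Nat.card X := by
  classical
  haveI := Fintype.ofFinite (MulAction.orbitRel.Quotient A X)
  rw [Nat.card_congr (MulAction.selfEquivSigmaOrbitsQuotientStabilizer A X), Nat.card_sigma]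
  refine Finset.dvd_sum fun ω _ => ?_
  rw [h, ← Subgroup.index_eq_card, Subgroup.index_bot]

/-- Conjugation by `z` of prime order `r` without fixed points on `R \ 1`: `r ∣ |R| - 1`. -/
theorem modEq_one {R : Subgroup G} {z : G} {r : ℕ} [Fact r.Prime] (hzr : z ^ r = 1)
    (hRz : ∀ w ∈ R, ∀ h ∈ Subgroup.zpowers z, h * w * h⁻¹ ∈ R)
    (hfree : ∀ w ∈ R, Commute z w → w = 1) : Nat.card R ≡ 1 [MOD r] := by
  letI : MulAction (Subgroup.zpowers z) R :=
    { smul := fun h w => ⟨(h : G) * w * (h : G)⁻¹, hRz _ w.2 _ h.2⟩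
      one_smul := fun w => Subtype.ext (by show ((1 : G)) * w * (1 : G)⁻¹ = w; simp)
      mul_smul := fun a b w => Subtype.ext (by
        show ((a : G) * b) * w * ((a : G) * b)⁻¹ = (a : G) * ((b : G) * w * (b : G)⁻¹) * (a : G)⁻¹
        group) }
  have hp : IsPGroup r (Subgroup.zpowers z) := by
    rintro ⟨x, hx⟩
    obtain ⟨i, rfl⟩ := Subgroup.mem_zpowers_iff.1 hx
    refine ⟨1, Subtype.ext ?_⟩
    show (z ^ i) ^ (r ^ 1) = 1
    rw [pow_one, ← zpow_natCast, ← zpow_mul, mul_comm, zpow_mul, zpow_natCast, hzr, one_zpow]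
  refine (hp.card_modEq_card_fixedPoints R).trans ?_
  suffices hone : Nat.card (MulAction.fixedPoints (Subgroup.zpowers z) R) = 1 by rw [hone]
  rw [Nat.card_eq_one_iff_unique]
  refine ⟨⟨?_⟩, ⟨⟨1, fun h => Subtype.ext (by show (h : G) * 1 * (h : G)⁻¹ = 1; simp)⟩⟩⟩
  have key : ∀ x : MulAction.fixedPoints (Subgroup.zpowers z) R, ((x : R) : G) = 1 := fun x => by
    refine hfree _ (x : R).2 ?_
    have h := congrArg Subtype.val (x.2 ⟨z, Subgroup.mem_zpowers z⟩)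
    exact mul_inv_eq_iff_eq_mul.1 h
  exact fun a b => Subtype.ext (Subtype.ext (by rw [key a, key b]))

theorem module_step (hodd : Odd (Nat.card G)) (V : Subgroup G) [V.Normal]
    (hab : ∀ a ∈ V, ∀ b ∈ V, Commute a b) (hV3 : IsPGroup 3 V) (τ : G ≃* G)
    (hτ : ∀ x, τ (τ x) = x) (hVτ : ∀ x ∈ V, τ x ∈ V) {z : G} (hzτ : τ z = z⁻¹) {r : ℕ}
    (hr : r.Prime) (hr2 : r ≠ 2) (hr3 : r ≠ 3) (hzr : z ^ r = 1)
    (hne : ∃ v ∈ V, ¬ Commute z v) (hV : Nat.card V ≤ 81) :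
    r = 5 ∧ Nat.card V = 81 ∧ (∀ v ∈ V, Commute z v → v = 1) ∧
      ∀ w ∈ V, ∃ v ∈ V, ⁅z, v⁆ = w := by
  haveI : Fact r.Prime := ⟨hr⟩
  haveI : Fact (Nat.Prime 3) := ⟨Nat.prime_three⟩
  have hzV : ∀ {v : G}, v ∈ V → ⁅z, v⁆ ∈ V := fun {v} hv => by
    rw [commutatorElement_def]
    exact mul_mem (Subgroup.Normal.conj_mem inferInstance v hv z) (inv_mem hv)
  -- the map `v ↦ ⁅z, v⁆`
  let δ : V →* V := MonoidHom.mk' (fun v => ⟨⁅z, (v : G)⁆, hzV v.2⟩) fun v w => Subtype.ext (by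
    show ⁅z, (v : G) * w⁆ = ⁅z, (v : G)⁆ * ⁅z, (w : G)⁆
    have h : Commute (v : G) ⁅z, (w : G)⁆ := hab _ v.2 _ (hzV w.2)
    calc ⁅z, (v : G) * w⁆ = ⁅z, (v : G)⁆ * ((v : G) * ⁅z, (w : G)⁆ * (v : G)⁻¹) := by
          rw [commutatorElement_def, commutatorElement_def, commutatorElement_def]; group
      _ = ⁅z, (v : G)⁆ * ⁅z, (w : G)⁆ := by rw [h.eq, mul_inv_cancel_right])
  set R : Subgroup G := δ.range.map V.subtype with hR
  have hRV : R ≤ V := Subgroup.map_subtype_le _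
  have hRmem : ∀ {w : G}, w ∈ R ↔ ∃ v ∈ V, ⁅z, v⁆ = w := by
    intro w
    constructor
    · rintro ⟨_, ⟨v, rfl⟩, rfl⟩; exact ⟨v, v.2, rfl⟩
    · rintro ⟨v, hv, rfl⟩; exact ⟨δ ⟨v, hv⟩, ⟨⟨v, hv⟩, rfl⟩, rfl⟩
  have hfree : ∀ w ∈ R, Commute z w → w = 1 := by
    intro w hw hc
    obtain ⟨v, hv, rfl⟩ := hRmem.1 hw
    obtain ⟨k, hk⟩ := hV3 ⟨_, hzV hv⟩
    exact comm_eq_one hzr (k := k) (Nat.Coprime.pow_left _
      ((Nat.coprime_primes Nat.prime_three hr).2 (Ne.symm hr3))) (congrArg Subtype.val hk) hc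
  have hRτ : ∀ w ∈ R, τ w ∈ R := by
    intro w hw
    obtain ⟨v, hv, rfl⟩ := hRmem.1 hw
    rw [map_commutatorElement, hzτ,
      show ⁅z⁻¹, τ v⁆ = ⁅z, z⁻¹ * τ v * z⁆⁻¹ by
        rw [commutatorElement_def, commutatorElement_def]; group]
    exact inv_mem (hRmem.2 ⟨_, by
      simpa using Subgroup.Normal.conj_mem (inferInstance : V.Normal) _ (hVτ v hv) z⁻¹, rfl⟩)
  have hRz : ∀ w ∈ R, ∀ h ∈ Subgroup.zpowers z, h * w * h⁻¹ ∈ R := by
    intro w hw h hh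
    obtain ⟨v, hv, rfl⟩ := hRmem.1 hw
    obtain ⟨i, rfl⟩ := Subgroup.mem_zpowers_iff.1 hh
    refine hRmem.2 ⟨z ^ i * v * (z ^ i)⁻¹, Subgroup.Normal.conj_mem inferInstance v hv _, ?_⟩
    rw [commutatorElement_def, commutatorElement_def]
    group
  -- a square root of `z`
  obtain ⟨m, hm⟩ : Odd r := hr.odd_of_ne_two hr2
  set σ := z ^ (m + 1) with hσ
  have hσ2 : σ * σ = z := by
    rw [hσ, ← pow_add, show m + 1 + (m + 1) = r + 1 by omega, pow_succ, hzr, one_mul]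
  have hτσ : τ σ = σ⁻¹ := by rw [hσ, map_pow, hzτ, inv_pow]
  have hσR : ∀ w ∈ R, σ * w * σ⁻¹ ∈ R := fun w hw =>
    hRz w hw σ (pow_mem (Subgroup.mem_zpowers z) _)
  let A : Subgroup G := R ⊓ τ.toMonoidHom.eqLocus (MonoidHom.id G)
  have hAmem : ∀ {w : G}, w ∈ A ↔ w ∈ R ∧ τ w = w := Iff.rfl
  let B : Subgroup G :=
    { carrier := {w | w ∈ R ∧ τ w = w⁻¹}
      one_mem' := ⟨one_mem _, by simp⟩
      mul_mem' := fun {a b} ha hb => ⟨mul_mem ha.1 hb.1, by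
        rw [map_mul, ha.2, hb.2, mul_inv_rev]
        exact (hab _ (inv_mem (hRV ha.1)) _ (inv_mem (hRV hb.1))).eq⟩
      inv_mem' := fun {a} ha => ⟨inv_mem ha.1, by rw [map_inv, ha.2]⟩ }
  have hfix : ∀ w ∈ R, σ⁻¹ * w * σ = σ * w * σ⁻¹ → w = 1 := fun w hw h => hfree w hw (by
    show z * w = w * z
    rw [← hσ2]
    calc σ * σ * w = σ * (σ * w * σ⁻¹) * σ := by group
      _ = σ * (σ⁻¹ * w * σ) * σ := by rw [h]
      _ = w * (σ * σ) := by group)
  have hsq : ∀ S : Subgroup G, S ≤ R → (∀ w ∈ S, σ * w * σ⁻¹ ∈ S → w = 1) →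
      Nat.card S * Nat.card S ≤ Nat.card R := by
    intro S hS hdis
    rw [← Nat.card_prod]
    refine Nat.card_le_card_of_injective
      (fun p : S × S => (⟨(p.1 : G) * (σ * p.2 * σ⁻¹),
        mul_mem (hS p.1.2) (hσR _ (hS p.2.2))⟩ : R)) ?_
    rintro ⟨a, b⟩ ⟨a', b'⟩ h
    have h' : (a : G) * (σ * b * σ⁻¹) = (a' : G) * (σ * b' * σ⁻¹) := congrArg Subtype.val h
    have h2 : σ * ((b : G) * (b' : G)⁻¹) * σ⁻¹ = (a : G)⁻¹ * a' := by
      calc σ * ((b : G) * (b' : G)⁻¹) * σ⁻¹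
          = (a : G)⁻¹ * ((a : G) * (σ * b * σ⁻¹)) * (σ * (b' : G)⁻¹ * σ⁻¹) := by group
        _ = (a : G)⁻¹ * ((a' : G) * (σ * b' * σ⁻¹)) * (σ * (b' : G)⁻¹ * σ⁻¹) := by rw [h']
        _ = (a : G)⁻¹ * a' := by group
    have hb : (b : G) * (b' : G)⁻¹ = 1 := hdis _ (mul_mem b.2 (inv_mem b'.2))
      (by rw [h2]; exact mul_mem (inv_mem a.2) a'.2)
    rw [hb, mul_one, mul_inv_cancel] at h2
    exact Prod.ext (Subtype.ext (inv_mul_eq_one.1 h2.symm)) (Subtype.ext (mul_inv_eq_one.1 hb))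
  have hA : Nat.card A * Nat.card A ≤ Nat.card R := hsq A inf_le_left (by
    intro w hw hw'
    refine hfix w (hAmem.1 hw).1 ?_
    have h := (hAmem.1 hw').2
    rwa [map_mul, map_mul, map_inv, hτσ, (hAmem.1 hw).2, inv_inv] at h)
  have hB : Nat.card B * Nat.card B ≤ Nat.card R := hsq B (fun w hw => hw.1) (by
    intro w hw hw'
    refine hfix w hw.1 ?_
    have h := hw'.2
    rw [map_mul, map_mul, map_inv, hτσ, hw.2, inv_inv, mul_inv_rev, mul_inv_rev, inv_inv] at h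
    have := congrArg (fun t => t⁻¹) h
    simpa [mul_assoc] using this)
  have hAB : Nat.card A * Nat.card B = Nat.card R := by
    rw [← Nat.card_prod]
    refine Nat.card_eq_of_bijective
      (fun p : A × B => (⟨(p.1 : G) * p.2, mul_mem (hAmem.1 p.1.2).1 p.2.2.1⟩ : R)) ⟨?_, ?_⟩
    · rintro ⟨a, b⟩ ⟨a', b'⟩ h
      have h' : (a : G) * b = (a' : G) * b' := congrArg Subtype.val h
      have h2 : (a' : G)⁻¹ * a = (b' : G) * (b : G)⁻¹ := by
        rw [eq_mul_inv_iff_mul_eq, mul_assoc, h', inv_mul_cancel_left]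
      have hfA := (hAmem.1 (mul_mem (inv_mem a'.2) a.2 : (a' : G)⁻¹ * a ∈ A)).2
      have hfB := (mul_mem b'.2 (inv_mem b.2) : (b' : G) * (b : G)⁻¹ ∈ B).2
      rw [← h2, hfA] at hfB
      have h1 : (a' : G)⁻¹ * a = 1 := by
        obtain ⟨n, hn⟩ : Odd (orderOf ((a' : G)⁻¹ * a)) := hodd.of_dvd_nat (orderOf_dvd_natCard _)
        have hsq1 : ((a' : G)⁻¹ * a) ^ 2 = 1 := by
          rw [pow_two]
          exact eq_inv_iff_mul_eq_one.1 hfB
        have := pow_orderOf_eq_one ((a' : G)⁻¹ * a)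
        rwa [hn, pow_succ, pow_mul, hsq1, one_pow, one_mul] at this
      have ha : (a : G) = a' := (inv_mul_eq_one.1 h1).symm
      exact Prod.ext (Subtype.ext ha) (Subtype.ext (mul_left_cancel (ha ▸ h' : (a' : G) * b = a' * b')))
    · rintro ⟨g, hg⟩
      obtain ⟨f, e, rfl, hf, he, hmem⟩ := exists_split_odd hodd τ hτ g
      have heR : e ∈ R := (Subgroup.zpowers_le.2 (mul_mem (inv_mem hg) (hRτ _ hg))) hmem
      have hfR : f ∈ R := by simpa using mul_mem hg (inv_mem heR)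
      exact ⟨(⟨f, hAmem.2 ⟨hfR, hf⟩⟩, ⟨e, ⟨heR, he⟩⟩), rfl⟩
  obtain ⟨i, hi⟩ := IsPGroup.iff_card.1 ((hV3.to_le (inf_le_left.trans hRV)) : IsPGroup 3 A)
  have hRle : Nat.card R ≤ 81 := (Subgroup.card_le_of_le hRV).trans hV
  have hR1 : R ≠ ⊥ := fun e => by
    obtain ⟨v, hv, hvc⟩ := hne
    exact hvc (commutatorElement_eq_one_iff_commute.1 (Subgroup.mem_bot.1 (e ▸ hRmem.2 ⟨v, hv, rfl⟩)))
  have hApos : 0 < Nat.card A := Nat.card_pos
  have hBpos : 0 < Nat.card B := Nat.card_pos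
  have hBA : Nat.card B = Nat.card A := le_antisymm
    (Nat.le_of_mul_le_mul_right (hAB ▸ hB) hBpos) (Nat.le_of_mul_le_mul_left (hAB ▸ hA) hApos)
  rw [hBA, hi, ← pow_add] at hAB
  have hi2 : i ≤ 2 := by
    by_contra hlt
    have := hAB ▸ hRle
    have : 3 ^ 6 ≤ 3 ^ (i + i) := Nat.pow_le_pow_right (by norm_num) (by omega)
    omega
  have hmod := modEq_one hzr hRz hfree
  rw [← hAB] at hmod
  interval_cases i
  · exact absurd (Subgroup.card_eq_one.1 hAB.symm) hR1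
  · exfalso
    have hdvd : r ∣ 9 - 1 := (Nat.modEq_iff_dvd' (by norm_num)).1 hmod.symm
    have := (Nat.prime_dvd_prime_iff_eq hr Nat.prime_two).1
      (hr.dvd_of_dvd_pow (show r ∣ 2 ^ 3 by simpa using hdvd))
    exact hr2 this
  · have hdvd : r ∣ 81 - 1 := (Nat.modEq_iff_dvd' (by norm_num)).1 hmod.symm
    have hr5 : r = 5 := by
      rcases hr.dvd_mul.1 (show r ∣ 2 ^ 4 * 5 by simpa using hdvd) with h | h
      · exact absurd ((Nat.prime_dvd_prime_iff_eq hr Nat.prime_two).1 (hr.dvd_of_dvd_pow h)) hr2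
      · exact (Nat.prime_dvd_prime_iff_eq hr Nat.prime_five).1 h
    have hR81 : Nat.card R = 81 := by rw [← hAB]; norm_num
    have hRVeq : R = V := Subgroup.eq_of_le_of_card_ge hRV (hR81 ▸ hV)
    exact ⟨hr5, hRVeq ▸ hR81, fun v hv hc => hfree v (hRVeq ▸ hv) hc,
      fun w hw => hRmem.1 (hRVeq ▸ hw)⟩

end Cfsg.Agent.Invol.JankoWard.CaseD
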