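import Cfsg.Agent.Lib.Invol.JankoWard.Interface
import Mathlib.Tactic.LinearCombination
import Mathlib.Tactic.Linarith
import Mathlib.Tactic.Group

/-!
# The centraliser of the involution: elementary facts
-/

set_option autoImplicit false
set_option linter.unusedSectionVars false
set_option linter.style.haveILetI false

namespace Cfsg.Agent.Invol.JankoWard

universe u v

namespace LData

variable {P : Type v} [Group P] (D : LData P)
include D

theorem q_odd : Odd D.q := by
  rw [D.hf]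
  exact (D.hp.odd_of_ne_two D.p_odd).pow

theorem m_ge : 5 ≤ D.m := by
  have h3 := D.r3
  rcases D.hδ with h | h <;> simp only [m, h] <;> omega

theorem q_eq_m : (D.q : ℤ) = 2 * D.m - D.δ := by
  have := D.hq; simp only [m]; linarith

theorem m_odd : Odd D.m := by
  rcases D.hδ with h | h
  · exact ⟨D.r, by simp only [m, h]⟩
  · exact ⟨(D.r : ℤ) - 1, by simp only [m, h]; ring⟩

theorem q_ge : 11 ≤ D.q := by
  have h := D.hq
  have h3 := D.r3
  rcases D.hδ with e | e <;> omega

/-- The odd part of the order of `P`. -/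
def E : ℕ := D.r * D.q * D.m.natAbs

theorem E_odd : Odd D.E := (D.r_odd.mul D.q_odd).mul (Int.natAbs_odd.2 D.m_odd)

theorem natAbs_m : (D.m.natAbs : ℤ) = D.m := Int.natAbs_of_nonneg (by have := D.m_ge; omega)

theorem card_eq : Nat.card P = 4 * D.E := by
  have hc : ((Nat.card P * 2 : ℕ) : ℤ) = ((D.q * ((D.q - 1) * (D.q + 1)) : ℕ) : ℤ) := by rw [D.card_P]
  have hq1 : 1 ≤ D.q := by have := D.q_ge; omega
  push_cast [Nat.cast_sub hq1] at hc
  have hprod : ((D.q : ℤ) - 1) * ((D.q : ℤ) + 1) = 8 * D.r * D.m := by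
    have h := D.hq
    rcases D.hδ with e | e <;> rw [h] <;> simp only [m, e] <;> ring
  have h2 : ((Nat.card P : ℤ)) = 4 * ((D.r : ℤ) * D.q * D.m) := by
    rw [hprod] at hc; linarith
  have h3 : ((Nat.card P : ℤ)) = ((4 * D.E : ℕ) : ℤ) := by
    rw [h2]; simp only [E]; push_cast [D.natAbs_m]; ring
  exact_mod_cast h3

theorem card_pos : 0 < D.E := D.E_odd.pos

theorem finite : Finite P :=
  Nat.finite_of_card_ne_zero (by rw [D.card_eq]; have := D.card_pos; omega)

theorem pow_E_iff {a : P} : a ^ D.E = 1 ↔ Odd (orderOf a) := by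
  haveI := D.finite
  constructor
  · intro h
    exact D.E_odd.of_dvd_nat (orderOf_dvd_of_pow_eq_one h)
  · intro h
    refine orderOf_dvd_iff_pow_eq_one.1 ?_
    have h4 : Nat.Coprime (orderOf a) 4 := by
      rw [show (4 : ℕ) = 2 ^ 2 by norm_num]
      exact ((Nat.prime_two.coprime_iff_not_dvd.2 (by
        rw [← even_iff_two_dvd]; exact Nat.not_even_iff_odd.2 h)).pow_left 2).symm
    exact h4.dvd_of_dvd_mul_left (D.card_eq ▸ orderOf_dvd_natCard a)

theorem orderOf_u : orderOf D.u = 2 :=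
  orderOf_eq_prime (by rw [pow_two]; exact D.u2) D.u1

theorem not_two_dvd_r : ¬ 2 ∣ D.r := by
  rw [← even_iff_two_dvd]; exact Nat.not_even_iff_odd.2 D.r_odd

theorem pow_r {y : P} (hy : y ∈ D.Y) : y ^ D.r = 1 := by
  haveI := D.finite
  have h : (⟨y, hy⟩ : D.Y) ^ Nat.card D.Y = 1 := pow_card_eq_one'
  rw [D.card_Y] at h
  exact congrArg Subtype.val h

theorem odd_Y {y : P} (hy : y ∈ D.Y) : Odd (orderOf y) :=
  D.r_odd.of_dvd_nat (orderOf_dvd_of_pow_eq_one (D.pow_r hy))

end LData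

namespace Base

variable {G : Type u} [Group G] {P : Type v} [Group P] (S : Base G P)

theorem tt : S.t * S.t = 1 := by rw [← pow_two, ← S.ht, pow_orderOf_eq_one]

theorem t_inv : S.t⁻¹ = S.t := inv_eq_of_mul_eq_one_right S.tt

theorem t_ne : S.t ≠ 1 := fun h => by
  have := S.ht; rw [h, orderOf_one] at this; norm_num at this

theorem t_mul_ne (k k' : P) : S.t * S.ι k ≠ S.ι k' := fun h => S.t_not (k' * k⁻¹) (by
  rw [map_mul, map_inv, ← h, mul_inv_cancel_right])

/-- The centraliser of the involution. -/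
abbrev C : Subgroup G := Subgroup.centralizer ({S.t} : Set G)

theorem mem_C {c : G} : c ∈ S.C ↔ c * S.t = S.t * c := Subgroup.mem_centralizer_singleton_iff

theorem ι_mem (k : P) : S.ι k ∈ S.C := S.mem_C.2 (S.tc k)

theorem t_mem : S.t ∈ S.C := S.mem_C.2 rfl

theorem uniq {c : G} {k k' : P} (h : c = S.ι k ∨ c = S.t * S.ι k)
    (h' : c = S.ι k' ∨ c = S.t * S.ι k') : k = k' := by
  rcases h with h | h <;> rcases h' with h' | h' <;> rw [h] at h'
  · exact S.inj h'
  · exact absurd h'.symm (S.t_mul_ne _ _)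
  · exact absurd h' (S.t_mul_ne _ _)
  · exact S.inj (mul_left_cancel h')

theorem t_ι (k k' : P) : S.ι k * (S.t * S.ι k') = S.t * S.ι (k * k') := by
  rw [map_mul, ← mul_assoc, S.tc k, mul_assoc]

theorem mul_spec {a b : G} {ka kb : P} (ha : a = S.ι ka ∨ a = S.t * S.ι ka)
    (hb : b = S.ι kb ∨ b = S.t * S.ι kb) :
    a * b = S.ι (ka * kb) ∨ a * b = S.t * S.ι (ka * kb) := by
  rcases ha with rfl | rfl <;> rcases hb with rfl | rfl
  · exact Or.inl (map_mul _ _ _).symm
  · exact Or.inr (S.t_ι _ _)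
  · exact Or.inr (by rw [map_mul, mul_assoc])
  · refine Or.inl ?_
    rw [mul_assoc, S.t_ι, ← mul_assoc, S.tt, one_mul]

/-- The projection of the centraliser on `P`. -/
noncomputable def κ : S.C →* P :=
  MonoidHom.mk' (fun c => (S.cover c (S.mem_C.1 c.2)).choose) fun a b =>
    S.uniq (S.cover _ (S.mem_C.1 (a * b).2)).choose_spec
      (S.mul_spec (S.cover a (S.mem_C.1 a.2)).choose_spec (S.cover b (S.mem_C.1 b.2)).choose_spec)

theorem κ_spec (c : S.C) : (c : G) = S.ι (S.κ c) ∨ (c : G) = S.t * S.ι (S.κ c) :=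
  (S.cover c (S.mem_C.1 c.2)).choose_spec

theorem κ_eq {c : S.C} {k : P} (h : (c : G) = S.ι k ∨ (c : G) = S.t * S.ι k) : S.κ c = k :=
  S.uniq (S.κ_spec c) h

theorem κ_ι (k : P) : S.κ ⟨S.ι k, S.ι_mem k⟩ = k := S.κ_eq (Or.inl rfl)

theorem commute (k : P) : Commute S.t (S.ι k) := (S.tc k).symm

/-- An element of odd order in the centraliser lies in `ι P`. -/
theorem odd_mem {c : G} (hc : c * S.t = S.t * c) (hodd : Odd (orderOf c)) : ∃ k, c = S.ι k := by
  obtain ⟨k, hk | hk⟩ := S.cover c hc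
  · exact ⟨k, hk⟩
  · exfalso
    have h1 : c ^ orderOf c = 1 := pow_orderOf_eq_one c
    obtain ⟨j, hj⟩ := hodd
    rw [hj, hk, (S.commute k).mul_pow, pow_succ S.t, pow_mul, pow_two, S.tt, one_pow, one_mul,
      ← map_pow] at h1
    exact S.t_mul_ne _ _ (h1.trans (map_one S.ι).symm)

/-- The bijection of `Bool × P` with the centraliser. -/
def pairMap (p : Bool × P) : S.C :=
  ⟨(bif p.1 then S.t else 1) * S.ι p.2, mul_mem (by cases p.1 <;> simp [S.t_mem, one_mem]) (S.ι_mem _)⟩

theorem pairMap_bijective : Function.Bijective S.pairMap := by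
  refine ⟨?_, fun c => ?_⟩
  · rintro ⟨s, k⟩ ⟨s', k'⟩ h
    have h' := congrArg Subtype.val h
    cases s <;> cases s' <;> simp only [pairMap, cond_true, cond_false, one_mul] at h'
    · rw [S.inj h']
    · exact absurd h'.symm (S.t_mul_ne _ _)
    · exact absurd h' (S.t_mul_ne _ _)
    · rw [S.inj (mul_left_cancel h')]
  · rcases S.κ_spec c with h | h
    · exact ⟨(false, S.κ c), Subtype.ext (by simp [pairMap, ← h])⟩
    · exact ⟨(true, S.κ c), Subtype.ext (by simp [pairMap, ← h])⟩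

theorem card_C : Nat.card S.C = 2 * Nat.card P := by
  rw [← Nat.card_eq_of_bijective _ S.pairMap_bijective, Nat.card_prod, Nat.card_eq_fintype_card (α := Bool),
    Fintype.card_bool]

theorem pow_E_t {k : P} (hk : k ^ S.D.E = 1) : (S.t * S.ι k) ^ S.D.E = S.t := by
  rw [(S.commute k).mul_pow, ← map_pow, hk, map_one, mul_one]
  obtain ⟨j, hj⟩ := S.D.E_odd
  rw [hj, pow_succ, pow_mul, pow_two, S.tt, one_pow, one_mul]

theorem orderOf_ι (k : P) : orderOf (S.ι k) = orderOf k := orderOf_injective _ S.inj k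

end Base

end Cfsg.Agent.Invol.JankoWard
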