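import Cfsg.Agent.Lib.Grp.FT.NoMinSimple
import Mathlib.LinearAlgebra.Matrix.GeneralLinearGroup.Defs
import Mathlib.LinearAlgebra.Matrix.Notation
import Mathlib.Algebra.Field.ZMod
import Mathlib.GroupTheory.Solvable

/-!
An `r'`-subgroup of `GL₂(r)` that contains `diag(1, l)`, `l² ≠ 1`, and maps the first basis vector to no other of its
multiples is diagonal and fixes it.
-/

set_option autoImplicit false
set_option linter.unusedSectionVars false
set_option linter.style.haveILetI false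

namespace Cfsg.Agent.Invol.JankoWard.CaseA

open Subgroup Matrix
open scoped commutatorElement

variable {r : ℕ} [hr : Fact r.Prime]

theorem eq_of_entries {A B : Matrix (Fin 2) (Fin 2) (ZMod r)} (h00 : A 0 0 = B 0 0) (h01 : A 0 1 = B 0 1)
    (h10 : A 1 0 = B 1 0) (h11 : A 1 1 = B 1 1) : A = B := by
  ext i j
  fin_cases i <;> fin_cases j <;> assumption

theorem unipotent_pow {A : Matrix (Fin 2) (Fin 2) (ZMod r)} {x y : ZMod r} (hxy : x * y = 0)
    (h : A = !![1, x; y, 1]) (n : ℕ) : A ^ n = !![1, n * x; n * y, 1] := by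
  induction n with
  | zero => refine eq_of_entries ?_ ?_ ?_ ?_ <;> simp
  | succ n ih =>
    rw [pow_succ, ih, h]
    have h' : y * x = 0 := by rw [mul_comm]; exact hxy
    refine eq_of_entries ?_ ?_ ?_ ?_ <;> simp [Matrix.mul_apply, Fin.sum_univ_two, mul_assoc, hxy, h'] <;> ring

set_option maxHeartbeats 1000000 in
-- one structural proof
theorem gamma_fixed (h2 : r ≠ 2) (Γ : Subgroup (GL (Fin 2) (ZMod r))) (hcop : ¬ r ∣ Nat.card Γ)
    (hfix : ∀ g : GL (Fin 2) (ZMod r), g ∈ Γ → (g : Matrix (Fin 2) (Fin 2) (ZMod r)) 1 0 = 0 →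
      (g : Matrix (Fin 2) (Fin 2) (ZMod r)) 0 0 ≠ 0 → (g : Matrix (Fin 2) (Fin 2) (ZMod r)) 0 0 = 1)
    {l : ZMod r} (hD : ∃ g : GL (Fin 2) (ZMod r), g ∈ Γ ∧ (g : Matrix (Fin 2) (Fin 2) (ZMod r)) = !![1, 0; 0, l])
    (hl2 : l ^ 2 ≠ 1) : ∀ g ∈ Γ, (g : Matrix (Fin 2) (Fin 2) (ZMod r)) 0 0 = 1 ∧
      (g : Matrix (Fin 2) (Fin 2) (ZMod r)) 1 0 = 0 ∧ (g : Matrix (Fin 2) (Fin 2) (ZMod r)) 0 1 = 0 := by
  classical
  obtain ⟨d, hd, hdM⟩ := hD
  have hl0 : l ≠ 0 := fun h => by
    have := (Matrix.isUnit_iff_isUnit_det _).1 d.isUnit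
    rw [hdM, Matrix.det_fin_two, h] at this
    simp at this
  have hl1 : l ≠ 1 := fun h => hl2 (by rw [h, one_pow])
  have two : (2 : ZMod r) ≠ 0 := fun h => by
    rw [← Nat.cast_two, ZMod.natCast_eq_zero_iff] at h
    exact h2 ((Nat.prime_dvd_prime_iff_eq hr.out Nat.prime_two).1 h)
  have hne1 : (-1 : ZMod r) ≠ 1 := fun h => two (by linear_combination -h)
  -- a unipotent triangular element is trivial
  have huni : ∀ g ∈ Γ, ∀ x y : ZMod r, x * y = 0 → (g : Matrix (Fin 2) (Fin 2) (ZMod r)) = !![1, x; y, 1] →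
      x = 0 ∧ y = 0 := by
    intro g hg x y hxy h
    have hr1 : g ^ r = 1 := Units.ext (by
      rw [Units.val_pow_eq_pow_val, unipotent_pow hxy h, ZMod.natCast_self, zero_mul, zero_mul, Units.val_one,
        Matrix.one_fin_two])
    have hg1 : g = 1 := by
      have h3 : orderOf g ∣ Nat.card Γ := Γ.orderOf_dvd_natCard hg
      rcases (Nat.dvd_prime hr.out).1 (orderOf_dvd_of_pow_eq_one hr1) with e | e
      · exact orderOf_eq_one_iff.1 e
      · exact absurd (dvd_trans (dvd_of_eq e.symm) h3) hcop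
    rw [hg1, Units.val_one] at h
    exact ⟨by simpa using (congrFun (congrFun h 0) 1).symm, by simpa using (congrFun (congrFun h 1) 0).symm⟩
  -- the determinant one part
  set S : Subgroup ↥Γ := (Matrix.GeneralLinearGroup.det.comp Γ.subtype).ker with hS
  have hSdet : ∀ s : ↥S, ((s : ↥Γ).1 : Matrix (Fin 2) (Fin 2) (ZMod r)).det = 1 := fun s =>
    congrArg Units.val (MonoidHom.mem_ker.1 s.2)
  have hodd : Odd (Nat.card S) := by
    refine Nat.not_even_iff_odd.1 fun hev => ?_
    haveI : Fact (Nat.Prime 2) := ⟨Nat.prime_two⟩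
    obtain ⟨g, hg⟩ := exists_prime_orderOf_dvd_card' (G := ↥S) 2 (even_iff_two_dvd.1 hev)
    set A := ((g : ↥Γ).1 : Matrix (Fin 2) (Fin 2) (ZMod r))
    have hA2 : A * A = 1 := by
      have : g * g = 1 := by
        rw [← pow_two]; exact orderOf_dvd_iff_pow_eq_one.1 (dvd_of_eq hg)
      exact congrArg (fun z : ↥S => ((z : ↥Γ).1 : Matrix (Fin 2) (Fin 2) (ZMod r))) this
    have hdet : A.det = 1 := hSdet g
    rw [Matrix.det_fin_two] at hdet
    have e00 := congrFun (congrFun hA2 0) 0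
    have e01 := congrFun (congrFun hA2 0) 1
    have e10 := congrFun (congrFun hA2 1) 0
    have e11 := congrFun (congrFun hA2 1) 1
    simp [Matrix.mul_apply, Fin.sum_univ_two] at e00 e01 e10 e11
    have htr : A 0 0 + A 1 1 ≠ 0 := fun h0 => by
      have h11 : A 1 1 = -A 0 0 := by linear_combination h0
      rw [h11] at hdet
      exact hne1 (by linear_combination hdet + e00)
    have hb : A 0 1 = 0 := (mul_eq_zero.1 (show A 0 1 * (A 0 0 + A 1 1) = 0 by linear_combination e01)).resolve_right htr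
    have hc : A 1 0 = 0 := (mul_eq_zero.1 (show A 1 0 * (A 0 0 + A 1 1) = 0 by linear_combination e10)).resolve_right htr
    rw [hb, hc, mul_zero, sub_zero] at hdet
    have ha0 : A 0 0 ≠ 0 := fun h0 => by rw [h0, zero_mul] at hdet; exact zero_ne_one hdet
    have ha := hfix _ (g : ↥Γ).2 hc ha0
    rw [show A 0 0 = 1 from ha, one_mul] at hdet
    have : g = 1 := Subtype.ext (Subtype.ext (Units.ext (eq_of_entries
      (by simpa using ha) (by simpa using hb) (by simpa using hc) (by simpa using hdet))))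
    rw [this, orderOf_one] at hg
    omega
  -- it is trivial
  have hSbot : S = ⊥ := by
    by_contra hne
    haveI hsol : Group.IsSolvable ↥S :=
      Cfsg.Agent.Grp.FT.odd_order_of (fun H _ _ hH => Cfsg.Agent.Grp.FT.noMinSimpleOdd H hH) _ hodd
    obtain ⟨n, hn⟩ := hsol.solvable
    haveI : Nontrivial ↥S := (Subgroup.nontrivial_iff_ne_bot S).2 hne
    obtain ⟨k, hk, hk1⟩ : ∃ k, derivedSeries ↥S k ≠ ⊥ ∧ derivedSeries ↥S (k + 1) = ⊥ := by
      classical
      have hex : ∃ n, derivedSeries ↥S n = ⊥ := ⟨n, hn⟩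
      have h0 : Nat.find hex ≠ 0 := fun h => by
        have := Nat.find_spec hex
        rw [h, derivedSeries_zero] at this
        exact top_ne_bot this
      obtain ⟨k, hk⟩ := Nat.exists_eq_succ_of_ne_zero h0
      exact ⟨k, Nat.find_min hex (by omega), by
        have := Nat.find_spec hex
        rwa [hk] at this⟩
    set Ab := (derivedSeries ↥S k).map S.subtype with hAb
    haveI hAn : Ab.Normal := ConjAct.normal_of_characteristic_of_normal
    obtain ⟨⟨g, hg⟩, hg1⟩ : ∃ g : ↥(derivedSeries ↥S k), g ≠ 1 := by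
      haveI : Nontrivial ↥(derivedSeries ↥S k) := (Subgroup.nontrivial_iff_ne_bot _).2 hk
      exact exists_ne 1
    set dΓ : ↥Γ := ⟨d, hd⟩
    have hB : dΓ * (g : ↥Γ) * dΓ⁻¹ ∈ Ab := hAn.conj_mem _ (mem_map_of_mem S.subtype hg) dΓ
    obtain ⟨b, hb, hbe⟩ := hB
    have hcomm : g * b = b * g := by
      have h : ⁅g, b⁆ = 1 := by
        have h := Subgroup.commutator_mem_commutator hg hb
        rw [← derivedSeries_succ, hk1] at h
        exact mem_bot.1 h
      exact commutatorElement_eq_one_iff_mul_comm.1 h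
    set A := ((g : ↥Γ).1 : Matrix (Fin 2) (Fin 2) (ZMod r))
    set B := ((b : ↥Γ).1 : Matrix (Fin 2) (Fin 2) (ZMod r))
    have hBd : B * !![1, 0; 0, l] = !![1, 0; 0, l] * A := by
      have h1 : (b : ↥Γ) * dΓ = dΓ * (g : ↥Γ) := by
        rw [show (b : ↥Γ) = dΓ * (g : ↥Γ) * dΓ⁻¹ from hbe, inv_mul_cancel_right]
      rw [← hdM]
      exact congrArg (fun z : ↥Γ => (z.1 : Matrix (Fin 2) (Fin 2) (ZMod r))) h1
    have hAB : A * B = B * A := congrArg (fun z : ↥S => ((z : ↥Γ).1 : Matrix (Fin 2) (Fin 2) (ZMod r))) hcomm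
    have d00 := congrFun (congrFun hBd 0) 0
    have d01 := congrFun (congrFun hBd 0) 1
    have d10 := congrFun (congrFun hBd 1) 0
    have d11 := congrFun (congrFun hBd 1) 1
    simp [Matrix.mul_apply, Fin.sum_univ_two] at d00 d01 d10 d11
    have d11' : B 1 1 = A 1 1 := mul_right_cancel₀ hl0 (d11.trans (mul_comm _ _))
    have c00 := congrFun (congrFun hAB 0) 0
    have c01 := congrFun (congrFun hAB 0) 1
    have c10 := congrFun (congrFun hAB 1) 0
    simp [Matrix.mul_apply, Fin.sum_univ_two] at c00 c01 c10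
    have hdet : A.det = 1 := hSdet g
    rw [Matrix.det_fin_two] at hdet
    have hqs : A 0 1 * A 1 0 = 0 := by
      refine (mul_eq_zero.1 (show A 0 1 * A 1 0 * (l ^ 2 - 1) = 0 from ?_)).resolve_right (sub_ne_zero.2 hl2)
      rw [d10, d00] at c00
      linear_combination l * c00 + A 1 0 * d01
    have hqp : A 0 1 * (A 0 0 - A 1 1) = 0 := by
      refine (mul_eq_zero.1 (show A 0 1 * (A 0 0 - A 1 1) * (1 - l) = 0 from ?_)).resolve_right
        (sub_ne_zero.2 (Ne.symm hl1))
      rw [d00, d11'] at c01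
      linear_combination l * c01 + (A 1 1 - A 0 0) * d01
    have hsp : A 1 0 * (A 0 0 - A 1 1) = 0 := by
      refine (mul_eq_zero.1 (show A 1 0 * (A 0 0 - A 1 1) * (1 - l) = 0 from ?_)).resolve_right
        (sub_ne_zero.2 (Ne.symm hl1))
      rw [d00, d11', d10] at c10
      linear_combination c10
    rw [hqs, sub_zero] at hdet
    have hp0 : A 0 0 ≠ 0 := fun h0 => by rw [h0, zero_mul] at hdet; exact zero_ne_one hdet
    refine hg1 (Subtype.ext (Subtype.ext (Subtype.ext (Units.ext ?_))))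
    show A = 1
    rcases mul_eq_zero.1 hqs with hq | hs
    · by_cases hs : A 1 0 = 0
      · have hp := hfix _ (g : ↥Γ).2 hs hp0
        rw [show A 0 0 = 1 from hp, one_mul] at hdet
        exact eq_of_entries (by simpa using hp) (by simpa using hq) (by simpa using hs) (by simpa using hdet)
      · exfalso
        have hpt : A 0 0 = A 1 1 := sub_eq_zero.1 ((mul_eq_zero.1 hsp).resolve_left hs)
        rw [← hpt] at hdet
        rcases mul_self_eq_one_iff.1 hdet with hp | hp
        · exact hs (huni _ (g : ↥Γ).2 0 (A 1 0) (zero_mul _)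
            (eq_of_entries (by simpa using hp) (by simpa using hq) (by simp [A]) (by simpa [A] using hpt.symm.trans hp))).2
        · have h := (huni _ ((g : ↥Γ) * (g : ↥Γ)).2 0 (-2 * A 1 0) (zero_mul _) ?_).2
          · exact hs ((mul_eq_zero.1 h).resolve_left (neg_ne_zero.2 two))
          · show A * A = _
            refine eq_of_entries ?_ ?_ ?_ ?_ <;>
              simp [Matrix.mul_apply, Fin.sum_univ_two, hq, hp, ← hpt] <;> ring
    · by_cases hq : A 0 1 = 0
      · have hp := hfix _ (g : ↥Γ).2 hs hp0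
        rw [show A 0 0 = 1 from hp, one_mul] at hdet
        exact eq_of_entries (by simpa using hp) (by simpa using hq) (by simpa using hs) (by simpa using hdet)
      · exfalso
        have hpt : A 0 0 = A 1 1 := sub_eq_zero.1 ((mul_eq_zero.1 hqp).resolve_left hq)
        have hp := hfix _ (g : ↥Γ).2 hs hp0
        exact hq (huni _ (g : ↥Γ).2 (A 0 1) 0 (mul_zero _)
          (eq_of_entries (by simpa using hp) (by simp [A]) (by simpa using hs) (by simpa [A] using hpt.symm.trans hp))).1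
  -- everything commutes with `d`
  intro g hg
  have hc : (⁅(⟨g, hg⟩ : ↥Γ), (⟨d, hd⟩ : ↥Γ)⁆) ∈ S := by
    rw [hS, MonoidHom.mem_ker, map_commutatorElement]
    exact commutatorElement_eq_one_iff_mul_comm.2 (mul_comm _ _)
  rw [hSbot, mem_bot] at hc
  have hgd := congrArg (fun z : ↥Γ => (z.1 : Matrix (Fin 2) (Fin 2) (ZMod r))) (commutatorElement_eq_one_iff_mul_comm.1 hc)
  simp only [Subgroup.coe_mul, Units.val_mul, hdM] at hgd
  set A := (g : Matrix (Fin 2) (Fin 2) (ZMod r))
  have h01 := congrFun (congrFun hgd 0) 1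
  have h10 := congrFun (congrFun hgd 1) 0
  simp [Matrix.mul_apply, Fin.sum_univ_two] at h01 h10
  have hb : A 0 1 = 0 :=
    (mul_eq_zero.1 (show A 0 1 * (l - 1) = 0 by linear_combination h01)).resolve_right (sub_ne_zero.2 hl1)
  have hc0 : A 1 0 = 0 :=
    (mul_eq_zero.1 (show A 1 0 * (l - 1) = 0 by linear_combination -h10)).resolve_right (sub_ne_zero.2 hl1)
  refine ⟨hfix g hg hc0 fun h0 => ?_, hc0, hb⟩
  have := (Matrix.isUnit_iff_isUnit_det _).1 g.isUnit
  rw [Matrix.det_fin_two, show (g : Matrix (Fin 2) (Fin 2) (ZMod r)) 0 0 = 0 from h0,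
    show (g : Matrix (Fin 2) (Fin 2) (ZMod r)) 0 1 = 0 from hb] at this
  simp at this

end Cfsg.Agent.Invol.JankoWard.CaseA
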