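import Mathlib.Data.Matrix.Mul
import Mathlib.LinearAlgebra.Matrix.Notation
import Mathlib.Algebra.Field.ZMod
import Mathlib.GroupTheory.Abelianization.Defs
import Cfsg.Agent.Lib.Transfer.MaxClass

/-!
An `r`-group `K` with an element `a` of centraliser of order `r ^ 2` and a noncyclic one: the derived factor group is
elementary of order `r ^ 2`, its coset of `a` is the class of `a`; coordinates on it.
-/

set_option autoImplicit false
set_option linter.unusedSectionVars false
set_option linter.style.haveILetI false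

namespace Cfsg.Agent.Invol.JankoWard.CaseA

open Subgroup
open scoped commutatorElement

universe u

variable {K : Type u} [Group K] [Finite K] {r : ℕ} [hr : Fact r.Prime]

/-- The hypotheses on the element: it has order `r` and lies in an elementary subgroup of order `r ^ 2` that is its
centraliser. -/
structure SmallCent (K : Type u) [Group K] (a : K) (r : ℕ) : Prop where
  pgroup : IsPGroup r K
  ne : a ≠ 1
  card : Nat.card ↥(centralizer ({a} : Set K)) = r ^ 2
  exp : ∀ x, Commute x a → x ^ r = 1

namespace SmallCent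

variable {a : K}

/-- The map `g ↦ ⁅g, b⁆` from the cosets of the centraliser of `b` to the derived subgroup. -/
noncomputable def classMap (b : K) (q : K ⧸ centralizer ({b} : Set K)) : commutator K :=
  ⟨⁅q.out, b⁆, Subgroup.commutator_mem_commutator (mem_top _) (mem_top _)⟩

theorem classMap_injective (b : K) : Function.Injective (classMap b) := by
  intro p q h
  have h' : ⁅p.out, b⁆ = ⁅q.out, b⁆ := congrArg Subtype.val h
  rw [commutatorElement_def, commutatorElement_def, mul_left_inj] at h'
  rw [← QuotientGroup.out_eq' p, ← QuotientGroup.out_eq' q, QuotientGroup.eq, mem_centralizer_singleton_iff]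
  calc p.out⁻¹ * q.out * b = p.out⁻¹ * (q.out * b * q.out⁻¹) * q.out := by group
    _ = p.out⁻¹ * (p.out * b * p.out⁻¹) * q.out := by rw [h']
    _ = b * (p.out⁻¹ * q.out) := by group

variable (H : SmallCent K a r)
include H

theorem not_cyclic : ¬ IsCyclic K := by
  intro hc
  haveI : IsCyclic ↥(centralizer ({a} : Set K)) := isCyclic_of_injective _ (subtype_injective _)
  obtain ⟨g, hg⟩ := IsCyclic.exists_generator (α := ↥(centralizer ({a} : Set K)))
  have h1 := orderOf_eq_card_of_forall_mem_zpowers hg
  rw [H.card] at h1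
  have h2 : orderOf g ∣ r := orderOf_dvd_of_pow_eq_one (Subtype.ext (by
    rw [SubgroupClass.coe_pow, OneMemClass.coe_one]; exact H.exp g (mem_centralizer_singleton_iff.1 g.2)))
  rw [h1] at h2
  have h3 := Nat.le_of_dvd hr.out.pos h2
  have h4 := hr.out.two_le
  nlinarith

theorem index_commutator : (commutator K).index = r ^ 2 := by
  obtain ⟨n, hn⟩ := IsPGroup.iff_card.1 H.pgroup
  have h2n : 2 ≤ n := by
    have h1 := Subgroup.card_subgroup_dvd_card (centralizer ({a} : Set K))
    rw [H.card, hn] at h1
    exact (Nat.pow_dvd_pow_iff_le_right hr.out.one_lt).1 h1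
  obtain ⟨j, hj2, -, hj⟩ := Transfer.MaxClass.commutator_index_ge hn h2n
  have h0 : (centralizer ({a} : Set K)).index ≤ Nat.card (commutator K) := by
    rw [Subgroup.index_eq_card]
    exact Nat.card_le_card_of_injective _ (classMap_injective a)
  have h1 := Nat.mul_le_mul_left (r ^ 2) h0
  have h2 := (centralizer ({a} : Set K)).card_mul_index
  have h3 := (commutator K).card_mul_index
  rw [H.card] at h2
  rw [h2, ← h3, mul_comm (r ^ 2), hj] at h1
  have h4 : r ^ j ≤ r ^ 2 := Nat.le_of_mul_le_mul_left h1 Nat.card_pos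
  rw [hj, le_antisymm ((Nat.pow_le_pow_iff_right hr.out.one_lt).1 h4) hj2]

theorem pow_mem (x : K) : x ^ r ∈ commutator K := by
  by_cases hne : commutator K = ⊥
  · have hc : ∀ y, Commute y a := fun y =>
      commutatorElement_eq_one_iff_mul_comm.1 (mem_bot.1 (hne ▸ Subgroup.commutator_mem_commutator (mem_top y) (mem_top a)))
    rw [hne, mem_bot]
    exact H.exp x (hc x)
  · exact Transfer.MaxClass.pow_mem_commutator H.pgroup H.index_commutator hne x

/-- An element of the coset of `b` is conjugate to `b`. -/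
theorem exists_conj {b x : K} (hb : Nat.card ↥(centralizer ({b} : Set K)) = r ^ 2)
    (hx : x * b⁻¹ ∈ commutator K) : ∃ g, g * b * g⁻¹ = x := by
  have hcard : Nat.card (K ⧸ centralizer ({b} : Set K)) = Nat.card (commutator K) := by
    rw [← Subgroup.index_eq_card]
    have h2 := (centralizer ({b} : Set K)).card_mul_index
    have h3 := (commutator K).card_mul_index
    rw [hb] at h2
    rw [H.index_commutator] at h3
    exact Nat.eq_of_mul_eq_mul_left (pow_pos hr.out.pos 2) (h2.trans (h3.symm.trans (mul_comm _ _)))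
  obtain ⟨q, hq⟩ := ((Nat.bijective_iff_injective_and_card (classMap b)).2 ⟨classMap_injective b, hcard⟩).2
    ⟨x * b⁻¹, hx⟩
  refine ⟨q.out, ?_⟩
  have h' : ⁅q.out, b⁆ = x * b⁻¹ := congrArg Subtype.val hq
  rwa [commutatorElement_def, mul_left_inj] at h'

theorem not_mem : a ∉ commutator K := fun h => by
  obtain ⟨g, hg⟩ := H.exists_conj (x := 1) H.card (by rw [one_mul]; exact inv_mem h)
  exact H.ne (conj_eq_one_iff.1 hg)

theorem pow_zmod {c : ℕ} (hc : (c : ZMod r) ≠ 0) :
    Nat.card ↥(centralizer ({a ^ c} : Set K)) = r ^ 2 := by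
  rw [← H.card]
  have hco : c.Coprime (orderOf a) := by
    rw [orderOf_eq_prime (H.exp a (Commute.refl a)) H.ne]
    exact (hr.out.coprime_iff_not_dvd.2 fun h => hc ((ZMod.natCast_eq_zero_iff c r).2 h)).symm
  obtain ⟨m, hm⟩ := exists_pow_eq_self_of_coprime hco
  suffices h : centralizer ({a ^ c} : Set K) = centralizer ({a} : Set K) by rw [h]
  ext y
  rw [mem_centralizer_singleton_iff, mem_centralizer_singleton_iff]
  constructor
  · intro hy
    rw [← hm]
    exact (show Commute y (a ^ c) from hy).pow_right m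
  · intro hy
    exact ((show Commute y a from hy).pow_right c).eq

end SmallCent

/-- Coordinates on the derived factor group. -/
structure Coord (K : Type u) [Group K] (a y : K) (r : ℕ) where
  /-- the coordinates -/
  v : K → ZMod r × ZMod r
  map_mul : ∀ x x', v (x * x') = v x + v x'
  surj : Function.Surjective v
  ker : ∀ x, v x = 0 ↔ x ∈ commutator K
  va : v a = (1, 0)
  vy : v y = (0, 1)

theorem exists_addEquiv_aux {A : Type u} [AddCommGroup A] [Module (ZMod r) A] [Finite A] {p q : A} (hp : p ≠ 0)
    (hq : ∀ i : ℕ, q ≠ i • p) (hcard : Nat.card A = r ^ 2) :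
    ∃ E : A ≃+ ZMod r × ZMod r, E p = (1, 0) ∧ E q = (0, 1) := by
  let e : (ZMod r × ZMod r) →ₗ[ZMod r] A :=
    (LinearMap.toSpanSingleton (ZMod r) A p).coprod (LinearMap.toSpanSingleton (ZMod r) A q)
  have he : ∀ i j : ZMod r, e (i, j) = i • p + j • q := fun i j => by simp [e]
  have hinj : Function.Injective e := by
    refine (injective_iff_map_eq_zero e).2 fun ⟨i, j⟩ h => ?_
    rw [he] at h
    by_cases hj : j = 0
    · subst hj
      rw [zero_smul, add_zero] at h
      rcases smul_eq_zero.1 h with h' | h'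
      · rw [h']; rfl
      · exact absurd h' hp
    · exfalso
      refine hq (-(i / j)).val ?_
      rw [← Nat.cast_smul_eq_nsmul (ZMod r), ZMod.natCast_zmod_val, neg_smul, eq_neg_iff_add_eq_zero]
      have h2 := congrArg (fun z => j⁻¹ • z) h
      simp only [smul_add, smul_zero, smul_smul, inv_mul_cancel₀ hj, one_smul] at h2
      rw [div_eq_inv_mul, add_comm]
      exact h2
  have hbij := (Nat.bijective_iff_injective_and_card e).2
    ⟨hinj, by rw [Nat.card_prod, Nat.card_zmod, hcard, pow_two]⟩
  refine ⟨(LinearEquiv.ofBijective e hbij).symm.toAddEquiv, ?_, ?_⟩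
  · refine (LinearEquiv.symm_apply_eq _).2 ?_
    show p = e (1, 0)
    rw [he, one_smul, zero_smul, add_zero]
  · refine (LinearEquiv.symm_apply_eq _).2 ?_
    show q = e (0, 1)
    rw [he, one_smul, zero_smul, zero_add]

theorem exists_addEquiv {A : Type u} [AddCommGroup A] [Finite A] (hexp : ∀ z : A, r • z = 0) {p q : A} (hp : p ≠ 0)
    (hq : ∀ i : ℕ, q ≠ i • p) (hcard : Nat.card A = r ^ 2) :
    ∃ E : A ≃+ ZMod r × ZMod r, E p = (1, 0) ∧ E q = (0, 1) := by
  exact @exists_addEquiv_aux r _ A _ (AddCommGroup.zmodModule hexp) _ p q hp hq hcard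

theorem SmallCent.exists_coord {a y : K} (H : SmallCent K a r) (hy : ∀ i : ℕ, y * (a ^ i)⁻¹ ∉ commutator K) :
    Nonempty (Coord K a y r) := by
  let π : K → Additive (Abelianization K) := fun x => Additive.ofMul (Abelianization.of x)
  have hπ : ∀ x x', π (x * x') = π x + π x' := fun x x' => congrArg Additive.ofMul (map_mul _ x x')
  have hπ0 : ∀ x, π x = 0 ↔ x ∈ commutator K := fun x => by
    show Abelianization.of x = 1 ↔ _
    rw [← MonoidHom.mem_ker, Abelianization.ker_of]
  have hπs : Function.Surjective π := fun z => QuotientGroup.mk_surjective (Additive.toMul z)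
  have hexp : ∀ z : Additive (Abelianization K), r • z = 0 := by
    intro z
    obtain ⟨x, rfl⟩ := hπs z
    show Abelianization.of x ^ r = 1
    rw [← map_pow, ← MonoidHom.mem_ker, Abelianization.ker_of]
    exact H.pow_mem x
  have hq : ∀ i : ℕ, π y ≠ i • π a := fun i h => hy i ((hπ0 _).1 (by
    show Abelianization.of (y * (a ^ i)⁻¹) = 1
    have h2 : Abelianization.of y = Abelianization.of a ^ i := h
    rw [map_mul, map_inv, map_pow, h2, mul_inv_cancel]))
  have hcard : Nat.card (Additive (Abelianization K)) = r ^ 2 := by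
    rw [← H.index_commutator, Subgroup.index_eq_card]
    rfl
  obtain ⟨E, hEp, hEq⟩ := exists_addEquiv hexp (fun h => H.not_mem ((hπ0 a).1 h)) hq hcard
  exact ⟨⟨fun x => E (π x), fun x x' => by simp only [hπ, map_add], E.surjective.comp hπs,
    fun x => by rw [AddEquiv.map_eq_zero_iff]; exact hπ0 x, hEp, hEq⟩⟩

namespace Coord

variable {a y : K} (C : Coord K a y r)

/-- The coordinates as a homomorphism. -/
def hom : K →* Multiplicative (ZMod r × ZMod r) :=
  MonoidHom.mk' (fun x => Multiplicative.ofAdd (C.v x)) fun x x' => congrArg Multiplicative.ofAdd (C.map_mul x x')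

theorem v_pow (x : K) (n : ℕ) : C.v (x ^ n) = n • C.v x :=
  congrArg Multiplicative.toAdd (map_pow C.hom x n)

theorem v_one : C.v 1 = 0 := congrArg Multiplicative.toAdd (map_one C.hom)

theorem v_inv (x : K) : C.v x⁻¹ = -C.v x := congrArg Multiplicative.toAdd (map_inv C.hom x)

theorem v_conj (g x : K) : C.v (g * x * g⁻¹) = C.v x := by
  rw [C.map_mul, C.map_mul, C.v_inv]; abel

/-- Elements with the coordinates of a power of `a` are conjugate to it. -/
theorem exists_conj (H : SmallCent K a r) {x : K} {c : ZMod r} (hc : c ≠ 0) (hx : C.v x = (c, 0)) :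
    ∃ g, g * a ^ c.val * g⁻¹ = x := by
  refine H.exists_conj (H.pow_zmod (by rwa [ZMod.natCast_zmod_val])) ((C.ker _).1 ?_)
  rw [C.map_mul, C.v_inv, C.v_pow, hx, C.va]
  refine Prod.ext ?_ ?_ <;> simp

/-- The matrix of an endomorphism. -/
def mat (f : K → K) : Matrix (Fin 2) (Fin 2) (ZMod r) :=
  !![(C.v (f a)).1, (C.v (f y)).1; (C.v (f a)).2, (C.v (f y)).2]

theorem v_map (f : K →* K) (x : K) :
    C.v (f x) = (C.mat f 0 0 * (C.v x).1 + C.mat f 0 1 * (C.v x).2,
      C.mat f 1 0 * (C.v x).1 + C.mat f 1 1 * (C.v x).2) := by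
  set x' : K := a ^ (C.v x).1.val * y ^ (C.v x).2.val with hx'
  have h1 : C.v x' = C.v x := by
    rw [hx', C.map_mul, C.v_pow, C.v_pow, C.va, C.vy]
    refine Prod.ext ?_ ?_ <;> simp
  have h2 : x' * x⁻¹ ∈ commutator K := (C.ker _).1 (by rw [C.map_mul, C.v_inv, h1, add_neg_cancel])
  have h3 : f (x' * x⁻¹) ∈ commutator K := by
    have := Subgroup.mem_map_of_mem f h2
    rw [commutator_def, Subgroup.map_commutator] at this
    exact Subgroup.commutator_mono le_top le_top this
  have h4 := (C.ker _).2 h3
  rw [_root_.map_mul, map_inv, C.map_mul, C.v_inv, add_neg_eq_zero] at h4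
  rw [← h4, hx', _root_.map_mul, map_pow, map_pow, C.map_mul, C.v_pow, C.v_pow]
  refine Prod.ext ?_ ?_ <;> simp [mat, mul_comm]

theorem mat_comp (f g : K →* K) : C.mat (f ∘ g) = C.mat f * C.mat g := by
  ext i j
  rw [Matrix.mul_apply, Fin.sum_univ_two]
  fin_cases i <;> fin_cases j <;>
    simp [mat, C.v_map f (g a), C.v_map f (g y)]

theorem mat_id : C.mat id = 1 := by
  ext i j
  fin_cases i <;> fin_cases j <;> simp [mat, C.va, C.vy]

end Coord

end Cfsg.Agent.Invol.JankoWard.CaseA
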