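import Cfsg.Agent.Lib.Invol.GW.Klein.ThreeClassBasic
import Mathlib.GroupTheory.Transfer
import Mathlib.FieldTheory.Finite.Basic

/-!
Two lemmas for case A of the field part: the automiser of a subgroup of prime order from orders, and the four-group
argument: if `y` is centralised by an involution `t`, inverted by an involution `w` commuting with `t`, and `t` is
the only involution commuting with `t` and `y`, then `C(y)` has no element of order `r` when no involution has one.
-/

set_option autoImplicit false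
set_option linter.unusedSectionVars false
set_option linter.style.haveILetI false

namespace Cfsg.Agent.Invol.JankoWard.CaseA

open Subgroup

universe u

variable {R : Type u} [Group R] [Finite R] {r : ℕ} [hr : Fact r.Prime]

theorem exists_act {z : R} (hz : orderOf z = r)
    (h : 2 * Nat.card ↥(centralizer ({z} : Set R)) < Nat.card ↥(normalizer ((zpowers z : Subgroup R) : Set R))) :
    ∃ (n : R) (l : ℕ), n * z * n⁻¹ = z ^ l ∧ (l : ZMod r) ^ 2 ≠ 1 := by
  classical
  by_contra hno
  push Not at hno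
  set N := normalizer ((zpowers z : Subgroup R) : Set R)
  set C := centralizer ({z} : Set R)
  have hcase : ∀ n ∈ N, n * z * n⁻¹ = z ∨ n * z * n⁻¹ = z⁻¹ := by
    intro n hn
    obtain ⟨i, hi⟩ := ((isOfFinOrder_of_finite z).mem_powers_iff_mem_zpowers).2
      ((mem_normalizer_iff.1 hn z).1 (mem_zpowers z))
    have h2 := hno n i hi.symm
    rcases sq_eq_one_iff.1 h2 with e | e
    · left
      rw [← hi]
      show z ^ i = z
      conv_rhs => rw [← pow_one z]
      rw [pow_eq_pow_iff_modEq, hz, ← ZMod.natCast_eq_natCast_iff, e, Nat.cast_one]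
    · right
      rw [← hi]
      show z ^ i = z⁻¹
      rw [eq_inv_iff_mul_eq_one, ← pow_succ, ← orderOf_dvd_iff_pow_eq_one, hz, ← ZMod.natCast_eq_zero_iff,
        Nat.cast_succ, e, neg_add_cancel]
  by_cases hinv : ∃ n ∈ N, n * z * n⁻¹ = z⁻¹
  · obtain ⟨n₀, hn₀, hn₀z⟩ := hinv
    have hle : Nat.card N ≤ Nat.card (Bool × C) := by
      refine Nat.card_le_card_of_injective (fun n : N =>
        if hc : (n : R) * z * (n : R)⁻¹ = z then (true, (⟨n, mem_centralizer_singleton_iff.2
          (mul_inv_eq_iff_eq_mul.1 hc)⟩ : C))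
        else (false, ⟨n₀⁻¹ * n, mem_centralizer_singleton_iff.2 (by
          have h1 : (n : R) * z * (n : R)⁻¹ = n₀ * z * n₀⁻¹ := ((hcase n n.2).resolve_left hc).trans hn₀z.symm
          calc n₀⁻¹ * n * z = n₀⁻¹ * ((n : R) * z * (n : R)⁻¹) * n := by group
            _ = n₀⁻¹ * (n₀ * z * n₀⁻¹) * n := by rw [h1]
            _ = z * (n₀⁻¹ * n) := by group)⟩)) ?_
      intro m n hmn
      dsimp only at hmn
      split_ifs at hmn with h1 h2 <;> simp only [Prod.mk.injEq, Subtype.mk.injEq, Bool.false_eq_true, Bool.true_eq_false,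
        false_and, true_and, mul_right_inj] at hmn
      · exact Subtype.ext hmn
      · exact Subtype.ext hmn
    rw [Nat.card_prod, Nat.card_eq_fintype_card (α := Bool), Fintype.card_bool] at hle
    omega
  · push Not at hinv
    have hle : N ≤ C := fun n hn => mem_centralizer_singleton_iff.2
      (mul_inv_eq_iff_eq_mul.1 ((hcase n hn).resolve_right (hinv n hn)))
    have := Subgroup.card_le_of_le hle
    omega

/-- The four-group argument. -/
theorem not_dvd_cent {t w y : R} (hr2 : r ≠ 2) (hy : Odd (orderOf y)) (hy1 : y ≠ 1) (ht : t * t = 1) (ht1 : t ≠ 1)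
    (hw : w * w = 1) (hw1 : w ≠ 1) (htw : Commute t w) (hty : Commute t y) (hwy : w * y * w⁻¹ = y⁻¹)
    (hsq : ∀ s : R, (∃ k, s ^ 2 ^ k = 1) → s * s = 1)
    (honly : ∀ s : R, s * s = 1 → s ≠ 1 → Commute s t → Commute s y → s = t)
    (hC : ∀ v : R, v * v = 1 → v ≠ 1 → ¬ r ∣ Nat.card ↥(centralizer ({v} : Set R))) :
    ¬ r ∣ Nat.card ↥(centralizer ({y} : Set R)) := by
  classical
  intro hd
  haveI : Fact (Nat.Prime 2) := ⟨Nat.prime_two⟩
  set C := centralizer ({y} : Set R)
  have htC : t ∈ C := mem_centralizer_singleton_iff.2 hty.eq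
  set tC : ↥C := ⟨t, htC⟩
  have htC1 : tC ≠ 1 := fun e => ht1 (congrArg Subtype.val e)
  have htp : IsPGroup 2 ↥(zpowers tC) := IsPGroup.of_card (n := 1) (by
    rw [Nat.card_zpowers, pow_one]
    exact orderOf_eq_prime (Subtype.ext (by rw [Subgroup.coe_pow, pow_two]; exact ht)) htC1)
  obtain ⟨P, hP⟩ := htp.exists_le_sylow
  have htP : tC ∈ (P : Subgroup ↥C) := hP (mem_zpowers tC)
  have hP2 : ∀ s ∈ (P : Subgroup ↥C), s = 1 ∨ s = tC := by
    have hinv : ∀ s ∈ (P : Subgroup ↥C), Commute s tC → s = 1 ∨ s = tC := by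
      intro s hs hst
      by_cases hs1 : s = 1
      · exact Or.inl hs1
      obtain ⟨k, hk⟩ := P.isPGroup' ⟨s, hs⟩
      have hs2 := hsq (s : R) ⟨k, congrArg (fun z : ↥(P : Subgroup ↥C) => ((z : ↥C) : R)) hk⟩
      exact Or.inr (Subtype.ext (honly _ hs2 (fun e => hs1 (Subtype.ext e)) (congrArg Subtype.val hst.eq)
        (mem_centralizer_singleton_iff.1 s.2)))
    haveI : Nontrivial ↥(P : Subgroup ↥C) := ⟨⟨⟨tC, htP⟩, 1, fun e => htC1 (congrArg Subtype.val e)⟩⟩
    haveI := P.isPGroup'.center_nontrivial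
    obtain ⟨⟨c, hc⟩, hc1⟩ := exists_ne (1 : ↥(center ↥(P : Subgroup ↥C)))
    have hcc : ∀ s ∈ (P : Subgroup ↥C), Commute s (c : ↥C) := fun s hs =>
      congrArg Subtype.val (mem_center_iff.1 hc ⟨s, hs⟩)
    intro s hs
    rcases hinv c c.2 (hcc tC htP).symm with e | e
    · exact absurd (Subtype.ext (Subtype.ext e)) hc1
    · exact hinv s hs (e ▸ hcc s hs)
  have hPz : (P : Subgroup ↥C) = zpowers tC := le_antisymm (fun s hs => by
    rcases hP2 s hs with rfl | rfl
    · exact one_mem _
    · exact mem_zpowers _) hP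
  have hnc : normalizer ((P : Subgroup ↥C) : Set ↥C) ≤ centralizer ((P : Subgroup ↥C) : Set ↥C) := by
    intro n hn
    refine mem_centralizer_iff.2 fun s hs => ?_
    rcases hP2 s hs with rfl | rfl
    · rw [one_mul, mul_one]
    · rcases hP2 _ ((mem_normalizer_iff.1 hn tC).1 htP) with e | e
      · exact absurd (conj_eq_one_iff.1 e) htC1
      · exact (mul_inv_eq_iff_eq_mul.1 e).symm
  set K := (MonoidHom.transferSylow P hnc).ker
  have hKodd : Odd (Nat.card K) := by
    rw [← Nat.not_even_iff_odd, even_iff_two_dvd]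
    exact MonoidHom.not_dvd_card_ker_transferSylow P hnc
  have hcop := (MonoidHom.ker_transferSylow_isComplement' P hnc).card_mul_card
  -- odd elements lie in the kernel
  have hmemK : ∀ s : ↥C, Odd (orderOf s) → s ∈ K := by
    intro s ⟨m, hm⟩
    rw [MonoidHom.mem_ker]
    set V := MonoidHom.transferSylow P hnc
    have h2 : V s ^ 2 = 1 := Subtype.ext (by
      rw [Subgroup.coe_pow, pow_two]
      rcases hP2 _ (V s).2 with e | e <;> rw [e]
      · exact one_mul 1
      · exact Subtype.ext ht)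
    have h3 : V s ^ (2 * m + 1) = 1 := by rw [← map_pow, ← hm, pow_orderOf_eq_one, map_one]
    rwa [pow_succ, pow_mul, h2, one_pow, one_mul] at h3
  have hrK : r ∣ Nat.card K := by
    obtain ⟨g, hg⟩ := exists_prime_orderOf_dvd_card' (G := ↥C) r hd
    rw [← hg, ← orderOf_mk g (hmemK g (hg ▸ hr.out.odd_of_ne_two hr2))]
    exact orderOf_dvd_natCard _
  -- `⟨t, w⟩` normalises the kernel
  set K' := K.map C.subtype
  have hK'odd : Odd (Nat.card K') := by rwa [Subgroup.card_map_of_injective C.subtype_injective]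
  have hNK : ∀ g : R, (∀ x ∈ C, g * x * g⁻¹ ∈ C) → g ∈ normalizer (K' : Set R) := by
    intro g hg
    refine mem_normalizer_fintype ?_
    rintro _ ⟨x, hx, rfl⟩
    refine ⟨⟨g * x * g⁻¹, hg x x.2⟩, hmemK _ ?_, rfl⟩
    rw [Subgroup.orderOf_mk, show g * (x : R) * g⁻¹ = (MulAut.conj g).toMonoidHom x from rfl,
      orderOf_injective _ (MulAut.conj g).injective, Subgroup.orderOf_coe]
    exact hKodd.of_dvd_nat (K.orderOf_dvd_natCard hx)
  have htN : t ∈ normalizer (K' : Set R) := hNK t fun x hx => mul_mem (mul_mem htC hx) (inv_mem htC)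
  have hwN : w ∈ normalizer (K' : Set R) := hNK w fun x hx => mem_centralizer_singleton_iff.2 (by
    have h1 : Commute x y := mem_centralizer_singleton_iff.1 hx
    have h2 := h1.map (MulAut.conj w).toMonoidHom
    simp only [MulEquiv.coe_toMonoidHom, MulAut.conj_apply, hwy] at h2
    exact (Commute.inv_right_iff.1 h2).eq)
  set V : Subgroup R := closure {t, w}
  have hVN : V ≤ normalizer (K' : Set R) := (closure_le _).2 (by rintro g (rfl | rfl) <;> assumption)
  -- a Sylow subgroup of `K'` fixed by `t` and `w`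
  have hact : ∀ g ∈ V, ∀ x ∈ K', g * x * g⁻¹ ∈ K' := fun g hg x hx => (mem_normalizer_iff.1 (hVN hg) x).1 hx
  have hVp : IsPGroup 2 ↥V := by
    intro g
    refine ⟨1, Subtype.ext ?_⟩
    have h : ∀ g ∈ V, g * g = 1 := by
      intro g hg
      induction hg using Subgroup.closure_induction with
      | mem x hx => rcases hx with rfl | rfl <;> assumption
      | one => exact one_mul 1
      | mul x x' hx hx' ih ih' =>
        have hc : Commute x x' := by
          have hVc : IsMulCommutative ↥(closure ({t, w} : Set R)) := Subgroup.isMulCommutative_closure (by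
            rintro p (rfl | rfl) q (rfl | rfl)
            · rfl
            · exact htw.eq
            · exact htw.symm.eq
            · rfl)
          exact congrArg Subtype.val (hVc.is_comm.comm ⟨x, hx⟩ ⟨x', hx'⟩)
        rw [hc.symm.mul_mul_mul_comm, ih, ih', one_mul]
      | inv x _ ih => rw [← mul_inv_rev, ih, inv_one]
    rw [pow_one, Subgroup.coe_pow, pow_two]
    exact h g g.2
  let conjV : ↥V →* MulAut ↥K' :=
    (MulAut.conjNormal (H := K'.subgroupOf (normalizer (K' : Set R)))).comp (Subgroup.inclusion hVN) |> fun f =>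
      (MulAut.congr (Subgroup.subgroupOfEquivOfLe le_normalizer)).toMonoidHom.comp f
  have hconjV : ∀ (g : ↥V) (x : ↥K'), ((conjV g x : ↥K') : R) = g * x * (g : R)⁻¹ := fun g x => rfl
  letI : MulDistribMulAction ↥V ↥K' := MulDistribMulAction.compHom _ conjV
  haveI : Finite (Sylow r ↥K') := inferInstance
  obtain ⟨Y, hY⟩ : ∃ Y : Sylow r ↥K', ∀ g : ↥V, g • Y = Y := by
    have hmod := hVp.card_modEq_card_fixedPoints (Sylow r ↥K')
    have hodd : Odd (Nat.card (Sylow r ↥K')) :=
      hK'odd.of_dvd_nat ((Sylow.card_dvd_index (default : Sylow r ↥K')).trans (Subgroup.index_dvd_card _))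
    obtain ⟨Y, hY⟩ : Nonempty (MulAction.fixedPoints ↥V (Sylow r ↥K')) := by
      by_contra hne
      haveI := not_nonempty_iff.1 hne
      rw [Nat.card_of_isEmpty (α := ↥(MulAction.fixedPoints ↥V (Sylow r ↥K')))] at hmod
      have := Nat.odd_iff.1 hodd
      rw [Nat.ModEq] at hmod
      omega
    exact ⟨Y, hY⟩
  set Z := (Y : Subgroup ↥K').map K'.subtype
  have hZodd : Odd (Nat.card Z) :=
    hK'odd.of_dvd_nat (Subgroup.card_dvd_of_le (Subgroup.map_subtype_le _))
  have hZN : ∀ g ∈ V, g ∈ normalizer (Z : Set R) := by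
    intro g hg
    refine mem_normalizer_fintype ?_
    rintro _ ⟨x, hx, rfl⟩
    have h1 : (⟨g, hg⟩ : ↥V) • x ∈ ((⟨g, hg⟩ : ↥V) • Y : Sylow r ↥K') := ⟨x, hx, rfl⟩
    rw [hY] at h1
    exact ⟨_, h1, hconjV ⟨g, hg⟩ x⟩
  have hfree : ∀ v ∈ V, v * v = 1 → v ≠ 1 → ∀ c ∈ Z, Commute v c → c = 1 := by
    intro v hv hv2 hv1 c hc hvc
    by_contra hc1
    obtain ⟨⟨c', hc'K⟩, hc'Y, rfl⟩ := hc
    obtain ⟨k, hk⟩ := Y.isPGroup' ⟨_, hc'Y⟩
    have hk' : c' ^ r ^ k = 1 := congrArg (fun z : ↥(Y : Subgroup ↥K') => ((z : ↥K') : R)) hk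
    obtain ⟨j, hjk, hj⟩ := (Nat.dvd_prime_pow hr.out).1 (orderOf_dvd_of_pow_eq_one hk')
    have hj0 : j ≠ 0 := fun e => hc1 (orderOf_eq_one_iff.1 (by rw [show orderOf (K'.subtype ⟨c', hc'K⟩) =
      orderOf c' from rfl, hj, e, pow_zero]))
    refine hC v hv2 hv1 ((dvd_pow_self r hj0).trans (hj ▸ ?_))
    exact Subgroup.orderOf_dvd_natCard _ (mem_centralizer_singleton_iff.2 hvc.symm.eq)
  have htV : t ∈ V := subset_closure (Or.inl rfl)
  have hwV : w ∈ V := subset_closure (Or.inr rfl)
  have htw1 : t * w ≠ 1 := fun e => by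
    have h1 : w = t := by
      calc w = t * t * w := by rw [ht, one_mul]
        _ = t * (t * w) := mul_assoc _ _ _
        _ = t := by rw [e, mul_one]
    rw [h1, hty.eq, mul_inv_cancel_right] at hwy
    obtain ⟨m, hm⟩ := hy
    have h2 : y ^ 2 = 1 := by rw [pow_two]; exact mul_eq_one_iff_eq_inv.2 hwy
    have h3 := pow_orderOf_eq_one y
    rw [hm, pow_succ, pow_mul, h2, one_pow, one_mul] at h3
    exact hy1 h3
  have htw2 : t * w * (t * w) = 1 := by rw [htw.symm.mul_mul_mul_comm, ht, hw, one_mul]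
  have hZ1 : Z = ⊥ := by
    refine (Subgroup.eq_bot_iff_forall Z).2 fun x hx => hfree (t * w) (mul_mem htV hwV) htw2 htw1 x hx ?_
    have et := GW.ThreeClass.inverted_of_fixed_free ht hZodd (hZN t htV) (hfree t htV ht ht1) hx
    have ew := GW.ThreeClass.inverted_of_fixed_free hw hZodd (hZN w hwV) (hfree w hwV hw hw1) hx
    show t * w * x = x * (t * w)
    calc t * w * x = t * (w * x * w⁻¹) * w := by group
      _ = t * x⁻¹ * w := by rw [ew]
      _ = (t * x * t⁻¹)⁻¹ * (t * w) := by group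
      _ = x * (t * w) := by rw [et, inv_inv]
  rw [Subgroup.map_eq_bot_iff_of_injective _ K'.subtype_injective] at hZ1
  have h1 : Nat.card (Y : Subgroup ↥K') = 1 := by rw [hZ1, Subgroup.card_bot]
  rw [Y.card_eq_multiplicity, Nat.pow_eq_one] at h1
  have h2 : r ∣ Nat.card K' := by rwa [Subgroup.card_map_of_injective C.subtype_injective]
  have h3 := (hr.out.pow_dvd_iff_le_factorization (k := 1) Nat.card_pos.ne').1 (by rwa [pow_one])
  rcases h1 with h1 | h1
  · exact hr.out.ne_one h1
  · omega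

end Cfsg.Agent.Invol.JankoWard.CaseA
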