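import Cfsg.Agent.Lib.Invol.JankoWard.CaseALift
import Cfsg.Agent.Lib.Invol.JankoWard.CaseALocal
import Cfsg.Agent.Lib.Invol.J1.OrdFacts
import Cfsg.Agent.Lib.Fus.SmallSimple

/-!
Case A of the field part for `q = 5^r`: in the simple quotient of order 175560 an element of order `r` is
conjugate to a power `l`, `l² ≠ 1 (mod r)`.
-/

set_option autoImplicit false
set_option linter.unusedSectionVars false
set_option linter.style.haveILetI false


namespace Cfsg.Agent.Invol.JankoWard

open Subgroup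

universe u v

namespace CaseA

/-- In `A5` an element of order three or five is inverted by an involution and centralised by none. -/
theorem a5_facts (s : ℕ) (hs : s = 3 ∨ s = 5) : ∃ y w : alternatingGroup (Fin 5),
    y ^ s = 1 ∧ y ≠ 1 ∧ w * w = 1 ∧ w ≠ 1 ∧ w * y * w⁻¹ = y⁻¹ ∧
      ∀ k : alternatingGroup (Fin 5), k * k = 1 → k * y = y * k → k = 1 := by
  rcases hs with rfl | rfl
  · refine ⟨⟨Equiv.swap 0 1 * Equiv.swap 1 2, Equiv.Perm.mem_alternatingGroup.2 (by decide +kernel)⟩, ⟨Equiv.swap 1 2 * Equiv.swap 3 4, Equiv.Perm.mem_alternatingGroup.2 (by decide +kernel)⟩,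
      ?_, ?_, ?_, ?_, ?_, ?_⟩ <;> decide +kernel
  · refine ⟨⟨Equiv.swap 0 1 * Equiv.swap 1 2 * Equiv.swap 2 3 * Equiv.swap 3 4, Equiv.Perm.mem_alternatingGroup.2 (by decide +kernel)⟩,
      ⟨Equiv.swap 1 4 * Equiv.swap 2 3, Equiv.Perm.mem_alternatingGroup.2 (by decide +kernel)⟩, ?_, ?_, ?_, ?_, ?_, ?_⟩ <;> decide +kernel

open J1U.Ord in
/-- The automiser of a subgroup of order `r` in a simple group of order 175560. -/
theorem j1_act {R : Type u} [Group R] [Finite R] [IsSimpleGroup R] (h : Nat.card R = 175560) {r : ℕ}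
    (hr : r = 7 ∨ r = 11 ∨ r = 19) (hC : ∀ v : R, v * v = 1 → v ≠ 1 → ¬ r ∣ Nat.card ↥(centralizer ({v} : Set R)))
    (hkill : ∀ y : R, orderOf y = 3 ∨ orderOf y = 5 → ¬ r ∣ Nat.card ↥(centralizer ({y} : Set R))) :
    ∃ (z n : R) (l : ℕ), orderOf z = r ∧ n * z * n⁻¹ = z ^ l ∧ (l : ZMod r) ^ 2 ≠ 1 := by
  have hrp : r.Prime := by rcases hr with rfl | rfl | rfl <;> norm_num
  haveI : Fact r.Prime := ⟨hrp⟩
  obtain ⟨z, hz⟩ := exists_prime_orderOf_dvd_card' (G := R) r
    (by rw [h]; rcases hr with rfl | rfl | rfl <;> norm_num)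
  have hno : ∀ q : ℕ, q = 2 ∨ q = 3 ∨ q = 5 → ¬ q ∣ Nat.card (Cen z) := by
    intro q hq hd
    obtain ⟨y, hy, hzy⟩ := exists_commute (by rcases hq with rfl | rfl | rfl <;> norm_num) hd
    have hrd : r ∣ Nat.card ↥(centralizer ({y} : Set R)) := hz ▸ orderOf_dvd_cen (x := y) hzy.symm
    rcases hq with rfl | hq
    · refine hC y (by rw [← pow_two, ← hy, pow_orderOf_eq_one]) (fun e => ?_) hrd
      rw [e, orderOf_one] at hy; omega
    · exact hkill y (by rcases hq with rfl | rfl <;> [exact Or.inl hy; exact Or.inr hy]) hrd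
  have h2 := hno 2 (Or.inl rfl)
  have h3 := hno 3 (Or.inr (Or.inl rfl))
  have h5 := hno 5 (Or.inr (Or.inr rfl))
  suffices hlt : 2 * Nat.card (Cen z) < Nat.card (Nor z) by
    obtain ⟨n, l, hn, hl⟩ := exists_act hz hlt
    exact ⟨z, n, l, hz, hn, hl⟩
  rcases hr with rfl | rfl | rfl
  · obtain ⟨nc, hL, hc, hn⟩ := opt h (p := 7) [(22,570),(22,380),(22,190),(57,220),(190,66),(190,44),
      (190,22),(330,38),(1254,10),(4180,3),(4180,2),(4180,1)] (by decide +kernel) hz
    rw [hc] at h2 h3 h5 ⊢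
    simp only [List.mem_cons, List.not_mem_nil, or_false] at hL
    rcases hL with rfl | rfl | rfl | rfl | rfl | rfl | rfl | rfl | rfl | rfl | rfl | rfl <;>
      simp only at h2 h3 h5 hn ⊢ <;> omega
  · obtain ⟨nc, hL, hc, hn⟩ := opt h (p := 11) [(56,57),(133,60),(133,24),(133,12),(210,38),(1596,5),
      (1596,2),(1596,1)] (by decide +kernel) hz
    rw [hc] at h2 h3 h5 ⊢
    simp only [List.mem_cons, List.not_mem_nil, or_false] at hL
    rcases hL with rfl | rfl | rfl | rfl | rfl | rfl | rfl | rfl <;>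
      simp only at h2 h3 h5 hn ⊢ <;> omega
  · obtain ⟨nc, hL, hc, hn⟩ := opt h (p := 19) [(77,60),(77,40),(77,20),(210,22),(1540,3),(1540,2),
      (1540,1)] (by decide +kernel) hz
    rw [hc] at h2 h3 h5 ⊢
    simp only [List.mem_cons, List.not_mem_nil, or_false] at hL
    rcases hL with rfl | rfl | rfl | rfl | rfl | rfl | rfl <;>
      simp only at h2 h3 h5 hn ⊢ <;> omega

end CaseA

namespace ExtBase

variable {G : Type u} [Group G] [Finite G] {P : Type v} [Group P] [Finite P] (S : ExtBase G P)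

/-- The case `p = 5`. -/
theorem false_five [IsSimpleGroup G] (A : Amb G) (L : ExtLocals S)
    (ih : ∀ (H : Type u) [Group H] [Finite H], Nat.card H < Nat.card G → NoField H)
    (hp : S.D.p = 5) (hfe : Nat.card S.Fld = S.D.f) (hr : S.D.f = 7 ∨ S.D.f = 11 ∨ S.D.f = 19) : False := by
  haveI := S.F_cyclic
  haveI : Fact (Nat.Prime 2) := ⟨Nat.prime_two⟩
  obtain ⟨r, hrf⟩ : ∃ r, S.D.f = r := ⟨_, rfl⟩
  rw [hrf] at hfe hr
  have hrp : r.Prime := by rcases hr with rfl | rfl | rfl <;> norm_num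
  haveI : Fact r.Prime := ⟨hrp⟩
  obtain ⟨⟨a, ha⟩, hgen⟩ := IsCyclic.exists_generator (α := ↥S.Fld)
  have hao : orderOf a = r := by
    rw [← Subgroup.orderOf_mk a ha, orderOf_eq_card_of_forall_mem_zpowers hgen, hfe]
  have hgenF : S.Fld ≤ zpowers a := fun x hx => by
    obtain ⟨i, hi⟩ := mem_zpowers_iff.1 (hgen ⟨x, hx⟩)
    exact mem_zpowers_iff.2 ⟨i, congrArg Subtype.val hi⟩
  have ha1 : a ≠ 1 := fun e => hrp.ne_one (by rw [← hao, e, orderOf_one])
  obtain ⟨hinv, hone, hc⟩ := S.quot_full A L ih ha ha1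
  rw [hao, hp, hrf, Nat.div_self hrp.pos, pow_one] at hc
  obtain ⟨K, i1, i2, hK, ⟨eK⟩⟩ := S.fix_iso a ha
  rw [hao, hp, hrf, Nat.div_self hrp.pos, pow_one] at hK
  set P0 := (centralizer ({a} : Set G)).comap S.ι
  have hP60 : Nat.card P0 = 60 := by
    have h1 := Invol.GW.card_PSLTwo (F := K) (by rw [hK]; decide)
    rw [hK, ← Nat.card_congr eK.toEquiv] at h1
    omega
  rcases hc with ⟨h3, -⟩ | ⟨M, -, hMs, -, ⟨-, hM, hn⟩ | ⟨m, hm, hqm, -, -⟩⟩
  · omega
  · haveI := hMs
    have hX : Nat.card ↥(centralizer ({a} : Set G)) = 175560 * r := by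
      rw [S.card_cent A L ha, hn, hP60, hfe]; ring
    have hR : Nat.card (QuotR a) = 175560 := by
      have h1 := card_quot a
      rw [hao, hX] at h1
      exact Nat.eq_of_mul_eq_mul_right hrp.pos h1
    have hMtop : M = ⊤ := Subgroup.eq_top_of_card_eq M (hM.trans hR.symm)
    haveI : IsSimpleGroup (QuotR a) := by
      subst hMtop
      haveI : Nontrivial (QuotR a) := Finite.one_lt_card_iff_nontrivial.1 (by rw [hR]; norm_num)
      exact IsSimpleGroup.isSimpleGroup_of_surjective
        (Subgroup.topEquiv : (⊤ : Subgroup (QuotR a)) ≃* QuotR a).toMonoidHom (MulEquiv.surjective _)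
    -- involution centralisers
    have hC120 : Nat.card ↥(centralizer ({S.tq ha} : Set (QuotR a))) = 120 := by
      have h1 := QuotGroup.card_class (S.tq_ord ha) hone
      rw [hinv, hn, hR] at h1
      omega
    have hC : ∀ v : QuotR a, v * v = 1 → v ≠ 1 → ¬ r ∣ Nat.card ↥(centralizer ({v} : Set (QuotR a))) := by
      intro v hv hv1
      obtain ⟨c, rfl⟩ := isConj_iff.1 (hone v (orderOf_eq_prime (by rw [pow_two]; exact hv) hv1))
      rw [Block.card_centralizer_conj, hC120]
      rcases hr with rfl | rfl | rfl <;> norm_num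
    haveI : IsSimpleGroup (Matrix.ProjectiveSpecialLinearGroup (Fin 2) K) :=
      Classical.PSL_isSimple le_rfl fun _ => by omega
    haveI : IsSimpleGroup ↥P0 := by
      haveI : Nontrivial ↥P0 := Finite.one_lt_card_iff_nontrivial.1 (by rw [hP60]; norm_num)
      exact IsSimpleGroup.isSimpleGroup_of_surjective eK.symm.toMonoidHom eK.symm.surjective
    obtain ⟨e5⟩ := Fus.alternating_five_of_card (G := ↥P0) hP60
    have hkill : ∀ y : QuotR a, orderOf y = 3 ∨ orderOf y = 5 →
        ¬ r ∣ Nat.card ↥(centralizer ({y} : Set (QuotR a))) := by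
      intro y hy
      obtain ⟨s, hys, hs⟩ : ∃ s, orderOf y = s ∧ (s = 3 ∨ s = 5) := ⟨_, rfl, hy⟩
      have hsp : s.Prime := by rcases hs with rfl | rfl <;> norm_num
      haveI : Fact s.Prime := ⟨hsp⟩
      obtain ⟨y5, w5, hy5, hy51, hw5, hw51, hwy5, hf5⟩ := CaseA.a5_facts s hs
      set y0 := e5.symm y5 with hy0
      set w0 := e5.symm w5 with hw0
      have hco : s.Coprime (orderOf a) := by
        rw [hao]
        rcases hs with rfl | rfl <;> rcases hr with rfl | rfl | rfl <;> norm_num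
      let j : ↥P0 →* ↥(centralizer ({a} : Set G)) :=
        MonoidHom.mk' (fun k => ⟨S.ι k, k.2⟩) fun k l => Subtype.ext (map_mul S.ι _ _)
      set φ := (quotMk a).comp j
      have hjinj : ∀ k, φ k = 1 → k = 1 := fun k hk => Subtype.ext (S.inj (by
        have hF : S.ι k ∈ S.Fld := zpowers_le.2 ha ((quot_ker _).1 hk)
        rw [S.F_disj _ hF k rfl, OneMemClass.coe_one, map_one]))
      have hφ : Function.Injective φ := (injective_iff_map_eq_one φ).2 hjinj
      set Y := φ y0
      have hy0s : y0 ^ s = 1 := by rw [hy0, ← map_pow, hy5, map_one]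
      have hy01 : y0 ≠ 1 := fun e => hy51 (e5.symm.map_eq_one_iff.1 e)
      have hYo : orderOf Y = s := (orderOf_injective φ hφ y0).trans (orderOf_eq_prime hy0s hy01)
      have hw01 : w0 ≠ 1 := fun e => hw51 (e5.symm.map_eq_one_iff.1 e)
      have htj : ∀ k : ↥P0, Commute (S.tq ha) (φ k) := fun k =>
        (show Commute (⟨S.t, S.t_cent ha⟩ : ↥(centralizer ({a} : Set G))) (j k) from
          Subtype.ext (S.tc k).symm).map _
      have hwy : φ w0 * φ y0 * (φ w0)⁻¹ = (φ y0)⁻¹ := by
        rw [← map_inv φ, ← map_mul φ, ← map_mul φ, ← map_inv φ, hw0, hy0, ← map_inv e5.symm, ← map_mul e5.symm,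
          ← map_mul e5.symm, hwy5, map_inv e5.symm]
      have hnY : ¬ r ∣ Nat.card ↥(centralizer ({Y} : Set (QuotR a))) := by
        refine CaseA.not_dvd_cent (t := S.tq ha) (w := φ w0) (y := Y)
          (by rcases hr with rfl | rfl | rfl <;> norm_num) (by rw [hYo]; rcases hs with rfl | rfl <;> decide)
          (fun e => hy01 (hjinj _ e)) (by rw [← pow_two, ← S.tq_ord ha, pow_orderOf_eq_one])
          (fun e => by have h := S.tq_ord ha; rw [e, orderOf_one] at h; omega)
          (by rw [← map_mul, hw0, ← map_mul, hw5, map_one, map_one]) (fun e => hw01 (hjinj _ e)) (htj w0) (htj y0)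
          hwy
          (S.quot_sq A ha) (fun v hv hv1 hvt hvy => ?_) hC
        refine S.quot_only ha hgenF (k := (y0 : P)) y0.2 (m := s) (congrArg Subtype.val hy0s) hco ?_ v hv hv1 hvt hvy
        intro k' hk' hk2 hky
        have h := hf5 (e5 ⟨k', hk'⟩) (by rw [← map_mul, show (⟨k', hk'⟩ : ↥P0) * ⟨k', hk'⟩ = 1 from Subtype.ext hk2, map_one])
          (by rw [show y5 = e5 y0 from (e5.apply_symm_apply y5).symm, ← map_mul, ← map_mul]
              exact congrArg e5 (Subtype.ext hky))
        exact congrArg Subtype.val (e5.map_eq_one_iff.1 h)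
      have hsyl : ∀ Q : Sylow s (QuotR a), Nat.card Q = s := by
        intro Q
        rw [Q.card_eq_multiplicity, hR]
        conv_rhs => rw [← pow_one s]
        congr 1
        rw [show (175560 : ℕ) = s * (175560 / s) by rcases hs with rfl | rfl <;> norm_num,
          Nat.factorization_mul hsp.ne_zero (by rcases hs with rfl | rfl <;> norm_num), Finsupp.coe_add, Pi.add_apply,
          hsp.factorization_self, Nat.factorization_eq_zero_of_not_dvd (by rcases hs with rfl | rfl <;> norm_num)]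
      have hsy : ∀ x : QuotR a, orderOf x = s → ∃ Q : Sylow s (QuotR a), (Q : Subgroup (QuotR a)) = zpowers x := by
        intro x hx
        obtain ⟨Q, hQ⟩ := (IsPGroup.of_card (n := 1) (G := ↥(zpowers x)) (p := s)
          (by rw [Nat.card_zpowers, hx, pow_one])).exists_le_sylow
        exact ⟨Q, (Subgroup.eq_of_le_of_card_ge hQ (by rw [Nat.card_zpowers, hx, hsyl Q])).symm⟩
      obtain ⟨Q1, hQ1⟩ := hsy y hys
      obtain ⟨Q2, hQ2⟩ := hsy Y hYo
      obtain ⟨g, hg⟩ := MulAction.exists_smul_eq (QuotR a) Q2 Q1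
      have hle : centralizer ({y} : Set (QuotR a)) ≤ centralizer ({g * Y * g⁻¹} : Set (QuotR a)) := by
        have hm : g * Y * g⁻¹ ∈ zpowers y := by
          rw [← hQ1, ← hg, Sylow.coe_subgroup_smul]
          exact ⟨Y, hQ2.ge (mem_zpowers Y), rfl⟩
        obtain ⟨i, hi⟩ := mem_zpowers_iff.1 hm
        intro x hx
        rw [mem_centralizer_singleton_iff, ← hi]
        exact ((show Commute x y from mem_centralizer_singleton_iff.1 hx).zpow_right i).eq
      intro hd
      exact hnY (Block.card_centralizer_conj g Y ▸ hd.trans (Subgroup.card_dvd_of_le hle))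
    obtain ⟨z, n, l, hz, hzn, hl⟩ := CaseA.j1_act hR hr hC hkill
    refine S.false_of_act A L ha ?_ hao (mem_zpowers a) ?_ ?_ hz hzn hl
    · intro e; rcases hr with h | h | h <;> omega
    · rw [hao]
      intro h
      have := Nat.le_of_dvd hrp.pos h
      have := hrp.two_le
      nlinarith
    · rw [hX]
      rcases hr with rfl | rfl | rfl <;> norm_num
  · have h6 : 5 ∣ 3 ^ (2 * m + 1) := by rw [← hqm]
    exact absurd (Nat.prime_five.dvd_of_dvd_pow h6) (by norm_num)

end ExtBase

end Cfsg.Agent.Invol.JankoWard
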