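import Cfsg.Agent.Lib.Invol.JankoWard.CaseAGroup
import Mathlib.LinearAlgebra.Matrix.Determinant.Basic
import Mathlib.Algebra.CharP.Lemmas
import Mathlib.FieldTheory.Finite.Basic

/-!
The `r`-subgroups `R` above `Q = ⟨a⟩ × ⟨z⟩` when the powers of `a` are not fused: an element of the normaliser of `R`
maps `a` into `a L`, `L` the line of `R / R'` fixed by a larger `r`-subgroup.
-/

set_option autoImplicit false
set_option linter.unusedSectionVars false
set_option linter.style.haveILetI false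

namespace Cfsg.Agent.Invol.JankoWard.CaseA

open Subgroup
open scoped commutatorElement

universe u

/-- The hypotheses on `a` and `Q`. -/
structure Pin {G : Type u} [Group G] (a : G) (Q : Subgroup G) (r : ℕ) : Prop where
  r_ne : r ≠ 2
  ne : a ≠ 1
  aQ : a ∈ Q
  Q2 : Nat.card Q = r ^ 2
  Qexp : ∀ x ∈ Q, x ^ r = 1
  cQ : ∀ x ∈ Q, Commute x a
  max : ¬ r ^ 3 ∣ Nat.card ↥(centralizer ({a} : Set G))
  unfused : ∀ (g : G) (i : ℕ), g * a * g⁻¹ = a ^ i → g * a * g⁻¹ = a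

variable {G : Type u} [Group G] [Finite G] {r : ℕ} [hr : Fact r.Prime] {a : G} {Q : Subgroup G}

/-- An `r`-subgroup above `Q`. -/
structure Big (r : ℕ) (Q R : Subgroup G) : Prop where
  le : Q ≤ R
  pgroup : IsPGroup r R

namespace Pin

variable (H : Pin a Q r)
include H

theorem ord : orderOf a = r := orderOf_eq_prime (H.Qexp a H.aQ) H.ne

/-- The centraliser of `a` in an `r`-subgroup above `Q` is `Q`. -/
theorem mem_of_commute {R : Subgroup G} (hR : Big r Q R) {x : G} (hx : x ∈ R) (hc : Commute x a) : x ∈ Q := by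
  set W := R ⊓ centralizer ({a} : Set G)
  have hQW : Q ≤ W := fun q hq => ⟨hR.le hq, mem_centralizer_singleton_iff.2 (H.cQ q hq).eq⟩
  obtain ⟨k, hk⟩ := IsPGroup.iff_card.1 (hR.pgroup.to_le (inf_le_left : W ≤ R))
  have hk2 : k ≤ 2 := by
    by_contra hlt
    exact H.max (((pow_dvd_pow r (show 3 ≤ k by omega)).trans (dvd_of_eq hk.symm)).trans
      (Subgroup.card_dvd_of_le inf_le_right))
  exact (Subgroup.eq_of_le_of_card_ge hQW (by rw [hk, H.Q2]; exact Nat.pow_le_pow_right hr.out.pos hk2)).ge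
    ⟨hx, mem_centralizer_singleton_iff.2 hc.eq⟩

theorem small {R : Subgroup G} (hR : Big r Q R) : SmallCent ↥R (⟨a, hR.le H.aQ⟩ : ↥R) r where
  pgroup := hR.pgroup
  ne := fun e => H.ne (congrArg Subtype.val e)
  card := by
    rw [← H.Q2]
    refine Nat.card_congr
      { toFun := fun x => ⟨((x : R) : G),
          H.mem_of_commute hR x.1.2 (congrArg Subtype.val (mem_centralizer_singleton_iff.1 x.2))⟩
        invFun := fun q => ⟨⟨q, hR.le q.2⟩, mem_centralizer_singleton_iff.2 (Subtype.ext (H.cQ q q.2).eq)⟩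
        left_inv := fun _ => rfl
        right_inv := fun _ => rfl }
  exp := fun x hx => Subtype.ext (H.Qexp _ (H.mem_of_commute hR x.2 (congrArg Subtype.val hx.eq)))

end Pin

/-- Conjugation by an element of the normaliser. -/
def conjR (R : Subgroup G) (n : ↥(normalizer (R : Set G))) : ↥R →* ↥R :=
  MonoidHom.mk' (fun x => ⟨n * x * (n : G)⁻¹, (mem_normalizer_iff.1 n.2 x).1 x.2⟩) fun x x' => Subtype.ext (by
    show (n : G) * (x * x') * (n : G)⁻¹ = n * x * (n : G)⁻¹ * (n * x' * (n : G)⁻¹)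
    group)

/-- Coordinates on `R / R'`. -/
structure Lay (H : Pin a Q r) (R : Subgroup G) where
  hR : Big r Q R
  /-- the second basis element -/
  y : ↥R
  /-- the coordinates -/
  C : Coord ↥R (⟨a, hR.le H.aQ⟩ : ↥R) y r

theorem exists_lay (H : Pin a Q r) {R : Subgroup G} (hR : Big r Q R) {y : ↥R}
    (hy : ∀ i : ℕ, y * ((⟨a, hR.le H.aQ⟩ : ↥R) ^ i)⁻¹ ∉ commutator ↥R) :
    ∃ L : Lay H R, L.y = y :=
  ⟨⟨hR, y, ((H.small hR).exists_coord hy).some⟩, rfl⟩

namespace Lay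

variable {H : Pin a Q r} {R : Subgroup G} (L : Lay H R)

/-- `a` in `R`. -/
def aR : ↥R := ⟨a, L.hR.le H.aQ⟩

/-- The matrices of the normaliser. -/
def M : ↥(normalizer (R : Set G)) →* Matrix (Fin 2) (Fin 2) (ZMod r) where
  toFun n := L.C.mat (conjR R n)
  map_one' := by
    rw [show ⇑(conjR R 1) = id from funext fun x => Subtype.ext (by simp [conjR])]
    exact L.C.mat_id
  map_mul' m n := by
    rw [← L.C.mat_comp]
    refine congrArg L.C.mat (funext fun x => Subtype.ext ?_)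
    show (m * n : G) * x * (m * n : G)⁻¹ = (m : G) * (n * x * (n : G)⁻¹) * (m : G)⁻¹
    group

theorem M_a (n : ↥(normalizer (R : Set G))) : L.C.v (conjR R n L.aR) = (L.M n 0 0, L.M n 1 0) := rfl

theorem v_conjR (n : ↥(normalizer (R : Set G))) (x : ↥R) :
    L.C.v (conjR R n x) = (L.M n 0 0 * (L.C.v x).1 + L.M n 0 1 * (L.C.v x).2,
      L.M n 1 0 * (L.C.v x).1 + L.M n 1 1 * (L.C.v x).2) := L.C.v_map _ x

theorem M_mul (m n : ↥(normalizer (R : Set G))) (i j : Fin 2) :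
    L.M (m * n) i j = L.M m i 0 * L.M n 0 j + L.M m i 1 * L.M n 1 j := by
  rw [map_mul, Matrix.mul_apply, Fin.sum_univ_two]

theorem M_inv (n : ↥(normalizer (R : Set G))) (i j : Fin 2) :
    L.M n i 0 * L.M n⁻¹ 0 j + L.M n i 1 * L.M n⁻¹ 1 j = (1 : Matrix (Fin 2) (Fin 2) (ZMod r)) i j := by
  rw [← L.M_mul, mul_inv_cancel, map_one]

theorem M_of_mem (n : ↥(normalizer (R : Set G))) (hn : (n : G) ∈ R) : L.M n = 1 := by
  have h : ∀ x, L.C.v (conjR R n x) = L.C.v x := fun x => L.C.v_conj ⟨n, hn⟩ x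
  ext i j
  fin_cases i <;> fin_cases j <;> simp [M, Coord.mat, h, L.C.va, L.C.vy]

/-- The powers of `a` are not fused. -/
theorem scalar_eq_one (n : ↥(normalizer (R : Set G))) (h10 : L.M n 1 0 = 0) (h00 : L.M n 0 0 ≠ 0) :
    L.M n 0 0 = 1 := by
  obtain ⟨g, hg⟩ := L.C.exists_conj (H.small L.hR) h00 (by rw [← h10]; exact L.M_a n)
  have hg' : (g : G) * a ^ (L.M n 0 0).val * (g : G)⁻¹ = n * a * (n : G)⁻¹ := congrArg Subtype.val hg
  have h1 : ((g : G)⁻¹ * n) * a * ((g : G)⁻¹ * n)⁻¹ = a ^ (L.M n 0 0).val := by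
    rw [show ((g : G)⁻¹ * n) * a * ((g : G)⁻¹ * n)⁻¹ = (g : G)⁻¹ * (n * a * (n : G)⁻¹) * g by group, ← hg']
    group
  have h2 := (h1.symm.trans (H.unfused _ _ h1)).trans (pow_one a).symm
  rw [pow_eq_pow_iff_modEq, H.ord, ← ZMod.natCast_eq_natCast_iff, ZMod.natCast_zmod_val, Nat.cast_one] at h2
  exact h2

theorem exists_cent (n : ↥(normalizer (R : Set G))) (h10 : L.M n 1 0 = 0) (h00 : L.M n 0 0 = 1) :
    ∃ ρ ∈ R, Commute (ρ⁻¹ * n) a := by
  obtain ⟨g, hg⟩ := L.C.exists_conj (H.small L.hR) (c := 1) one_ne_zero (by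
    rw [← h10, ← h00]; exact L.M_a n)
  rw [ZMod.val_one, pow_one] at hg
  have hg' : (g : G) * a * (g : G)⁻¹ = n * a * (n : G)⁻¹ := congrArg Subtype.val hg
  refine ⟨g, g.2, ?_⟩
  show (g : G)⁻¹ * n * a = a * ((g : G)⁻¹ * n)
  calc (g : G)⁻¹ * n * a = (g : G)⁻¹ * (n * a * (n : G)⁻¹) * n := by group
    _ = (g : G)⁻¹ * ((g : G) * a * (g : G)⁻¹) * n := by rw [hg']
    _ = a * ((g : G)⁻¹ * n) := by group

end Lay

theorem exists_not_mem (H : Pin a Q r) {R : Subgroup G} (hR : Big r Q R) :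
    ∃ y₀ : ↥R, ∀ i : ℕ, y₀ * ((⟨a, hR.le H.aQ⟩ : ↥R) ^ i)⁻¹ ∉ commutator ↥R := by
  have hsm := H.small hR
  by_contra hno
  push Not at hno
  set aq : ↥R ⧸ commutator ↥R := QuotientGroup.mk (⟨a, (hR.le H.aQ)⟩ : ↥R)
  have htop : zpowers aq = ⊤ := by
    refine top_unique fun z _ => ?_
    obtain ⟨x, rfl⟩ := QuotientGroup.mk_surjective z
    obtain ⟨i, hi⟩ := hno x
    refine mem_zpowers_iff.2 ⟨i, ?_⟩
    rw [zpow_natCast, ← QuotientGroup.mk_pow, QuotientGroup.eq]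
    exact (inferInstance : (commutator ↥R).Normal).mem_comm hi
  have h1 := Subgroup.card_top (G := ↥R ⧸ commutator ↥R)
  rw [← htop, Nat.card_zpowers, ← Subgroup.index_eq_card, hsm.index_commutator] at h1
  have h2 : orderOf aq ∣ r := orderOf_dvd_of_pow_eq_one (by
    rw [← QuotientGroup.mk_pow, show (⟨a, (hR.le H.aQ)⟩ : ↥R) ^ r = 1 from Subtype.ext (H.Qexp a H.aQ), QuotientGroup.mk_one])
  rw [h1] at h2
  have h3 := Nat.le_of_dvd hr.out.pos h2
  have := hr.out.two_le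
  nlinarith

/-- The data of a step: `s` is a transvection fixing `y`. -/
structure Step {H : Pin a Q r} {R : Subgroup G} (L : Lay H R) where
  /-- the element -/
  s : ↥(normalizer (R : Set G))
  Ms : L.M s = !![1, 0; 1, 1]

theorem exists_step (H : Pin a Q r) {R S : Subgroup G} (hR : Big r Q R) (hS : IsPGroup r S) (hlt : R < S)
    (hSN : S ≤ normalizer (R : Set G)) : ∃ (L : Lay H R) (T : Step L), (T.s : G) ∈ S := by
  obtain ⟨s, hsS, hsR⟩ := SetLike.exists_of_lt hlt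
  have hSbig : Big r Q S := ⟨hR.le.trans hlt.le, hS⟩
  set s' : ↥(normalizer (R : Set G)) := ⟨s, hSN hsS⟩
  have haR : a ∈ R := hR.le H.aQ
  have hsa : s * a * s⁻¹ ∈ R := (mem_normalizer_iff.1 (hSN hsS) a).1 haR
  set y : ↥R := ⟨s * a * s⁻¹ * a⁻¹, mul_mem hsa (inv_mem haR)⟩
  obtain ⟨y₀, hy₀⟩ := exists_not_mem H hR
  obtain ⟨L₀, -⟩ := exists_lay H hR hy₀
  have hy : ∀ i : ℕ, y * ((⟨a, haR⟩ : ↥R) ^ i)⁻¹ ∉ commutator ↥R := by
    intro i hi
    have hv0 : L₀.C.v y = ((i : ZMod r), 0) := by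
      have h := (L₀.C.ker _).2 hi
      rw [L₀.C.map_mul, L₀.C.v_inv, L₀.C.v_pow, L₀.C.va, add_neg_eq_zero] at h
      rw [h]; simp
    have hMa : L₀.C.v (conjR R s' L₀.aR) = ((i : ZMod r) + 1, 0) := by
      rw [show conjR R s' L₀.aR = y * L₀.aR from Subtype.ext (by
        show s * a * s⁻¹ = s * a * s⁻¹ * a⁻¹ * a
        group), L₀.C.map_mul, hv0, Lay.aR, L₀.C.va]
      simp
    rw [L₀.M_a, Prod.mk.injEq] at hMa
    have h00 : L₀.M s' 0 0 ≠ 0 := by
      intro h0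
      have h := L₀.M_inv s'⁻¹ 0 0
      rw [inv_inv, Matrix.one_apply_eq, h0, hMa.2, mul_zero, mul_zero, add_zero] at h
      exact zero_ne_one h
    obtain ⟨ρ, hρ, hc⟩ := L₀.exists_cent s' hMa.2 (L₀.scalar_eq_one s' hMa.2 h00)
    have := hR.le (H.mem_of_commute hSbig (mul_mem (inv_mem (hlt.le hρ)) hsS) hc)
    exact hsR (by simpa using mul_mem hρ this)
  obtain ⟨L, hL⟩ := exists_lay H hR hy
  have h0 : L.C.v (conjR R s' L.aR) = (1, 1) := by
    rw [show conjR R s' L.aR = L.y * L.aR from Subtype.ext (by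
      rw [hL]; show s * a * s⁻¹ = s * a * s⁻¹ * a⁻¹ * a; group), L.C.map_mul, L.C.vy, Lay.aR, L.C.va]
    simp
  rw [L.M_a, Prod.mk.injEq] at h0
  -- unipotent
  obtain ⟨k, hk⟩ := hS ⟨s, hsS⟩
  have hsk : s' ^ r ^ k = 1 := Subtype.ext (congrArg (fun z : ↥S => (z : G)) hk)
  have hM : L.M s' ^ r ^ k = 1 := by rw [← map_pow, hsk, map_one]
  haveI : CharP (Matrix (Fin 2) (Fin 2) (ZMod r)) r := inferInstance
  have hdet1 : (L.M s' - 1).det = 0 := by
    refine pow_eq_zero_iff (pow_ne_zero k hr.out.ne_zero) |>.1 ?_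
    rw [← Matrix.det_pow, sub_pow_char_pow_of_commute _ _ (Commute.one_right _), hM, one_pow, sub_self,
      Matrix.det_zero]
  have hβ : L.M s' 0 1 = 0 := by
    rw [Matrix.det_fin_two] at hdet1
    simpa [h0.1, h0.2] using hdet1
  have hδ : L.M s' 1 1 = 1 := by
    have h1 : (L.M s').det ^ r ^ k = 1 := by rw [← Matrix.det_pow, hM, Matrix.det_one]
    rw [ZMod.pow_card_pow, Matrix.det_fin_two, h0.1, hβ, zero_mul, sub_zero, one_mul] at h1
    exact h1
  refine ⟨L, ⟨s', ?_⟩, hsS⟩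
  ext i j
  fin_cases i <;> fin_cases j <;> simp [h0.1, h0.2, hβ, hδ]

namespace Step

variable {H : Pin a Q r} {R : Subgroup G} {L : Lay H R} (T : Step L)
include T

theorem M_pow (t : ℕ) : L.M (T.s ^ t) = !![1, 0; (t : ZMod r), 1] := by
  induction t with
  | zero => ext i j; fin_cases i <;> fin_cases j <;> simp
  | succ t ih =>
    rw [pow_succ, map_mul, ih, T.Ms]
    ext i j
    fin_cases i <;> fin_cases j <;> simp [Matrix.mul_apply, Fin.sum_univ_two]

theorem M_pow_mul (t : ℕ) (n : ↥(normalizer (R : Set G))) :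
    L.M (T.s ^ t * n) 0 0 = L.M n 0 0 ∧ L.M (T.s ^ t * n) 1 0 = t * L.M n 0 0 + L.M n 1 0 := by
  refine ⟨?_, ?_⟩ <;> rw [L.M_mul, T.M_pow] <;> simp

/-- The normaliser fixes the line of `y` and maps `a` into `a L`. -/
theorem lower (n : ↥(normalizer (R : Set G))) : L.M n 0 1 = 0 ∧ L.M n 0 0 = 1 := by
  have hshift : ∀ m : ↥(normalizer (R : Set G)), L.M m 0 0 ≠ 0 → L.M m 0 0 = 1 := by
    intro m hm
    set t := (-(L.M m 1 0) / L.M m 0 0).val
    obtain ⟨e1, e2⟩ := T.M_pow_mul t m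
    have h10 : L.M (T.s ^ t * m) 1 0 = 0 := by
      rw [e2, ZMod.natCast_zmod_val, div_mul_cancel₀ _ hm, neg_add_cancel]
    rw [← e1]
    exact L.scalar_eq_one _ h10 (by rw [e1]; exact hm)
  have hβ : L.M n 0 1 = 0 := by
    by_contra hb
    set t := ((-1 - L.M n 0 0) / L.M n 0 1).val
    have h : L.M (n * T.s ^ t) 0 0 = -1 := by
      rw [L.M_mul, T.M_pow]
      simp only [Matrix.of_apply, Matrix.cons_val', Matrix.cons_val_zero, Matrix.cons_val_one]
      rw [mul_one, ZMod.natCast_zmod_val, mul_div_cancel₀ _ hb]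
      ring
    have h1 := hshift (n * T.s ^ t) (by rw [h]; exact neg_ne_zero.2 one_ne_zero)
    rw [h] at h1
    have h2 : ((2 : ℕ) : ZMod r) = 0 := by
      rw [Nat.cast_two]; linear_combination -h1
    exact H.r_ne ((Nat.prime_dvd_prime_iff_eq hr.out Nat.prime_two).1 ((ZMod.natCast_eq_zero_iff 2 r).1 h2))
  refine ⟨hβ, hshift n fun h0 => ?_⟩
  have h := L.M_inv n 0 0
  rw [h0, hβ, zero_mul, zero_mul, add_zero, Matrix.one_apply_eq] at h
  exact zero_ne_one h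

/-- The stabiliser of `y`. -/
def W : Subgroup G where
  carrier := {g | ∃ h : g ∈ normalizer (R : Set G), L.M ⟨g, h⟩ 1 1 = 1}
  one_mem' := ⟨one_mem _, by rw [show (⟨1, one_mem _⟩ : ↥(normalizer (R : Set G))) = 1 from rfl, map_one]; rfl⟩
  mul_mem' := by
    rintro g g' ⟨h, e⟩ ⟨h', e'⟩
    refine ⟨mul_mem h h', ?_⟩
    rw [show (⟨g * g', mul_mem h h'⟩ : ↥(normalizer (R : Set G))) = ⟨g, h⟩ * ⟨g', h'⟩ from rfl, L.M_mul,
      (T.lower ⟨g', h'⟩).1, e, e', mul_zero, zero_add, one_mul]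
  inv_mem' := by
    rintro g ⟨h, e⟩
    refine ⟨inv_mem h, ?_⟩
    have h1 := L.M_inv ⟨g, h⟩ 1 1
    rw [(T.lower _).1, e, mul_zero, zero_add, one_mul, Matrix.one_apply_eq] at h1
    exact h1

theorem s_mem : (T.s : G) ∈ T.W := ⟨T.s.2, by rw [show (⟨(T.s : G), T.s.2⟩ : ↥(normalizer (R : Set G))) = T.s from rfl, T.Ms]; rfl⟩

theorem le_W : R ≤ T.W := fun g hg => ⟨le_normalizer hg, by
  rw [L.M_of_mem ⟨g, le_normalizer hg⟩ hg]; rfl⟩

/-- An `r`-subgroup normalising `R` lies in `W`. -/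
theorem pgroup_le {U : Subgroup G} (hU : IsPGroup r U) (hUN : U ≤ normalizer (R : Set G)) : U ≤ T.W := by
  intro g hg
  refine ⟨hUN hg, ?_⟩
  obtain ⟨k, hk⟩ := hU ⟨g, hg⟩
  set g' : ↥(normalizer (R : Set G)) := ⟨g, hUN hg⟩
  have hgk : g' ^ r ^ k = 1 := Subtype.ext (congrArg (fun z : ↥U => (z : G)) hk)
  have h1 : (L.M g').det ^ r ^ k = 1 := by rw [← Matrix.det_pow, ← map_pow, hgk, map_one, Matrix.det_one]
  rw [ZMod.pow_card_pow, Matrix.det_fin_two, (T.lower g').1, (T.lower g').2, zero_mul, sub_zero, one_mul] at h1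
  exact h1

/-- An element of `W` is an element centralising `a` times one of a group containing `R` and `s`. -/
theorem decomp {U : Subgroup G} (hRU : R ≤ U) (hsU : (T.s : G) ∈ U) {w : G} (hw : w ∈ T.W) :
    ∃ x ∈ T.W, Commute x a ∧ ∃ u ∈ U, w = x * u := by
  have hwN := hw.1
  set n : ↥(normalizer (R : Set G)) := (⟨w, hwN⟩ : ↥(normalizer (R : Set G)))⁻¹
  set t := (-(L.M n 1 0)).val
  obtain ⟨e1, e2⟩ := T.M_pow_mul t n
  rw [(T.lower n).2] at e1 e2
  rw [ZMod.natCast_zmod_val, mul_one, neg_add_cancel] at e2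
  obtain ⟨ρ, hρ, hc⟩ := L.exists_cent _ e2 e1
  set m := ρ⁻¹ * ((T.s : G) ^ t * w⁻¹)
  have hu : ρ⁻¹ * (T.s : G) ^ t ∈ U := mul_mem (inv_mem (hRU hρ)) (pow_mem hsU t)
  have hm : Commute m a := hc
  refine ⟨m⁻¹, ?_, hm.inv_left, ρ⁻¹ * (T.s : G) ^ t, hu, by simp only [m]; group⟩
  exact inv_mem (mul_mem (inv_mem (T.le_W hρ)) (mul_mem (pow_mem T.s_mem t) (inv_mem hw)))

/-- The first coordinate on `W`. -/
def γ : ↥T.W →* Multiplicative (ZMod r) :=
  MonoidHom.mk' (fun g => Multiplicative.ofAdd (L.M ⟨(g : G), g.2.1⟩ 1 0)) fun g g' => by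
    rw [← ofAdd_add]
    refine congrArg Multiplicative.ofAdd ?_
    rw [show (⟨((g * g' : ↥T.W) : G), (g * g').2.1⟩ : ↥(normalizer (R : Set G))) = ⟨g, g.2.1⟩ * ⟨g', g'.2.1⟩ from rfl,
      L.M_mul, (T.lower _).2, mul_one]
    obtain ⟨h, e⟩ := g.2
    rw [e, one_mul]

/-- The kernel of `γ` on an `r`-subgroup is `R`. -/
theorem γ_eq_one_iff {U : Subgroup G} (hU : IsPGroup r U) (hRU : R ≤ U) {g : ↥T.W} (hg : (g : G) ∈ U) :
    T.γ g = 1 ↔ (g : G) ∈ R := by
  constructor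
  · intro h
    have h' : L.M ⟨g, g.2.1⟩ 1 0 = 0 := h
    obtain ⟨ρ, hρ, hc⟩ := L.exists_cent _ h' (T.lower _).2
    have := L.hR.le (H.mem_of_commute ⟨L.hR.le.trans hRU, hU⟩ (mul_mem (inv_mem (hRU hρ)) hg) hc)
    simpa using mul_mem hρ this
  · intro h
    show Multiplicative.ofAdd (L.M _ 1 0) = 1
    rw [L.M_of_mem _ h]
    rfl

theorem card_eq {U : Subgroup G} (hU : IsPGroup r U) (hRU : R < U) (hUN : U ≤ normalizer (R : Set G)) :
    Nat.card U = r * Nat.card R := by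
  set f := T.γ.comp (Subgroup.inclusion (T.pgroup_le hU hUN))
  have hker : f.ker = R.subgroupOf U := by
    ext g
    rw [MonoidHom.mem_ker, mem_subgroupOf]
    exact T.γ_eq_one_iff hU hRU.le g.2
  have h := f.ker.card_mul_index
  rw [Subgroup.index_ker, hker, Nat.card_congr (subgroupOfEquivOfLe hRU.le).toEquiv] at h
  have hd : Nat.card f.range ∣ r := by
    have := Subgroup.card_subgroup_dvd_card f.range
    rwa [Nat.card_congr Multiplicative.toAdd, Nat.card_zmod] at this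
  rcases (Nat.dvd_prime hr.out).1 hd with e | e
  · exfalso
    rw [e, mul_one] at h
    exact hRU.ne (Subgroup.eq_of_le_of_card_ge hRU.le h.ge)
  · rw [← h, e, mul_comm]

/-- Two `r`-subgroups strictly above `R` in its normaliser are conjugate by an element of `W`. -/
theorem exists_conj {U V : Subgroup G} (hU : IsPGroup r U) (hUN : U ≤ normalizer (R : Set G))
    (hV : IsPGroup r V) (hRV : R < V) (hVN : V ≤ normalizer (R : Set G)) :
    ∃ w ∈ T.W, ∀ g, g ∈ U → w * g * w⁻¹ ∈ V := by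
  have hsyl : ∀ (U : Subgroup G), IsPGroup r U → R < U → U ≤ normalizer (R : Set G) →
      ∀ Y : Sylow r ↥T.W, U.subgroupOf T.W ≤ (Y : Subgroup ↥T.W) → (Y : Subgroup ↥T.W) = U.subgroupOf T.W := by
    intro U hU hRU hUN Y hY
    refine le_antisymm ?_ hY
    set U' := (Y : Subgroup ↥T.W).map T.W.subtype
    have hle : U ≤ U' := fun g hg => ⟨⟨g, T.pgroup_le hU hUN hg⟩, hY hg, rfl⟩
    have hU' : IsPGroup r U' := Y.isPGroup'.map _
    have hU'N : U' ≤ normalizer (R : Set G) := by rintro _ ⟨g, -, rfl⟩; exact g.2.1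
    have heq := Subgroup.eq_of_le_of_card_ge hle
      (by rw [T.card_eq hU hRU hUN, T.card_eq hU' (hRU.trans_le hle) hU'N])
    exact fun g hg => mem_subgroupOf.2 (heq ▸ ⟨g, hg, rfl⟩)
  obtain ⟨Y, hY⟩ := (hU.comap_subtype (K := T.W)).exists_le_sylow
  obtain ⟨Z, hZ⟩ := (hV.comap_subtype (K := T.W)).exists_le_sylow
  obtain ⟨w, hw⟩ := MulAction.exists_smul_eq ↥T.W Y Z
  refine ⟨w, w.2, fun g hg => ?_⟩
  have h1 : w * ⟨g, T.pgroup_le hU hUN hg⟩ * w⁻¹ ∈ (Z : Subgroup ↥T.W) := by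
    rw [← hw, Sylow.coe_subgroup_smul]
    exact ⟨_, hY hg, rfl⟩
  rw [hsyl V hV hRV hVN Z hZ] at h1
  exact h1

end Step

end Cfsg.Agent.Invol.JankoWard.CaseA
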