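import Cfsg.Agent.Lib.Invol.JankoWard.CaseALayer
import Cfsg.Agent.Lib.Transfer.HallWielandt
import Cfsg.Agent.Lib.Invol.JankoWard.CaseAGamma

/-!
The transfer of case A of the field part: `a` of odd prime order `r` with unfused powers, `Q = ⟨a, z⟩` a Sylow
`r`-subgroup of `C(a)`, and an element of `C(a)` acting on `Q / ⟨a⟩` as a power `l` with `l² ≠ 1 (mod r)`.
Then a simple group is impossible.
-/

set_option autoImplicit false
set_option linter.unusedSectionVars false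
set_option linter.style.haveILetI false

namespace Cfsg.Agent.Invol.JankoWard.CaseA

open Subgroup
open scoped commutatorElement Pointwise

universe u

variable {G : Type u} [Group G] [Finite G] {r : ℕ} [hr : Fact r.Prime] {a : G} {Q : Subgroup G}

/-- An element centralising `a` acts on `R / ⟨a⟩R'` as the power `l`. -/
def Good (a : G) (l : ℕ) (R : Subgroup G) : Prop :=
  ∃ τ : G, Commute τ a ∧ τ ∈ normalizer (R : Set G) ∧ ∀ x ∈ R, τ * x * τ⁻¹ * (x ^ l)⁻¹ ∈ zpowers a ⊔ ⁅R, R⁆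

namespace Lay

variable {H : Pin a Q r} {R : Subgroup G} (L : Lay H R)

theorem snd_eq_zero {z : ↥R} (hz : (z : G) ∈ zpowers a ⊔ ⁅R, R⁆) : (L.C.v z).2 = 0 := by
  let K : Subgroup ↥R :=
    { carrier := {z | (L.C.v z).2 = 0}
      one_mem' := by simp [L.C.v_one]
      mul_mem' := fun {z z'} h h' => by
        show (L.C.v (z * z')).2 = 0
        rw [L.C.map_mul, Prod.snd_add, h, h', add_zero]
      inv_mem' := fun {z} h => by
        show (L.C.v z⁻¹).2 = 0
        rw [L.C.v_inv, Prod.snd_neg, h, neg_zero] }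
  have hle : zpowers a ⊔ ⁅R, R⁆ ≤ K.map R.subtype := by
    refine sup_le (zpowers_le.2 ⟨L.aR, ?_, rfl⟩) ?_
    · show (L.C.v L.aR).2 = 0
      rw [Lay.aR, L.C.va]
    · have h : commutator ↥R ≤ K := fun z hz => by
        show (L.C.v z).2 = 0
        rw [(L.C.ker z).2 hz]; rfl
      calc ⁅R, R⁆ = (commutator ↥R).map R.subtype := (Subgroup.map_subtype_commutator R).symm
        _ ≤ K.map R.subtype := Subgroup.map_mono h
  obtain ⟨z', hz', e⟩ := hle hz
  rwa [show z = z' from Subtype.ext e.symm]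

/-- The matrix of a `Good` element. -/
theorem M_good {l : ℕ} {τ : G} (hτa : Commute τ a) (hτN : τ ∈ normalizer (R : Set G))
    (hτ : ∀ x ∈ R, τ * x * τ⁻¹ * (x ^ l)⁻¹ ∈ zpowers a ⊔ ⁅R, R⁆) :
    L.M ⟨τ, hτN⟩ 0 0 = 1 ∧ L.M ⟨τ, hτN⟩ 1 0 = 0 ∧ L.M ⟨τ, hτN⟩ 1 1 = (l : ZMod r) := by
  have ha : conjR R ⟨τ, hτN⟩ L.aR = L.aR := Subtype.ext (by
    show τ * a * τ⁻¹ = a
    rw [hτa.eq, mul_inv_cancel_right])
  have h := L.M_a ⟨τ, hτN⟩
  rw [ha, Lay.aR, L.C.va, Prod.mk.injEq] at h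
  refine ⟨h.1.symm, h.2.symm, ?_⟩
  have hz : (conjR R ⟨τ, hτN⟩ L.y * (L.y ^ l)⁻¹ : ↥R).1 ∈ zpowers a ⊔ ⁅R, R⁆ := hτ L.y L.y.2
  have h2 := L.snd_eq_zero hz
  rw [L.C.map_mul, L.C.v_inv, L.C.v_pow, L.v_conjR, L.C.vy] at h2
  simpa [add_neg_eq_zero] using h2

end Lay

variable (H : Pin a Q r)
include H

theorem exists_above {R : Subgroup G} (_hR : Big r Q R) (P : Sylow r G) (hRP : R ≤ (P : Subgroup G))
    (hne : R ≠ (P : Subgroup G)) : R < (P : Subgroup G) ⊓ normalizer (R : Set G) := by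
  haveI := P.isPGroup'.isNilpotent
  have hlt : R.subgroupOf (P : Subgroup G) < ⊤ := lt_top_iff_ne_top.2 fun h => hne (le_antisymm hRP
    (subgroupOf_eq_top.1 h))
  obtain ⟨g, hgN, hgR⟩ := SetLike.exists_of_lt (Group.normalizerCondition_of_isNilpotent _ hlt)
  refine SetLike.lt_iff_le_and_exists.2 ⟨le_inf hRP le_normalizer, (g : G), mem_inf.2 ⟨g.2, ?_⟩, hgR⟩
  refine mem_normalizer_fintype fun x hx => ?_
  exact (mem_normalizer_iff.1 hgN ⟨x, hRP hx⟩).1 hx

/-- Two Sylow subgroups containing `R` are conjugate by an element centralising `a`. -/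
theorem exists_conj : ∀ (n : ℕ) {R : Subgroup G}, Big r Q R → ∀ P P' : Sylow r G, R ≤ (P : Subgroup G) →
    R ≤ (P' : Subgroup G) → Nat.card (P : Subgroup G) ≤ Nat.card R + n →
      ∃ x, Commute x a ∧ ∀ g ∈ (P : Subgroup G), x * g * x⁻¹ ∈ (P' : Subgroup G) := by
  intro n
  induction n with
  | zero =>
    intro R hR P P' hP hP' hn
    refine ⟨1, Commute.one_left a, fun g hg => ?_⟩
    rw [one_mul, inv_one, mul_one]
    exact hP' ((Subgroup.eq_of_le_of_card_ge hP (by omega)).ge hg)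
  | succ n ih =>
    intro R hR P P' hP hP' hn
    by_cases hRP : R = (P : Subgroup G)
    · refine ⟨1, Commute.one_left a, fun g hg => ?_⟩
      rw [one_mul, inv_one, mul_one]
      exact hP' (hRP.ge hg)
    have hRP' : R ≠ (P' : Subgroup G) := fun h => hRP (Subgroup.eq_of_le_of_card_ge hP (by
      rw [h, P.card_eq_multiplicity, P'.card_eq_multiplicity]))
    set U := (P : Subgroup G) ⊓ normalizer (R : Set G)
    set V := (P' : Subgroup G) ⊓ normalizer (R : Set G)
    have hU : IsPGroup r U := P.isPGroup'.to_le inf_le_left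
    have hV : IsPGroup r V := P'.isPGroup'.to_le inf_le_left
    have hRU : R < U := exists_above H hR P hP hRP
    have hRV : R < V := exists_above H hR P' hP' hRP'
    obtain ⟨L, T, hsV⟩ := exists_step H hR hV hRV inf_le_right
    obtain ⟨w, hw, hwUV⟩ := T.exists_conj hU inf_le_right hV hRV inf_le_right
    obtain ⟨w', -, hw'a, v, hv, hwe⟩ := T.decomp hRV.le hsV (T.W.inv_mem hw)
    -- `w'⁻¹` maps `U` into `V`
    have hUV : ∀ g ∈ U, w'⁻¹ * g * w' ∈ V := fun g hg => by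
      have h2 : w = v⁻¹ * w'⁻¹ := by rw [← mul_inv_rev, ← hwe, inv_inv]
      have h3 := mul_mem (mul_mem hv (hwUV g hg)) (inv_mem hv)
      rwa [show v * (w * g * w⁻¹) * v⁻¹ = w'⁻¹ * g * w' by rw [h2]; group] at h3
    let P'' : Sylow r G := (MulAut.conj w' • P' : Sylow r G)
    have hUP : U ≤ (P'' : Subgroup G) := fun g hg => by
      show g ∈ ((MulAut.conj w' • P' : Sylow r G) : Subgroup G)
      rw [Sylow.pointwise_smul_def, Subgroup.mem_pointwise_smul_iff_inv_smul_mem]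
      have h5 : w'⁻¹ * g * w' ∈ (P' : Subgroup G) := (hUV g hg).1
      simpa [mul_assoc] using h5
    obtain ⟨x, hxa, hx⟩ := ih ⟨hR.le.trans hRU.le, hU⟩ P P'' inf_le_left hUP (by
      have : Nat.card R < Nat.card U := by
        by_contra hle
        exact hRU.ne (Subgroup.eq_of_le_of_card_ge hRU.le (by omega))
      omega)
    refine ⟨w'⁻¹ * x, hw'a.inv_left.mul_left hxa, fun g hg => ?_⟩
    have h1 : x * g * x⁻¹ ∈ ((MulAut.conj w' • P' : Sylow r G) : Subgroup G) := hx g hg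
    rw [Sylow.pointwise_smul_def, Subgroup.mem_pointwise_smul_iff_inv_smul_mem] at h1
    simpa [mul_assoc] using h1

/-- The hypothesis goes up to a Sylow subgroup. -/
theorem good_sylow {l : ℕ} : ∀ (n : ℕ) {R : Subgroup G}, Big r Q R → Good a l R → ∀ P : Sylow r G,
    R ≤ (P : Subgroup G) → Nat.card (P : Subgroup G) ≤ Nat.card R + n → Good a l (P : Subgroup G) := by
  intro n
  induction n with
  | zero =>
    intro R hR hg P hP hn
    rwa [← Subgroup.eq_of_le_of_card_ge hP (by omega)]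
  | succ n ih =>
    intro R hR hg P hP hn
    by_cases hRP : R = (P : Subgroup G)
    · rwa [← hRP]
    set U := (P : Subgroup G) ⊓ normalizer (R : Set G)
    have hU : IsPGroup r U := P.isPGroup'.to_le inf_le_left
    have hRU : R < U := exists_above H hR P hP hRP
    have hUN : U ≤ normalizer (R : Set G) := inf_le_right
    obtain ⟨L, T, hsU⟩ := exists_step H hR hU hRU hUN
    refine ih ⟨hR.le.trans hRU.le, hU⟩ ?_ P inf_le_left (by
      have : Nat.card R < Nat.card U := by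
        by_contra hle
        exact hRU.ne (Subgroup.eq_of_le_of_card_ge hRU.le (by omega))
      omega)
    obtain ⟨τ, hτa, hτN, hτ⟩ := hg
    set tn : ↥(normalizer (R : Set G)) := ⟨τ, hτN⟩
    obtain ⟨-, h10, h11⟩ := L.M_good hτa hτN hτ
    have hl : (l : ZMod r) ≠ 0 := fun h0 => by
      have h := L.M_inv tn 1 1
      rw [h10, h11, h0, zero_mul, zero_mul, add_zero, Matrix.one_apply_eq] at h
      exact zero_ne_one h
    -- `τ` normalises `W`
    have hWτ : ∀ g ∈ T.W, τ * g * τ⁻¹ ∈ T.W := by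
      rintro g ⟨hgN, e⟩
      refine ⟨mul_mem (mul_mem hτN hgN) (inv_mem hτN), ?_⟩
      show L.M (tn * ⟨g, hgN⟩ * tn⁻¹) 1 1 = 1
      rw [L.M_mul, (T.lower tn⁻¹).1, mul_zero, zero_add, L.M_mul, (T.lower ⟨g, hgN⟩).1, mul_zero, zero_add, e, mul_one]
      have h := L.M_inv tn 1 1
      rwa [(T.lower tn⁻¹).1, mul_zero, zero_add, Matrix.one_apply_eq] at h
    set U' := U.map (MulAut.conj τ).toMonoidHom
    have hU' : IsPGroup r U' := hU.map _
    have hU'N : U' ≤ normalizer (R : Set G) := by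
      rintro _ ⟨g, hg, rfl⟩
      exact (hWτ g (T.pgroup_le hU hUN hg)).1
    obtain ⟨w, hw, hwU⟩ := T.exists_conj hU' hU'N hU hRU hUN
    obtain ⟨x, hxW, hxa, v, hv, hwe⟩ := T.decomp hRU.le hsU (T.W.inv_mem hw)
    refine ⟨x⁻¹ * τ, hxa.inv_left.mul_left hτa, ?_, ?_⟩
    · refine mem_normalizer_fintype fun g hg => ?_
      have h1 := hwU (τ * g * τ⁻¹) ⟨g, hg, rfl⟩
      have h2 : w = v⁻¹ * x⁻¹ := by rw [← mul_inv_rev, ← hwe, inv_inv]
      have h3 := mul_mem (mul_mem hv h1) (inv_mem hv)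
      rwa [h2, show v * (v⁻¹ * x⁻¹ * (τ * g * τ⁻¹) * (v⁻¹ * x⁻¹)⁻¹) * v⁻¹ = x⁻¹ * τ * g * (x⁻¹ * τ)⁻¹ by group] at h3
    · intro g hg
      have hgW := T.pgroup_le hU hUN hg
      set gn : ↥(normalizer (R : Set G)) := ⟨g, hgW.1⟩
      set n : ↥(normalizer (R : Set G)) := (⟨x, hxW.1⟩ : ↥(normalizer (R : Set G)))⁻¹ * tn
      have hn11 : L.M n 1 1 = (l : ZMod r) := by
        have hxi := T.W.inv_mem hxW
        rw [show L.M n 1 1 = _ from L.M_mul _ _ 1 1, (T.lower tn).1, mul_zero, zero_add, h11]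
        rw [show L.M (⟨x, hxW.1⟩ : ↥(normalizer (R : Set G)))⁻¹ 1 1 = 1 from hxi.2, one_mul]
      have hn10 : L.M n 1 0 = 0 := by
        have hfix : conjR R n L.aR = L.aR := Subtype.ext (by
          show x⁻¹ * τ * a * (x⁻¹ * τ)⁻¹ = a
          rw [(hxa.inv_left.mul_left hτa).eq, mul_inv_cancel_right])
        have h := L.M_a n
        rw [hfix, Lay.aR, L.C.va, Prod.mk.injEq] at h
        exact h.2.symm
      have hni11 : L.M n 1 1 * L.M n⁻¹ 1 1 = 1 := by
        have h := L.M_inv n 1 1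
        rwa [(T.lower _).1, mul_zero, zero_add, Matrix.one_apply_eq] at h
      have hni10 : L.M n⁻¹ 1 0 = 0 := by
        have h := L.M_inv n 1 0
        rw [hn10, zero_mul, zero_add, hn11, Matrix.one_apply_ne (by decide : (1 : Fin 2) ≠ 0)] at h
        exact (mul_eq_zero.1 h).resolve_left hl
      -- the element lies in `R`
      set z : ↥(normalizer (R : Set G)) := n * gn * n⁻¹ * (gn ^ l)⁻¹
      have hpow : ∀ m : ℕ, L.M (gn ^ m) 1 0 = m * L.M gn 1 0 ∧ L.M (gn ^ m) 1 1 = 1 := by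
        intro m
        induction m with
        | zero => rw [pow_zero, map_one]; simp
        | succ m ihm =>
          rw [pow_succ, L.M_mul, L.M_mul, (T.lower gn).1, (T.lower gn).2, ihm.1, ihm.2,
            show L.M gn 1 1 = 1 from hgW.2]
          constructor <;> push_cast <;> ring
      have hz10 : L.M z 1 0 = 0 := by
        have e1 : L.M (n * gn * n⁻¹) 1 0 = (l : ZMod r) * L.M gn 1 0 := by
          rw [L.M_mul, L.M_mul, (T.lower n⁻¹).2, hn10, (T.lower gn).2, hn11, hni10]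
          ring
        have e2 : L.M (n * gn * n⁻¹) 1 1 = 1 := by
          rw [L.M_mul, (T.lower n⁻¹).1, mul_zero, zero_add, L.M_mul, (T.lower gn).1, mul_zero, zero_add,
            show L.M gn 1 1 = 1 from hgW.2, mul_one, hni11]
        have h := L.M_inv (gn ^ l) 1 0
        rw [(T.lower (gn ^ l)⁻¹).2, (hpow l).1, (hpow l).2, mul_one, one_mul,
          Matrix.one_apply_ne (by decide : (1 : Fin 2) ≠ 0)] at h
        rw [show L.M z 1 0 = _ from L.M_mul _ _ 1 0, e1, e2, (T.lower (gn ^ l)⁻¹).2, mul_one, one_mul]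
        exact h
      have hzU : (z : G) ∈ U := by
        have hN : x⁻¹ * τ * g * (x⁻¹ * τ)⁻¹ ∈ U := by
          have h1 := hwU (τ * g * τ⁻¹) ⟨g, hg, rfl⟩
          have h2 : w = v⁻¹ * x⁻¹ := by rw [← mul_inv_rev, ← hwe, inv_inv]
          have h3 := mul_mem (mul_mem hv h1) (inv_mem hv)
          rwa [h2, show v * (v⁻¹ * x⁻¹ * (τ * g * τ⁻¹) * (v⁻¹ * x⁻¹)⁻¹) * v⁻¹ =
            x⁻¹ * τ * g * (x⁻¹ * τ)⁻¹ by group] at h3
        exact mul_mem hN (inv_mem (pow_mem hg l))
      have hzR : (z : G) ∈ R := (T.γ_eq_one_iff hU hRU.le (g := ⟨z, T.pgroup_le hU hUN hzU⟩) hzU).1 hz10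
      -- `R ≤ ⟨a⟩ U'`
      suffices hle : R ≤ zpowers a ⊔ ⁅U, U⁆ from hle hzR
      have hUbig : Big r Q U := ⟨hR.le.trans hRU.le, hU⟩
      set f := T.γ.comp (Subgroup.inclusion (T.pgroup_le hU hUN))
      have hcR : ⁅U, U⁆ ≤ R := by
        calc ⁅U, U⁆ = (commutator ↥U).map U.subtype := (Subgroup.map_subtype_commutator U).symm
          _ ≤ R := by
            rintro _ ⟨c, hc, rfl⟩
            exact (T.γ_eq_one_iff hU hRU.le (g := ⟨c, T.pgroup_le hU hUN c.2⟩) c.2).1
              (MonoidHom.mem_ker.1 (Abelianization.commutator_subset_ker f hc))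
      have haU : a ∉ ⁅U, U⁆ := by
        rw [← Subgroup.map_subtype_commutator U]
        rintro ⟨c, hc, hca⟩
        exact (H.small hUbig).not_mem (by rwa [show c = ⟨a, hUbig.le H.aQ⟩ from Subtype.ext hca] at hc)
      set K := zpowers a ⊔ ⁅U, U⁆
      have hKR : K ≤ R := sup_le (zpowers_le.2 (hR.le H.aQ)) hcR
      refine (Subgroup.eq_of_le_of_card_ge hKR ?_).ge
      have hcU : Nat.card ↥⁅U, U⁆ = Nat.card ↥(commutator ↥U) := by
        rw [← Subgroup.map_subtype_commutator U, Subgroup.card_map_of_injective U.subtype_injective]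
      have hRc : Nat.card R = r * Nat.card ↥⁅U, U⁆ := by
        have h1 := T.card_eq hU hRU hUN
        rw [← (commutator ↥U).card_mul_index, (H.small hUbig).index_commutator, ← hcU] at h1
        exact Nat.eq_of_mul_eq_mul_left hr.out.pos (h1.symm.trans (by ring))
      have hlt : ⁅U, U⁆ < K := lt_of_le_of_ne le_sup_right fun e => haU (e ▸ mem_sup_left (mem_zpowers a))
      obtain ⟨i, hi⟩ := IsPGroup.iff_card.1 (hR.pgroup.to_le hKR)
      obtain ⟨j, hj⟩ := IsPGroup.iff_card.1 (hR.pgroup.to_le hcR)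
      have hji : j < i := by
        have : Nat.card ↥⁅U, U⁆ < Nat.card K := by
          by_contra hle
          exact hlt.ne (Subgroup.eq_of_le_of_card_ge hlt.le (by omega))
        rw [hi, hj] at this
        exact (Nat.pow_lt_pow_iff_right hr.out.one_lt).1 this
      rw [hRc, hj, hi, ← pow_succ']
      exact Nat.pow_le_pow_right hr.out.pos hji

/-- In a Sylow subgroup the class of `a` modulo the derived subgroup is fixed by the normaliser. -/
theorem top_fixed {l : ℕ} (hl2 : (l : ZMod r) ^ 2 ≠ 1) (P : Sylow r G) (hP : Big r Q (P : Subgroup G))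
    (hg : Good a l (P : Subgroup G)) : ∃ L : Lay H (P : Subgroup G),
      ∀ n : ↥(normalizer ((P : Subgroup G) : Set G)), L.M n 0 0 = 1 ∧ L.M n 1 0 = 0 ∧ L.M n 0 1 = 0 := by
  classical
  obtain ⟨τ, hτa, hτN, hτ⟩ := hg
  have haP : a ∈ (P : Subgroup G) := hP.le H.aQ
  obtain ⟨y₀, hy₀⟩ : ∃ y₀ : ↥(P : Subgroup G), ∀ i : ℕ,
      y₀ * ((⟨a, haP⟩ : ↥(P : Subgroup G)) ^ i)⁻¹ ∉ commutator ↥(P : Subgroup G) :=
    exists_not_mem H hP
  obtain ⟨L₀, -⟩ := exists_lay H hP hy₀
  set tn : ↥(normalizer ((P : Subgroup G) : Set G)) := ⟨τ, hτN⟩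
  obtain ⟨e00, e10, e11⟩ := L₀.M_good hτa hτN hτ
  have hl1 : (l : ZMod r) ≠ 1 := fun h => hl2 (by rw [h, one_pow])
  -- an eigenvector
  set c : ℕ := (L₀.M tn 0 1 / ((l : ZMod r) - 1)).val
  set y := L₀.y * L₀.aR ^ c with hy
  have hvy : L₀.C.v y = ((c : ZMod r), 1) := by
    rw [hy, L₀.C.map_mul, L₀.C.vy, L₀.C.v_pow, Lay.aR, L₀.C.va]; simp
  obtain ⟨L, hL⟩ := exists_lay H hP (y := y) (by
    intro i hi
    have h := (L₀.C.ker _).2 hi
    rw [L₀.C.map_mul, L₀.C.v_inv, L₀.C.v_pow, L₀.C.va, hvy, Prod.ext_iff] at h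
    simpa using h.2)
  obtain ⟨f00, f10, f11⟩ := L.M_good hτa hτN hτ
  have f01 : L.M tn 0 1 = 0 := by
    have h1 : L₀.C.v (conjR (P : Subgroup G) tn y) = L₀.C.v (y ^ l) := by
      rw [L₀.v_conjR, L₀.C.v_pow, hvy, e00, e10, e11]
      refine Prod.ext ?_ ?_ <;>
        simp only [Prod.smul_mk, nsmul_eq_mul, one_mul, mul_one, zero_mul, zero_add]
      have h3 := div_mul_cancel₀ (L₀.M tn 0 1) (sub_ne_zero.2 hl1)
      rw [show L₀.M tn 0 1 / ((l : ZMod r) - 1) = (c : ZMod r) from (ZMod.natCast_zmod_val _).symm] at h3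
      linear_combination -h3
    have h2 : conjR (P : Subgroup G) tn y * (y ^ l)⁻¹ ∈ commutator ↥(P : Subgroup G) :=
      (L₀.C.ker _).1 (by rw [L₀.C.map_mul, L₀.C.v_inv, h1, add_neg_cancel])
    have h3 := (L.C.ker _).2 h2
    rw [← hL, L.C.map_mul, L.C.v_inv, L.C.v_pow, L.v_conjR, L.C.vy, Prod.ext_iff] at h3
    simpa using h3.1
  refine ⟨L, ?_⟩
  -- the image in `GL₂`
  set ρ : ↥(normalizer ((P : Subgroup G) : Set G)) →* GL (Fin 2) (ZMod r) := L.M.toHomUnits with hρ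
  have hρv : ∀ n i j, (ρ n : Matrix (Fin 2) (Fin 2) (ZMod r)) i j = L.M n i j := fun _ _ _ => rfl
  have hcop : ¬ r ∣ Nat.card ρ.range := by
    intro hd
    have hle : (P : Subgroup G).subgroupOf (normalizer ((P : Subgroup G) : Set G)) ≤ ρ.ker := fun n hn =>
      MonoidHom.mem_ker.2 (Units.ext (L.M_of_mem n hn))
    have h1 := Subgroup.index_dvd_of_le hle
    rw [Subgroup.index_ker] at h1
    have hni := Sylow.not_dvd_index (P.subtype le_normalizer)
    rw [Sylow.coe_subtype] at hni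
    exact hni (hd.trans h1)
  have hfix : ∀ g : GL (Fin 2) (ZMod r), g ∈ ρ.range → (g : Matrix (Fin 2) (Fin 2) (ZMod r)) 1 0 = 0 →
      (g : Matrix (Fin 2) (Fin 2) (ZMod r)) 0 0 ≠ 0 → (g : Matrix (Fin 2) (Fin 2) (ZMod r)) 0 0 = 1 := by
    rintro _ ⟨n, rfl⟩ h10 h00
    exact L.scalar_eq_one n h10 h00
  have key := gamma_fixed H.r_ne ρ.range hcop hfix (l := (l : ZMod r)) ⟨ρ tn, ⟨tn, rfl⟩, by
    ext i j
    fin_cases i <;> fin_cases j
    · exact f00
    · exact f01
    · exact f10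
    · exact f11⟩ hl2
  intro n
  exact key (ρ n) ⟨n, rfl⟩

/-- The transfer: a simple group is impossible. -/
theorem false_of_pin [IsSimpleGroup G] (hna : ¬ IsMulCommutative G) {l : ℕ} (hl2 : (l : ZMod r) ^ 2 ≠ 1)
    (hg : Good a l Q) : False := by
  classical
  have hQ : IsPGroup r Q := IsPGroup.of_card H.Q2
  obtain ⟨P, hQP⟩ := hQ.exists_le_sylow
  have hP : Big r Q (P : Subgroup G) := ⟨hQP, P.isPGroup'⟩
  have hgP := good_sylow H (Nat.card (P : Subgroup G)) ⟨le_rfl, hQ⟩ hg P hQP (by omega)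
  obtain ⟨L, hL⟩ := top_fixed H hl2 P hP hgP
  let c : ↥(P : Subgroup G) →* Multiplicative (ZMod r) :=
    MonoidHom.mk' (fun x => Multiplicative.ofAdd (L.C.v x).1) fun x x' => by
      rw [← ofAdd_add, L.C.map_mul, Prod.fst_add]
  have hca : c L.aR = Multiplicative.ofAdd 1 := by
    show Multiplicative.ofAdd (L.C.v L.aR).1 = _
    rw [Lay.aR, L.C.va]
  haveI := Fintype.ofFinite (G ⧸ (P : Subgroup G))
  have hV : MonoidHom.transfer c a = 1 := by
    rcases (inferInstance : (MonoidHom.transfer c).ker.Normal).eq_bot_or_eq_top with h | h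
    · exact absurd ⟨⟨fun b d => (MonoidHom.ker_eq_bot_iff _).1 h (by rw [map_mul, map_mul, mul_comm])⟩⟩ hna
    · exact MonoidHom.mem_ker.1 (h ▸ Subgroup.mem_top a)
  have hexp : ∀ z : Multiplicative (ZMod r), z ^ r = 1 := fun z => by
    show Multiplicative.ofAdd (r • z.toAdd) = 1
    rw [nsmul_eq_mul, ZMod.natCast_self, zero_mul]
    rfl
  rw [Transfer.HallWielandt.transfer_eq_prod_fixed c a (fun x m hm hmd h => by
    rw [H.ord] at hmd
    rcases (Nat.dvd_prime hr.out).1 hmd with e | e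
    · omega
    · have h1 : (⟨x⁻¹ * a ^ m * x, h⟩ : ↥(P : Subgroup G)) = 1 := Subtype.ext (by
        show x⁻¹ * a ^ m * x = 1
        rw [e, H.Qexp a H.aQ, mul_one, inv_mul_cancel])
      rw [h1, map_one])] at hV
  set f : G ⧸ (P : Subgroup G) → Multiplicative (ZMod r) := Transfer.HallWielandt.fixVal c a with hf
  have hinv : ∀ (x : ↥Q) (q : G ⧸ (P : Subgroup G)), f (x • q) = f q := fun x q => by
    show Transfer.HallWielandt.fixVal c a ((x : G) • q) = _
    rw [Transfer.HallWielandt.fixVal_smul, mul_assoc, ← (H.cQ x x.2).eq, inv_mul_cancel_left]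
  -- the value at a coset fixed by `Q`
  have hfix : ∀ q : G ⧸ (P : Subgroup G), q ∈ MulAction.fixedPoints ↥Q (G ⧸ (P : Subgroup G)) →
      f q = Multiplicative.ofAdd 1 := by
    intro q hq
    obtain ⟨g, rfl⟩ := QuotientGroup.mk_surjective q
    have hQg : ∀ x ∈ Q, g⁻¹ * x * g ∈ (P : Subgroup G) := fun x hx => by
      have h : (((x : G) * g : G) : G ⧸ (P : Subgroup G)) = (g : G ⧸ (P : Subgroup G)) := hq ⟨x, hx⟩
      rw [eq_comm, QuotientGroup.eq, ← mul_assoc] at h
      exact h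
    let P' : Sylow r G := MulAut.conj g • P
    have hQP' : Q ≤ (P' : Subgroup G) := fun x hx => by
      show x ∈ ((MulAut.conj g • P : Sylow r G) : Subgroup G)
      rw [Sylow.pointwise_smul_def, Subgroup.mem_pointwise_smul_iff_inv_smul_mem]
      simpa [mul_assoc] using hQg x hx
    obtain ⟨x, hxa, hx⟩ := exists_conj H (Nat.card (P : Subgroup G)) ⟨le_rfl, hQ⟩ P P' hQP hQP' (by omega)
    have hn : g⁻¹ * x ∈ normalizer ((P : Subgroup G) : Set G) := mem_normalizer_fintype fun y hy => by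
      have h1 : x * y * x⁻¹ ∈ ((MulAut.conj g • P : Sylow r G) : Subgroup G) := hx y hy
      rw [Sylow.pointwise_smul_def, Subgroup.mem_pointwise_smul_iff_inv_smul_mem] at h1
      show g⁻¹ * x * y * (g⁻¹ * x)⁻¹ ∈ (P : Subgroup G)
      rw [show g⁻¹ * x * y * (g⁻¹ * x)⁻¹ = (MulAut.conj g)⁻¹ • (x * y * x⁻¹) by simp [mul_assoc]]
      exact h1
    have haP : g⁻¹ * a * g ∈ (P : Subgroup G) := hQg a H.aQ
    rw [hf, Transfer.HallWielandt.fixVal_mk c haP]
    have he : (⟨g⁻¹ * a * g, haP⟩ : ↥(P : Subgroup G)) = conjR (P : Subgroup G) ⟨g⁻¹ * x, hn⟩ L.aR :=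
      Subtype.ext (by
        show g⁻¹ * a * g = g⁻¹ * x * a * (g⁻¹ * x)⁻¹
        rw [show g⁻¹ * x * a * (g⁻¹ * x)⁻¹ = g⁻¹ * (x * a * x⁻¹) * g by group, hxa.eq, mul_inv_cancel_right])
    rw [he]
    show Multiplicative.ofAdd (L.C.v (conjR (P : Subgroup G) ⟨g⁻¹ * x, hn⟩ L.aR)).1 = _
    rw [L.M_a, (hL _).1]
  -- modulo the fixed cosets
  set o : Multiplicative (ZMod r) := Multiplicative.ofAdd 1 with ho
  have hno : ¬ r ∣ Nat.card {q : G ⧸ (P : Subgroup G) // f q = o} := by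
    letI : MulAction ↥Q {q : G ⧸ (P : Subgroup G) // f q = o} :=
      { smul := fun x q => ⟨x • q.1, by rw [hinv]; exact q.2⟩
        one_smul := fun q => Subtype.ext (one_smul _ _)
        mul_smul := fun x y q => Subtype.ext (mul_smul x y q.1) }
    have h1 := hQ.card_modEq_card_fixedPoints {q : G ⧸ (P : Subgroup G) // f q = o}
    have h2 := hQ.card_modEq_card_fixedPoints (G ⧸ (P : Subgroup G))
    have h3 : Nat.card (MulAction.fixedPoints ↥Q {q : G ⧸ (P : Subgroup G) // f q = o}) =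
        Nat.card (MulAction.fixedPoints ↥Q (G ⧸ (P : Subgroup G))) :=
      Nat.card_congr
        { toFun := fun q => ⟨q.1.1, fun x => congrArg Subtype.val (q.2 x)⟩
          invFun := fun q => ⟨⟨q.1, hfix q.1 q.2⟩, fun x => Subtype.ext (q.2 x)⟩
          left_inv := fun _ => rfl
          right_inv := fun _ => rfl }
    intro hd
    rw [h3] at h1
    have h4 := h1.trans h2.symm
    rw [← Subgroup.index_eq_card] at h4
    exact P.not_dvd_index (Nat.modEq_zero_iff_dvd.1 (h4.symm.trans (Nat.modEq_zero_iff_dvd.2 hd)))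
  have hrest : ∀ z, z ≠ o → z ^ Nat.card {q : G ⧸ (P : Subgroup G) // f q = z} = 1 := by
    intro z hz
    letI : MulAction ↥Q {q : G ⧸ (P : Subgroup G) // f q = z} :=
      { smul := fun x q => ⟨x • q.1, by rw [hinv]; exact q.2⟩
        one_smul := fun q => Subtype.ext (one_smul _ _)
        mul_smul := fun x y q => Subtype.ext (mul_smul x y q.1) }
    have h1 := hQ.card_modEq_card_fixedPoints {q : G ⧸ (P : Subgroup G) // f q = z}
    haveI : IsEmpty (MulAction.fixedPoints ↥Q {q : G ⧸ (P : Subgroup G) // f q = z}) :=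
      ⟨fun q => hz (q.1.2.symm.trans (hfix q.1.1 fun x => congrArg Subtype.val (q.2 x)))⟩
    rw [Nat.card_of_isEmpty (α := ↥(MulAction.fixedPoints ↥Q {q : G ⧸ (P : Subgroup G) // f q = z}))] at h1
    obtain ⟨m, hm⟩ := Nat.modEq_zero_iff_dvd.1 h1
    rw [hm, pow_mul, hexp, one_pow]
  have hprod : ∏ q, f q = o ^ Nat.card {q : G ⧸ (P : Subgroup G) // f q = o} := by
    rw [← Fintype.prod_fiberwise f f, Finset.prod_eq_single o (fun z _ hz => ?_) (fun h => absurd (Finset.mem_univ _) h)]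
    · rw [Finset.prod_congr rfl (fun q _ => q.2), Finset.prod_const, Finset.card_univ, Nat.card_eq_fintype_card]
    · rw [Finset.prod_congr rfl (fun q _ => q.2), Finset.prod_const, Finset.card_univ, ← Nat.card_eq_fintype_card]
      exact hrest z hz
  rw [hprod] at hV
  have h5 := congrArg Multiplicative.toAdd hV
  rw [toAdd_pow, ho, toAdd_ofAdd, toAdd_one, nsmul_eq_mul, mul_one, ZMod.natCast_eq_zero_iff] at h5
  exact hno h5

end Cfsg.Agent.Invol.JankoWard.CaseA
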