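import Cfsg.Agent.Lib.Invol.JankoWard.ExtLocalsEx

/-!
# The transfer into the field part

`one_class_cent`: in the centraliser of an element `a` of the field part all involutions are conjugate to `t`.
`dvd_invol`: in a simple group a prime order `r` of `a` divides the number of these involutions.
-/

set_option autoImplicit false
set_option linter.unusedSectionVars false
set_option linter.style.haveILetI false

open scoped Classical

namespace Cfsg.Agent.Invol.JankoWard.ExtBase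

open Subgroup

universe u v

/-- The involutions of a group that commute with `a`. -/
def Invol' {G : Type u} [Group G] (a : G) : Set G := {x | x * x = 1 ∧ x ≠ 1 ∧ Commute x a}

variable {G : Type u} [Group G] [Finite G] {P : Type v} [Group P] [Finite P] (S : ExtBase G P)

/-- All involutions commuting with an element of the field part are conjugate in its centraliser. -/
theorem one_class_cent (A : Amb G) (L : ExtLocals S) {a : G} (ha : a ∈ S.Fld) {x : G} (hx : x ∈ Invol' a) :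
    ∃ c : G, Commute c a ∧ c * S.t * c⁻¹ = x := by
  haveI : Fact (Nat.Prime 2) := ⟨Nat.prime_two⟩
  obtain ⟨T, hT⟩ := S.exists_sylow A
  set K := fourSub S.D.u S.D.w S.D.u2 S.D.w2 S.D.comm
  have hTa : ∀ y ∈ (T : Subgroup G), Commute y a := by
    intro y hy
    obtain ⟨k, hk, hy'⟩ := (hT y).1 hy
    have hka : Commute (S.ι k) a := by
      rcases hk with rfl | rfl | rfl | rfl
      · rw [map_one]; exact Commute.one_left a
      · exact (S.Fu a ha).symm
      · exact (S.Fw a ha).symm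
      · rw [map_mul]; exact (show Commute (S.ι S.D.u) a from (S.Fu a ha).symm).mul_left (S.Fw a ha).symm
    rcases hy' with rfl | rfl
    · exact hka
    · exact (show Commute S.t a from (S.Ft a ha).symm).mul_left hka
  -- move `x` into the Sylow subgroup inside the centraliser
  set X := centralizer ({a} : Set G)
  have hTX : (T : Subgroup G) ≤ X := fun y hy => mem_centralizer_singleton_iff.2 (hTa y hy).eq
  let T' : Sylow 2 X := T.subtype hTX
  have hxX : x ∈ X := mem_centralizer_singleton_iff.2 hx.2.2.eq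
  have hxo : orderOf (⟨x, hxX⟩ : X) = 2 ^ 1 := by
    rw [pow_one, Subgroup.orderOf_mk]
    exact orderOf_eq_prime (by rw [pow_two]; exact hx.1) hx.2.1
  obtain ⟨d, hd⟩ := Invol.exists_conj_mem_sylow hxo T'
  have hda : Commute (d : G) a := mem_centralizer_singleton_iff.1 d.2
  have hdT : (d : G) * x * (d : G)⁻¹ ∈ (T : Subgroup G) := hd
  set y := (d : G) * x * (d : G)⁻¹ with hy
  suffices h : ∃ c : G, Commute c a ∧ c * S.t * c⁻¹ = y by
    obtain ⟨c, hca, hc⟩ := h
    refine ⟨(d : G)⁻¹ * c, hda.inv_left.mul_left hca, ?_⟩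
    rw [show (d : G)⁻¹ * c * S.t * ((d : G)⁻¹ * c)⁻¹ = (d : G)⁻¹ * (c * S.t * c⁻¹) * d by group, hc, hy]
    group
  have hy1 : y ≠ 1 := fun e => hx.2.1 (conj_eq_one_iff.1 e)
  obtain ⟨h, h3, hu, hw⟩ := S.exists_h A
  have hga : Commute L.g a := L.gF a ha
  have hha : Commute (S.ι h) a := (S.F_comm_h hu hw ha).symm
  have hu' : S.ι h * S.ι S.D.u * (S.ι h)⁻¹ = S.ι S.D.w := by rw [← map_inv, ← map_mul, ← map_mul, hu]
  have hw' : S.ι h * S.ι S.D.w * (S.ι h)⁻¹ = S.ι (S.D.u * S.D.w) := by rw [← map_inv, ← map_mul, ← map_mul, hw]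
  have ht' : S.ι h * S.t * (S.ι h)⁻¹ = S.t := by rw [S.tc, mul_inv_cancel_right]
  have hh2 : S.ι h * (S.t * S.ι S.D.u) * (S.ι h)⁻¹ = S.t * S.ι S.D.w := by rw [← conj_mul, ht', hu']
  have hh3 : S.ι h * (S.t * S.ι S.D.w) * (S.ι h)⁻¹ = S.t * S.ι (S.D.u * S.D.w) := by rw [← conj_mul, ht', hw']
  have g1 := L.gt
  have g2 : L.g * L.g * S.t * (L.g * L.g)⁻¹ = S.t * S.ι S.D.u := by
    rw [show L.g * L.g * S.t * (L.g * L.g)⁻¹ = L.g * (L.g * S.t * L.g⁻¹) * L.g⁻¹ by group, g1, L.gu]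
  obtain ⟨k, hk, hcase⟩ := (hT y).1 hdT
  rcases hcase with hyk | hyk <;> rcases hk with rfl | rfl | rfl | rfl
  · exact absurd (hyk.trans (map_one S.ι)) hy1
  · exact ⟨L.g, hga, g1.trans hyk.symm⟩
  · refine ⟨S.ι h * L.g, hha.mul_left hga, ?_⟩
    rw [show S.ι h * L.g * S.t * (S.ι h * L.g)⁻¹ = S.ι h * (L.g * S.t * L.g⁻¹) * (S.ι h)⁻¹ by group, g1, hu', hyk]
  · refine ⟨S.ι h * (S.ι h * L.g), hha.mul_left (hha.mul_left hga), ?_⟩
    rw [show S.ι h * (S.ι h * L.g) * S.t * (S.ι h * (S.ι h * L.g))⁻¹ =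
      S.ι h * (S.ι h * (L.g * S.t * L.g⁻¹) * (S.ι h)⁻¹) * (S.ι h)⁻¹ by group, g1, hu', hw', hyk]
  · rw [map_one, mul_one] at hyk
    exact ⟨1, Commute.one_left a, by rw [hyk]; group⟩
  · exact ⟨L.g * L.g, hga.mul_left hga, g2.trans hyk.symm⟩
  · refine ⟨S.ι h * (L.g * L.g), hha.mul_left (hga.mul_left hga), ?_⟩
    rw [show S.ι h * (L.g * L.g) * S.t * (S.ι h * (L.g * L.g))⁻¹ =
      S.ι h * (L.g * L.g * S.t * (L.g * L.g)⁻¹) * (S.ι h)⁻¹ by group, g2, ← conj_mul, ht', hu', hyk]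
  · refine ⟨S.ι h * (S.ι h * (L.g * L.g)), hha.mul_left (hha.mul_left (hga.mul_left hga)), ?_⟩
    rw [show S.ι h * (S.ι h * (L.g * L.g)) * S.t * (S.ι h * (S.ι h * (L.g * L.g)))⁻¹ =
      S.ι h * (S.ι h * (L.g * L.g * S.t * (L.g * L.g)⁻¹) * (S.ι h)⁻¹) * (S.ι h)⁻¹ by group, g2, hh2, hh3, hyk]

/-- The homomorphism of the centraliser of `t` on the field part. -/
noncomputable def toFld : S.C →* S.Fld := S.fp.comp S.κ

theorem toFld_F {a : G} (ha : a ∈ S.Fld) (h : a ∈ S.C) : S.toFld ⟨a, h⟩ = ⟨a, ha⟩ := by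
  have : (⟨a, h⟩ : S.C) = S.pairMap (false, ⟨a, S.F_EG ha⟩) := Subtype.ext (by simp [pairMap_coe])
  rw [toFld, MonoidHom.comp_apply, this, κ_pairMap, fp_F S ha]

/-- A prime order in the field part divides the number of involutions of the centraliser. -/
theorem dvd_invol [IsSimpleGroup G] (A : Amb G) (L : ExtLocals S) {a : G} (ha : a ∈ S.Fld) {r : ℕ}
    (hr : r.Prime) (hord : orderOf a = r) : r ∣ Nat.card ↥(Invol' a) := by
  haveI : Fact r.Prime := ⟨hr⟩
  haveI := S.F_cyclic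
  letI : CommGroup S.Fld := IsCyclic.commGroup
  let C := S.C
  haveI : C.FiniteIndex := inferInstance
  haveI : Fintype (Quotient (MulAction.orbitRel (zpowers a) (G ⧸ C))) := Fintype.ofFinite _
  haveI : Fintype (G ⧸ C) := Fintype.ofFinite _
  set V := MonoidHom.transfer S.toFld
  have hV : V a = 1 := by
    have hker : V.ker = ⊤ := by
      refine ((inferInstance : V.ker.Normal).eq_bot_or_eq_top).resolve_left fun h => A.na ⟨⟨fun x y => ?_⟩⟩
      refine (MonoidHom.ker_eq_bot_iff V).1 h ?_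
      rw [map_mul, map_mul, mul_comm]
    exact MonoidHom.mem_ker.1 (hker ▸ mem_top a)
  -- each orbit contributes `a` to the power of its length
  have hterm : ∀ q : Quotient (MulAction.orbitRel (zpowers a) (G ⧸ C)),
      S.toFld ⟨q.out.out⁻¹ * a ^ Function.minimalPeriod (a • ·) q.out * q.out.out,
        QuotientGroup.out_conj_pow_minimalPeriod_mem C a q.out⟩ =
        (⟨a, ha⟩ : S.Fld) ^ Function.minimalPeriod (a • ·) q.out := by
    intro q
    set c := (q.out : G ⧸ C).out with hc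
    set m := Function.minimalPeriod (a • ·) q.out with hm
    have hmr : m ∣ r := by
      rw [hm, ← MulAction.pow_smul_eq_iff_minimalPeriod_dvd, ← hord, pow_orderOf_eq_one, one_smul]
    rcases (Nat.dvd_prime hr).1 hmr with h1 | h1
    · have hmem := QuotientGroup.out_conj_pow_minimalPeriod_mem C a q.out
      rw [← hm, h1, pow_one, ← hc] at hmem
      have hcomm : Commute (c * S.t * c⁻¹) a := by
        have h := S.mem_C.1 hmem
        show c * S.t * c⁻¹ * a = a * (c * S.t * c⁻¹)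
        calc c * S.t * c⁻¹ * a = c * (S.t * (c⁻¹ * a * c)) * c⁻¹ := by group
          _ = c * (c⁻¹ * a * c * S.t) * c⁻¹ := by rw [h]
          _ = a * (c * S.t * c⁻¹) := by group
      obtain ⟨x, hxa, hx⟩ := S.one_class_cent A L ha (x := c * S.t * c⁻¹)
        ⟨by rw [conj_mul, S.tt, mul_one, mul_inv_cancel], fun e => S.t_ne (conj_eq_one_iff.1 e), hcomm⟩
      have hk : x⁻¹ * c ∈ C := S.mem_C.2 (by
        calc x⁻¹ * c * S.t = x⁻¹ * (c * S.t * c⁻¹) * c := by group
          _ = x⁻¹ * (x * S.t * x⁻¹) * c := by rw [hx]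
          _ = S.t * (x⁻¹ * c) := by group)
      have haC : a ∈ C := S.mem_C.2 (S.Ft a ha)
      have heq : (⟨c⁻¹ * a ^ m * c, by rw [h1, pow_one]; exact hmem⟩ : C) =
          (⟨x⁻¹ * c, hk⟩ : C)⁻¹ * ⟨a, haC⟩ * ⟨x⁻¹ * c, hk⟩ := Subtype.ext (by
        show c⁻¹ * a ^ m * c = (x⁻¹ * c)⁻¹ * a * (x⁻¹ * c)
        have hxa' : x * a * x⁻¹ = a := by rw [hxa.eq, mul_inv_cancel_right]
        rw [h1, pow_one, mul_inv_rev, inv_inv]
        calc c⁻¹ * a * c = c⁻¹ * (x * a * x⁻¹) * c := by rw [hxa']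
          _ = c⁻¹ * x * a * (x⁻¹ * c) := by group)
      rw [show (⟨c⁻¹ * a ^ m * c, _⟩ : C) = _ from heq, map_mul, map_mul, map_inv, S.toFld_F ha haC,
        inv_mul_cancel_comm, ← hm, h1, pow_one]
    · have h2 : (⟨c⁻¹ * a ^ m * c, QuotientGroup.out_conj_pow_minimalPeriod_mem C a q.out⟩ : C) = 1 :=
        Subtype.ext (by
          show c⁻¹ * a ^ m * c = 1
          rw [h1, ← hord, pow_orderOf_eq_one, mul_one, inv_mul_cancel])
      rw [h2, map_one, ← hm, h1]
      refine Subtype.ext ?_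
      rw [OneMemClass.coe_one, SubgroupClass.coe_pow, ← hord, pow_orderOf_eq_one]
  have hV2 : V a = (⟨a, ha⟩ : S.Fld) ^ C.index := by
    rw [show V a = _ from MonoidHom.transfer_eq_prod_quotient_orbitRel_zpowers_quot S.toFld a,
      Finset.prod_congr rfl fun q _ => hterm q, Finset.prod_pow_eq_pow_sum]
    congr 1
    rw [Subgroup.index_eq_card, Nat.card_congr (quotientEquivSigmaZMod C a), Nat.card_sigma]
    exact Finset.sum_congr rfl fun q _ => (Nat.card_zmod _).symm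
  have hrC : r ∣ C.index := by
    rw [← hord, ← Subgroup.orderOf_mk a ha]
    exact orderOf_dvd_of_pow_eq_one (hV2.symm.trans hV)
  -- fixed cosets
  have hP : IsPGroup r (zpowers a) := IsPGroup.of_card (n := 1) (by rw [Nat.card_zpowers, hord, pow_one])
  have hmod := hP.card_modEq_card_fixedPoints (G ⧸ C)
  rw [← Subgroup.index_eq_card] at hmod
  have hfix : ∀ c : G, (c : G ⧸ C) ∈ MulAction.fixedPoints (zpowers a) (G ⧸ C) ↔
      Commute (c * S.t * c⁻¹) a := by
    intro c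
    have h1 : (c : G ⧸ C) ∈ MulAction.fixedPoints (zpowers a) (G ⧸ C) ↔ (a * c : G ⧸ C) = c := by
      constructor
      · intro h; exact h ⟨a, mem_zpowers a⟩
      · intro h ⟨b, hb⟩
        exact zpowers_le.2 (show a ∈ MulAction.stabilizer G (c : G ⧸ C) from h) hb
    rw [h1, QuotientGroup.eq, S.mem_C, mul_inv_rev]
    constructor
    · intro h
      have h' : Commute (c * S.t * c⁻¹) a⁻¹ := by
        show c * S.t * c⁻¹ * a⁻¹ = a⁻¹ * (c * S.t * c⁻¹)
        calc c * S.t * c⁻¹ * a⁻¹ = c * (S.t * (c⁻¹ * a⁻¹ * c)) * c⁻¹ := by group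
          _ = c * (c⁻¹ * a⁻¹ * c * S.t) * c⁻¹ := by rw [h]
          _ = a⁻¹ * (c * S.t * c⁻¹) := by group
      exact Commute.inv_right_iff.1 h'
    · intro h
      have h' := h.inv_right.eq
      calc c⁻¹ * a⁻¹ * c * S.t = c⁻¹ * (a⁻¹ * (c * S.t * c⁻¹)) * c := by group
        _ = c⁻¹ * (c * S.t * c⁻¹ * a⁻¹) * c := by rw [h']
        _ = S.t * (c⁻¹ * a⁻¹ * c) := by group
  have hcard : Nat.card (MulAction.fixedPoints (zpowers a) (G ⧸ C)) = Nat.card ↥(Invol' a) := by
    refine Nat.card_eq_of_bijective (fun q => ⟨(q.1.out) * S.t * (q.1.out)⁻¹, ?_, ?_, ?_⟩) ⟨?_, ?_⟩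
    · rw [conj_mul, S.tt, mul_one, mul_inv_cancel]
    · exact fun e => S.t_ne (conj_eq_one_iff.1 e)
    · exact (hfix _).1 (by rw [QuotientGroup.out_eq']; exact q.2)
    · intro q q' h
      have h' : q.1.out * S.t * q.1.out⁻¹ = q'.1.out * S.t * q'.1.out⁻¹ := congrArg Subtype.val h
      refine Subtype.ext ?_
      rw [← QuotientGroup.out_eq' q.1, ← QuotientGroup.out_eq' q'.1, QuotientGroup.eq, S.mem_C]
      calc q.1.out⁻¹ * q'.1.out * S.t = q.1.out⁻¹ * (q'.1.out * S.t * q'.1.out⁻¹) * q'.1.out := by group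
        _ = q.1.out⁻¹ * (q.1.out * S.t * q.1.out⁻¹) * q'.1.out := by rw [h']
        _ = S.t * (q.1.out⁻¹ * q'.1.out) := by group
    · rintro ⟨x, hx⟩
      obtain ⟨c, -, rfl⟩ := S.one_class_cent A L ha hx
      have hcf : (c : G ⧸ C) ∈ MulAction.fixedPoints (zpowers a) (G ⧸ C) := (hfix c).2 hx.2.2
      refine ⟨⟨(c : G ⧸ C), hcf⟩, Subtype.ext ?_⟩
      obtain ⟨k, hk⟩ := QuotientGroup.mk_out_eq_mul C c
      show (c : G ⧸ C).out * S.t * (c : G ⧸ C).out⁻¹ = c * S.t * c⁻¹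
      rw [hk, mul_inv_rev, ← mul_assoc, mul_assoc c, (S.mem_C.1 k.2)]
      group
  rw [hcard] at hmod
  exact (Nat.modEq_zero_iff_dvd).1 (hmod.symm.trans (Nat.modEq_zero_iff_dvd.2 hrC))

end Cfsg.Agent.Invol.JankoWard.ExtBase
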