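import Cfsg.Agent.Lib.Invol.JankoWard.ExtQuotGroup
import Cfsg.Agent.Lib.Invol.JankoWard.ExtTransfer

/-!
# The quotient `C(a)/⟨a⟩` for an element `a` of prime order of the field part

`quot_count`: with `q₀ = p^(f/r)`, the number of involutions of `C(a)` is `7` or `63` (`q₀ = 3`), `1463` (`q₀ = 5`)
or `q₀²(q₀² - q₀ + 1)` (`q₀ = 3^(2m+1)`).  `arith_facts`: the consequences for `r`.
-/

set_option autoImplicit false
set_option linter.unusedSectionVars false
set_option linter.style.haveILetI false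

open scoped Classical Pointwise

namespace Cfsg.Agent.Invol.JankoWard

open Subgroup

universe u v

instance cent_zpowers_normal {G : Type u} [Group G] (a : G) :
    ((zpowers a).subgroupOf (centralizer ({a} : Set G))).Normal := ⟨fun n hn g => by
  obtain ⟨i, hi⟩ := mem_zpowers_iff.1 (show (n : G) ∈ zpowers a from hn)
  have : g * n * g⁻¹ = n := Subtype.ext (by
    show (g : G) * n * (g : G)⁻¹ = n
    rw [← hi, ((show Commute (g : G) a from mem_centralizer_singleton_iff.1 g.2).zpow_right i).eq,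
      mul_inv_cancel_right])
  rw [this]; exact hn⟩

/-- `C(a)/⟨a⟩`. -/
abbrev QuotR {G : Type u} [Group G] (a : G) : Type u :=
  ↥(centralizer ({a} : Set G)) ⧸ (zpowers a).subgroupOf (centralizer ({a} : Set G))

/-- The projection on `C(a)/⟨a⟩`. -/
abbrev quotMk {G : Type u} [Group G] (a : G) : ↥(centralizer ({a} : Set G)) →* QuotR a :=
  QuotientGroup.mk' _

/-- Equal orders of `L2` give equal fields. -/
theorem psl_card_inj {F K : Type} [Field F] [Fintype F] [Field K] [Fintype K] (hF : Odd (Fintype.card F))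
    (hK : Odd (Fintype.card K))
    (h : Nat.card (Matrix.ProjectiveSpecialLinearGroup (Fin 2) F) =
      Nat.card (Matrix.ProjectiveSpecialLinearGroup (Fin 2) K)) : Fintype.card F = Fintype.card K := by
  have h1 := Invol.GW.card_PSLTwo (F := F) hF
  have h2 := Invol.GW.card_PSLTwo (F := K) hK
  rw [h, h2] at h1
  have key : ∀ a b : ℕ, 1 < a → a < b → a * ((a - 1) * (a + 1)) ≠ b * ((b - 1) * (b + 1)) := by
    intro a b ha hab
    refine ne_of_lt (Nat.mul_lt_mul_of_lt_of_le hab (Nat.mul_le_mul (by omega) (by omega)) ?_)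
    exact Nat.mul_pos (by omega) (by omega)
  have hF1 : 1 < Fintype.card F := Fintype.one_lt_card
  have hK1 : 1 < Fintype.card K := Fintype.one_lt_card
  rcases lt_trichotomy (Fintype.card F) (Fintype.card K) with h3 | h3 | h3
  · exact absurd h1.symm (key _ _ hF1 h3)
  · exact h3
  · exact absurd h1 (key _ _ hK1 h3)

namespace ExtBase

variable {G : Type u} [Group G] [Finite G] {P : Type v} [Group P] [Finite P] (S : ExtBase G P)

theorem F_comm {a b : G} (ha : a ∈ S.Fld) (hb : b ∈ S.Fld) : Commute a b := by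
  haveI := S.F_cyclic
  exact congrArg Subtype.val (mul_comm' (⟨a, ha⟩ : ↥S.Fld) ⟨b, hb⟩)

/-- An element of the field part that centralises `C_P(a)` is a power of `a`. -/
theorem fix_eq {a f : G} (ha : a ∈ S.Fld) (hf : f ∈ S.Fld)
    (h : ∀ k : P, Commute (S.ι k) a → Commute (S.ι k) f) : f ∈ zpowers a := by
  set H := closure ({a, f} : Set G)
  have hH : H ≤ S.Fld := (closure_le _).2 (by rintro x (rfl | rfl) <;> assumption)
  haveI := S.F_cyclic
  haveI : IsCyclic ↥H := isCyclic_of_injective (inclusion hH) (inclusion_injective hH)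
  obtain ⟨⟨c, hcH⟩, hc⟩ := IsCyclic.exists_generator (α := ↥H)
  have hgen : ∀ x ∈ H, x ∈ zpowers c := fun x hx => by
    obtain ⟨i, hi⟩ := mem_zpowers_iff.1 (hc ⟨x, hx⟩)
    exact mem_zpowers_iff.2 ⟨i, congrArg Subtype.val hi⟩
  have haH : a ∈ H := subset_closure (Or.inl rfl)
  have hfH : f ∈ H := subset_closure (Or.inr rfl)
  have heq : (centralizer ({c} : Set G)).comap S.ι = (centralizer ({a} : Set G)).comap S.ι := by
    ext k
    rw [mem_comap, mem_comap, mem_centralizer_singleton_iff, mem_centralizer_singleton_iff]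
    constructor
    · intro hk
      obtain ⟨i, hi⟩ := mem_zpowers_iff.1 (hgen a haH)
      rw [← hi]
      exact ((show Commute (S.ι k) c from hk).zpow_right i).eq
    · intro hk
      have hle : H ≤ centralizer ({S.ι k} : Set G) := (closure_le _).2 (by
        rintro x (rfl | rfl)
        · exact mem_centralizer_singleton_iff.2 hk.symm
        · exact mem_centralizer_singleton_iff.2 (h k hk).eq.symm)
      exact (mem_centralizer_singleton_iff.1 (hle hcH)).symm
  obtain ⟨Kc, i1, i2, hKc, ⟨ec⟩⟩ := S.fix_iso c (hH hcH)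
  obtain ⟨Ka, j1, j2, hKa, ⟨ea⟩⟩ := S.fix_iso a ha
  have hp : Odd S.D.p := S.D.hp.odd_of_ne_two S.D.p_odd
  have hcard := psl_card_inj (F := Kc) (K := Ka) (by rw [hKc]; exact hp.pow) (by rw [hKa]; exact hp.pow)
    (by rw [← Nat.card_congr ec.toEquiv, ← Nat.card_congr ea.toEquiv, heq])
  rw [hKc, hKa] at hcard
  have h1 := Nat.pow_right_injective S.D.hp.two_le hcard
  have hca : orderOf c ∣ S.D.f := (S.Fld.orderOf_dvd_natCard (hH hcH)).trans S.F_dvd
  have haa : orderOf a ∣ S.D.f := (S.Fld.orderOf_dvd_natCard ha).trans S.F_dvd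
  have hf0 : S.D.f ≠ 0 := fun h0 => by
    have := S.D.hf; rw [h0, pow_zero] at this
    have := S.D.hq; have := S.D.r3
    rcases S.D.hδ with e | e <;> omega
  have hord : orderOf c = orderOf a := by
    have e1 := Nat.div_mul_cancel hca
    have e2 := Nat.div_mul_cancel haa
    rw [h1] at e1
    exact Nat.eq_of_mul_eq_mul_left (Nat.pos_of_ne_zero fun h0 => hf0 (by rw [← e2, h0, zero_mul])) (e1.trans e2.symm)
  have hle : zpowers a ≤ zpowers c := zpowers_le.2 (hgen a haH)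
  rw [Subgroup.eq_of_le_of_card_ge hle (by rw [Nat.card_zpowers, Nat.card_zpowers, hord])]
  exact hgen f hfH

/-- The structure of `C(a)/⟨a⟩`: with `q₀ = p^(f/|a|)` it is of type `168`, `1512` (`q₀ = 3`), or has a simple normal
subgroup that contains the involutions and has the order of `J₁` or of a group of Ree. -/
theorem quot_full (A : Amb G) (L : ExtLocals S)
    (ih : ∀ (H : Type u) [Group H] [Finite H], Nat.card H < Nat.card G → NoField H)
    {a : G} (ha : a ∈ S.Fld) (ha1 : a ≠ 1) :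
    Nat.card ↥(QuotGroup.invols (QuotR a)) = Nat.card ↥(Invol' a) ∧
    (∀ x : QuotR a, orderOf x = 2 → IsConj (quotMk a ⟨S.t, mem_centralizer_singleton_iff.2 (S.Ft a ha).symm⟩) x) ∧
    ((S.D.p ^ (S.D.f / orderOf a) = 3 ∧ ∃ (T : Subgroup (QuotR a)) (h : QuotR a),
        CaseD.RHyp T h (quotMk a ⟨S.t, mem_centralizer_singleton_iff.2 (S.Ft a ha).symm⟩)) ∨
    ∃ M : Subgroup (QuotR a), M.Normal ∧ IsSimpleGroup ↥M ∧ (∀ x ∈ QuotGroup.invols (QuotR a), x ∈ M) ∧
      ((S.D.p ^ (S.D.f / orderOf a) = 5 ∧ Nat.card ↥M = 175560 ∧ Nat.card ↥(Invol' a) = 1463) ∨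
      (∃ m : ℕ, 1 ≤ m ∧ S.D.p ^ (S.D.f / orderOf a) = 3 ^ (2 * m + 1) ∧
        Nat.card ↥M = (3 ^ (2 * m + 1)) ^ 3 * ((3 ^ (2 * m + 1)) ^ 3 + 1) * (3 ^ (2 * m + 1) - 1) ∧
        Nat.card ↥(Invol' a) = (3 ^ (2 * m + 1)) ^ 2 * ((3 ^ (2 * m + 1)) ^ 2 - 3 ^ (2 * m + 1) + 1)))) := by
  have hr2 : 2 ≤ orderOf a := by
    have h1 := orderOf_pos a
    have h2 : orderOf a ≠ 1 := fun h => ha1 (orderOf_eq_one_iff.1 h)
    omega
  obtain ⟨r, hord⟩ : ∃ r, orderOf a = r := ⟨_, rfl⟩
  rw [hord] at hr2 ⊢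
  haveI : Fact (Nat.Prime 2) := ⟨Nat.prime_two⟩
  set X := centralizer ({a} : Set G) with hXdef
  set Z : Subgroup ↥X := (zpowers a).subgroupOf X with hZdef
  have haX : a ∈ X := mem_centralizer_singleton_iff.2 rfl
  have hXa : ∀ x : ↥X, Commute (x : G) a := fun x => mem_centralizer_singleton_iff.1 x.2
  set π := QuotientGroup.mk' Z with hπdef
  have hodd_a : Odd (orderOf a) := S.F_odd_order ha
  have hZ1 : ∀ z : ↥X, z ∈ Z → z * z = 1 → z = 1 := by
    intro z hz hz2
    obtain ⟨i, hi⟩ := mem_zpowers_iff.1 (show (z : G) ∈ zpowers a from hz)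
    refine Subtype.ext (eq_one_of_two_odd ⟨1, by rw [pow_one, pow_two]; exact congrArg Subtype.val hz2⟩ hodd_a ?_)
    rw [← hi, ← zpow_natCast, ← zpow_mul, mul_comm, zpow_mul, zpow_natCast, pow_orderOf_eq_one, one_zpow]
  have hπ1 : ∀ z : ↥X, π z = 1 ↔ z ∈ Z := fun z => QuotientGroup.eq_one_iff z
  have hcX : ∀ k, k ∈ fourSub S.D.u S.D.w S.D.u2 S.D.w2 S.D.comm → S.ι k ∈ X := by
    intro k hk
    refine mem_centralizer_singleton_iff.2 ?_
    rcases hk with rfl | rfl | rfl | rfl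
    · rw [map_one, one_mul, mul_one]
    · exact (S.Fu a ha).symm
    · exact (S.Fw a ha).symm
    · rw [map_mul]
      exact ((show Commute (S.ι S.D.u) a from (S.Fu a ha).symm).mul_left (S.Fw a ha).symm).eq
  have htX : S.t ∈ X := mem_centralizer_singleton_iff.2 (S.Ft a ha).symm
  set t' : ↥X := ⟨S.t, htX⟩
  set tR := π t' with htR
  have ht't' : t' * t' = 1 := Subtype.ext S.tt
  have ht'1 : t' ≠ 1 := fun h => S.t_ne (congrArg Subtype.val h)
  have htR1 : tR ≠ 1 := fun h => ht'1 (hZ1 _ ((hπ1 _).1 h) ht't')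
  have htRo : orderOf tR = 2 := orderOf_eq_prime (by rw [pow_two, htR, ← map_mul, ht't', map_one]) htR1
  -- the involutions
  have hlift : ∀ x : ↥X ⧸ Z, x * x = 1 → x ≠ 1 → ∃ c : ↥X, π c = x ∧ c * c = 1 ∧ c ≠ 1 := by
    intro x hx hx1
    obtain ⟨c, rfl⟩ := QuotientGroup.mk'_surjective Z x
    have hc2 : c * c ∈ Z := (hπ1 _).1 (by rw [map_mul]; exact hx)
    obtain ⟨i, hi⟩ := mem_zpowers_iff.1 (show ((c * c : ↥X) : G) ∈ zpowers a from hc2)
    have hcr : (c ^ orderOf a) * (c ^ orderOf a) = 1 := Subtype.ext (by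
      rw [← (Commute.refl c).mul_pow, SubgroupClass.coe_pow, ← hi, ← zpow_natCast, ← zpow_mul, mul_comm,
        zpow_mul, zpow_natCast, pow_orderOf_eq_one, one_zpow]
      rfl)
    obtain ⟨j, hj⟩ := hodd_a
    have hπc : π (c ^ orderOf a) = π c := by
      rw [map_pow, hj, pow_succ, pow_mul, pow_two, hx, one_pow, one_mul]
    exact ⟨_, hπc, hcr, fun h => hx1 (by rw [← hπc, h, map_one])⟩
  have hinvcard : Nat.card ↥(QuotGroup.invols (↥X ⧸ Z)) = Nat.card ↥(Invol' a) := by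
    symm
    refine Nat.card_eq_of_bijective
      (fun x => ⟨π ⟨x.1, mem_centralizer_singleton_iff.2 x.2.2.2.eq⟩, ?_, ?_⟩) ⟨?_, ?_⟩
    · rw [← map_mul, show (⟨x.1, mem_centralizer_singleton_iff.2 x.2.2.2.eq⟩ : ↥X) *
        ⟨x.1, mem_centralizer_singleton_iff.2 x.2.2.2.eq⟩ = 1 from Subtype.ext x.2.1, map_one]
    · exact fun h => x.2.2.1 (congrArg Subtype.val (hZ1 _ ((hπ1 _).1 h) (Subtype.ext x.2.1)))
    · intro x y h
      have h' : π ⟨x.1, mem_centralizer_singleton_iff.2 x.2.2.2.eq⟩ = π ⟨y.1, mem_centralizer_singleton_iff.2 y.2.2.2.eq⟩ :=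
        congrArg Subtype.val h
      set x' : ↥X := ⟨x.1, mem_centralizer_singleton_iff.2 x.2.2.2.eq⟩
      set y' : ↥X := ⟨y.1, mem_centralizer_singleton_iff.2 y.2.2.2.eq⟩
      obtain ⟨z, hz, hzy⟩ := (QuotientGroup.mk'_eq_mk' Z).1 h'
      have hxz : Commute x' z := by
        obtain ⟨i, hi⟩ := mem_zpowers_iff.1 (show (z : G) ∈ zpowers a from hz)
        exact Subtype.ext (by rw [Subgroup.coe_mul, Subgroup.coe_mul, ← hi]; exact ((hXa x').zpow_right i).eq)
      have hyy : y' * y' = 1 := Subtype.ext y.2.1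
      have hxx : x' * x' = 1 := Subtype.ext x.2.1
      rw [← hzy, hxz.symm.mul_mul_mul_comm, hxx, one_mul] at hyy
      rw [hZ1 z hz hyy, mul_one] at hzy
      exact Subtype.ext (congrArg (fun z : ↥X => (z : G)) hzy)
    · rintro ⟨x, hx, hx1⟩
      obtain ⟨c, hc, hc2, hc1⟩ := hlift x hx hx1
      exact ⟨⟨c.1, congrArg Subtype.val hc2, fun h => hc1 (Subtype.ext h), hXa c⟩, Subtype.ext hc⟩
  have honeR : ∀ x : ↥X ⧸ Z, orderOf x = 2 → IsConj tR x := by
    intro x hx
    obtain ⟨c, hc, hc2, hc1⟩ := hlift x (by rw [← pow_two, ← hx, pow_orderOf_eq_one])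
      (fun h => by rw [h, orderOf_one] at hx; omega)
    obtain ⟨d, hda, hd⟩ := S.one_class_cent A L ha (x := (c : G))
      ⟨congrArg Subtype.val hc2, fun h => hc1 (Subtype.ext h), hXa c⟩
    refine isConj_iff.2 ⟨π ⟨d, mem_centralizer_singleton_iff.2 hda.eq⟩, ?_⟩
    rw [← hc, htR, ← map_inv, ← map_mul, ← map_mul]
    exact congrArg π (Subtype.ext hd)
  -- the Sylow subgroup
  obtain ⟨T, hT⟩ := S.exists_sylow A
  have hTX : (T : Subgroup G) ≤ X := fun y hy => by
    obtain ⟨k, hk, rfl | rfl⟩ := (hT y).1 hy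
    · exact hcX k hk
    · exact mul_mem htX (hcX k hk)
  set TR : Subgroup (↥X ⧸ Z) := ((T : Subgroup G).subgroupOf X).map π with hTRdef
  have hTsq : ∀ y ∈ (T : Subgroup G), y * y = 1 := fun y hy => by
    obtain ⟨k, hk⟩ := T.isPGroup' ⟨y, hy⟩
    exact A.sq2 y ⟨k, congrArg Subtype.val hk⟩
  have hTR8 : Nat.card TR = 8 := by
    have hinj : Function.Injective (π.comp ((T : Subgroup G).subgroupOf X).subtype) := by
      rw [injective_iff_map_eq_one]
      intro y hy
      exact Subtype.ext (hZ1 _ ((hπ1 _).1 hy) (Subtype.ext (hTsq _ y.2)))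
    rw [hTRdef, show ((T : Subgroup G).subgroupOf X).map π =
      (π.comp ((T : Subgroup G).subgroupOf X).subtype).range by rw [MonoidHom.range_comp, Subgroup.range_subtype],
      ← Nat.card_congr (MonoidHom.ofInjective hinj).toEquiv,
      Nat.card_congr (Subgroup.subgroupOfEquivOfLe hTX).toEquiv, A.eight T]
  have hTRsq : ∀ x ∈ TR, x * x = 1 := by
    rintro _ ⟨y, hy, rfl⟩
    rw [← map_mul, show y * y = 1 from Subtype.ext (hTsq _ hy), map_one]
  have hcardR : Nat.card (↥X ⧸ Z) * r = Nat.card ↥X := by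
    rw [← hord, ← Nat.card_zpowers a,
      ← Nat.card_congr (Subgroup.subgroupOfEquivOfLe (zpowers_le.2 haX)).toEquiv]
    exact (Z.card_eq_card_quotient_mul_card_subgroup).symm
  have hno16 : ¬ 16 ∣ Nat.card (↥X ⧸ Z) := by
    intro h
    have h' : 16 ∣ Nat.card G := (h.trans ⟨r, hcardR.symm⟩).trans (Subgroup.card_subgroup_dvd_card X)
    have h1 := (Nat.prime_two.pow_dvd_iff_le_factorization (k := 4) Nat.card_pos.ne').1 (by simpa using h')
    have h2 := T.card_eq_multiplicity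
    rw [A.eight T, show (8 : ℕ) = 2 ^ 3 from rfl] at h2
    have := Nat.pow_right_injective le_rfl h2
    omega
  obtain ⟨TS, hTS⟩ : ∃ TS : Sylow 2 (↥X ⧸ Z), (TS : Subgroup (↥X ⧸ Z)) = TR := by
    have hp : IsPGroup 2 TR := IsPGroup.of_card (n := 3) (by rw [hTR8]; norm_num)
    obtain ⟨TS, hle⟩ := hp.exists_le_sylow
    refine ⟨TS, (Subgroup.eq_of_le_of_card_ge hle ?_).symm⟩
    obtain ⟨n, hn⟩ := IsPGroup.iff_card.1 TS.isPGroup'
    have hn3 : n ≤ 3 := by
      by_contra hlt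
      exact hno16 ((pow_dvd_pow 2 (show 4 ≤ n by omega)).trans (hn ▸ Subgroup.card_subgroup_dvd_card _))
    rw [hTR8, hn]
    exact (Nat.pow_le_pow_right two_pos hn3).trans (by norm_num)
  -- the second factor
  set P0 : Subgroup P := X.comap S.ι with hP0
  have hu0 : S.D.u ∈ P0 := hcX _ (Or.inr (Or.inl rfl))
  have hw0 : S.D.w ∈ P0 := hcX _ (Or.inr (Or.inr (Or.inl rfl)))
  obtain ⟨h, h3, hhu, hhw⟩ := S.exists_h A
  have hh0 : h ∈ P0 := mem_centralizer_singleton_iff.2 (S.F_comm_h hhu hhw ha).symm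
  let j0 : ↥P0 →* ↥X :=
    { toFun := fun k => ⟨S.ι k, k.2⟩
      map_one' := Subtype.ext (map_one S.ι)
      map_mul' := fun k l => Subtype.ext (map_mul S.ι _ _) }
  have hjker : ∀ k : ↥P0, π (j0 k) = 1 → k = 1 := fun k hk => Subtype.ext (S.inj (by
    have hF : S.ι k ∈ S.Fld := zpowers_le.2 ha ((hπ1 _).1 hk)
    rw [S.F_disj _ hF k rfl, OneMemClass.coe_one, map_one]))
  set jR := π.comp j0 with hjR
  have hjinj : Function.Injective jR := (injective_iff_map_eq_one jR).2 hjker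
  set ER : Subgroup (↥X ⧸ Z) := (S.EG.subgroupOf X).map π with hER
  have hjER : ∀ k, jR k ∈ ER := fun k => ⟨j0 k, S.ι_EG k, rfl⟩
  have hE : Cfsg.IsInternalDirectProduct (zpowers tR) ER (centralizer ({tR} : Set (↥X ⧸ Z))) := by
    have hEC : ER ≤ centralizer ({tR} : Set (↥X ⧸ Z)) := by
      rintro _ ⟨y, hy, rfl⟩
      refine mem_centralizer_singleton_iff.2 ?_
      rw [htR, ← map_mul, ← map_mul]
      exact congrArg π (Subtype.ext (S.EG_t ⟨(y : G), hy⟩))
    refine ⟨zpowers_le.2 (mem_centralizer_singleton_iff.2 rfl), hEC, fun b hb c hc => ?_, ?_, ?_⟩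
    · obtain ⟨i, rfl⟩ := mem_zpowers_iff.1 hb
      exact (Commute.zpow_left (show Commute tR c from (mem_centralizer_singleton_iff.1 (hEC hc)).symm) i).eq
    · refine (eq_bot_iff_forall _).2 fun x ⟨hx1, hx2⟩ => ?_
      obtain ⟨i, rfl⟩ := mem_zpowers_iff.1 hx1
      rcases Int.even_or_odd i with ⟨m, rfl⟩ | ⟨m, rfl⟩
      · rw [← two_mul, zpow_mul, zpow_two, htR, ← map_mul, ht't', map_one, one_zpow]
      · exfalso
        rw [zpow_add, zpow_one, zpow_mul, zpow_two, htR, ← map_mul, ht't', map_one, one_zpow, one_mul] at hx2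
        obtain ⟨y, hy, hy'⟩ := hx2
        obtain ⟨z, hz, hzt⟩ := (QuotientGroup.mk'_eq_mk' Z).1 hy'
        refine S.t_not_EG ?_
        rw [show S.t = (y : G) * (z : G) from (congrArg Subtype.val hzt).symm]
        exact S.EG.mul_mem hy (S.F_EG (zpowers_le.2 ha hz))
    · refine le_antisymm (sup_le (zpowers_le.2 (mem_centralizer_singleton_iff.2 rfl)) hEC) fun x hx => ?_
      obtain ⟨c, rfl⟩ := QuotientGroup.mk'_surjective Z x
      have hx' := mem_centralizer_singleton_iff.1 hx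
      rw [htR, ← map_mul, ← map_mul] at hx'
      obtain ⟨z, hz, hzt⟩ := (QuotientGroup.mk'_eq_mk' Z).1 hx'
      have hzt' : t' * z = c⁻¹ * t' * c := by
        have : c * t' * z = t' * c := hzt
        rw [show t' * z = c⁻¹ * (c * t' * z) by group, this, mul_assoc]
      have hcz : Commute t' z := by
        obtain ⟨i, hi⟩ := mem_zpowers_iff.1 (show (z : G) ∈ zpowers a from hz)
        exact Subtype.ext (by rw [Subgroup.coe_mul, Subgroup.coe_mul, ← hi]; exact ((hXa t').zpow_right i).eq)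
      have hz2 : (t' * z) * (t' * z) = 1 := by
        rw [hzt', show c⁻¹ * t' * c * (c⁻¹ * t' * c) = c⁻¹ * (t' * t') * c by group, ht't', mul_one, inv_mul_cancel]
      rw [hcz.symm.mul_mul_mul_comm, ht't', one_mul] at hz2
      rw [hZ1 z hz hz2, mul_one] at hzt
      have hct : (c : G) * S.t = S.t * c := congrArg Subtype.val hzt
      rcases S.C_cases hct with hc | hc
      · exact mem_sup_right ⟨c, hc, rfl⟩
      · rw [show π c = tR * π (t' * c) by rw [htR, ← map_mul, ← mul_assoc, ht't', one_mul]]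
        exact mul_mem (mem_sup_left (mem_zpowers tR)) (mem_sup_right ⟨t' * c, hc, rfl⟩)
  set NR : Subgroup ↥ER := (jR.codRestrict ER hjER).range with hNR
  haveI : NR.Normal := by
    refine ⟨?_⟩
    rintro _ ⟨k, rfl⟩ ⟨_, y, hy, rfl⟩
    obtain ⟨l, f, hf, hlf⟩ := hy
    have hfX : f ∈ X := mem_centralizer_singleton_iff.2 (S.F_comm hf ha).eq
    have hlX : S.ι l ∈ X := by
      rw [show S.ι l = (y : G) * f⁻¹ by rw [show (y : G) = S.ι l * f from hlf, mul_inv_cancel_right]]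
      exact mul_mem y.2 (inv_mem hfX)
    obtain ⟨k', hk'⟩ := S.F_norm f hf k
    have hk0 : k' ∈ P0 := by
      show S.ι k' ∈ X
      rw [← hk']; exact mul_mem (mul_mem hfX k.2) (inv_mem hfX)
    refine ⟨⟨l, hlX⟩ * ⟨k', hk0⟩ * (⟨l, hlX⟩ : ↥P0)⁻¹, Subtype.ext ?_⟩
    show π (j0 _) = π y * π (j0 k) * (π y)⁻¹
    rw [← map_inv, ← map_mul, ← map_mul]
    refine congrArg π (Subtype.ext ?_)
    show S.ι (l * k' * l⁻¹) = (y : G) * S.ι k * (y : G)⁻¹
    rw [show (y : G) = S.ι l * f from hlf, map_mul, map_mul, map_inv, ← hk']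
    group
  obtain ⟨K, i1, i2, hK, ⟨eK⟩⟩ := S.fix_iso a ha
  rw [hord] at hK
  have hcinj : Function.Injective (jR.codRestrict ER hjER) := fun x y hxy => hjinj (congrArg Subtype.val hxy)
  let eN : ↥NR ≃* Matrix.ProjectiveSpecialLinearGroup (Fin 2) K :=
    (MonoidHom.ofInjective hcinj).symm.trans eK
  have hcN : centralizer (NR : Set ↥ER) = ⊥ := by
    refine (eq_bot_iff_forall _).2 ?_
    rintro ⟨_, y, hy, rfl⟩ hx
    obtain ⟨l, f, hf, hlf⟩ := hy
    have hfX : f ∈ X := mem_centralizer_singleton_iff.2 (S.F_comm hf ha).eq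
    have hcomm : ∀ k : P, S.ι k ∈ X → Commute (y : G) (S.ι k) := by
      intro k hk
      have h1 : π y * jR ⟨k, hk⟩ = jR ⟨k, hk⟩ * π y :=
        congrArg Subtype.val (mem_centralizer_iff.1 hx _ ⟨⟨k, hk⟩, rfl⟩).symm
      set k1 : ↥X := j0 ⟨k, hk⟩
      have h2 : π (y * k1 * y⁻¹ * k1⁻¹) = 1 := by
        rw [map_mul, map_mul, map_mul, map_inv, map_inv, show π y * π k1 = π k1 * π y from h1,
          mul_inv_cancel_right, mul_inv_cancel]
      have hF : (y : G) * S.ι k * (y : G)⁻¹ * (S.ι k)⁻¹ ∈ S.Fld := zpowers_le.2 ha ((hπ1 _).1 h2)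
      obtain ⟨k', hk'⟩ := S.F_norm f hf k
      have he : (y : G) * S.ι k * (y : G)⁻¹ * (S.ι k)⁻¹ = S.ι (l * k' * l⁻¹ * k⁻¹) := by
        rw [show (y : G) = S.ι l * f from hlf, map_mul, map_mul, map_mul, map_inv, map_inv, ← hk']
        group
      have h3 := S.F_disj _ hF _ he
      exact mul_inv_eq_iff_eq_mul.1 (mul_inv_eq_one.1 h3)
    have hlk : ∀ k : P, S.ι k ∈ X → a * S.ι k = S.ι k * a := fun k hk =>
      (mem_centralizer_singleton_iff.1 hk).symm
    have hl : ∀ k : P, S.ι k ∈ X → f * S.ι k = S.ι k * f → Commute l k := by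
      intro k hk hfk
      have h1 : S.ι l * (f * S.ι k) = S.ι k * (S.ι l * f) := by
        have := (hcomm k hk).eq
        rw [show (y : G) = S.ι l * f from hlf] at this
        rw [← this, mul_assoc]
      rw [hfk, ← mul_assoc, ← mul_assoc, ← map_mul, ← map_mul] at h1
      exact S.inj (mul_right_cancel h1)
    have hl1 : l = 1 := by
      have hlu := hl _ hu0 (S.Fu f hf)
      have hlw := hl _ hw0 (S.Fw f hf)
      have hlh := hl _ hh0 (S.F_comm_h hhu hhw hf)
      have hconj : h * l * h⁻¹ = l := by rw [← hlh.eq, mul_inv_cancel_right]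
      rcases S.D.comm_uw hlu hlw with e | e | e | e <;> rw [e] at hconj
      · exact e
      · exact absurd (hhu.symm.trans hconj).symm S.D.uw
      · rw [hhw] at hconj; exact absurd (mul_eq_right.1 hconj) S.D.u1
      · rw [← conj_mul, hhu, hhw, ← mul_assoc, ← S.D.comm, mul_assoc, S.D.w2, mul_one] at hconj
        exact absurd (left_eq_mul.1 hconj) S.D.w1
    have hyf : (y : G) = f := by rw [show (y : G) = S.ι l * f from hlf, hl1, map_one, one_mul]
    have hfa : f ∈ zpowers a := S.fix_eq ha hf fun k hk => by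
      have := hcomm k (mem_centralizer_singleton_iff.2 hk.eq)
      rw [hyf] at this
      exact this.symm
    refine Subtype.ext ((hπ1 y).2 ?_)
    show (y : G) ∈ zpowers a
    rw [hyf]; exact hfa
  have hp : Odd S.D.p := S.D.hp.odd_of_ne_two S.D.p_odd
  have hKodd : Odd (Fintype.card K) := by rw [hK]; exact hp.pow
  have hK3 : 3 ≤ Fintype.card K := by
    have := Fintype.one_lt_card (α := K)
    obtain ⟨i, hi⟩ := hKodd
    omega
  have hnaR : ¬ IsMulCommutative (↥X ⧸ Z) := fun hc => by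
    have h1 := hjinj (hc.is_comm.comm (jR ⟨h, hh0⟩) (jR ⟨_, hu0⟩) |>.trans (map_mul jR _ _).symm |>.symm.trans
      (map_mul jR _ _).symm |>.symm)
    have h2 : h * S.D.u = S.D.u * h := congrArg Subtype.val h1
    rw [h2, mul_inv_cancel_right] at hhu
    exact S.D.uw hhu
  have hAR : Amb (↥X ⧸ Z) := Amb.of_sylow hnaR TS (by rw [hTS, hTR8]) (by rw [hTS]; exact hTRsq)
  refine ⟨hinvcard, honeR, ?_⟩
  rw [← hinvcard, ← hK]
  by_cases hK5 : 5 ≤ Fintype.card K
  · have hlt : ∀ M : Subgroup (↥X ⧸ Z), Nat.card ↥M < Nat.card G := fun M => by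
      have h1 : Nat.card ↥M ≤ Nat.card (↥X ⧸ Z) := Nat.card_le_card_of_injective _ M.subtype_injective
      have h2 : Nat.card ↥X ≤ Nat.card G := Nat.card_le_card_of_injective _ X.subtype_injective
      have h3' : 2 * Nat.card (↥X ⧸ Z) ≤ Nat.card ↥X := by
        rw [← hcardR, mul_comm]; exact Nat.mul_le_mul_left _ hr2
      have : 0 < Nat.card (↥X ⧸ Z) := Nat.card_pos
      omega
    obtain ⟨M, hMn, hMs, -, -, hMi, hres⟩ := QuotGroup.invol_count hAR htRo honeR hE hK5 hKodd NR eN hcN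
      fun M => ih ↥M (hlt M)
    refine Or.inr ⟨M, hMn, hMs, hMi, ?_⟩
    rcases hres with ⟨h5, hM5, hn⟩ | ⟨m, hm, hq, hMo, hn⟩
    · exact Or.inl ⟨h5, hM5, hn⟩
    · refine Or.inr ⟨m, hm, hq, ?_, ?_⟩
      · rw [hMo, hq]
      · rw [hn, hq]
  -- the case `q₀ = 3`
  have hK3' : Fintype.card K = 3 := by obtain ⟨i, hi⟩ := hKodd; omega
  refine Or.inl ⟨hK3', ?_⟩
  have hP12 : Nat.card ↥P0 = 12 := by
    have h1 : 2 * Nat.card (Matrix.ProjectiveSpecialLinearGroup (Fin 2) K) = 24 := by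
      rw [Invol.GW.card_PSLTwo hKodd, hK3']
    rw [Nat.card_congr eK.toEquiv]
    omega
  -- no more field part
  have hfr : S.D.f / r = 1 := by
    have h1 : S.D.p ^ (S.D.f / r) = 3 ^ 1 := by rw [← hK, hK3', pow_one]
    have h2 : S.D.p = 3 := by
      rcases Nat.eq_zero_or_pos (S.D.f / r) with h0 | h0
      · rw [h0, pow_zero] at h1; norm_num at h1
      · exact (Nat.prime_dvd_prime_iff_eq S.D.hp Nat.prime_three).1 (pow_one 3 ▸ h1 ▸ dvd_pow_self S.D.p h0.ne')
    rw [h2] at h1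
    exact Nat.pow_right_injective (by norm_num) h1
  have hFld : S.Fld ≤ zpowers a := by
    have hdvd : r ∣ S.D.f := (hord ▸ S.Fld.orderOf_dvd_natCard ha).trans S.F_dvd
    have hfe : S.D.f = r := by rw [← Nat.div_mul_cancel hdvd, hfr, one_mul]
    rw [Subgroup.eq_of_le_of_card_ge (zpowers_le.2 ha) (by
      rw [Nat.card_zpowers, hord, ← hfe]
      exact Nat.le_of_dvd (by rw [hfe]; omega) S.F_dvd)]
  have hERj : ∀ x ∈ ER, ∃ k, jR k = x := by
    rintro _ ⟨y, hy, rfl⟩
    obtain ⟨l, f, hf, hlf⟩ := hy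
    have hfX : f ∈ X := mem_centralizer_singleton_iff.2 (S.F_comm hf ha).eq
    have hlX : S.ι l ∈ X := by
      rw [show S.ι l = (y : G) * f⁻¹ by rw [show (y : G) = S.ι l * f from hlf, mul_inv_cancel_right]]
      exact mul_mem y.2 (inv_mem hfX)
    refine ⟨⟨l, hlX⟩, (QuotientGroup.mk'_eq_mk' Z).2 ⟨⟨f, hfX⟩, hFld hf, Subtype.ext hlf.symm⟩⟩
  have hcardER : Nat.card ↥ER = 12 := by
    rw [← hP12]
    exact (Nat.card_eq_of_bijective (jR.codRestrict ER hjER) ⟨hcinj, fun ⟨x, hx⟩ => by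
      obtain ⟨k, hk⟩ := hERj x hx; exact ⟨k, Subtype.ext hk⟩⟩).symm
  -- `C_P(a)` is generated by `u`, `w`, `h`
  set u0 : ↥P0 := ⟨_, hu0⟩
  set w0 : ↥P0 := ⟨_, hw0⟩
  set h0 : ↥P0 := ⟨_, hh0⟩
  have hh1 : h ≠ 1 := fun e => by rw [e, one_mul, inv_one, mul_one] at hhu; exact S.D.uw hhu
  have hgen : closure ({u0, w0, h0} : Set ↥P0) = ⊤ := by
    set W := closure ({u0, w0, h0} : Set ↥P0)
    have h4 : 4 ∣ Nat.card W := by
      set V4 := fourSub u0 w0 (Subtype.ext S.D.u2) (Subtype.ext S.D.w2) (Subtype.ext S.D.comm)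
      have hV : IsKleinFour ↥V4 := fourSub_klein (fun e => S.D.u1 (congrArg Subtype.val e))
        (fun e => S.D.w1 (congrArg Subtype.val e)) (fun e => S.D.uw (congrArg Subtype.val e))
      have hle : V4 ≤ W := by
        rintro x (rfl | rfl | rfl | rfl)
        · exact one_mem _
        · exact subset_closure (Or.inl rfl)
        · exact subset_closure (Or.inr (Or.inl rfl))
        · exact mul_mem (subset_closure (Or.inl rfl)) (subset_closure (Or.inr (Or.inl rfl)))
      exact hV.card_four ▸ Subgroup.card_dvd_of_le hle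
    have h3' : 3 ∣ Nat.card W := by
      have : orderOf h0 = 3 := by
        haveI : Fact (Nat.Prime 3) := ⟨Nat.prime_three⟩
        exact orderOf_eq_prime (Subtype.ext h3) (fun e => hh1 (congrArg Subtype.val e))
      exact this ▸ W.orderOf_dvd_natCard (subset_closure (Or.inr (Or.inr rfl)))
    refine Subgroup.eq_top_of_le_card _ ?_
    rw [hP12]
    exact Nat.le_of_dvd Nat.card_pos (Nat.Coprime.mul_dvd_of_dvd_of_dvd (by norm_num) h4 h3')
  -- the Sylow subgroup and its normaliser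
  have hmemTR : ∀ x, x ∈ TR ↔ ∃ k : ↥P0, (k : P) ∈ fourSub S.D.u S.D.w S.D.u2 S.D.w2 S.D.comm ∧
      (x = jR k ∨ x = tR * jR k) := by
    intro x
    constructor
    · rintro ⟨y, hy, rfl⟩
      obtain ⟨k, hk, e | e⟩ := (hT _).1 hy
      · exact ⟨⟨k, hcX k hk⟩, hk, Or.inl (congrArg π (Subtype.ext e))⟩
      · refine ⟨⟨k, hcX k hk⟩, hk, Or.inr ?_⟩
        rw [htR, hjR, MonoidHom.comp_apply, ← map_mul]
        exact congrArg π (Subtype.ext e)
    · rintro ⟨k, hk, rfl | rfl⟩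
      · exact ⟨j0 k, (hT _).2 ⟨k, hk, Or.inl rfl⟩, rfl⟩
      · exact ⟨t' * j0 k, (hT _).2 ⟨k, hk, Or.inr rfl⟩, map_mul π _ _⟩
  have htTR : tR ∈ TR := (hmemTR _).2 ⟨1, one_mem _, Or.inr (by rw [map_one, mul_one])⟩
  have htcomm : ∀ k, tR * jR k = jR k * tR := fun k =>
    hE.2.2.1 _ (mem_zpowers tR) _ (hjER k)
  have hhK : ∀ v ∈ fourSub S.D.u S.D.w S.D.u2 S.D.w2 S.D.comm,
      h * v * h⁻¹ ∈ fourSub S.D.u S.D.w S.D.u2 S.D.w2 S.D.comm := by
    rintro v (rfl | rfl | rfl | rfl)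
    · rw [mul_one, mul_inv_cancel]; exact one_mem _
    · rw [hhu]; exact Or.inr (Or.inr (Or.inl rfl))
    · rw [hhw]; exact Or.inr (Or.inr (Or.inr rfl))
    · rw [← conj_mul, hhu, hhw, ← mul_assoc, ← S.D.comm, mul_assoc, S.D.w2, mul_one]
      exact Or.inr (Or.inl rfl)
  have hCN : centralizer ({tR} : Set (↥X ⧸ Z)) ≤ normalizer (TR : Set (↥X ⧸ Z)) := by
    rw [← hE.2.2.2.2]
    refine sup_le (zpowers_le.2 (le_normalizer htTR)) fun x hx => ?_
    obtain ⟨k, rfl⟩ := hERj x hx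
    have : closure ({u0, w0, h0} : Set ↥P0) ≤ (normalizer (TR : Set (↥X ⧸ Z))).comap jR := by
      refine (closure_le _).2 ?_
      rintro y (rfl | rfl | rfl)
      · exact le_normalizer ((hmemTR _).2 ⟨u0, Or.inr (Or.inl rfl), Or.inl rfl⟩)
      · exact le_normalizer ((hmemTR _).2 ⟨w0, Or.inr (Or.inr (Or.inl rfl)), Or.inl rfl⟩)
      · refine mem_normalizer_fintype fun x hx => ?_
        obtain ⟨l, hl, hx'⟩ := (hmemTR x).1 hx
        refine (hmemTR _).2 ⟨h0 * l * h0⁻¹, hhK _ hl, ?_⟩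
        rcases hx' with rfl | rfl
        · exact Or.inl (by rw [map_mul, map_mul, map_inv])
        · refine Or.inr ?_
          rw [map_mul, map_mul, map_inv, ← mul_assoc, ← htcomm]
          group
    rw [hgen] at this
    exact this (mem_top k)
  have hcentT : centralizer (TR : Set (↥X ⧸ Z)) = TR := by
    refine le_antisymm (fun x hx => ?_) fun x hx => mem_centralizer_iff.2 fun y hy => ?_
    · have hxC : x ∈ centralizer ({tR} : Set (↥X ⧸ Z)) :=
        mem_centralizer_singleton_iff.2 (mem_centralizer_iff.1 hx tR htTR).symm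
      rw [← hE.2.2.2.2] at hxC
      have hnorm : ER ≤ normalizer ((zpowers tR : Subgroup (↥X ⧸ Z)) : Set (↥X ⧸ Z)) := fun z hz =>
        centralizer_le_normalizer _ (mem_centralizer_iff.2 fun d hd => hE.2.2.1 d hd z hz)
      have hmem : x ∈ ((zpowers tR : Subgroup (↥X ⧸ Z)) : Set (↥X ⧸ Z)) * (ER : Set (↥X ⧸ Z)) := by
        rw [← Subgroup.coe_mul_of_right_le_normalizer_left (zpowers tR) ER hnorm]; exact hxC
      obtain ⟨b, hb, c, hc, rfl⟩ := Set.mem_mul.1 hmem
      obtain ⟨k, rfl⟩ := hERj c hc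
      have hbT : b ∈ TR := zpowers_le.2 htTR hb
      refine mul_mem hbT ((hmemTR _).2 ⟨k, ?_, Or.inl rfl⟩)
      have key : ∀ v : ↥P0, (v : P) ∈ fourSub S.D.u S.D.w S.D.u2 S.D.w2 S.D.comm →
          (k : P) * v = v * k := by
        intro v hv
        have hvT : jR v ∈ TR := (hmemTR _).2 ⟨v, hv, Or.inl rfl⟩
        have h1 := mem_centralizer_iff.1 hx _ hvT
        have h2 : jR v * b = b * jR v := (hE.2.2.1 b hb _ (hjER v)).symm
        rw [← mul_assoc, h2, mul_assoc, mul_assoc] at h1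
        have h4 : jR v * jR k = jR k * jR v := mul_left_cancel h1
        rw [← map_mul, ← map_mul] at h4
        exact (congrArg Subtype.val (hjinj h4)).symm
      exact mem_fourSub.2 (S.D.comm_uw (key u0 (Or.inr (Or.inl rfl))) (key w0 (Or.inr (Or.inr (Or.inl rfl)))))
    · rw [← inv_eq_of_mul_eq_one_right (hTRsq _ (mul_mem hy hx)), mul_inv_rev,
        inv_eq_of_mul_eq_one_right (hTRsq _ hx), inv_eq_of_mul_eq_one_right (hTRsq _ hy)]
  have hC24 : Nat.card ↥(centralizer ({tR} : Set (↥X ⧸ Z))) = 24 := by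
    rw [AbelTwo.card_prod htRo hE, hcardER]
  have hone' : ∀ b ∈ TR, ∀ c ∈ TR, b ≠ 1 → c ≠ 1 → IsConj b c := by
    intro b hb c hc hb1 hc1
    exact (honeR b (orderOf_eq_prime (by rw [pow_two]; exact hTRsq b hb) hb1)).symm.trans
      (honeR c (orderOf_eq_prime (by rw [pow_two]; exact hTRsq c hc) hc1))
  set hR := jR h0 with hhR
  have hH : CaseD.RHyp TR hR tR := by
    refine ⟨hTR8, hTRsq, hno16, fun s hs hs1 => ?_, hcentT, hone', htTR, htR1, ?_, ?_, (htcomm h0).symm, ?_⟩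
    · obtain ⟨g, hg⟩ := isConj_iff.1 (hone' tR htTR s hs htR1 hs1)
      have hTc : IsMulCommutative ↥(TS : Subgroup (↥X ⧸ Z)) := ⟨⟨fun b c => Subtype.ext (by
        have hb : (b : ↥X ⧸ Z) ∈ TR := hTS ▸ b.2
        have hc : (c : ↥X ⧸ Z) ∈ TR := hTS ▸ c.2
        show (b : ↥X ⧸ Z) * c = c * b
        rw [← inv_eq_of_mul_eq_one_right (hTRsq _ (mul_mem hb hc)), mul_inv_rev,
          inv_eq_of_mul_eq_one_right (hTRsq _ hb), inv_eq_of_mul_eq_one_right (hTRsq _ hc)])⟩⟩
      obtain ⟨n, hn, hne⟩ := Transfer.exists_normalizer_conj_of_abelian TS hTc (x := tR) (g := g)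
        (hTS ▸ htTR) (hTS ▸ hg ▸ hs)
      rw [hg] at hne
      replace hn : n ∈ normalizer ((TR : Subgroup _) : Set (↥X ⧸ Z)) := hTS ▸ hn
      refine ⟨?_, fun x hx => ?_⟩
      · rw [← hne, Block.card_centralizer_conj, hC24]
      · have h1 : n⁻¹ * x * n ∈ centralizer ({tR} : Set (↥X ⧸ Z)) := by
          rw [mem_centralizer_singleton_iff]
          have h2 := mem_centralizer_singleton_iff.1 hx
          rw [← hne] at h2
          calc n⁻¹ * x * n * tR = n⁻¹ * (x * (n * tR * n⁻¹)) * n := by group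
            _ = n⁻¹ * (n * tR * n⁻¹ * x) * n := by rw [h2]
            _ = tR * (n⁻¹ * x * n) := by group
        have h3 := mul_mem (mul_mem hn (hCN h1)) (inv_mem hn)
        rwa [show n * (n⁻¹ * x * n) * n⁻¹ = x by group] at h3
    · rw [hhR, ← map_pow, show h0 ^ 3 = 1 from Subtype.ext h3, map_one]
    · exact fun e => hh1 (congrArg Subtype.val (hjinj (e.trans (map_one jR).symm)))
    · set Hc : Subgroup (↥X ⧸ Z) := (centralizer ({h0} : Set ↥P0)).map jR
      have hIH : Cfsg.IsInternalDirectProduct (zpowers tR) Hc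
          (centralizer ({hR} : Set (↥X ⧸ Z)) ⊓ centralizer ({tR} : Set (↥X ⧸ Z))) := by
        have hle : Hc ≤ centralizer ({hR} : Set (↥X ⧸ Z)) ⊓ centralizer ({tR} : Set (↥X ⧸ Z)) := by
          rintro _ ⟨k, hk, rfl⟩
          refine mem_inf.2 ⟨mem_centralizer_singleton_iff.2 ?_, hE.2.1 (hjER k)⟩
          rw [hhR, ← map_mul, ← map_mul, mem_centralizer_singleton_iff.1 hk]
        have htle : zpowers tR ≤ centralizer ({hR} : Set (↥X ⧸ Z)) ⊓ centralizer ({tR} : Set (↥X ⧸ Z)) :=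
          zpowers_le.2 (mem_inf.2 ⟨mem_centralizer_singleton_iff.2 (htcomm h0), mem_centralizer_singleton_iff.2 rfl⟩)
        refine ⟨htle, hle, fun b hb c hc => ?_, ?_, ?_⟩
        · obtain ⟨k, -, rfl⟩ := hc
          exact hE.2.2.1 b hb _ (hjER k)
        · refine eq_bot_iff.2 ((inf_le_inf_left _ ?_).trans hE.2.2.2.1.le)
          rintro _ ⟨k, -, rfl⟩; exact hjER k
        · refine le_antisymm (sup_le htle hle) fun x hx => ?_
          obtain ⟨hx1, hx2⟩ := mem_inf.1 hx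
          rw [← hE.2.2.2.2] at hx2
          have hnorm : ER ≤ normalizer ((zpowers tR : Subgroup (↥X ⧸ Z)) : Set (↥X ⧸ Z)) := fun z hz =>
            centralizer_le_normalizer _ (mem_centralizer_iff.2 fun d hd => hE.2.2.1 d hd z hz)
          have hmem : x ∈ ((zpowers tR : Subgroup (↥X ⧸ Z)) : Set (↥X ⧸ Z)) * (ER : Set (↥X ⧸ Z)) := by
            rw [← Subgroup.coe_mul_of_right_le_normalizer_left (zpowers tR) ER hnorm]; exact hx2
          obtain ⟨b, hb, c, hc, rfl⟩ := Set.mem_mul.1 hmem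
          obtain ⟨k, rfl⟩ := hERj c hc
          refine mul_mem (mem_sup_left hb) (mem_sup_right ⟨k, mem_centralizer_singleton_iff.2 ?_, rfl⟩)
          have h1 := mem_centralizer_singleton_iff.1 hx1
          have h2 : hR * b = b * hR := (hE.2.2.1 b hb _ (hjER h0)).symm
          rw [← mul_assoc, h2, mul_assoc, mul_assoc, hhR] at h1
          have h4 := mul_left_cancel h1
          rw [← map_mul, ← map_mul] at h4
          exact hjinj h4
      rw [AbelTwo.card_prod htRo hIH, Subgroup.card_map_of_injective hjinj]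
      -- the centraliser of `h` in `C_P(a)` has order three
      set C0 := centralizer ({h0} : Set ↥P0)
      have h3C : 3 ∣ Nat.card C0 := by
        haveI : Fact (Nat.Prime 3) := ⟨Nat.prime_three⟩
        have : orderOf h0 = 3 := orderOf_eq_prime (Subtype.ext h3) (fun e => hh1 (congrArg Subtype.val e))
        exact this ▸ C0.orderOf_dvd_natCard (mem_centralizer_singleton_iff.2 rfl)
      have hodd0 : Odd (Nat.card C0) := by
        refine Nat.not_even_iff_odd.1 fun hev => ?_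
        obtain ⟨⟨v, hv⟩, hvo⟩ := exists_prime_orderOf_dvd_card' (G := ↥C0) 2 (even_iff_two_dvd.1 hev)
        rw [Subgroup.orderOf_mk] at hvo
        have hvR : orderOf (jR v) = 2 := (orderOf_injective jR hjinj v).trans hvo
        have hvN : jR v ∈ normalizer (TR : Set (↥X ⧸ Z)) := hCN (hE.2.1 (hjER v))
        have hvT : jR v ∈ TR := by
          have hz : IsPGroup 2 (zpowers (jR v)) := IsPGroup.of_card (n := 1) (by rw [Nat.card_zpowers, hvR, pow_one])
          have hz' := (IsPGroup.inf_normalizer_sylow hz TS).le (mem_inf.2 ⟨mem_zpowers (jR v), by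
            show jR v ∈ normalizer ((TS : Subgroup (↥X ⧸ Z)) : Set (↥X ⧸ Z))
            rw [hTS]; exact hvN⟩)
          exact hTS.le hz'.2
        obtain ⟨k, hk, e | e⟩ := (hmemTR _).1 hvT
        · rw [hjinj e] at hv hvo
          have hcv : h * (k : P) * h⁻¹ = k := by
            have := congrArg Subtype.val (mem_centralizer_singleton_iff.1 hv)
            rw [show h * (k : P) = k * h from this.symm, mul_inv_cancel_right]
          rcases hk with h' | h' | h' | h' <;> rw [h'] at hcv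
          · rw [show k = 1 from Subtype.ext h', orderOf_one] at hvo; omega
          · exact S.D.uw (hcv.symm.trans hhu)
          · rw [hhw] at hcv; exact S.D.u1 (mul_eq_right.1 hcv)
          · rw [← conj_mul, hhu, hhw, ← mul_assoc, ← S.D.comm, mul_assoc, S.D.w2, mul_one] at hcv
            exact S.D.w1 (left_eq_mul.1 hcv)
        · have h5 : tR ∈ zpowers tR ⊓ ER := ⟨mem_zpowers tR, by
            rw [eq_mul_inv_of_mul_eq e.symm]; exact ER.mul_mem (hjER v) (ER.inv_mem (hjER k))⟩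
          rw [hE.2.2.2.1, mem_bot] at h5
          exact htR1 h5
      have hd12 : Nat.card C0 ∣ 12 := hP12 ▸ C0.card_subgroup_dvd_card
      have hle12 := Nat.le_of_dvd (by norm_num) hd12
      obtain ⟨i, hi⟩ := hodd0
      rw [hi] at h3C hd12 hle12 ⊢
      obtain ⟨b, hb⟩ := h3C
      have : i = 1 ∨ i = 4 := by omega
      rcases this with rfl | rfl
      · rfl
      · norm_num at hd12
  exact ⟨TR, hR, hH⟩

/-- The number of involutions in the centraliser of an element of prime order of the field part. -/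
theorem quot_count (A : Amb G) (L : ExtLocals S)
    (ih : ∀ (H : Type u) [Group H] [Finite H], Nat.card H < Nat.card G → NoField H)
    {a : G} (ha : a ∈ S.Fld) {r : ℕ} (hr : r.Prime) (hord : orderOf a = r) :
    (S.D.p ^ (S.D.f / r) = 3 ∧ (Nat.card ↥(Invol' a) = 7 ∨ Nat.card ↥(Invol' a) = 63)) ∨
    (S.D.p ^ (S.D.f / r) = 5 ∧ Nat.card ↥(Invol' a) = 1463) ∨
    (∃ m : ℕ, 1 ≤ m ∧ S.D.p ^ (S.D.f / r) = 3 ^ (2 * m + 1) ∧
      Nat.card ↥(Invol' a) = (3 ^ (2 * m + 1)) ^ 2 * ((3 ^ (2 * m + 1)) ^ 2 - 3 ^ (2 * m + 1) + 1)) := by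
  obtain ⟨hinv, hone, hc⟩ := S.quot_full A L ih ha fun h => hr.ne_one (by rw [← hord, h, orderOf_one])
  rw [hord] at hc
  rcases hc with ⟨h3, T, h, H⟩ | ⟨M, -, -, -, ⟨h5, -, hn⟩ | ⟨m, hm, hq, -, hn⟩⟩
  · refine Or.inl ⟨h3, ?_⟩
    have hcl := QuotGroup.card_class (orderOf_eq_prime (by rw [pow_two]; exact H.Tsq _ H.tT) H.t1) hone
    rw [hinv, (H.cent _ H.tT H.t1).1] at hcl
    rcases CaseD.rCases H with h168 | ⟨⟨R2⟩⟩
    · left; omega
    · right
      have := R2.card_R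
      omega
  · exact Or.inr (Or.inl ⟨h5, hn⟩)
  · exact Or.inr (Or.inr ⟨m, hm, hq, hn⟩)

/-- The consequences for the prime `r`. -/
theorem arith_facts [IsSimpleGroup G] (A : Amb G) (L : ExtLocals S)
    (ih : ∀ (H : Type u) [Group H] [Finite H], Nat.card H < Nat.card G → NoField H)
    {r : ℕ} (hr : r.Prime) (hrF : r ∣ Nat.card S.Fld) :
    (S.D.p = 3 ∧ Odd (S.D.f / r) ∧
      (r = 3 ∨ r ∣ (3 ^ (S.D.f / r)) ^ 2 - 3 ^ (S.D.f / r) + 1)) ∨
    (S.D.p = 5 ∧ S.D.f = r ∧ (r = 7 ∨ r = 11 ∨ r = 19)) := by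
  haveI : Fact r.Prime := ⟨hr⟩
  obtain ⟨⟨a, ha⟩, hord⟩ := exists_prime_orderOf_dvd_card' (G := ↥S.Fld) r hrF
  rw [Subgroup.orderOf_mk] at hord
  have hdiv := S.dvd_invol A L ha hr hord
  have hrodd : r ≠ 2 := fun h => Nat.not_even_iff_odd.2 S.F_odd (even_iff_two_dvd.2 (h ▸ hrF))
  have hpow : ∀ {b j m : ℕ}, b.Prime → 1 ≤ m → S.D.p ^ j = b ^ m → S.D.p = b ∧ j = m := by
    intro b j m hb hm h
    have hj : j ≠ 0 := fun h0 => by
      rw [h0, pow_zero] at h
      exact absurd h.symm (Nat.one_lt_pow (by omega) hb.one_lt).ne'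
    have hpb : S.D.p = b := (Nat.prime_dvd_prime_iff_eq S.D.hp hb).1 (S.D.hp.dvd_of_dvd_pow (h ▸ dvd_pow_self _ hj))
    rw [hpb] at h
    exact ⟨hpb, Nat.pow_right_injective hb.two_le h⟩
  rcases S.quot_count A L ih ha hr hord with ⟨h3, hn⟩ | ⟨h5, hn⟩ | ⟨m, hm, hq, hn⟩
  · obtain ⟨hp, hj⟩ := hpow Nat.prime_three le_rfl (h3.trans (pow_one 3).symm)
    refine Or.inl ⟨hp, by rw [hj]; exact odd_one, ?_⟩
    rw [hj]
    rcases hn with hn | hn <;> rw [hn] at hdiv
    · right; simpa using hdiv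
    · rw [show (63 : ℕ) = 3 ^ 2 * 7 from rfl, hr.dvd_mul] at hdiv
      rcases hdiv with h | h
      · exact Or.inl ((Nat.prime_dvd_prime_iff_eq hr Nat.prime_three).1 (hr.dvd_of_dvd_pow h))
      · right; simpa using h
  · obtain ⟨hp, hj⟩ := hpow Nat.prime_five le_rfl (h5.trans (pow_one 5).symm)
    refine Or.inr ⟨hp, ?_, ?_⟩
    · rw [← Nat.div_mul_cancel (hrF.trans S.F_dvd), hj, one_mul]
    · rw [hn, show (1463 : ℕ) = 7 * (11 * 19) from rfl, hr.dvd_mul, hr.dvd_mul] at hdiv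
      rcases hdiv with h | h | h
      · exact Or.inl ((Nat.prime_dvd_prime_iff_eq hr (by norm_num)).1 h)
      · exact Or.inr (Or.inl ((Nat.prime_dvd_prime_iff_eq hr (by norm_num)).1 h))
      · exact Or.inr (Or.inr ((Nat.prime_dvd_prime_iff_eq hr (by norm_num)).1 h))
  · obtain ⟨hp, hj⟩ := hpow Nat.prime_three (show 1 ≤ 2 * m + 1 by omega) hq
    refine Or.inl ⟨hp, by rw [hj]; exact odd_two_mul_add_one m, ?_⟩
    rw [hn] at hdiv
    rw [hj]
    rcases (Nat.Prime.dvd_mul hr).1 hdiv with h | h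
    · exact Or.inl ((Nat.prime_dvd_prime_iff_eq hr Nat.prime_three).1
        (hr.dvd_of_dvd_pow (hr.dvd_of_dvd_pow h)))
    · exact Or.inr h

end ExtBase

end Cfsg.Agent.Invol.JankoWard
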