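import Cfsg.Agent.Lib.Invol.JankoWard.CaseAPure
import Cfsg.Agent.Lib.Invol.JankoWard.ExtQuot

/-!
Case A of the field part, the reduction to the quotient: if in `C(b)/⟨b⟩`, `b` in the field part with `a ∈ ⟨b⟩`,
an element of order `r` is conjugate to its power `l`, `l² ≠ 1 (mod r)`, and `r³ ∤ |C(a)|`, the group is not simple.
-/

set_option autoImplicit false
set_option linter.unusedSectionVars false
set_option linter.style.haveILetI false

open scoped Classical commutatorElement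

namespace Cfsg.Agent.Invol.JankoWard.ExtBase

open Subgroup

universe u v

variable {G : Type u} [Group G] [Finite G] {P : Type v} [Group P] [Finite P] (S : ExtBase G P)

/-- The powers of an element of the field part are not fused. -/
theorem unfused (A : Amb G) (L : ExtLocals S) {a : G} (ha : a ∈ S.Fld) (g : G) (i : ℕ)
    (h : g * a * g⁻¹ = a ^ i) : g * a * g⁻¹ = a := by
  haveI : Fact (Nat.Prime 2) := ⟨Nat.prime_two⟩
  obtain ⟨T, hT⟩ := S.exists_sylow A
  set X := centralizer ({a} : Set G)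
  have hTX : (T : Subgroup G) ≤ X := fun y hy => by
    refine mem_centralizer_singleton_iff.2 ?_
    obtain ⟨k, hk, rfl | rfl⟩ := (hT y).1 hy
    · exact (S.F_four ha hk).symm
    · exact ((show Commute S.t a from (S.Ft a ha).symm).mul_left (S.F_four ha hk).symm).eq
  -- `g` normalises `C(a)`
  have hgX : ∀ y ∈ X, g * y * g⁻¹ ∈ X := by
    intro y hy
    have hord : orderOf (g * a * g⁻¹) = orderOf a :=
      orderOf_injective (MulAut.conj g).toMonoidHom (MulAut.conj g).injective a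
    have hzz : zpowers (g * a * g⁻¹) = zpowers a :=
      Subgroup.eq_of_le_of_card_ge (zpowers_le.2 (h ▸ pow_mem (mem_zpowers a) i))
        (by rw [Nat.card_zpowers, Nat.card_zpowers, hord])
    obtain ⟨m, hm⟩ := mem_zpowers_iff.1 (hzz ▸ mem_zpowers a : a ∈ zpowers (g * a * g⁻¹))
    refine mem_centralizer_singleton_iff.2 ?_
    rw [← hm]
    have h1 : Commute (g * y * g⁻¹) (g * a * g⁻¹) := by
      have := (show Commute y a from mem_centralizer_singleton_iff.1 hy).map (MulAut.conj g).toMonoidHom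
      simpa using this
    exact (h1.zpow_right m).eq
  have hT' : ((T : Subgroup G).map (MulAut.conj g).toMonoidHom) ≤ X := by
    rintro _ ⟨y, hy, rfl⟩
    exact hgX y (hTX hy)
  obtain ⟨Y, hY⟩ := ((T.isPGroup'.map (MulAut.conj g).toMonoidHom).comap_subtype (K := X)).exists_le_sylow
  obtain ⟨x, hx⟩ := MulAction.exists_smul_eq ↥X Y (T.subtype hTX)
  have hn : (x : G) * g ∈ normalizer ((T : Subgroup G) : Set G) := mem_normalizer_fintype fun y hy => by
    have h1 : x * ⟨g * y * g⁻¹, hgX y (hTX hy)⟩ * x⁻¹ ∈ ((T.subtype hTX : Sylow 2 ↥X) : Subgroup ↥X) := by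
      rw [← hx, Sylow.coe_subgroup_smul]
      exact ⟨_, hY ⟨y, hy, rfl⟩, rfl⟩
    have h2 : (x : G) * (g * y * g⁻¹) * (x : G)⁻¹ ∈ (T : Subgroup G) := h1
    rwa [show (x : G) * g * y * ((x : G) * g)⁻¹ = x * (g * y * g⁻¹) * (x : G)⁻¹ by group]
  have hc : Commute ((x : G) * g) a := S.normS_F A L T hT hn ha
  have hg : Commute g a := by
    have := (show Commute (x : G) a from mem_centralizer_singleton_iff.1 x.2).inv_left.mul_left hc
    rwa [inv_mul_cancel_left] at this
  rw [hg.eq, mul_inv_cancel_right]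

/-- The involution centraliser in `C(a)`. -/
theorem card_cent_inter {a : G} (ha : a ∈ S.Fld) :
    Nat.card ↥(centralizer ({a} : Set G) ⊓ S.C) =
      2 * (Nat.card ↥((centralizer ({a} : Set G)).comap S.ι) * Nat.card S.Fld) := by
  have hX : ∀ x : G, x ∈ centralizer ({a} : Set G) ↔ Commute x a := fun x => mem_centralizer_singleton_iff
  let f : Bool × (↥((centralizer ({a} : Set G)).comap S.ι) × S.Fld) → ↥(centralizer ({a} : Set G) ⊓ S.C) :=
    fun p => ⟨(bif p.1 then S.t else 1) * (S.ι p.2.1 * p.2.2), mul_mem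
      (by cases p.1
          · exact one_mem _
          · exact mem_inf.2 ⟨(hX _).2 (S.Ft a ha).symm, S.t_mem⟩)
      (mem_inf.2 ⟨mul_mem p.2.1.2 ((hX _).2 (S.F_comm p.2.2.2 ha)),
        S.EG_C ⟨p.2.1, p.2.2, p.2.2.2, rfl⟩⟩)⟩
  have hf : Function.Bijective f := by
    refine ⟨?_, ?_⟩
    · rintro ⟨s, k, c⟩ ⟨s', k', c'⟩ h
      have h' : S.pairMap (s, ⟨_, k, c, c.2, rfl⟩) = S.pairMap (s', ⟨_, k', c', c'.2, rfl⟩) :=
        Subtype.ext (by simpa [pairMap_coe, f] using congrArg Subtype.val h)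
      have h1 := S.pairMap_bijective.1 h'
      have h2 := congrArg (fun z : Bool × S.EG => (z.2 : G)) h1
      obtain ⟨hk, hc⟩ := S.decomp c.2 c'.2 h2
      exact Prod.ext (congrArg Prod.fst h1 :) (Prod.ext (Subtype.ext hk) (Subtype.ext hc))
    · rintro ⟨x, hx⟩
      obtain ⟨hxa, hxt⟩ := mem_inf.1 hx
      obtain ⟨k, c, hc, e⟩ := S.cover x (S.mem_C.1 hxt)
      have key : ∀ b : Bool, x = (bif b then S.t else 1) * (S.ι k * c) →
          S.ι k ∈ centralizer ({a} : Set G) := by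
        intro b hb
        have h1 : S.ι k * c ∈ centralizer ({a} : Set G) := by
          have h2 : (bif b then S.t else 1) ∈ centralizer ({a} : Set G) := by
            cases b
            · exact one_mem _
            · exact (hX _).2 (S.Ft a ha).symm
          rw [show S.ι k * c = (bif b then S.t else 1)⁻¹ * x by rw [hb, inv_mul_cancel_left]]
          exact mul_mem (inv_mem h2) hxa
        simpa using mul_mem h1 (inv_mem ((hX _).2 (S.F_comm hc ha)))
      rcases e with e | e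
      · exact ⟨⟨false, ⟨k, key false (by simpa using e)⟩, ⟨c, hc⟩⟩, Subtype.ext (by simp [f, e])⟩
      · exact ⟨⟨true, ⟨k, key true (by simpa using e)⟩, ⟨c, hc⟩⟩, Subtype.ext (by simp [f, e])⟩
  rw [← Nat.card_eq_of_bijective f hf, Nat.card_prod, Nat.card_prod]
  simp

/-- The order of `C(a)`. -/
theorem card_cent (A : Amb G) (L : ExtLocals S) {a : G} (ha : a ∈ S.Fld) :
    Nat.card ↥(centralizer ({a} : Set G)) =
      Nat.card ↥(Invol' a) * (2 * (Nat.card ↥((centralizer ({a} : Set G)).comap S.ι) * Nat.card S.Fld)) := by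
  set X := centralizer ({a} : Set G)
  have htX : S.t ∈ X := mem_centralizer_singleton_iff.2 (S.Ft a ha).symm
  have ht : orderOf (⟨S.t, htX⟩ : ↥X) = 2 := (Subgroup.orderOf_mk S.t htX).trans S.ht
  have h := QuotGroup.card_class ht fun x hx => by
    obtain ⟨c, hca, hc⟩ := S.one_class_cent A L ha (x := (x : G))
      ⟨by rw [← pow_two, ← Subgroup.coe_pow, ← hx, pow_orderOf_eq_one]; rfl,
        fun h => by rw [Subtype.ext (a2 := (1 : ↥X)) h, orderOf_one] at hx; omega,
        mem_centralizer_singleton_iff.1 x.2⟩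
    exact isConj_iff.2 ⟨⟨c, mem_centralizer_singleton_iff.2 hca.eq⟩, Subtype.ext hc⟩
  rw [← h, ← S.card_cent_inter ha]
  congr 1
  · exact Nat.card_congr
      { toFun := fun x => ⟨x.1.1, congrArg Subtype.val x.2.1, fun h => x.2.2 (Subtype.ext h),
          mem_centralizer_singleton_iff.1 x.1.2⟩
        invFun := fun x => ⟨⟨x.1, mem_centralizer_singleton_iff.2 x.2.2.2.eq⟩, Subtype.ext x.2.1,
          fun h => x.2.2.1 (congrArg Subtype.val h)⟩
        left_inv := fun _ => rfl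
        right_inv := fun _ => rfl }
  · exact Nat.card_congr
      { toFun := fun x => ⟨x.1.1, mem_inf.2 ⟨x.1.2, mem_centralizer_singleton_iff.2
          (congrArg Subtype.val (mem_centralizer_singleton_iff.1 x.2))⟩⟩
        invFun := fun x => ⟨⟨x.1, (mem_inf.1 x.2).1⟩, mem_centralizer_singleton_iff.2
          (Subtype.ext (mem_centralizer_singleton_iff.1 (mem_inf.1 x.2).2))⟩
        left_inv := fun _ => rfl
        right_inv := fun _ => rfl }

/-- The contradiction from an element of order `r` conjugate to its power `l` in the quotient. -/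
theorem false_of_act [IsSimpleGroup G] (A : Amb G) (L : ExtLocals S) {a b : G} (ha : a ∈ S.Fld) {r : ℕ}
    [hr : Fact r.Prime] (hr2 : r ≠ 2) (hord : orderOf a = r) (hab : a ∈ zpowers b) (hb2 : ¬ r ^ 2 ∣ orderOf b)
    (hmax : ¬ r ^ 3 ∣ Nat.card ↥(centralizer ({a} : Set G))) {z n : QuotR b} (hz : orderOf z = r) {l : ℕ}
    (hn : n * z * n⁻¹ = z ^ l) (hl : (l : ZMod r) ^ 2 ≠ 1) : False := by
  have hl1 : (l : ZMod r) ≠ 1 := fun h => hl (by rw [h, one_pow])
  set X := centralizer ({b} : Set G)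
  set π := quotMk b
  have hker : ∀ x : ↥X, π x = 1 ↔ (x : G) ∈ zpowers b := fun x => QuotientGroup.eq_one_iff x
  -- the preimage of `⟨z⟩`
  set K := (zpowers z).comap π
  let φ : ↥K →* ↥(zpowers z) := (π.comp K.subtype).codRestrict (zpowers z) fun x => x.2
  have hφker : φ.ker ≤ center ↥K := fun x hx => mem_center_iff.2 fun y => Subtype.ext (Subtype.ext (by
    have hx' : π (x : ↥X) = 1 := congrArg Subtype.val (MonoidHom.mem_ker.1 hx)
    obtain ⟨i, hi⟩ := mem_zpowers_iff.1 ((hker _).1 hx')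
    show ((y : ↥X) : G) * ((x : ↥X) : G) = ((x : ↥X) : G) * ((y : ↥X) : G)
    rw [← hi]
    exact ((show Commute ((y : ↥X) : G) b from mem_centralizer_singleton_iff.1 y.1.2).zpow_right i).eq))
  have hKcomm : ∀ x y : ↥K, x * y = y * x := fun x y => (φ.isMulCommutative_of_isCyclic_of_ker_le_center hφker).is_comm.comm x y
  have hKcard : Nat.card K = r * orderOf b := by
    have hsurj : Function.Surjective φ := by
      rintro ⟨y, hy⟩
      obtain ⟨x, rfl⟩ := QuotientGroup.mk'_surjective _ y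
      exact ⟨⟨x, hy⟩, rfl⟩
    have h := φ.ker.card_mul_index
    rw [Subgroup.index_ker, MonoidHom.range_eq_top.2 hsurj, Subgroup.card_top, Nat.card_zpowers, hz] at h
    rw [← h, mul_comm r]
    congr 1
    rw [← Nat.card_zpowers b]
    refine (Nat.card_congr ?_).symm
    exact
      { toFun := fun c => ⟨⟨⟨c, mem_centralizer_singleton_iff.2 (by
            obtain ⟨i, hi⟩ := mem_zpowers_iff.1 c.2
            rw [← hi]; exact ((Commute.refl b).zpow_left i).eq)⟩, by
              show π _ ∈ zpowers z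
              rw [(hker _).2 c.2]; exact one_mem _⟩, Subtype.ext ((hker _).2 c.2)⟩
        invFun := fun x => ⟨((x.1 : ↥X) : G), (hker _).1 (congrArg Subtype.val (MonoidHom.mem_ker.1 x.2))⟩
        left_inv := fun _ => rfl
        right_inv := fun _ => rfl }
  obtain ⟨ξ, hξ⟩ := QuotientGroup.mk'_surjective _ n
  have hzr : z ^ r = 1 := hz ▸ pow_orderOf_eq_one z
  have hconj : ∀ x : ↥X, π x ∈ zpowers z → π (ξ * x * ξ⁻¹) = π x ^ l := by
    intro x hx
    obtain ⟨i, hi⟩ := mem_zpowers_iff.1 hx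
    rw [map_mul, map_mul, map_inv, show π ξ = n from hξ, ← hi, ← conj_zpow, hn, ← zpow_natCast, ← zpow_mul,
      ← zpow_natCast, ← zpow_mul, mul_comm]
  -- the Sylow subgroup
  let Y : Sylow r ↥K := default
  haveI hYn : (Y : Subgroup ↥K).Normal := ⟨fun x hx y => by rwa [hKcomm y x, mul_inv_cancel_right]⟩
  have hY2 : Nat.card ↥(Y : Subgroup ↥K) = r ^ 2 := by
    rw [Y.card_eq_multiplicity, hKcard]
    congr 1
    have hab' : r ∣ orderOf b := by
      rw [← hord, ← Nat.card_zpowers b]; exact (zpowers b).orderOf_dvd_natCard hab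
    have hb0 : orderOf b ≠ 0 := (orderOf_pos b).ne'
    rw [Nat.factorization_mul hr.out.ne_zero hb0, Finsupp.coe_add, Pi.add_apply, hr.out.factorization_self]
    have h1 := (hr.out.pow_dvd_iff_le_factorization (k := 1) hb0).1 (by rwa [pow_one])
    have h2 : ¬ 2 ≤ (orderOf b).factorization r := fun h => hb2 ((hr.out.pow_dvd_iff_le_factorization hb0).2 h)
    omega
  set Q : Subgroup G := (Y : Subgroup ↥K).map (X.subtype.comp K.subtype)
  have hQ2 : Nat.card Q = r ^ 2 := by
    rw [← hY2]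
    exact Nat.card_congr (Subgroup.equivMapOfInjective _ (X.subtype.comp K.subtype)
      (X.subtype_injective.comp K.subtype_injective)).symm.toEquiv
  have hQK : ∀ {x : G}, x ∈ Q → ∃ h : x ∈ X, π ⟨x, h⟩ ∈ zpowers z := by
    rintro _ ⟨y, -, rfl⟩
    exact ⟨y.1.2, y.2⟩
  have hmemQ : ∀ {x : G} (h : x ∈ X), π ⟨x, h⟩ ∈ zpowers z → (∃ k, x ^ r ^ k = 1) → x ∈ Q := by
    rintro x h hx ⟨k, hk⟩
    refine ⟨⟨⟨x, h⟩, hx⟩, ?_, rfl⟩
    have hp : IsPGroup r ↥(zpowers (⟨⟨x, h⟩, hx⟩ : ↥K)) := by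
      obtain ⟨j, -, hj⟩ := (Nat.dvd_prime_pow hr.out).1 (show orderOf (⟨⟨x, h⟩, hx⟩ : ↥K) ∣ r ^ k from
        orderOf_dvd_of_pow_eq_one (Subtype.ext (Subtype.ext hk)))
      exact IsPGroup.of_card (by rw [Nat.card_zpowers, hj])
    exact (Y.3 (IsPGroup.to_sup_of_normal_left Y.isPGroup' hp) le_sup_left).le
      (mem_sup_right (mem_zpowers _))
  have hbX : b ∈ X := mem_centralizer_singleton_iff.2 rfl
  have haX : a ∈ X := zpowers_le.2 hbX hab
  have har : a ^ r = 1 := hord ▸ pow_orderOf_eq_one a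
  have haQ : a ∈ Q := hmemQ haX (by rw [(hker _).2 hab]; exact one_mem _) ⟨1, by rw [pow_one]; exact har⟩
  have hca : ∀ x ∈ X, Commute x a := fun x hx => by
    obtain ⟨i, rfl⟩ := mem_zpowers_iff.1 hab
    exact (show Commute x b from mem_centralizer_singleton_iff.1 hx).zpow_right i
  have hQp : IsPGroup r Q := IsPGroup.of_card hQ2
  -- elements of `Q` in `⟨b⟩`
  have hQb : ∀ x ∈ Q, x ∈ zpowers b → x ∈ zpowers a := by
    intro x hx hxb
    obtain ⟨k, hk⟩ := hQp ⟨x, hx⟩
    have hx' : x ^ r ^ k = 1 := congrArg Subtype.val hk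
    obtain ⟨j, -, hj⟩ := (Nat.dvd_prime_pow hr.out).1 (orderOf_dvd_of_pow_eq_one hx')
    have hxr : x ^ r = 1 := by
      refine orderOf_dvd_iff_pow_eq_one.1 ?_
      have h1 : orderOf x ∣ orderOf b := Nat.card_zpowers b ▸ (zpowers b).orderOf_dvd_natCard hxb
      have hj1 : j ≤ 1 := by
        by_contra hlt
        exact hb2 ((pow_dvd_pow r (show 2 ≤ j by omega)).trans (hj ▸ h1))
      rw [hj]; exact (pow_dvd_pow r hj1).trans (pow_one r).dvd
    -- the cyclic group `⟨b⟩` has one subgroup of order `r`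
    haveI : IsCyclic ↥(zpowers b) := ⟨⟨⟨b, mem_zpowers b⟩, fun ⟨y, hy⟩ => by
      obtain ⟨i, hi⟩ := mem_zpowers_iff.1 hy
      exact mem_zpowers_iff.2 ⟨i, Subtype.ext hi⟩⟩⟩
    haveI : Fintype ↥(zpowers b) := Fintype.ofFinite _
    set a' : ↥(zpowers b) := ⟨a, hab⟩
    have hoa : orderOf a' = r := by rw [Subgroup.orderOf_mk, hord]
    have heq : (Finset.range r).image (fun i => a' ^ i) =
        Finset.univ.filter (fun y : ↥(zpowers b) => y ^ r = 1) := by
      refine Finset.eq_of_subset_of_card_le (fun y hy => ?_) ?_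
      · obtain ⟨i, -, rfl⟩ := Finset.mem_image.1 hy
        exact Finset.mem_filter.2 ⟨Finset.mem_univ _, by rw [← pow_mul, mul_comm, pow_mul, ← hoa, pow_orderOf_eq_one, one_pow]⟩
      · rw [Finset.card_image_of_injOn (fun i hi j hj h => pow_injOn_Iio_orderOf
          (by rw [hoa]; exact Finset.mem_range.1 hi) (by rw [hoa]; exact Finset.mem_range.1 hj) h), Finset.card_range]
        exact IsCyclic.card_pow_eq_one_le hr.out.pos
    have hmem : (⟨x, hxb⟩ : ↥(zpowers b)) ∈ (Finset.range r).image (fun i => a' ^ i) := by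
      rw [heq]; exact Finset.mem_filter.2 ⟨Finset.mem_univ _, Subtype.ext hxr⟩
    obtain ⟨i, -, hi⟩ := Finset.mem_image.1 hmem
    exact mem_zpowers_iff.2 ⟨i, by rw [zpow_natCast]; exact congrArg Subtype.val hi⟩
  -- the element `τ`
  have hτQ : ∀ x ∈ Q, (ξ : G) * x * (ξ : G)⁻¹ ∈ Q := by
    intro x hx
    obtain ⟨hxX, hxz⟩ := hQK hx
    refine hmemQ (mul_mem (mul_mem ξ.2 hxX) (inv_mem ξ.2)) ?_ ?_
    · show π (ξ * ⟨x, hxX⟩ * ξ⁻¹) ∈ zpowers z
      rw [hconj _ hxz]; exact pow_mem hxz _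
    · obtain ⟨k, hk⟩ := hQp ⟨x, hx⟩
      exact ⟨k, by rw [conj_pow, show x ^ r ^ k = 1 from congrArg Subtype.val hk, mul_one, mul_inv_cancel]⟩
  have hτ : ∀ x ∈ Q, (ξ : G) * x * (ξ : G)⁻¹ * (x ^ l)⁻¹ ∈ zpowers a := by
    intro x hx
    obtain ⟨hxX, hxz⟩ := hQK hx
    refine hQb _ (mul_mem (hτQ x hx) (inv_mem (pow_mem hx l))) ((hker (ξ * ⟨x, hxX⟩ * ξ⁻¹ * (⟨x, hxX⟩ ^ l)⁻¹)).1 ?_)
    rw [map_mul, hconj _ hxz, map_inv, map_pow, mul_inv_cancel]
  have hξa : Commute (ξ : G) a := hca _ ξ.2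
  have hexp : ∀ x ∈ Q, x ^ r = 1 := by
    intro x hx
    obtain ⟨hxX, hxz⟩ := hQK hx
    set y := x ^ r with hy
    have hya : y ∈ zpowers a := by
      refine hQb _ (pow_mem hx r) ((hker (⟨x, hxX⟩ ^ r)).1 ?_)
      obtain ⟨i, hi⟩ := mem_zpowers_iff.1 hxz
      rw [map_pow, ← hi, ← zpow_natCast, ← zpow_mul, mul_comm, zpow_mul, zpow_natCast, hzr, one_zpow]
    obtain ⟨j, hj⟩ := mem_zpowers_iff.1 (hτ x hx)
    have hyy : (ξ : G) * y * (ξ : G)⁻¹ = y := by
      obtain ⟨i, hi⟩ := mem_zpowers_iff.1 hya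
      rw [← hi, (hξa.zpow_right i).eq, mul_inv_cancel_right]
    have h1 : (ξ : G) * x * (ξ : G)⁻¹ = a ^ j * x ^ l := by rw [hj, inv_mul_cancel_right]
    have haxl : Commute (a ^ j) (x ^ l) := ((hca x hxX).pow_left l).zpow_right j |>.symm
    have h2 : y = y ^ l := by
      conv_lhs => rw [← hyy, hy, ← conj_pow, h1, haxl.mul_pow, ← zpow_natCast, ← zpow_mul, mul_comm, zpow_mul,
        zpow_natCast, har, one_zpow, one_mul, pow_right_comm]
    obtain ⟨i, hi⟩ := mem_zpowers_iff.1 hya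
    have hyr : y ^ r = 1 := by
      rw [← hi, ← zpow_natCast, ← zpow_mul, mul_comm, zpow_mul, zpow_natCast, har, one_zpow]
    by_contra hy1
    have hoy : orderOf y = r := orderOf_eq_prime hyr hy1
    have h3 : y ^ 1 = y ^ l := by rw [pow_one]; exact h2
    rw [pow_eq_pow_iff_modEq, hoy, ← ZMod.natCast_eq_natCast_iff, Nat.cast_one] at h3
    exact hl1 h3.symm
  have H : CaseA.Pin a Q r :=
    { r_ne := hr2
      ne := fun e => hr.out.ne_one (by rw [← hord, e, orderOf_one])
      aQ := haQ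
      Q2 := hQ2
      Qexp := hexp
      cQ := fun x hx => hca x (hQK hx).1
      max := hmax
      unfused := S.unfused A L ha }
  exact CaseA.false_of_pin H A.na hl ⟨ξ, hξa, mem_normalizer_fintype hτQ,
    fun x hx => mem_sup_left (hτ x hx)⟩

end Cfsg.Agent.Invol.JankoWard.ExtBase
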