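import Cfsg.Agent.Lib.Invol.JankoWard.CaseAThirtyAux

/-!
Case A of the field part, `r = 19, 37`: in a group `R` of order `3 |M|`, `M` simple of the order of the Ree group over
the field of 27 elements, an element of order `r` is conjugate to a power `l`, `l² ≠ 1 (mod r)`.
-/

set_option autoImplicit false
set_option linter.unusedSectionVars false
set_option linter.style.haveILetI false

namespace Cfsg.Agent.Invol.JankoWard.CaseA

open Subgroup

universe u

/-- The configuration: `J` is the second factor of the centraliser of `t` in `M`, `τ` a field element. -/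
structure Thirty {R : Type u} [Group R] [Finite R] (M J : Subgroup R) (t τ : R) : Prop where
  cardR : Nat.card R = 30220333416
  Mn : M.Normal
  Ms : IsSimpleGroup ↥M
  cardM : Nat.card ↥M = 10073444472
  Minv : ∀ v : R, v * v = 1 → v ∈ M
  tt : t * t = 1
  t1 : t ≠ 1
  one : ∀ v : R, v * v = 1 → v ≠ 1 → IsConj t v
  sq : ∀ s : R, (∃ k, s ^ 2 ^ k = 1) → s * s = 1
  cardC : Nat.card ↥(centralizer ({t} : Set R)) = 58968
  JM : J ≤ M
  Jt : t ∉ J
  Jc : ∀ x ∈ J, Commute x t
  hJ : ∀ x ∈ M, Commute x t → x ∈ J ∨ t * x ∈ J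
  cardJ : Nat.card ↥J = 9828
  Jfree : ∀ y ∈ J, orderOf y = 3 → ∀ v ∈ J, v * v = 1 → Commute v y → v = 1
  Jthree : ∀ U : Subgroup R, U ≤ J → Nat.card ↥U = 27 →
    (∀ x ∈ U, ∀ y ∈ U, Commute x y) ∧ ∀ x ∈ U, x ^ 3 = 1
  Jthirteen : ∃ y ∈ J, ∃ w ∈ J, orderOf y = 13 ∧ w * w = 1 ∧ w ≠ 1 ∧ w * y * w⁻¹ = y⁻¹ ∧
    ∀ v ∈ J, v * v = 1 → Commute v y → v = 1
  τ3 : orderOf τ = 3
  τM : τ ∉ M
  τt : Commute τ t
  τJ : Nat.card ↥(J ⊓ centralizer ({τ} : Set R)) ∣ 12
  τr : ∀ r : ℕ, r = 19 ∨ r = 37 → ¬ r ∣ Nat.card ↥(centralizer ({τ} : Set R))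

namespace Thirty

variable {R : Type u} [Group R] [Finite R] {M J : Subgroup R} {t τ : R} (H : Thirty M J t τ)
include H

/-- An element of odd order of `M` commuting with `t` lies in `J`. -/
theorem mem_J {x : R} (hx : x ∈ M) (hxt : Commute x t) (ho : Odd (orderOf x)) : x ∈ J := by
  refine (H.hJ x hx hxt).resolve_right fun h => H.Jt ?_
  obtain ⟨m, hm⟩ := ho
  have h1 := J.pow_mem h (2 * m + 1)
  have htx : t * t = 1 := H.tt
  rwa [hxt.symm.mul_pow, ← hm, pow_orderOf_eq_one, mul_one, hm, pow_succ, pow_mul, pow_two, htx, one_pow,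
    one_mul] at h1

/-- The only involution commuting with `t` and a suitable element of `J` is `t`. -/
theorem only {y : R} (hy : y ∈ J) (hfree : ∀ v ∈ J, v * v = 1 → Commute v y → v = 1) {s : R} (hs : s * s = 1)
    (hs1 : s ≠ 1) (hst : Commute s t) (hsy : Commute s y) : s = t := by
  rcases H.hJ s (H.Minv s hs) hst with h | h
  · exact absurd (hfree s h hs hsy) hs1
  · have h2 : t * s * (t * s) = 1 := by rw [hst.mul_mul_mul_comm, H.tt, hs, one_mul]
    exact (eq_inv_of_mul_eq_one_right (hfree _ h h2 ((H.Jc y hy).symm.mul_left hsy))).trans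
      (inv_eq_of_mul_eq_one_right H.tt)

theorem index_M : M.index = 3 := by
  have h := M.card_mul_index
  rw [H.cardR, H.cardM] at h
  omega

theorem pow_three_mem (x : R) : x ^ 3 ∈ M := by
  haveI := H.Mn
  exact H.index_M ▸ pow_index_mem M x

/-- Involution centralisers. -/
theorem not_dvd_invol {r : ℕ} (hr : r = 19 ∨ r = 37) (v : R) (hv : v * v = 1) (hv1 : v ≠ 1) :
    ¬ r ∣ Nat.card ↥(centralizer ({v} : Set R)) := by
  obtain ⟨c, rfl⟩ := isConj_iff.1 (H.one v hv hv1)
  rw [Block.card_centralizer_conj, H.cardC]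
  rcases hr with rfl | rfl <;> norm_num

/-- Elements of order thirteen. -/
theorem not_dvd_thirteen {r : ℕ} [Fact r.Prime] (hr : r = 19 ∨ r = 37) {y : R} (hy : orderOf y = 13) :
    ¬ r ∣ Nat.card ↥(centralizer ({y} : Set R)) := by
  haveI : Fact (Nat.Prime 13) := ⟨by norm_num⟩
  obtain ⟨y0, hy0, w, hw, ho, hw2, hw1, hwy, hfree⟩ := H.Jthirteen
  have hn : ¬ r ∣ Nat.card ↥(centralizer ({y0} : Set R)) :=
    not_dvd_cent (by omega) (by rw [ho]; decide) (fun e => by rw [e, orderOf_one] at ho; omega) H.tt H.t1 hw2 hw1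
      (H.Jc w hw).symm (H.Jc y0 hy0).symm hwy H.sq (fun s hs hs1 hst hsy => H.only hy0 hfree hs hs1 hst hsy)
      (H.not_dvd_invol hr)
  have hsyl : ∀ Q : Sylow 13 R, Nat.card Q = 13 := by
    intro Q
    rw [Q.card_eq_multiplicity, H.cardR, show (30220333416 : ℕ) = 13 * 2324641032 by norm_num,
      Nat.factorization_mul (by norm_num) (by norm_num), Finsupp.coe_add, Pi.add_apply,
      Nat.Prime.factorization_self (by norm_num),
      Nat.factorization_eq_zero_of_not_dvd (by norm_num : ¬ 13 ∣ 2324641032), pow_one]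
  have hsy : ∀ x : R, orderOf x = 13 → ∃ Q : Sylow 13 R, (Q : Subgroup R) = zpowers x := by
    intro x hx
    obtain ⟨Q, hQ⟩ := (IsPGroup.of_card (n := 1) (G := ↥(zpowers x)) (p := 13)
      (by rw [Nat.card_zpowers, hx, pow_one])).exists_le_sylow
    exact ⟨Q, (Subgroup.eq_of_le_of_card_ge hQ (by rw [Nat.card_zpowers, hx, hsyl Q])).symm⟩
  obtain ⟨Q1, hQ1⟩ := hsy y hy
  obtain ⟨Q2, hQ2⟩ := hsy y0 ho
  obtain ⟨g, hg⟩ := MulAction.exists_smul_eq R Q2 Q1
  have hm : g * y0 * g⁻¹ ∈ zpowers y := by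
    rw [← hQ1, ← hg, Sylow.coe_subgroup_smul]
    exact ⟨y0, hQ2.ge (mem_zpowers y0), rfl⟩
  obtain ⟨i, hi⟩ := mem_zpowers_iff.1 hm
  have hle : centralizer ({y} : Set R) ≤ centralizer ({g * y0 * g⁻¹} : Set R) := fun x hx => by
    rw [mem_centralizer_singleton_iff, ← hi]
    exact ((show Commute x y from mem_centralizer_singleton_iff.1 hx).zpow_right i).eq
  exact fun hd => hn (Block.card_centralizer_conj g y0 ▸ hd.trans (Subgroup.card_dvd_of_le hle))

theorem arith_c : ∀ r : ℕ, r = 19 ∨ r = 37 → ∀ o, (r = 19 ∧ o = 37) ∨ (r = 37 ∧ o = 19) →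
    ∀ ε, ε ∈ ([1, 2, 6, 18] : List ℕ) → ∀ a < 11, ∀ b < 2, ∀ d < 2,
      3 ^ a * 7 ^ b * o ^ d * ε % r = 18 →
        (ε = 1 ∨ (ε = 2 ∧ a = 2 ∧ b = 0 ∧ d = 0) ∨ (ε = 2 ∧ r = 19 ∧ d = 1) ∨ (2 < ε ∧ r = 19) ∨
          (2 < ε ∧ r = 37 ∧ d = 0)) := by
  rintro r (rfl | rfl) o (⟨h, rfl⟩ | ⟨h, rfl⟩) ε hε <;> try omega
  all_goals
    simp only [List.mem_cons, List.not_mem_nil, or_false] at hε
    intro a ha b hb d hd hmod
    rcases hε with rfl | rfl | rfl | rfl <;> interval_cases a <;> interval_cases b <;> interval_cases d <;>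
      simp_all

/-- The orders of the centraliser and the normaliser of a subgroup of order `r`. -/
theorem count {r o : ℕ} [Fact r.Prime] (ho : (r = 19 ∧ o = 37) ∨ (r = 37 ∧ o = 19)) {z : R} (hz : orderOf z = r) :
    ∃ a b d ε : ℕ, Nat.card ↥(centralizer ({z} : Set R)) = r * (3 ^ a * 7 ^ b * o ^ d) ∧
      Nat.card ↥(normalizer ((zpowers z : Subgroup R) : Set R)) = Nat.card ↥(centralizer ({z} : Set R)) * ε ∧
      ε ∣ r - 1 ∧ ¬ 4 ∣ ε ∧ a < 11 ∧ b < 2 ∧ d < 2 ∧ 3 ^ a * 7 ^ b * o ^ d * ε % r = 18 := by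
  have hr : r = 19 ∨ r = 37 := ho.imp And.left And.left
  obtain ⟨m, hm, hmR, hm18⟩ : ∃ m, 30220333416 = r * m ∧ m = 8 * (13 * (3 ^ 10 * 7 * o)) ∧ m % r = 18 := by
    rcases ho with ⟨rfl, rfl⟩ | ⟨rfl, rfl⟩
    · exact ⟨1590543864, by norm_num, by norm_num, by norm_num⟩
    · exact ⟨816765768, by norm_num, by norm_num, by norm_num⟩
  obtain ⟨ε, hN, hεd, hε4⟩ := card_nor hz
  set C := centralizer ({z} : Set R)
  obtain ⟨c, hc⟩ : r ∣ Nat.card C := hz ▸ C.orderOf_dvd_natCard (mem_centralizer_singleton_iff.2 rfl)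
  have hrc : c ∣ m := by
    have h1 : r * c ∣ r * m := by rw [← hc, ← hm, ← H.cardR]; exact Subgroup.card_subgroup_dvd_card C
    exact Nat.dvd_of_mul_dvd_mul_left (Fact.out : r.Prime).pos h1
  have hno : ∀ p, p.Prime → (p = 2 ∨ p = 13) → ¬ p ∣ c := by
    intro p hp hp' hd
    haveI : Fact p.Prime := ⟨hp⟩
    obtain ⟨⟨y, hy⟩, hyo⟩ := exists_prime_orderOf_dvd_card' (G := ↥C) p (hc ▸ dvd_mul_of_dvd_right hd r)
    rw [Subgroup.orderOf_mk] at hyo
    have hry : r ∣ Nat.card ↥(centralizer ({y} : Set R)) := hz ▸ Subgroup.orderOf_dvd_natCard _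
      (mem_centralizer_singleton_iff.2 (mem_centralizer_singleton_iff.1 hy).symm)
    rcases hp' with rfl | rfl
    · exact H.not_dvd_invol hr y (by rw [← pow_two, ← hyo, pow_orderOf_eq_one])
        (fun e => by rw [e, orderOf_one] at hyo; omega) hry
    · exact H.not_dvd_thirteen hr hyo hry
  have hc' : c ∣ 3 ^ 10 * 7 * o := by
    have h8 : c.Coprime 8 := by
      rw [show (8 : ℕ) = 2 ^ 3 by norm_num]
      exact ((Nat.prime_two.coprime_iff_not_dvd.2 (hno 2 Nat.prime_two (Or.inl rfl))).symm).pow_right 3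
    have h13 : c.Coprime 13 := ((by norm_num : Nat.Prime 13).coprime_iff_not_dvd.2
      (hno 13 (by norm_num) (Or.inr rfl))).symm
    exact h13.dvd_of_dvd_mul_left (h8.dvd_of_dvd_mul_left (hmR ▸ hrc))
  obtain ⟨x, d', hx, hd', rfl⟩ := Nat.dvd_mul.1 hc'
  obtain ⟨a', b', ha', hb', rfl⟩ := Nat.dvd_mul.1 hx
  have hop : o.Prime := by rcases ho with ⟨-, rfl⟩ | ⟨-, rfl⟩ <;> norm_num
  obtain ⟨a, ha, rfl⟩ := (Nat.dvd_prime_pow Nat.prime_three).1 ha'
  obtain ⟨b, hb, rfl⟩ := (Nat.dvd_prime_pow (m := 1) (by norm_num : Nat.Prime 7)).1 (by simpa using hb')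
  obtain ⟨d, hd, rfl⟩ := (Nat.dvd_prime_pow (m := 1) hop).1 (by simpa using hd')
  refine ⟨a, b, d, ε, hc, hN, hεd, hε4 H.sq, by omega, by omega, by omega, ?_⟩
  -- the number of Sylow subgroups
  obtain ⟨Q, hQ⟩ := (IsPGroup.of_card (n := 1) (G := ↥(zpowers z)) (p := r)
    (by rw [Nat.card_zpowers, hz, pow_one])).exists_le_sylow
  have hQz : (Q : Subgroup R) = zpowers z := by
    refine (Subgroup.eq_of_le_of_card_ge hQ ?_).symm
    rw [Nat.card_zpowers, hz, Q.card_eq_multiplicity, H.cardR, hm,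
      Nat.factorization_mul (Fact.out : r.Prime).ne_zero (fun e => by rw [e] at hm18; omega),
      Finsupp.coe_add, Pi.add_apply, (Fact.out : r.Prime).factorization_self,
      Nat.factorization_eq_zero_of_not_dvd (fun h => by rw [Nat.mod_eq_zero_of_dvd h] at hm18; omega), pow_one]
  have hidx := (normalizer ((Q : Subgroup R) : Set R)).card_mul_index
  have hcard := Sylow.card_eq_index_normalizer Q
  simp only [← Sylow.coe_coe] at hidx hcard
  rw [← hcard, H.cardR, hm] at hidx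
  simp only [hQz] at hidx
  rw [hN, hc] at hidx
  have hk := card_sylow_modEq_one r R
  have hm' : m = 3 ^ a * 7 ^ b * o ^ d * ε * Nat.card (Sylow r R) := by
    refine Nat.eq_of_mul_eq_mul_left (Fact.out : r.Prime).pos ?_
    rw [← hidx]; ring
  rw [hm', Nat.mul_mod, hk, Nat.mod_eq_of_lt (Fact.out : r.Prime).one_lt, mul_one, Nat.mod_mod] at hm18
  exact hm18

/-- An element of order three of `M` commuting with `t`, if elements of order `r` have centralisers of order `3r` in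
`M`. -/
theorem not_dvd_in {r : ℕ} [Fact r.Prime] (hr : r = 19 ∨ r = 37)
    (hC3 : ∀ z : R, orderOf z = r → Nat.card ↥(centralizer ({z} : Set R) ⊓ M) = 3 * r) {y : R} (hy : y ∈ M)
    (hyt : Commute y t) (hy3 : orderOf y = 3) : ¬ r ∣ Nat.card ↥(centralizer ({y} : Set R)) := by
  intro hd
  haveI : Fact (Nat.Prime 3) := ⟨Nat.prime_three⟩
  have hyJ : y ∈ J := H.mem_J hy hyt (by rw [hy3]; decide)
  obtain ⟨U, hyU, hUJ, hU⟩ : ∃ U : Subgroup R, y ∈ U ∧ U ≤ J ∧ Nat.card U = 27 := by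
    obtain ⟨Q, hQ⟩ := (IsPGroup.of_card (n := 1) (G := ↥(zpowers (⟨y, hyJ⟩ : ↥J))) (p := 3)
      (by rw [Nat.card_zpowers, Subgroup.orderOf_mk, hy3, pow_one])).exists_le_sylow
    refine ⟨(Q : Subgroup ↥J).map J.subtype, ⟨_, hQ (mem_zpowers _), rfl⟩, Subgroup.map_subtype_le _, ?_⟩
    rw [Subgroup.card_map_of_injective J.subtype_injective, Q.card_eq_multiplicity, H.cardJ,
      show (9828 : ℕ) = 3 ^ 3 * 364 by norm_num, Nat.factorization_mul (by norm_num) (by norm_num), Finsupp.coe_add,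
      Pi.add_apply, Nat.Prime.factorization_pow Nat.prime_three, Finsupp.single_eq_same,
      Nat.factorization_eq_zero_of_not_dvd (by norm_num : ¬ 3 ∣ 364)]
    norm_num
  obtain ⟨hUc, hU3⟩ := H.Jthree U hUJ hU
  set C := centralizer ({y} : Set R)
  obtain ⟨K, hKC, hKodd, hK⟩ := cent_compl C (mem_centralizer_singleton_iff.2 hyt.symm.eq) H.tt H.t1 H.sq
    fun s hs hs2 hs1 hst => H.only hyJ (H.Jfree y hyJ hy3) hs2 hs1 hst (mem_centralizer_singleton_iff.1 hs)
  have hUK : U ≤ K := fun x hx => hK x (mem_centralizer_singleton_iff.2 (hUc x hx y hyU).eq)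
    ((by decide : Odd 3).of_dvd_nat (orderOf_dvd_of_pow_eq_one (hU3 x hx)))
  obtain ⟨⟨z0, hz0⟩, hz0o⟩ := exists_prime_orderOf_dvd_card' (G := ↥C) r hd
  rw [Subgroup.orderOf_mk] at hz0o
  have hrodd : Odd r := by rcases hr with rfl | rfl <;> decide
  have hrK : r ∣ Nat.card K := hz0o ▸ K.orderOf_dvd_natCard (hK z0 hz0 (hz0o ▸ hrodd))
  have hKd : Nat.card K ∣ 3 ^ 10 * 7 * 13 * 19 * 37 := by
    have h := Subgroup.card_subgroup_dvd_card K
    rw [H.cardR, show (30220333416 : ℕ) = 2 ^ 3 * (3 ^ 10 * 7 * 13 * 19 * 37) by norm_num] at h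
    exact ((Nat.coprime_two_right.2 hKodd).pow_right 3).dvd_of_dvd_mul_left h
  obtain ⟨Z, hZn, hZc⟩ := exists_normal_r _ ↥K rfl (Bender.solvable_of_odd hKodd) hKd r hr hrK
  haveI := hZn
  obtain ⟨⟨z, hzZ⟩, hzo⟩ := exists_prime_orderOf_dvd_card' (G := ↥Z) r (dvd_of_eq hZc.symm)
  rw [Subgroup.orderOf_mk] at hzo
  let φ : ↥U →* MulAut ↥Z := MulAut.conjNormal.comp (Subgroup.inclusion hUK)
  have hZcyc : IsCyclic ↥Z := isCyclic_of_prime_card hZc
  haveI : IsCyclic (MulAut ↥Z) := by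
    have : IsCyclic (ZMod (Nat.card Z))ˣ := by rw [hZc]; infer_instance
    exact isCyclic_of_surjective (IsCyclic.mulAutMulEquiv ↥Z).symm.toMonoidHom (MulEquiv.surjective _)
  have hr3 : Nat.card φ.range ∣ 3 := by
    obtain ⟨g, hg⟩ := IsCyclic.exists_generator (α := ↥φ.range)
    rw [← orderOf_eq_card_of_forall_mem_zpowers hg]
    obtain ⟨x, hx⟩ := g.2
    exact orderOf_dvd_of_pow_eq_one (Subtype.ext (by
      rw [Subgroup.coe_pow, ← hx, ← map_pow, show x ^ 3 = 1 from Subtype.ext (hU3 x x.2), map_one]; rfl))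
  have hprod := φ.ker.card_mul_index
  rw [Subgroup.index_ker, hU] at hprod
  have h9 : 9 ∣ Nat.card φ.ker := by
    rcases (Nat.dvd_prime Nat.prime_three).1 hr3 with e | e <;> rw [e] at hprod
    · exact ⟨3, by omega⟩
    · exact ⟨1, by omega⟩
  set zR : R := ((z : ↥K) : R)
  have hzR : orderOf zR = r := by rw [show zR = ((z : ↥K) : R) from rfl, Subgroup.orderOf_coe, hzo]
  have hle : φ.ker.map U.subtype ≤ centralizer ({zR} : Set R) ⊓ M := by
    rintro _ ⟨x, hx, rfl⟩
    refine mem_inf.2 ⟨mem_centralizer_singleton_iff.2 ?_, H.JM (hUJ x.2)⟩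
    have h1 := congrArg (fun e : MulAut ↥Z => (((e ⟨z, hzZ⟩ : ↥Z) : ↥K) : R)) (MonoidHom.mem_ker.1 hx)
    have h2 : (x : R) * zR * (x : R)⁻¹ = zR := h1
    exact mul_inv_eq_iff_eq_mul.1 h2
  have hk := Subgroup.card_dvd_of_le hle
  rw [Subgroup.card_map_of_injective U.subtype_injective, hC3 zR hzR] at hk
  have := h9.trans hk
  rcases hr with rfl | rfl <;> norm_num at this

/-- An element of order three outside `M` commuting with `t`. -/
theorem not_dvd_out {r : ℕ} (hr : r = 19 ∨ r = 37) {y : R} (hy : y ∉ M) (hyt : Commute y t) (hy3 : y ^ 3 = 1) :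
    ¬ r ∣ Nat.card ↥(centralizer ({y} : Set R)) := by
  haveI := H.Mn
  haveI : Fact (Nat.Prime 3) := ⟨Nat.prime_three⟩
  set Ct := centralizer ({t} : Set R)
  have hτC : τ ∈ Ct := mem_centralizer_singleton_iff.2 H.τt.eq
  have hyC : y ∈ Ct := mem_centralizer_singleton_iff.2 hyt.eq
  obtain ⟨Q, hQ⟩ := (IsPGroup.of_card (n := 1) (G := ↥(zpowers (⟨τ, hτC⟩ : ↥Ct))) (p := 3)
    (by rw [Nat.card_zpowers, Subgroup.orderOf_mk, H.τ3, pow_one])).exists_le_sylow
  obtain ⟨Q', hQ'⟩ := (IsPGroup.of_card (n := 1) (G := ↥(zpowers (⟨y, hyC⟩ : ↥Ct))) (p := 3)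
    (by rw [Nat.card_zpowers, Subgroup.orderOf_mk,
      orderOf_eq_prime hy3 (fun e => hy (e ▸ one_mem M)), pow_one])).exists_le_sylow
  obtain ⟨g, hg⟩ := MulAction.exists_smul_eq ↥Ct Q' Q
  have hgy : g * ⟨y, hyC⟩ * g⁻¹ ∈ (Q : Subgroup ↥Ct) := by
    rw [← hg, Sylow.coe_subgroup_smul]
    exact ⟨_, hQ' (mem_zpowers _), rfl⟩
  set S := (Q : Subgroup ↥Ct).map Ct.subtype with hS
  have hS81 : Nat.card S = 81 := by
    rw [hS, Subgroup.card_map_of_injective Ct.subtype_injective, Q.card_eq_multiplicity, H.cardC,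
      show (58968 : ℕ) = 3 ^ 4 * 728 by norm_num, Nat.factorization_mul (by norm_num) (by norm_num), Finsupp.coe_add,
      Pi.add_apply, Nat.Prime.factorization_pow Nat.prime_three, Finsupp.single_eq_same,
      Nat.factorization_eq_zero_of_not_dvd (by norm_num : ¬ 3 ∣ 728)]
    norm_num
  have hτS : τ ∈ S := ⟨_, hQ (mem_zpowers _), rfl⟩
  have hSM : ¬ S ≤ M := fun h => H.τM (h hτS)
  have hidx : (M.subgroupOf S).index = 3 := by
    have hd : (M.subgroupOf S).index ∣ 3 := by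
      rw [← H.index_M]; exact Subgroup.relIndex_dvd_index_of_normal M S
    exact ((Nat.dvd_prime Nat.prime_three).1 hd).resolve_left fun e => hSM (subgroupOf_eq_top.1 (index_eq_one.1 e))
  set U := S ⊓ M
  have hU : Nat.card U = 27 := by
    have h1 := (M.subgroupOf S).card_mul_index
    rw [hidx, hS81] at h1
    have h2 : Nat.card U = Nat.card (M.subgroupOf S) := Nat.card_congr
      { toFun := fun x => ⟨⟨x, (mem_inf.1 x.2).1⟩, (mem_inf.1 x.2).2⟩
        invFun := fun x => ⟨x.1.1, mem_inf.2 ⟨x.1.2, x.2⟩⟩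
        left_inv := fun _ => rfl
        right_inv := fun _ => rfl }
    omega
  have hUJ : U ≤ J := fun x hx => by
    obtain ⟨hxS, hxM⟩ := mem_inf.1 hx
    have hxt : Commute x t := mem_centralizer_singleton_iff.1 ((Subgroup.map_subtype_le _) hxS)
    exact H.mem_J hxM hxt ((by decide : Odd 81).of_dvd_nat (hS81 ▸ S.orderOf_dvd_natCard hxS))
  obtain ⟨hUc, hU3⟩ := H.Jthree U hUJ hU
  set y1 : R := (g : R) * y * (g : R)⁻¹
  have hy1S : y1 ∈ S := ⟨_, hgy, rfl⟩
  have hy13 : y1 ^ 3 = 1 := by rw [conj_pow, hy3, mul_one, mul_inv_cancel]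
  have hy1M : y1 ∉ M := fun h => hy (by
    have h' := H.Mn.conj_mem _ h (g : R)⁻¹
    simpa [y1, mul_assoc] using h')
  have key : ∀ e : R, e ∈ zpowers τ → e ^ 3 = 1 → τ ∈ zpowers e → y1 * e⁻¹ ∈ M →
      ¬ r ∣ Nat.card ↥(centralizer ({y1} : Set R)) := by
    intro e he he3 hτe hu
    have heS : e ∈ S := zpowers_le.2 hτS he
    have hCe : centralizer ({e} : Set R) ≤ centralizer ({τ} : Set R) := fun x hx => by
      obtain ⟨i, hi⟩ := mem_zpowers_iff.1 hτe
      rw [mem_centralizer_singleton_iff, ← hi]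
      exact ((show Commute x e from mem_centralizer_singleton_iff.1 hx).zpow_right i).eq
    have hfix : Nat.card ↥(U ⊓ centralizer ({e} : Set R)) ≤ 3 := by
      have h1 : Nat.card ↥(U ⊓ centralizer ({e} : Set R)) ∣ 27 := hU ▸ Subgroup.card_dvd_of_le inf_le_left
      have h2 : Nat.card ↥(U ⊓ centralizer ({e} : Set R)) ∣ 12 :=
        (Subgroup.card_dvd_of_le (inf_le_inf hUJ hCe)).trans H.τJ
      exact Nat.le_of_dvd (by norm_num) ((Nat.dvd_gcd h1 h2).trans (by norm_num))
    obtain ⟨v, -, hv⟩ := conj_coset hU hUc hU3 he3 (τ := e) (fun x hx => mem_inf.2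
      ⟨mul_mem (mul_mem heS (mem_inf.1 hx).1) (inv_mem heS), H.Mn.conj_mem _ (mem_inf.1 hx).2 e⟩) hfix
      (u := y1 * e⁻¹) (mem_inf.2 ⟨mul_mem hy1S (inv_mem heS), hu⟩) (by rw [inv_mul_cancel_right]; exact hy13)
    rw [inv_mul_cancel_right] at hv
    rw [← hv, Block.card_centralizer_conj]
    exact fun h => H.τr r hr (h.trans (Subgroup.card_dvd_of_le hCe))
  rw [← Block.card_centralizer_conj (g : R) y]
  have hτ3 : τ ^ 3 = 1 := H.τ3 ▸ pow_orderOf_eq_one τ
  -- the coset of `y1`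
  have hcase : y1 * τ⁻¹ ∈ M ∨ y1 * (τ ^ 2)⁻¹ ∈ M := by
    by_contra hc
    rw [not_or] at hc
    set π := QuotientGroup.mk' M
    have hπ : ∀ x, π x = 1 ↔ x ∈ M := fun x => QuotientGroup.eq_one_iff x
    haveI : Fact (Nat.card (R ⧸ M)).Prime := ⟨by rw [← Subgroup.index_eq_card, H.index_M]; norm_num⟩
    have hgen : π y1 ∈ zpowers (π τ) := mem_zpowers_of_prime_card rfl (fun h => H.τM ((hπ τ).1 h))
    have ho : orderOf (π τ) = 3 := orderOf_eq_prime (by rw [← map_pow, hτ3, map_one]) fun h => H.τM ((hπ τ).1 h)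
    obtain ⟨j, hj⟩ := (isOfFinOrder_of_finite (π τ)).mem_powers_iff_mem_zpowers.2 hgen
    have hj' : π τ ^ (j % 3) = π y1 := by rw [← ho, pow_mod_orderOf]; exact hj
    rcases (show j % 3 = 0 ∨ j % 3 = 1 ∨ j % 3 = 2 by omega) with e | e | e <;> rw [e] at hj'
    · exact hy1M ((hπ _).1 (by rw [← hj', pow_zero]))
    · exact hc.1 ((hπ _).1 (by rw [map_mul, ← hj', map_inv, pow_one, mul_inv_cancel]))
    · exact hc.2 ((hπ _).1 (by rw [map_mul, ← hj', map_inv, map_pow, mul_inv_cancel]))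
  rcases hcase with h | h
  · exact key τ (mem_zpowers τ) hτ3 (mem_zpowers τ) h
  · refine key (τ ^ 2) (pow_mem (mem_zpowers τ) 2) (by rw [← pow_mul, mul_comm, pow_mul, hτ3, one_pow]) ?_ h
    refine mem_zpowers_iff.2 ⟨2, ?_⟩
    rw [zpow_two, ← pow_add, show 2 + 2 = 3 + 1 by norm_num, pow_succ, hτ3, one_mul]

/-- An involution inverting `z`. -/
theorem exists_inverter {r : ℕ} [Fact r.Prime] {z : R}
    {n : R} (hn : n * z * n⁻¹ = z⁻¹) : ∃ u : R, u * u = 1 ∧ u * z * u⁻¹ = z⁻¹ := by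
  obtain ⟨k, o, ⟨j, hj⟩, hno⟩ := Nat.exists_eq_two_pow_mul_odd (orderOf_pos n).ne'
  refine ⟨n ^ o, H.sq _ ⟨k, by rw [← pow_mul, mul_comm, ← hno, pow_orderOf_eq_one]⟩, ?_⟩
  have h2 : Commute (n ^ 2) z := by
    refine mul_inv_eq_iff_eq_mul.1 ?_
    rw [pow_two, show n * n * z * (n * n)⁻¹ = n * (n * z * n⁻¹) * n⁻¹ by group, hn, ← conj_inv, hn, inv_inv]
  rw [hj, pow_succ', pow_mul, show n * (n ^ 2) ^ j * z * (n * (n ^ 2) ^ j)⁻¹ =
    n * ((n ^ 2) ^ j * z * ((n ^ 2) ^ j)⁻¹) * n⁻¹ by group, (h2.pow_left j).eq, mul_inv_cancel_right, hn]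

theorem not_eps_one {r : ℕ} [Fact r.Prime] (hr : r = 19 ∨ r = 37) {z : R} (hz : orderOf z = r)
    (hN : Nat.card ↥(normalizer ((zpowers z : Subgroup R) : Set R)) = Nat.card ↥(centralizer ({z} : Set R))) :
    False := by
  haveI := H.Mn
  haveI := H.Ms
  have hrp : r.Prime := Fact.out
  obtain ⟨Q, hQ⟩ := (IsPGroup.of_card (n := 1) (G := ↥(zpowers z)) (p := r)
    (by rw [Nat.card_zpowers, hz, pow_one])).exists_le_sylow
  have hQc : Nat.card Q = r := by
    obtain ⟨m, hm, hm'⟩ : ∃ m, 30220333416 = r * m ∧ ¬ r ∣ m := by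
      rcases hr with rfl | rfl
      · exact ⟨1590543864, by norm_num, by norm_num⟩
      · exact ⟨816765768, by norm_num, by norm_num⟩
    rw [Q.card_eq_multiplicity, H.cardR, hm, Nat.factorization_mul hrp.ne_zero (fun e => hm' (by rw [e]; exact dvd_zero r)),
      Finsupp.coe_add, Pi.add_apply, hrp.factorization_self, Nat.factorization_eq_zero_of_not_dvd hm', pow_one]
  have hQz : (Q : Subgroup R) = zpowers z :=
    (Subgroup.eq_of_le_of_card_ge hQ (by rw [Nat.card_zpowers, hz, hQc])).symm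
  have hCN : centralizer ({z} : Set R) = normalizer ((zpowers z : Subgroup R) : Set R) := by
    refine Subgroup.eq_of_le_of_card_ge ?_ hN.le
    rw [← centralizer_closure, ← zpowers_eq_closure]
    exact centralizer_le_normalizer _
  have hnc : normalizer ((Q : Subgroup R) : Set R) ≤ centralizer ((Q : Subgroup R) : Set R) := by
    rw [hQz, ← hCN, zpowers_eq_closure, centralizer_closure]
  set V := MonoidHom.transferSylow Q hnc
  have htK : t ∈ V.ker := by
    rw [MonoidHom.mem_ker, ← orderOf_eq_one_iff]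
    have h1 : orderOf (V t) ∣ 2 := orderOf_dvd_of_pow_eq_one (by rw [← map_pow, pow_two, H.tt, map_one])
    have h2 : orderOf (V t) ∣ r := (orderOf_dvd_natCard (V t)).trans (dvd_of_eq hQc)
    exact Nat.dvd_one.1 ((Nat.dvd_gcd h1 h2).trans (by rcases hr with rfl | rfl <;> norm_num))
  have hn : (V.ker.subgroupOf M).Normal := inferInstance
  have hMle : M ≤ V.ker := by
    rcases hn.eq_bot_or_eq_top with e | e
    · exact absurd (congrArg Subtype.val ((Subgroup.eq_bot_iff_forall _).1 e ⟨t, H.Minv t H.tt⟩ htK)) H.t1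
    · exact subgroupOf_eq_top.1 e
  refine MonoidHom.not_dvd_card_ker_transferSylow Q hnc ((?_ : r ∣ Nat.card M).trans (Subgroup.card_dvd_of_le hMle))
  rw [H.cardM]
  rcases hr with rfl | rfl <;> norm_num

/-- The conjugation needed. -/
theorem exists_z {r : ℕ} [hrf : Fact r.Prime] (hr : r = 19 ∨ r = 37) :
    ∃ (z n : R) (l : ℕ), orderOf z = r ∧ n * z * n⁻¹ = z ^ l ∧ (l : ZMod r) ^ 2 ≠ 1 := by
  classical
  by_contra hno
  push Not at hno
  haveI := H.Mn
  have hrodd : Odd r := by rcases hr with rfl | rfl <;> decide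
  obtain ⟨o, ho⟩ : ∃ o, (r = 19 ∧ o = 37) ∨ (r = 37 ∧ o = 19) := by
    rcases hr with rfl | rfl
    · exact ⟨37, Or.inl ⟨rfl, rfl⟩⟩
    · exact ⟨19, Or.inr ⟨rfl, rfl⟩⟩
  have main : ∀ z : R, orderOf z = r → Nat.card ↥(centralizer ({z} : Set R)) = 9 * r ∧
      (∃ u : R, u * u = 1 ∧ u * z * u⁻¹ = z⁻¹) ∧ ¬ centralizer ({z} : Set R) ≤ M := by
    intro z hz
    set C := centralizer ({z} : Set R)
    set N := normalizer ((zpowers z : Subgroup R) : Set R)
    obtain ⟨a, b, d, ε, hC, hN, hεd, hε4, ha, hb, hd, hmod⟩ := H.count ho hz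
    change Nat.card C = _ at hC
    change Nat.card N = Nat.card C * ε at hN
    have hle : Nat.card N ≤ 2 * Nat.card C := by
      by_contra h
      obtain ⟨n, l, hn, hl⟩ := exists_act hz (not_le.1 h)
      exact hl (hno z n l hz hn)
    rw [hN] at hle
    have hε2 : ε = 1 ∨ ε = 2 := by
      have h0 : ε ≠ 0 := fun e => by rw [e, zero_dvd_iff] at hεd; omega
      have : ε ≤ 2 := Nat.le_of_mul_le_mul_left (by rw [mul_comm 2] at hle; exact hle) Nat.card_pos
      omega
    have hε : ε = 2 := hε2.resolve_left fun e => H.not_eps_one hr hz (by rw [hN, e, mul_one])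
    subst hε
    obtain ⟨n, hn⟩ : ∃ n, n * z * n⁻¹ = z⁻¹ := by
      have hnle : ¬ N ≤ C := fun h => by
        have := Subgroup.card_le_of_le h
        rw [hN] at this
        have := Nat.card_pos (α := C)
        omega
      obtain ⟨n, hnN, hnC⟩ := SetLike.not_le_iff_exists.1 hnle
      obtain ⟨i, hi⟩ := ((isOfFinOrder_of_finite z).mem_powers_iff_mem_zpowers).2
        ((mem_normalizer_iff.1 hnN z).1 (mem_zpowers z))
      refine ⟨n, ?_⟩
      rw [← hi]
      show z ^ i = z⁻¹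
      rcases sq_eq_one_iff.1 (hno z n i hz hi.symm) with e | e
      · refine absurd (mem_centralizer_singleton_iff.2 (mul_inv_eq_iff_eq_mul.1 ?_)) hnC
        rw [← hi]
        show z ^ i = z
        conv_rhs => rw [← pow_one z]
        rw [pow_eq_pow_iff_modEq, hz, ← ZMod.natCast_eq_natCast_iff, e, Nat.cast_one]
      · rw [eq_inv_iff_mul_eq_one, ← pow_succ, ← orderOf_dvd_iff_pow_eq_one, hz, ← ZMod.natCast_eq_zero_iff,
          Nat.cast_succ, e, neg_add_cancel]
    obtain ⟨u, hu2, huz⟩ := H.exists_inverter (r := r) hn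
    have hu1 : u ≠ 1 := fun e => by
      rw [e, one_mul, inv_one, mul_one] at huz
      have h2 : z ^ 2 = 1 := by rw [pow_two]; exact mul_eq_one_iff_eq_inv.2 huz
      have := Nat.le_of_dvd (by norm_num) (hz ▸ orderOf_dvd_of_pow_eq_one h2)
      omega
    rcases H.arith_c r hr o ho 2 (by simp) a ha b hb d hd hmod with h | ⟨-, rfl, rfl, rfl⟩ | ⟨-, rfl, rfl⟩ |
      ⟨h, -⟩ | ⟨h, -⟩
    · omega
    · refine ⟨by rw [hC]; ring, ⟨u, hu2, huz⟩, fun hCM => ?_⟩
      obtain ⟨Q, hQ⟩ := (IsPGroup.of_card (n := 1) (G := ↥(zpowers z)) (p := r)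
        (by rw [Nat.card_zpowers, hz, pow_one])).exists_le_sylow
      have hNM : N ≤ M := by
        intro g hg
        obtain ⟨i, hi⟩ := ((isOfFinOrder_of_finite z).mem_powers_iff_mem_zpowers).2
          ((mem_normalizer_iff.1 hg z).1 (mem_zpowers z))
        have hi' : z ^ i = g * z * g⁻¹ := hi
        rcases sq_eq_one_iff.1 (hno z g i hz hi'.symm) with e | e
        · refine hCM (mem_centralizer_singleton_iff.2 (mul_inv_eq_iff_eq_mul.1 ?_))
          rw [← hi']
          conv_rhs => rw [← pow_one z]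
          rw [pow_eq_pow_iff_modEq, hz, ← ZMod.natCast_eq_natCast_iff, e, Nat.cast_one]
        · have hinv : g * z * g⁻¹ = z⁻¹ := by
            rw [← hi', eq_inv_iff_mul_eq_one, ← pow_succ, ← orderOf_dvd_iff_pow_eq_one, hz,
              ← ZMod.natCast_eq_zero_iff, Nat.cast_succ, e, neg_add_cancel]
          have h1 : u * g ∈ C := mem_centralizer_singleton_iff.2 (mul_inv_eq_iff_eq_mul.1 (by
            rw [show u * g * z * (u * g)⁻¹ = u * (g * z * g⁻¹) * u⁻¹ by group, hinv, ← conj_inv, huz, inv_inv]))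
          have h2 := mul_mem (inv_mem (H.Minv u hu2)) (hCM h1)
          rwa [inv_mul_cancel_left] at h2
      -- Frattini
      set zM : ↥M := ⟨z, hCM (mem_centralizer_singleton_iff.2 rfl)⟩
      obtain ⟨Q', hQ'⟩ := (IsPGroup.of_card (n := 1) (G := ↥(zpowers zM)) (p := r)
        (by rw [Nat.card_zpowers, Subgroup.orderOf_mk, hz, pow_one])).exists_le_sylow
      have hQz : (Q' : Subgroup ↥M).map M.subtype = zpowers z := by
        have hc : Nat.card Q' = r := by
          obtain ⟨m, hm, hm'⟩ : ∃ m, 10073444472 = r * m ∧ ¬ r ∣ m := by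
            rcases hr with rfl | rfl
            · exact ⟨530181288, by norm_num, by norm_num⟩
            · exact ⟨272255256, by norm_num, by norm_num⟩
          rw [Q'.card_eq_multiplicity, H.cardM, hm, Nat.factorization_mul hrf.out.ne_zero
            (fun e => hm' (by rw [e]; exact dvd_zero r)), Finsupp.coe_add, Pi.add_apply, hrf.out.factorization_self,
            Nat.factorization_eq_zero_of_not_dvd hm', pow_one]
        refine (Subgroup.eq_of_le_of_card_ge ?_ ?_).symm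
        · exact zpowers_le.2 ⟨zM, hQ' (mem_zpowers zM), rfl⟩
        · rw [Subgroup.card_map_of_injective M.subtype_injective, hc, Nat.card_zpowers, hz]
      have htop := Sylow.normalizer_sup_eq_top Q'
      rw [hQz] at htop
      have := sup_le hNM (le_refl M)
      rw [htop, top_le_iff] at this
      have hcard := congrArg (fun K : Subgroup R => Nat.card K) this
      simp only [Subgroup.card_top] at hcard
      rw [H.cardR, H.cardM] at hcard
      omega
    · -- an element of order 37 in `C(z)`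
      obtain rfl : o = 37 := by rcases ho with ⟨-, h⟩ | ⟨h, -⟩ <;> [exact h; omega]
      haveI : Fact (Nat.Prime 37) := ⟨by norm_num⟩
      haveI : Fact (Nat.Prime 2) := ⟨Nat.prime_two⟩
      exfalso
      have huC : ∀ x ∈ C, u * x * u⁻¹ ∈ C := fun x hx => by
        refine mem_centralizer_singleton_iff.2 ?_
        have h1 := (show Commute x z from mem_centralizer_singleton_iff.1 hx).map (MulAut.conj u).toMonoidHom
        simp only [MulEquiv.coe_toMonoidHom, MulAut.conj_apply, huz] at h1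
        exact (Commute.inv_right_iff.1 h1).eq
      have huN' : zpowers u ≤ normalizer (C : Set R) := zpowers_le.2 (mem_normalizer_fintype huC)
      let τu : ↥(zpowers u) →* MulAut ↥C :=
        (MulAut.congr (Subgroup.subgroupOfEquivOfLe le_normalizer)).toMonoidHom.comp
          ((MulAut.conjNormal (H := C.subgroupOf (normalizer (C : Set R)))).comp (Subgroup.inclusion huN'))
      have hτu : ∀ (g : ↥(zpowers u)) (x : ↥C), ((τu g x : ↥C) : R) = g * x * (g : R)⁻¹ := fun g x => rfl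
      letI : MulDistribMulAction ↥(zpowers u) ↥C := MulDistribMulAction.compHom _ τu
      have hV : IsPGroup 2 ↥(zpowers u) := IsPGroup.of_card (n := 1) (by
        rw [Nat.card_zpowers, pow_one, orderOf_eq_prime (by rw [pow_two]; exact hu2) hu1])
      have hodd : Odd (Nat.card (Sylow 37 ↥C)) := by
        refine Odd.of_dvd_nat ?_ ((Sylow.card_dvd_index (default : Sylow 37 ↥C)).trans (Subgroup.index_dvd_card _))
        rw [hC]
        exact ((by decide : Odd 19)).mul (((by decide : Odd 3).pow.mul (by decide : Odd 7).pow).mul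
          (by decide : Odd 37).pow)
      obtain ⟨⟨Y, hY⟩⟩ : Nonempty (MulAction.fixedPoints ↥(zpowers u) (Sylow 37 ↥C)) := by
        by_contra hne
        haveI := not_nonempty_iff.1 hne
        have hmod' := hV.card_modEq_card_fixedPoints (Sylow 37 ↥C)
        rw [Nat.card_of_isEmpty (α := ↥(MulAction.fixedPoints ↥(zpowers u) (Sylow 37 ↥C)))] at hmod'
        have := Nat.odd_iff.1 hodd
        rw [Nat.ModEq] at hmod'
        omega
      have hY37 : Nat.card Y = 37 := by
        rw [Y.card_eq_multiplicity, hC, Nat.factorization_mul (by norm_num) (by positivity), Finsupp.coe_add,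
          Pi.add_apply, Nat.factorization_eq_zero_of_not_dvd (by norm_num : ¬ 37 ∣ 19),
          Nat.factorization_mul (by positivity) (by norm_num), Finsupp.coe_add, Pi.add_apply, pow_one 37,
          Nat.Prime.factorization_self (by norm_num), Nat.factorization_eq_zero_of_not_dvd (fun h => by
            rcases (Nat.Prime.dvd_mul (by norm_num)).1 h with h | h <;>
              exact absurd (Nat.Prime.dvd_of_dvd_pow (by norm_num) h) (by norm_num)), zero_add, zero_add, pow_one]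
      set W := (Y : Subgroup ↥C).map C.subtype
      have hW37 : Nat.card W = 37 := by rw [Subgroup.card_map_of_injective C.subtype_injective]; exact hY37
      obtain ⟨⟨w, hwW⟩, hwo⟩ := exists_prime_orderOf_dvd_card' (G := ↥W) 37 (dvd_of_eq hW37.symm)
      rw [Subgroup.orderOf_mk] at hwo
      have hWz : W = zpowers w := (Subgroup.eq_of_le_of_card_ge (zpowers_le.2 hwW)
        (by rw [hW37, Nat.card_zpowers, hwo])).symm
      have huw : u * w * u⁻¹ ∈ zpowers w := by
        rw [← hWz]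
        obtain ⟨x, hx, rfl⟩ := hwW
        have h1 : (⟨u, mem_zpowers u⟩ : ↥(zpowers u)) • x ∈
            ((⟨u, mem_zpowers u⟩ : ↥(zpowers u)) • Y : Sylow 37 ↥C) := ⟨x, hx, rfl⟩
        rw [hY] at h1
        exact ⟨_, h1, hτu _ x⟩
      have huN : u ∈ normalizer ((zpowers w : Subgroup R) : Set R) := mem_normalizer_fintype fun x hx => by
        obtain ⟨i, rfl⟩ := mem_zpowers_iff.1 hx
        rw [← conj_zpow]; exact zpow_mem huw i
      obtain ⟨a', b', d', ε', hCw, hNw, hεd', hε4', ha', hb', hd', hmod'⟩ := H.count (r := 37) (o := 19)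
        (Or.inr ⟨rfl, rfl⟩) hwo
      have hzw : z ∈ centralizer ({w} : Set R) := by
        have h1 : w ∈ C := (Subgroup.map_subtype_le _) hwW
        exact mem_centralizer_singleton_iff.2 (mem_centralizer_singleton_iff.1 h1).symm
      have h19 := hz ▸ (centralizer ({w} : Set R)).orderOf_dvd_natCard hzw
      have hd1 : d' = 1 := by
        by_contra h
        rw [hCw, show d' = 0 by omega, pow_zero, mul_one] at h19
        rcases (Nat.Prime.dvd_mul (by norm_num)).1 h19 with h | h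
        · norm_num at h
        rcases (Nat.Prime.dvd_mul (by norm_num)).1 h with h | h <;>
          exact absurd (Nat.Prime.dvd_of_dvd_pow (by norm_num) h) (by norm_num)
      have hucw : u ∉ centralizer ({w} : Set R) := fun h => H.not_dvd_invol (Or.inr rfl) u hu2 hu1
        (hwo ▸ Subgroup.orderOf_dvd_natCard _
          (mem_centralizer_singleton_iff.2 (mem_centralizer_singleton_iff.1 h).symm))
      have heven : 2 ∣ ε' := by
        have h1 : 2 ∣ Nat.card ↥(normalizer ((zpowers w : Subgroup R) : Set R)) :=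
          (orderOf_eq_prime (p := 2) (by rw [pow_two]; exact hu2) hu1) ▸ Subgroup.orderOf_dvd_natCard _ huN
        rw [hNw, hCw] at h1
        refine (Nat.prime_two.dvd_mul.1 h1).resolve_left fun h2 => ?_
        exact Nat.not_even_iff_odd.2 (((by decide : Odd 37)).mul (((by decide : Odd 3).pow.mul
          (by decide : Odd 7).pow).mul (by decide : Odd 19).pow)) (even_iff_two_dvd.2 h2)
      have hε' : ε' = 2 ∨ ε' = 6 ∨ ε' = 18 := by
        have := Nat.le_of_dvd (by norm_num) hεd'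
        norm_num at hεd' this
        interval_cases ε' <;> omega
      rcases H.arith_c 37 (Or.inr rfl) 19 (Or.inr ⟨rfl, rfl⟩) ε' (by simp; omega) a' ha' b' hb' d' hd' hmod'
        with h | ⟨-, -, -, h⟩ | ⟨-, h, -⟩ | ⟨-, h⟩ | ⟨-, -, h⟩ <;> omega
    · omega
    · omega
  have hC3 : ∀ z : R, orderOf z = r → Nat.card ↥(centralizer ({z} : Set R) ⊓ M) = 3 * r := by
    intro z hz
    obtain ⟨hC, -, hnot⟩ := main z hz
    set C := centralizer ({z} : Set R)
    have hidx : (M.subgroupOf C).index = 3 := by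
      have hd : (M.subgroupOf C).index ∣ 3 := by
        rw [← H.index_M]; exact Subgroup.relIndex_dvd_index_of_normal M C
      exact ((Nat.dvd_prime Nat.prime_three).1 hd).resolve_left fun e => hnot (subgroupOf_eq_top.1 (index_eq_one.1 e))
    have h1 := (M.subgroupOf C).card_mul_index
    rw [hidx, hC] at h1
    have h2 : Nat.card ↥(C ⊓ M) = Nat.card (M.subgroupOf C) := Nat.card_congr
      { toFun := fun x => ⟨⟨x, (mem_inf.1 x.2).1⟩, (mem_inf.1 x.2).2⟩
        invFun := fun x => ⟨x.1.1, mem_inf.2 ⟨x.1.2, x.2⟩⟩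
        left_inv := fun _ => rfl
        right_inv := fun _ => rfl }
    omega
  obtain ⟨z, hz⟩ := exists_prime_orderOf_dvd_card' (G := R) r
    (by rw [H.cardR]; rcases hr with rfl | rfl <;> norm_num)
  obtain ⟨hC, ⟨u, hu2, huz⟩, hnot⟩ := main z hz
  set C := centralizer ({z} : Set R)
  have hu1 : u ≠ 1 := fun e => by
    rw [e, one_mul, inv_one, mul_one] at huz
    have h2 : z ^ 2 = 1 := by rw [pow_two]; exact mul_eq_one_iff_eq_inv.2 huz
    have := Nat.le_of_dvd (by norm_num) (hz ▸ orderOf_dvd_of_pow_eq_one h2)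
    omega
  have hzC : z ∈ C := mem_centralizer_singleton_iff.2 rfl
  have hcomm : ∀ p ∈ C, ∀ q ∈ C, Commute p q := by
    haveI : Fact (Nat.Prime 3) := ⟨Nat.prime_three⟩
    obtain ⟨Q⟩ : Nonempty (Sylow 3 ↥C) := inferInstance
    have hQ : Nat.card Q = 3 ^ 2 := by
      rw [Q.card_eq_multiplicity, hC, Nat.factorization_mul (by norm_num) hrf.out.ne_zero, Finsupp.coe_add,
        Pi.add_apply, show (9 : ℕ) = 3 ^ 2 by norm_num, Nat.Prime.factorization_pow Nat.prime_three,
        Finsupp.single_eq_same, Nat.factorization_eq_zero_of_not_dvd (fun h => by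
          have := (Nat.prime_dvd_prime_iff_eq Nat.prime_three hrf.out).1 h; omega), add_zero]
    have hQc : ∀ p ∈ (Q : Subgroup ↥C), ∀ q ∈ (Q : Subgroup ↥C), p * q = q * p := fun p hp q hq =>
      congrArg Subtype.val ((IsPGroup.isMulCommutative_of_card_eq_prime_sq hQ).is_comm.comm ⟨p, hp⟩ ⟨q, hq⟩)
    set zC : ↥C := ⟨z, hzC⟩
    have hzc : ∀ p : ↥C, zC * p = p * zC := fun p => Subtype.ext (mem_centralizer_singleton_iff.1 p.2).symm
    have htop : closure ((Q : Subgroup ↥C) ∪ {zC} : Set ↥C) = ⊤ := by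
      refine Subgroup.eq_top_of_le_card _ (Nat.le_of_dvd Nat.card_pos ?_)
      rw [hC]
      refine Nat.Coprime.mul_dvd_of_dvd_of_dvd ?_ ?_ ?_
      · exact ((hrf.out.coprime_iff_not_dvd.2 (fun h => by
          have := Nat.le_of_dvd (by norm_num) h; omega)).symm)
      · rw [show (9 : ℕ) = 3 ^ 2 by norm_num, ← hQ]
        exact Subgroup.card_dvd_of_le fun x hx => subset_closure (Or.inl hx)
      · rw [← hz, ← Subgroup.orderOf_mk z hzC]
        exact Subgroup.orderOf_dvd_natCard _ (subset_closure (Or.inr rfl))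
    intro p hp q hq
    have hc : IsMulCommutative ↥(closure ((Q : Subgroup ↥C) ∪ {zC} : Set ↥C)) :=
      Subgroup.isMulCommutative_closure (by
        rintro p (hp | rfl) q (hq | rfl)
        · exact hQc p hp q hq
        · exact (hzc p).symm
        · exact hzc q
        · rfl)
    exact congrArg (fun x : ↥(closure ((Q : Subgroup ↥C) ∪ {zC} : Set ↥C)) => ((x : ↥C) : R))
      (hc.is_comm.comm ⟨⟨p, hp⟩, htop ▸ mem_top _⟩ ⟨⟨q, hq⟩, htop ▸ mem_top _⟩)
  have hπ : ∀ x : R, QuotientGroup.mk' M x = 1 ↔ x ∈ M := fun x => QuotientGroup.eq_one_iff x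
  obtain ⟨x0, hx0, hx0M⟩ := SetLike.not_le_iff_exists.1 hnot
  set x := x0 ^ r with hx_def
  have hxC : x ∈ C := pow_mem hx0 r
  have hxM : x ∉ M := fun h => by
    have h1 : QuotientGroup.mk' M x0 = 1 := by
      refine orderOf_eq_one_iff.1 (Nat.dvd_one.1 ?_)
      have a1 : orderOf (QuotientGroup.mk' M x0) ∣ r := orderOf_dvd_of_pow_eq_one (by rw [← map_pow]; exact (hπ _).2 h)
      have a2 : orderOf (QuotientGroup.mk' M x0) ∣ 3 :=
        orderOf_dvd_of_pow_eq_one (by rw [← map_pow]; exact (hπ _).2 (H.pow_three_mem x0))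
      exact (Nat.dvd_gcd a1 a2).trans (by rcases hr with rfl | rfl <;> norm_num)
    exact hx0M ((hπ x0).1 h1)
  have hx9 : x ^ 9 = 1 := by
    rw [hx_def, ← pow_mul, mul_comm, ← hC]
    exact congrArg Subtype.val (pow_card_eq_one' (x := (⟨x0, hx0⟩ : ↥C)))
  have huC : u * x * u⁻¹ ∈ C := by
    refine mem_centralizer_singleton_iff.2 ?_
    have h1 := (show Commute x z from mem_centralizer_singleton_iff.1 hxC).map (MulAut.conj u).toMonoidHom
    simp only [MulEquiv.coe_toMonoidHom, MulAut.conj_apply, huz] at h1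
    exact (Commute.inv_right_iff.1 h1).eq
  set y := x * (u * x * u⁻¹) with hy_def
  have hcxu := hcomm x hxC _ huC
  have hyu : Commute u y := by
    refine mul_inv_eq_iff_eq_mul.1 ?_
    rw [hy_def, ← conj_mul, show u * (u * x * u⁻¹) * u⁻¹ = u * u * x * (u * u)⁻¹ by group, hu2, one_mul, inv_one,
      mul_one]
    exact hcxu.symm.eq
  have hyM : y ∉ M := fun h => by
    have h1 := (hπ y).2 h
    rw [hy_def, map_mul, map_mul, map_mul, map_inv, (hπ u).2 (H.Minv u hu2), one_mul, inv_one, mul_one, ← map_mul,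
      hπ] at h1
    have h2 := H.pow_three_mem x
    rw [pow_succ, pow_two] at h2
    exact hxM ((Subgroup.mul_mem_cancel_left M h1).1 h2)
  have hyz : r ∣ Nat.card ↥(centralizer ({y} : Set R)) := hz ▸ Subgroup.orderOf_dvd_natCard _
    (mem_centralizer_singleton_iff.2 (mem_centralizer_singleton_iff.1 (mul_mem hxC huC)).symm)
  have hy9 : y ^ 9 = 1 := by rw [hy_def, hcxu.mul_pow, conj_pow, hx9, mul_one, mul_inv_cancel, one_mul]
  -- move `u` to `t`
  obtain ⟨g, hg⟩ := isConj_iff.1 (H.one u hu2 hu1)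
  have hgu : g⁻¹ * u * g = t := by rw [← hg]; group
  have hmove : ∀ v : R, Commute u v → r ∣ Nat.card ↥(centralizer ({v} : Set R)) →
      Commute (g⁻¹ * v * g) t ∧ (g⁻¹ * v * g ∈ M ↔ v ∈ M) ∧
        r ∣ Nat.card ↥(centralizer ({g⁻¹ * v * g} : Set R)) := by
    intro v hv hd
    refine ⟨?_, ⟨fun h => ?_, fun h => ?_⟩, ?_⟩
    · rw [← hgu]
      have := hv.symm.map (MulAut.conj g⁻¹).toMonoidHom
      simpa using this
    · simpa [mul_assoc] using H.Mn.conj_mem _ h g
    · simpa using H.Mn.conj_mem _ h g⁻¹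
    · rw [show g⁻¹ * v * g = g⁻¹ * v * g⁻¹⁻¹ by rw [inv_inv], Block.card_centralizer_conj]; exact hd
  by_cases hy3 : y ^ 3 = 1
  · obtain ⟨ht', hM', hd'⟩ := hmove y hyu hyz
    refine H.not_dvd_out hr (fun h => hyM (hM'.1 h)) ht' ?_ hd'
    rw [show g⁻¹ * y * g = g⁻¹ * y * g⁻¹⁻¹ by rw [inv_inv], conj_pow, hy3, mul_one, mul_inv_cancel]
  · have hyz3 : r ∣ Nat.card ↥(centralizer ({y ^ 3} : Set R)) := hyz.trans (Subgroup.card_dvd_of_le fun s hs =>
      mem_centralizer_singleton_iff.2 ((show Commute s y from mem_centralizer_singleton_iff.1 hs).pow_right 3).eq)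
    obtain ⟨ht', hM', hd'⟩ := hmove (y ^ 3) (hyu.pow_right 3) hyz3
    refine H.not_dvd_in hr hC3 (hM'.2 (H.pow_three_mem y)) ht' ?_ hd'
    rw [show g⁻¹ * y ^ 3 * g = (MulAut.conj g⁻¹).toMonoidHom (y ^ 3) by simp,
      orderOf_injective _ (MulAut.conj g⁻¹).injective]
    exact orderOf_eq_prime (by rw [← pow_mul]; exact hy9) hy3

end Thirty

end Cfsg.Agent.Invol.JankoWard.CaseA
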