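import Cfsg.Agent.Lib.Invol.JankoWard.CaseALocal
import Cfsg.Agent.Lib.Invol.Bender.Tools
import Cfsg.Agent.Lib.Grp.Solvable

/-!
General lemmas for case A, `r = 19, 37`: the normal complement of a centraliser with one involution, solvable groups
of order dividing `3^10 · 7 · 13 · 19 · 37`, elements of order three in the coset of an automorphism of an elementary
abelian group of order 27, the automiser of a subgroup of prime order.
-/

set_option autoImplicit false
set_option linter.unusedSectionVars false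
set_option linter.style.haveILetI false

namespace Cfsg.Agent.Invol.JankoWard.CaseA

open Subgroup

universe u

variable {R : Type u} [Group R] [Finite R]

/-- A subgroup with an involution `t` such that no other involution of it commutes with `t` has a normal subgroup of odd
order containing its elements of odd order. -/
theorem cent_compl (C : Subgroup R) {t : R} (htC : t ∈ C) (ht : t * t = 1) (ht1 : t ≠ 1)
    (hsq : ∀ s : R, (∃ k, s ^ 2 ^ k = 1) → s * s = 1)
    (honly : ∀ s ∈ C, s * s = 1 → s ≠ 1 → Commute s t → s = t) :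
    ∃ K : Subgroup R, K ≤ C ∧ Odd (Nat.card K) ∧ ∀ s ∈ C, Odd (orderOf s) → s ∈ K := by
  classical
  haveI : Fact (Nat.Prime 2) := ⟨Nat.prime_two⟩
  set tC : ↥C := ⟨t, htC⟩
  have htC1 : tC ≠ 1 := fun e => ht1 (congrArg Subtype.val e)
  have htp : IsPGroup 2 ↥(zpowers tC) := IsPGroup.of_card (n := 1) (by
    rw [Nat.card_zpowers, pow_one]
    exact orderOf_eq_prime (Subtype.ext (by rw [Subgroup.coe_pow, pow_two]; exact ht)) htC1)
  obtain ⟨P, hP⟩ := htp.exists_le_sylow
  have htP : tC ∈ (P : Subgroup ↥C) := hP (mem_zpowers tC)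
  have hP2 : ∀ s ∈ (P : Subgroup ↥C), s = 1 ∨ s = tC := by
    have hinv : ∀ s ∈ (P : Subgroup ↥C), Commute s tC → s = 1 ∨ s = tC := by
      intro s hs hst
      by_cases hs1 : s = 1
      · exact Or.inl hs1
      obtain ⟨k, hk⟩ := P.isPGroup' ⟨s, hs⟩
      have hs2 := hsq (s : R) ⟨k, congrArg (fun z : ↥(P : Subgroup ↥C) => ((z : ↥C) : R)) hk⟩
      exact Or.inr (Subtype.ext (honly _ s.2 hs2 (fun e => hs1 (Subtype.ext e)) (congrArg Subtype.val hst.eq)))
    haveI : Nontrivial ↥(P : Subgroup ↥C) := ⟨⟨⟨tC, htP⟩, 1, fun e => htC1 (congrArg Subtype.val e)⟩⟩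
    haveI := P.isPGroup'.center_nontrivial
    obtain ⟨⟨c, hc⟩, hc1⟩ := exists_ne (1 : ↥(center ↥(P : Subgroup ↥C)))
    have hcc : ∀ s ∈ (P : Subgroup ↥C), Commute s (c : ↥C) := fun s hs =>
      congrArg Subtype.val (mem_center_iff.1 hc ⟨s, hs⟩)
    intro s hs
    rcases hinv c c.2 (hcc tC htP).symm with e | e
    · exact absurd (Subtype.ext (Subtype.ext e)) hc1
    · exact hinv s hs (e ▸ hcc s hs)
  have hnc : normalizer ((P : Subgroup ↥C) : Set ↥C) ≤ centralizer ((P : Subgroup ↥C) : Set ↥C) := by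
    intro n hn
    refine mem_centralizer_iff.2 fun s hs => ?_
    rcases hP2 s hs with rfl | rfl
    · rw [one_mul, mul_one]
    · rcases hP2 _ ((mem_normalizer_iff.1 hn tC).1 htP) with e | e
      · exact absurd (conj_eq_one_iff.1 e) htC1
      · exact (mul_inv_eq_iff_eq_mul.1 e).symm
  set V := MonoidHom.transferSylow P hnc
  refine ⟨V.ker.map C.subtype, Subgroup.map_subtype_le _, ?_, fun s hs ⟨m, hm⟩ => ⟨⟨s, hs⟩, ?_, rfl⟩⟩
  · rw [Subgroup.card_map_of_injective C.subtype_injective, ← Nat.not_even_iff_odd, even_iff_two_dvd]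
    exact MonoidHom.not_dvd_card_ker_transferSylow P hnc
  · rw [SetLike.mem_coe, MonoidHom.mem_ker]
    have h2 : V ⟨s, hs⟩ ^ 2 = 1 := Subtype.ext (by
      rw [Subgroup.coe_pow, pow_two]
      rcases hP2 _ (V ⟨s, hs⟩).2 with e | e <;> rw [e]
      · exact one_mul 1
      · exact Subtype.ext ht)
    have h3 : V ⟨s, hs⟩ ^ (2 * m + 1) = 1 := by
      rw [← map_pow, show (⟨s, hs⟩ : ↥C) ^ (2 * m + 1) = 1 from Subtype.ext (by
        rw [Subgroup.coe_pow, ← hm, pow_orderOf_eq_one]; rfl), map_one]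
    rwa [pow_succ, pow_mul, h2, one_pow, one_mul] at h3

theorem sylow_arith {r p k : ℕ} (hr : r = 19 ∨ r = 37) (hp : p.Prime) (hd : p ^ k ∣ 3 ^ 10 * 7 * 13 * 19 * 37)
    {n : ℕ} (hn : n ∣ p ^ k) (h1 : n ≡ 1 [MOD r]) : n = 1 := by
  obtain ⟨i, hi, rfl⟩ := (Nat.dvd_prime_pow hp).1 hn
  have hd' : p ^ i ∣ 3 ^ 10 * 7 * 13 * 19 * 37 := (pow_dvd_pow p hi).trans hd
  by_contra h
  have hi0 : i ≠ 0 := fun e => h (by rw [e, pow_zero])
  have hp' := (dvd_pow_self p hi0).trans hd'
  have hcases : p = 3 ∨ p = 7 ∨ p = 13 ∨ p = 19 ∨ p = 37 := by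
    simp only [hp.dvd_mul] at hp'
    rcases hp' with (((h | h) | h) | h) | h
    · exact Or.inl ((Nat.prime_dvd_prime_iff_eq hp Nat.prime_three).1 (hp.dvd_of_dvd_pow h))
    · exact Or.inr (Or.inl ((Nat.prime_dvd_prime_iff_eq hp (by norm_num)).1 h))
    · exact Or.inr (Or.inr (Or.inl ((Nat.prime_dvd_prime_iff_eq hp (by norm_num)).1 h)))
    · exact Or.inr (Or.inr (Or.inr (Or.inl ((Nat.prime_dvd_prime_iff_eq hp (by norm_num)).1 h))))
    · exact Or.inr (Or.inr (Or.inr (Or.inr ((Nat.prime_dvd_prime_iff_eq hp (by norm_num)).1 h))))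
  have key : ∀ q e : ℕ, (q = 3 ∧ e = 10) ∨ ((q = 7 ∨ q = 13 ∨ q = 19 ∨ q = 37) ∧ e = 1) → p = q → i ≤ e →
      False := by
    intro q e hq hpq hie
    rw [hpq] at h1
    rcases hq with ⟨rfl, rfl⟩ | ⟨rfl | rfl | rfl | rfl, rfl⟩ <;> rcases hr with rfl | rfl <;>
      interval_cases i <;> simp_all [Nat.ModEq]
  rcases hcases with e | e | e | e | e <;> rw [e] at hd'
  · refine key 3 10 (Or.inl ⟨rfl, rfl⟩) e ?_
    by_contra hle
    exact absurd ((pow_dvd_pow 3 (show 11 ≤ i by omega)).trans hd') (by norm_num)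
  all_goals
    refine key _ 1 (Or.inr ⟨by omega, rfl⟩) e ?_
    by_contra hle
    exact absurd ((pow_dvd_pow _ (show 2 ≤ i by omega)).trans hd') (by norm_num)

/-- In a solvable group of order dividing `3^10 · 7 · 13 · 19 · 37` a subgroup of order 19 or 37 is normal. -/
theorem exists_normal_r : ∀ (n : ℕ) (O : Type u) [Group O] [Finite O], Nat.card O = n → Group.IsSolvable O →
    n ∣ 3 ^ 10 * 7 * 13 * 19 * 37 → ∀ r : ℕ, (r = 19 ∨ r = 37) → r ∣ n →
      ∃ Z : Subgroup O, Z.Normal ∧ Nat.card Z = r := by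
  intro n
  induction n using Nat.strong_induction_on with
  | _ n ih =>
    intro O _ _ hn hs hd r hr hrn
    have hrp : r.Prime := by rcases hr with rfl | rfl <;> norm_num
    haveI : Fact r.Prime := ⟨hrp⟩
    haveI := hs
    have htop : (⊤ : Subgroup O) ≠ ⊥ := fun e => by
      have := congrArg (fun H : Subgroup O => Nat.card H) e
      simp only [Subgroup.card_top, Subgroup.card_bot, hn] at this
      exact hrp.not_dvd_one (this ▸ hrn)
    obtain ⟨A, hA, hA1, -, hAmin⟩ := Grp.exists_minimal_normal_le htop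
    haveI := hA
    obtain ⟨p, hp, hpA⟩ := Grp.minimal_normal_solvable_isPGroup (inferInstance : Group.IsSolvable A) hA1 hAmin
    haveI : Fact p.Prime := ⟨hp⟩
    obtain ⟨k, hk⟩ := IsPGroup.iff_card.1 hpA
    have hkd : p ^ k ∣ 3 ^ 10 * 7 * 13 * 19 * 37 := hk ▸ ((Subgroup.card_subgroup_dvd_card A).trans (hn ▸ hd))
    have hk0 : k ≠ 0 := fun e => hA1 (Subgroup.card_eq_one.1 (by rw [hk, e, pow_zero]))
    by_cases hpr : p = r
    · refine ⟨A, hA, ?_⟩
      rw [hk, hpr]
      by_contra h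
      have h2 : 2 ≤ k := by
        rcases Nat.lt_or_ge k 2 with hlt | hge
        · exact absurd (by rw [show k = 1 by omega, pow_one]) h
        · exact hge
      rw [hpr] at hkd
      have := (pow_dvd_pow r h2).trans hkd
      rcases hr with rfl | rfl <;> norm_num at this
    have hcard := Subgroup.card_eq_card_quotient_mul_card_subgroup A
    rw [hn] at hcard
    have hrA : ¬ r ∣ Nat.card A := fun h => hpr ((Nat.prime_dvd_prime_iff_eq hrp hp).1
      (hrp.dvd_of_dvd_pow (hk ▸ h))).symm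
    have hrQ : r ∣ Nat.card (O ⧸ A) := (hrp.dvd_mul.1 (hcard ▸ hrn)).resolve_right hrA
    haveI : Group.IsSolvable (O ⧸ A) :=
      Group.isSolvable_of_surjective (f := QuotientGroup.mk' A) (QuotientGroup.mk'_surjective A)
    obtain ⟨Zb, hZb, hZbc⟩ := ih _ (hn ▸ Grp.card_quotient_lt hA1) (O ⧸ A) rfl inferInstance
      ((Dvd.intro _ hcard.symm).trans hd) r hr hrQ
    haveI := hZb
    set B := Zb.comap (QuotientGroup.mk' A)
    haveI hBn : B.Normal := Subgroup.Normal.comap hZb _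
    have hBc : Nat.card B = r * p ^ k := by
      have hle : A ≤ B := fun x hx => by
        rw [mem_comap, show QuotientGroup.mk' A x = 1 from (QuotientGroup.eq_one_iff x).2 hx]; exact one_mem _
      have h1 := Grp.SameOrder.card_map_mk A B
      rw [map_comap_eq_self_of_surjective (QuotientGroup.mk'_surjective A), inf_of_le_left hle, hZbc, hk] at h1
      exact h1.symm
    obtain ⟨Q⟩ : Nonempty (Sylow r ↥B) := inferInstance
    have hQ : Nat.card Q = r := by
      rw [Q.card_eq_multiplicity, hBc, Nat.factorization_mul hrp.ne_zero (pow_ne_zero _ hp.ne_zero),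
        Finsupp.coe_add, Pi.add_apply, hrp.factorization_self, Nat.factorization_eq_zero_of_not_dvd
          (fun h => hpr ((Nat.prime_dvd_prime_iff_eq hrp hp).1 (hrp.dvd_of_dvd_pow h)).symm), pow_one]
    have hidx : (Q : Subgroup ↥B).index = p ^ k := by
      have := (Q : Subgroup ↥B).card_mul_index
      rw [hBc, hQ] at this
      exact Nat.eq_of_mul_eq_mul_left hrp.pos this
    have h1 : Nat.card (Sylow r ↥B) = 1 :=
      sylow_arith hr hp hkd (hidx ▸ Q.card_dvd_index) (card_sylow_modEq_one r ↥B)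
    haveI : Subsingleton (Sylow r ↥B) := (Nat.card_eq_one_iff_unique.1 h1).1
    haveI : (Q : Subgroup ↥B).Characteristic := Sylow.characteristic_of_subsingleton Q
    exact ⟨(Q : Subgroup ↥B).map B.subtype, ConjAct.normal_of_characteristic_of_normal,
      by rw [Subgroup.card_map_of_injective B.subtype_injective]; exact hQ⟩

theorem div_step {A : Type*} [CommGroup A] {a b c : A} (h : a * b * c = 1) (h3 : b ^ 3 = 1) :
    a / b / (b / c) = 1 := by
  have hb : b * b = b⁻¹ := eq_inv_of_mul_eq_one_left (by rw [← h3, pow_succ, pow_two])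
  rw [show a / b / (b / c) = a * c / (b * b) by simp only [div_eq_mul_inv, mul_inv_rev, inv_inv]; ac_rfl,
    hb, div_inv_eq_mul, mul_right_comm]
  exact h

/-- Elements of order three in the coset of `τ` over an elementary abelian group of order 27 on which `τ` has at most
three fixed points are conjugate to `τ`. -/
theorem conj_coset {U : Subgroup R} {τ : R} (hU : Nat.card U = 27) (hc : ∀ x ∈ U, ∀ y ∈ U, Commute x y)
    (h3 : ∀ x ∈ U, x ^ 3 = 1) (hτ : τ ^ 3 = 1) (hn : ∀ x ∈ U, τ * x * τ⁻¹ ∈ U)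
    (hfix : Nat.card ↥(U ⊓ centralizer ({τ} : Set R)) ≤ 3) {u : R} (hu : u ∈ U) (hu3 : (u * τ) ^ 3 = 1) :
    ∃ v ∈ U, v * τ * v⁻¹ = u * τ := by
  haveI : IsMulCommutative ↥U := ⟨⟨fun x y => Subtype.ext (hc x x.2 y y.2).eq⟩⟩
  letI : CommGroup ↥U := { (inferInstance : Group ↥U) with mul_comm := mul_comm' }
  let α : ↥U →* ↥U := MonoidHom.mk' (fun x => ⟨τ * x * τ⁻¹, hn x x.2⟩) fun x y => Subtype.ext (by
    show τ * ((x : R) * y) * τ⁻¹ = τ * x * τ⁻¹ * (τ * y * τ⁻¹)
    group)
  have hα : ∀ x : ↥U, ((α x : ↥U) : R) = τ * x * τ⁻¹ := fun x => rfl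
  have hα3 : ∀ x, α (α (α x)) = x := fun x => Subtype.ext (by
    rw [hα, hα, hα, show τ * (τ * (τ * (x : R) * τ⁻¹) * τ⁻¹) * τ⁻¹ = τ * τ * τ * x * (τ * τ * τ)⁻¹ by group,
      show τ * τ * τ = 1 by rw [← hτ, pow_succ, pow_two], one_mul, inv_one, mul_one])
  let D : ↥U →* ↥U := MonoidHom.id ↥U / α
  let N : ↥U →* ↥U := MonoidHom.id ↥U * α * α.comp α
  have hD : ∀ x, D x = x / α x := fun x => rfl
  have hN : ∀ x, N x = x * α x * α (α x) := fun x => rfl
  have hND : D.range ≤ N.ker := by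
    rintro _ ⟨x, rfl⟩
    rw [MonoidHom.mem_ker, hN, hD, map_div, map_div, hα3]
    simp only [div_eq_mul_inv]
    rw [show x * (α x)⁻¹ * (α x * (α (α x))⁻¹) * (α (α x) * x⁻¹) = 1 by group]
  have hk : Nat.card D.ker ≤ 3 := by
    refine le_trans ?_ hfix
    refine Nat.card_le_card_of_injective
      (fun x => ⟨((x : ↥U) : R), mem_inf.2 ⟨(x : ↥U).2, mem_centralizer_singleton_iff.2 ?_⟩⟩) ?_
    · have h1 := congrArg Subtype.val (div_eq_one.1 ((hD x).symm.trans (MonoidHom.mem_ker.1 x.2)))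
      rw [hα] at h1
      exact (mul_inv_eq_iff_eq_mul.1 h1.symm).symm
    · intro x y h
      exact Subtype.ext (Subtype.ext (congrArg (fun z : ↥(U ⊓ centralizer ({τ} : Set R)) => (z : R)) h))
  have hprod := D.ker.card_mul_index
  rw [Subgroup.index_ker, hU] at hprod
  have hr9 : 9 ≤ Nat.card D.range := by nlinarith [Nat.card_pos (α := D.range)]
  have hNtop : N.ker ≠ ⊤ := fun e => by
    have hle : D.range ≤ D.ker := by
      rintro _ ⟨x, rfl⟩
      rw [MonoidHom.mem_ker]
      have h1 : x * α x * α (α x) = 1 := (hN x).symm.trans (MonoidHom.mem_ker.1 (e ▸ mem_top x))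
      rw [hD, hD, map_div]
      have h2 : (α x) ^ 3 = 1 := Subtype.ext (h3 _ (α x).2)
      exact div_step h1 h2
    have := Subgroup.card_le_of_le hle
    omega
  have hN9 : Nat.card N.ker ≤ 9 := by
    have hd := N.ker.card_subgroup_dvd_card
    rw [hU] at hd
    obtain ⟨j, hj, e⟩ := (Nat.dvd_prime_pow Nat.prime_three (m := 3)).1 hd
    have : j ≠ 3 := fun h => hNtop (Subgroup.eq_top_of_card_eq _ (by rw [hU, e, h]; norm_num))
    rw [e]
    exact (Nat.pow_le_pow_right (by norm_num) (show j ≤ 2 by omega)).trans (by norm_num)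
  have heq := Subgroup.eq_of_le_of_card_ge hND (hN9.trans hr9)
  have huN : (⟨u, hu⟩ : ↥U) ∈ N.ker := by
    rw [MonoidHom.mem_ker, hN]
    refine Subtype.ext ?_
    show u * (τ * u * τ⁻¹) * (τ * (τ * u * τ⁻¹) * τ⁻¹) = 1
    rw [show u * (τ * u * τ⁻¹) * (τ * (τ * u * τ⁻¹) * τ⁻¹) = (u * τ) ^ 3 * (τ ^ 3)⁻¹ by
      simp only [pow_succ, pow_zero, one_mul]; group, hu3, hτ, inv_one, one_mul]
  obtain ⟨v, hv⟩ := heq.ge huN
  refine ⟨v, v.2, ?_⟩
  have h1 := congrArg Subtype.val hv
  rw [hD] at h1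
  rw [div_eq_mul_inv, Subgroup.coe_mul, InvMemClass.coe_inv, hα] at h1
  show (v : R) * τ * (v : R)⁻¹ = u * τ
  rw [← show _ = u from h1]
  group

/-- The automiser of a subgroup of prime order. -/
theorem card_nor {s : ℕ} [hs : Fact s.Prime] {z : R} (hz : orderOf z = s) :
    ∃ ε, Nat.card ↥(normalizer ((zpowers z : Subgroup R) : Set R)) = Nat.card ↥(centralizer ({z} : Set R)) * ε ∧
      ε ∣ s - 1 ∧ ((∀ x : R, (∃ k, x ^ 2 ^ k = 1) → x * x = 1) → ¬ 4 ∣ ε) := by
  classical
  set Z := zpowers z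
  set f := Subgroup.normalizerMonoidHom Z
  have hcent : centralizer ((Z : Subgroup R) : Set R) = centralizer ({z} : Set R) := by
    show centralizer ((zpowers z : Subgroup R) : Set R) = _
    rw [zpowers_eq_closure, centralizer_closure]
  have hker : Nat.card f.ker = Nat.card ↥(centralizer ({z} : Set R)) := by
    rw [Subgroup.normalizerMonoidHom_ker, hcent]
    exact Nat.card_congr (subgroupOfEquivOfLe (hcent ▸ centralizer_le_normalizer _)).toEquiv
  have hZc : Nat.card Z = s := by rw [Nat.card_zpowers, hz]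
  let e := IsCyclic.mulAutMulEquiv ↥Z
  have haut : Nat.card (MulAut ↥Z) = s - 1 := by
    rw [Nat.card_congr e.toEquiv, hZc, Nat.card_units, Nat.card_zmod]
  haveI : IsCyclic (MulAut ↥Z) := by
    have : IsCyclic (ZMod (Nat.card Z))ˣ := by rw [hZc]; infer_instance
    exact isCyclic_of_surjective e.symm.toMonoidHom e.symm.surjective
  refine ⟨Nat.card f.range, ?_, haut ▸ f.range.card_subgroup_dvd_card, fun hsq h4 => ?_⟩
  · rw [← hker, ← Subgroup.index_ker, f.ker.card_mul_index]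
  · obtain ⟨g, hg⟩ := IsCyclic.exists_generator (α := ↥f.range)
    have hgo := orderOf_eq_card_of_forall_mem_zpowers hg
    obtain ⟨n, hn⟩ := g.2
    obtain ⟨k, o, ho, hno⟩ := Nat.exists_eq_two_pow_mul_odd (orderOf_pos n).ne'
    have hn2 : (n ^ o) * (n ^ o) = 1 := Subtype.ext (hsq _ ⟨k, by
      rw [← Subgroup.coe_pow, ← pow_mul, mul_comm, ← hno, pow_orderOf_eq_one, OneMemClass.coe_one]⟩)
    have hg2 : g ^ (o * 2) = 1 := Subtype.ext (by
      rw [Subgroup.coe_pow, ← hn, pow_mul, pow_two, ← map_pow, ← map_mul, hn2, map_one]; rfl)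
    have h1 := (hgo ▸ h4).trans (orderOf_dvd_of_pow_eq_one hg2)
    obtain ⟨j, rfl⟩ := ho
    omega

end Cfsg.Agent.Invol.JankoWard.CaseA
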