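import Cfsg.Agent.Lib.Invol.AbelTwo.PslFacts
import Cfsg.Agent.Lib.Classical.SLNormal
import Cfsg.Agent.Lib.Invol.JankoWard.CaseDModule

/-!
Facts on `L2(27)` for case D of the field part of the Janko–Thompson–Ward theorem: order,
simplicity, centralizers of elements of order three, four-groups, and what follows from them
by counting: the normalizer of a Sylow 3-subgroup and the inversion of elements of order 13.
-/

set_option autoImplicit false
set_option linter.unusedSectionVars false
set_option linter.style.haveILetI false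

namespace Cfsg.Agent.Invol.JankoWard.CaseD

open Subgroup

universe u

/-- The properties of `L2(27)` used below. -/
structure L27 (X : Type u) [Group X] : Prop where
  card : Nat.card X = 9828
  simple : IsSimpleGroup X
  cent_three : ∀ x : X, x ^ 3 = 1 → x ≠ 1 → Nat.card (centralizer ({x} : Set X)) = 27 ∧
    ∀ a ∈ centralizer ({x} : Set X), a ^ 3 = 1 ∧ ∀ b ∈ centralizer ({x} : Set X), Commute a b
  cent_thirteen : ∀ y : X, orderOf y = 13 → Nat.card (centralizer ({y} : Set X)) = 13
  no_four : ∀ g : X, orderOf g ≠ 4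
  four : ∀ V : Subgroup X, IsKleinFour V → (∀ g : X, (∀ v ∈ V, Commute g v) → g ∈ V) ∧
    Nat.card (normalizer (V : Set X)) = 12

section Psl

variable {F : Type} [Field F] [Fintype F]

local notation "PSL₂" => Matrix.ProjectiveSpecialLinearGroup (Fin 2) F

theorem l27_psl (hF : Fintype.card F = 27) : L27 PSL₂ := by
  classical
  haveI : Fact (Nat.Prime 3) := ⟨Nat.prime_three⟩
  haveI : CharP F 3 := charP_of_card_eq_prime_pow (p := 3) (f := 3) (by rw [hF]; norm_num)
  have hodd : Odd (Fintype.card F) := ⟨13, by omega⟩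
  have hd : Cfsg.Agent.Dickson.del F = 2 := by
    rcases Cfsg.Agent.Dickson.del_cases F with ⟨-, he⟩ | ⟨hd, -⟩
    · exact absurd he (Nat.not_even_iff_odd.mpr hodd)
    · exact hd
  refine ⟨?_, Classical.PSL_isSimple le_rfl fun _ => by rw [hF]; norm_num, fun x hx hx1 => ?_,
    fun y hy => ?_, fun g hg => ?_, fun V hV => ⟨fun g hg => AbelTwo.psl_centralizer_four hodd hV hg, ?_⟩⟩
  · have h := Cfsg.Agent.Dickson.card_psl (F := F)
    rw [hF, hd] at h
    omega
  · set D := Dickson.pslData (F := F) 3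
    have hc : centralizer ({x} : Set PSL₂) = D.T x :=
      Dickson.centralizer_eq_tor 3 hx1 (Or.inl hx)
    rw [hc]
    refine ⟨(Dickson.card_tor_uni 3 hx1 hx).trans hF, fun a ha => ⟨D.uni_exp hx1 hx ha, fun b hb =>
      D.comm hx1 ha hb⟩⟩
  · have hy1 : y ≠ 1 := fun e => by rw [e, orderOf_one] at hy; omega
    have hyp : y ^ 3 ≠ 1 := fun e => by
      have := orderOf_dvd_of_pow_eq_one e; rw [hy] at this; norm_num at this
    have hy2 : y * y ≠ 1 := fun e => by
      have := orderOf_dvd_of_pow_eq_one (x := y) (n := 2) (by rw [pow_two]; exact e)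
      rw [hy] at this; norm_num at this
    rw [Dickson.centralizer_eq_tor 3 hy1 (Or.inr hy2)]
    have hd13 : orderOf y ∣ Nat.card (Cfsg.Agent.Dickson.tor y) :=
      Subgroup.orderOf_dvd_natCard _ ((Dickson.pslData (F := F) 3).self y)
    rw [hy] at hd13
    rcases Dickson.card_tor_semi 3 hy1 hyp with e | e
    · rw [e, hF, hd]
    · rw [e, hF, hd] at hd13; norm_num at hd13
  · have := (Dickson.mod_eight_of_order_four 3 hodd hg); omega
  · obtain ⟨a, b, h, rfl⟩ := Cfsg.Agent.Dickson.exists_quat_of_isKleinFour hodd hV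
    exact (Dickson.card_normalizer_klein 3 hodd h).2 (by rw [hF]; norm_num)

end Psl

variable {X : Type u} [Group X]

theorem L27.of_equiv {Y : Type*} [Group Y] (H : L27 Y) (e : X ≃* Y) : L27 X where
  card := (Nat.card_congr e.toEquiv).trans H.card
  simple := by
    haveI := H.simple
    haveI : Nontrivial X := e.toEquiv.nontrivial
    exact IsSimpleGroup.isSimpleGroup_of_surjective e.symm.toMonoidHom e.symm.surjective
  cent_three := fun x hx hx1 => by
    have hc : centralizer ({x} : Set X) = (centralizer ({e x} : Set Y)).comap e.toMonoidHom := by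
      ext a
      simp only [Subgroup.mem_comap, mem_centralizer_singleton_iff, MulEquiv.coe_toMonoidHom]
      rw [← map_mul, ← map_mul, e.apply_eq_iff_eq]
    obtain ⟨h27, hab⟩ := H.cent_three (e x) (by rw [← map_pow, hx, map_one])
      (fun h => hx1 (e.map_eq_one_iff.1 h))
    rw [hc]
    refine ⟨?_, fun a ha => ⟨e.injective (by rw [map_pow, (hab (e a) ha).1, map_one]), fun b hb =>
      e.injective (by rw [map_mul, map_mul]; exact (hab (e a) ha).2 (e b) hb)⟩⟩
    rw [← h27, Subgroup.comap_equiv_eq_map_symm']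
    exact Nat.card_congr (Subgroup.equivMapOfInjective _ _ e.symm.injective).symm.toEquiv
  cent_thirteen := fun y hy => by
    have hc : centralizer ({y} : Set X) = (centralizer ({e y} : Set Y)).comap e.toMonoidHom := by
      ext a
      simp only [Subgroup.mem_comap, mem_centralizer_singleton_iff, MulEquiv.coe_toMonoidHom]
      rw [← map_mul, ← map_mul, e.apply_eq_iff_eq]
    rw [hc, ← H.cent_thirteen (e y) (by rw [e.orderOf_eq, hy]), Subgroup.comap_equiv_eq_map_symm']
    exact Nat.card_congr (Subgroup.equivMapOfInjective _ _ e.symm.injective).symm.toEquiv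
  no_four := fun g hg => H.no_four (e g) (by rw [e.orderOf_eq, hg])
  four := fun V hV => by
    haveI := hV
    set W := V.map e.toMonoidHom with hW
    have eV : ↥V ≃* ↥W := Subgroup.equivMapOfInjective V e.toMonoidHom e.injective
    have hWK : IsKleinFour W := ⟨(Nat.card_congr eV.symm.toEquiv).trans IsKleinFour.card_four,
      (Monoid.exponent_eq_of_mulEquiv eV.symm).trans IsKleinFour.exponent_two⟩
    obtain ⟨hcen, hnor⟩ := H.four W hWK
    refine ⟨fun g hg => ?_, ?_⟩
    · obtain ⟨v, hv, hve⟩ := hcen (e g) (by rintro _ ⟨v, hv, rfl⟩; exact (hg v hv).map e)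
      rwa [← e.injective hve]
    · rw [← hnor, hW, ← Subgroup.map_equiv_normalizer_eq]
      exact Nat.card_congr (Subgroup.equivMapOfInjective _ _ e.injective).toEquiv

/-- A subgroup of order `27` in `L2(27)`: the centralizer of each of its nontrivial elements. -/
theorem L27.eq_centralizer [Finite X] (H : L27 X) {U : Subgroup X} (hU : Nat.card U = 27) {x : X}
    (hx : x ∈ U) (hx1 : x ≠ 1) : U = centralizer ({x} : Set X) ∧ x ^ 3 = 1 := by
  haveI : Fact (Nat.Prime 3) := ⟨Nat.prime_three⟩
  have hU3 : IsPGroup 3 U := IsPGroup.of_card (n := 3) (by rw [hU]; norm_num)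
  haveI : Nontrivial U := ⟨⟨⟨x, hx⟩, 1, fun e => hx1 (congrArg Subtype.val e)⟩⟩
  haveI : Nontrivial (Subgroup.center U) := hU3.center_nontrivial
  obtain ⟨c, hc, hco⟩ : ∃ c : U, c ∈ Subgroup.center U ∧ orderOf c = 3 := by
    obtain ⟨n, hn⟩ := IsPGroup.iff_card.1 (hU3.to_subgroup (Subgroup.center U))
    have hne : n ≠ 0 := fun e => by
      rw [e, pow_zero, Subgroup.card_eq_one] at hn
      exact (Subgroup.nontrivial_iff_ne_bot _).1 inferInstance hn
    obtain ⟨c, hc⟩ := exists_prime_orderOf_dvd_card' (G := Subgroup.center U) 3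
      (by rw [hn]; exact dvd_pow_self 3 hne)
    exact ⟨c, c.2, by rw [← hc, Subgroup.orderOf_coe]⟩
  have hc3 : (c : X) ^ 3 = 1 := by
    rw [← SubmonoidClass.coe_pow, ← hco, pow_orderOf_eq_one]; rfl
  have hc1 : (c : X) ≠ 1 := fun e => by
    rw [show c = 1 from Subtype.ext e, orderOf_one] at hco
    omega
  obtain ⟨h27, hab⟩ := H.cent_three _ hc3 hc1
  have hUc : U ≤ centralizer ({(c : X)} : Set X) := fun v hv => mem_centralizer_singleton_iff.2
    (congrArg Subtype.val (Subgroup.mem_center_iff.1 hc ⟨v, hv⟩))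
  have hUeq : U = centralizer ({(c : X)} : Set X) :=
    Subgroup.eq_of_le_of_card_ge hUc (by rw [h27, hU])
  have hx3 : x ^ 3 = 1 := (hab x (hUc hx)).1
  refine ⟨Subgroup.eq_of_le_of_card_ge (fun v hv => mem_centralizer_singleton_iff.2
    ((hab v (hUc hv)).2 x (hUc hx)).eq) ?_, hx3⟩
  rw [(H.cent_three x hx3 hx1).1, hU]

theorem L27.card_sylow_three [Finite X] (H : L27 X) (U : Sylow 3 X) :
    Nat.card (U : Subgroup X) = 27 := by
  haveI : Fact (Nat.Prime 3) := ⟨Nat.prime_three⟩
  rw [U.card_eq_multiplicity, H.card, show (9828 : ℕ) = 3 ^ 3 * 364 by norm_num,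
    Nat.factorization_mul (by norm_num) (by norm_num), Finsupp.add_apply,
    Nat.prime_three.factorization_pow, Finsupp.single_eq_same,
    Nat.factorization_eq_zero_of_not_dvd (by norm_num : ¬ (3 ∣ 364))]
  norm_num

/-- Two Sylow `3`-subgroups of `L2(27)` with a common nontrivial element are equal. -/
theorem L27.sylow_eq [Finite X] (H : L27 X) {U U' : Sylow 3 X} {x : X} (hx : x ∈ (U : Subgroup X))
    (hx' : x ∈ (U' : Subgroup X)) (hx1 : x ≠ 1) : U = U' :=
  Sylow.ext ((H.eq_centralizer (H.card_sylow_three U) hx hx1).1.trans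
    (H.eq_centralizer (H.card_sylow_three U') hx' hx1).1.symm)

/-- There are `28` Sylow `3`-subgroups, with normalizers of order `351`. -/
theorem L27.card_normalizer_sylow [Finite X] (H : L27 X) (U : Sylow 3 X) :
    Nat.card (Sylow 3 X) = 28 ∧ Nat.card (normalizer ((U : Subgroup X) : Set X)) = 351 := by
  haveI : Fact (Nat.Prime 3) := ⟨Nat.prime_three⟩
  haveI := H.simple
  have hdvd : Nat.card (Sylow 3 X) ∣ 364 := by
    have h := U.card_dvd_index
    have hi := (U : Subgroup X).card_mul_index
    rw [H.card_sylow_three U, H.card] at hi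
    rwa [show (U : Subgroup X).index = 364 by omega] at h
  -- the other Sylow subgroups fall into orbits of length `27` under `U`
  have hmod : Nat.card (Sylow 3 X) ≡ 1 [MOD 27] := by
    classical
    haveI : Fintype (Sylow 3 X) := Fintype.ofFinite _
    let O := {Q : Sylow 3 X // Q ≠ U}
    letI : MulAction (U : Subgroup X) O :=
      { smul := fun g Q => ⟨(g : X) • Q.1, fun e => Q.2 (by
          have h := congrArg (fun R => ((g : X))⁻¹ • R) e
          simp only [inv_smul_smul] at h
          rw [h, Sylow.smul_eq_iff_mem_normalizer]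
          exact inv_mem (le_normalizer g.2))⟩
        one_smul := fun Q => Subtype.ext (one_smul X Q.1)
        mul_smul := fun a b Q => Subtype.ext (mul_smul (a : X) (b : X) Q.1) }
    have hdvd := card_dvd_of_free (A := (U : Subgroup X)) (X := O) fun Q => by
      rw [Subgroup.eq_bot_iff_forall]
      rintro ⟨g, hg⟩ hgQ
      by_contra hg1
      have h1 : g • Q.1 = Q.1 := congrArg Subtype.val (MulAction.mem_stabilizer_iff.1 hgQ)
      have hgN : g ∈ normalizer ((Q.1 : Subgroup X) : Set X) := Sylow.smul_eq_iff_mem_normalizer.1 h1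
      have hz : IsPGroup 3 (Subgroup.zpowers g) :=
        (U.isPGroup'.to_le (Subgroup.zpowers_le.2 hg))
      have hgQ' : g ∈ (Q.1 : Subgroup X) :=
        ((IsPGroup.inf_normalizer_sylow hz Q.1).le ⟨Subgroup.mem_zpowers g, hgN⟩).2
      exact Q.2 (H.sylow_eq hgQ' hg fun e => hg1 (Subtype.ext e))
    rw [H.card_sylow_three U] at hdvd
    have hO : Nat.card O = Nat.card (Sylow 3 X) - 1 := by
      rw [Nat.card_eq_fintype_card, Fintype.card_subtype_compl, Fintype.card_subtype_eq,
        ← Nat.card_eq_fintype_card]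
    rw [hO] at hdvd
    exact ((Nat.modEq_iff_dvd' Nat.card_pos).2 hdvd).symm
  have hne1 : Nat.card (Sylow 3 X) ≠ 1 := fun h1 => by
    haveI : Subsingleton (Sylow 3 X) := (Nat.card_eq_one_iff_unique.1 h1).1
    have hn : (U : Subgroup X).Normal := U.normal_of_subsingleton
    rcases hn.eq_bot_or_eq_top with e | e
    · have := H.card_sylow_three U; rw [e, Subgroup.card_bot] at this; omega
    · have := H.card_sylow_three U; rw [e, Subgroup.card_top, H.card] at this; omega
  have h28 : Nat.card (Sylow 3 X) = 28 := by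
    have hle : Nat.card (Sylow 3 X) ≤ 364 := Nat.le_of_dvd (by norm_num) hdvd
    obtain ⟨k, hk⟩ : ∃ k, Nat.card (Sylow 3 X) = 27 * k + 1 := ⟨Nat.card (Sylow 3 X) / 27, by
      have : Nat.card (Sylow 3 X) % 27 = 1 := hmod
      omega⟩
    rw [hk] at hdvd hle hne1 ⊢
    have hk13 : k ≤ 13 := by omega
    interval_cases k <;> norm_num at *
  refine ⟨h28, ?_⟩
  have h := (normalizer ((U : Subgroup X) : Set X)).card_mul_index
  have h' : Nat.card (Sylow 3 X) = (normalizer ((U : Subgroup X) : Set X)).index :=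
    Sylow.card_eq_index_normalizer U
  rw [← h', h28, H.card] at h
  omega

/-- An element of order `13` is inverted by an involution. -/
theorem L27.exists_inverter [Finite X] (H : L27 X) {y : X} (hy : orderOf y = 13) :
    ∃ w : X, orderOf w = 2 ∧ w * y * w⁻¹ = y⁻¹ := by
  haveI : Fact (Nat.Prime 13) := ⟨by norm_num⟩
  haveI : Fact (Nat.Prime 2) := ⟨Nat.prime_two⟩
  have h13 : IsPGroup 13 (Subgroup.zpowers y) :=
    IsPGroup.of_card (n := 1) (by rw [Nat.card_zpowers, hy, pow_one])
  obtain ⟨P, hP⟩ := h13.exists_le_sylow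
  have hPc : Nat.card (P : Subgroup X) = 13 := by
    rw [P.card_eq_multiplicity, H.card, show (9828 : ℕ) = 13 ^ 1 * 756 by norm_num,
      Nat.factorization_mul (by norm_num) (by norm_num), Finsupp.add_apply,
      (by norm_num : Nat.Prime 13).factorization_pow, Finsupp.single_eq_same,
      Nat.factorization_eq_zero_of_not_dvd (by norm_num : ¬ (13 ∣ 756))]
    norm_num
  have hPy : (P : Subgroup X) = Subgroup.zpowers y :=
    (Subgroup.eq_of_le_of_card_ge hP (by rw [hPc, Nat.card_zpowers, hy])).symm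
  have hn : Nat.card (Sylow 13 X) = (normalizer (Subgroup.zpowers y : Set X)).index := by
    rw [← hPy]; exact Sylow.card_eq_index_normalizer P
  set N := normalizer (Subgroup.zpowers y : Set X) with hN
  have hi := N.card_mul_index
  rw [H.card, ← hn] at hi
  have hmem : ∀ g : N, (g : X) * y * (g : X)⁻¹ ∈ Subgroup.zpowers y := fun g =>
    (mem_normalizer_iff.1 g.2 y).1 (Subgroup.mem_zpowers y)
  have hy1 : y ≠ 1 := fun e => by rw [e, orderOf_one] at hy; omega
  -- at most twelve images
  have hle : Nat.card N ≤ 12 * 13 := by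
    classical
    let f : N → {v : Subgroup.zpowers y // v ≠ 1} := fun g =>
      ⟨⟨_, hmem g⟩, fun e => hy1 (conj_eq_one_iff.1 (congrArg Subtype.val e))⟩
    refine (Cfsg.Agent.Block.card_le_fiber_mul f 13 fun b => ?_).trans (le_of_eq ?_)
    · rcases isEmpty_or_nonempty {g // f g = b} with he | he
      · simp
      obtain ⟨g₀, hg₀⟩ := he
      refine le_trans (Nat.card_le_card_of_injective (fun g => (⟨((g₀ : N) : X)⁻¹ * (g.1 : X), ?_⟩ :
        centralizer ({y} : Set X))) ?_) (le_of_eq (H.cent_thirteen y hy))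
      · have h := congrArg (fun v : {v : Subgroup.zpowers y // v ≠ 1} => ((v.1 : Subgroup.zpowers y) : X))
          (g.2.trans hg₀.symm)
        have h' : (g.1 : X) * y * (g.1 : X)⁻¹ = (g₀ : X) * y * (g₀ : X)⁻¹ := h
        rw [mem_centralizer_singleton_iff]
        calc ((g₀ : X))⁻¹ * (g.1 : X) * y = (g₀ : X)⁻¹ * ((g.1 : X) * y * (g.1 : X)⁻¹) * (g.1 : X) := by
              group
          _ = (g₀ : X)⁻¹ * ((g₀ : X) * y * (g₀ : X)⁻¹) * (g.1 : X) := by rw [h']
          _ = y * ((g₀ : X)⁻¹ * (g.1 : X)) := by group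
      · intro a b hab
        exact Subtype.ext (Subtype.ext (mul_left_cancel (congrArg Subtype.val hab)))
    · haveI := Fintype.ofFinite (Subgroup.zpowers y)
      rw [Nat.card_eq_fintype_card, Fintype.card_subtype_compl, Fintype.card_subtype_eq,
        ← Nat.card_eq_fintype_card, Nat.card_zpowers, hy]
  obtain ⟨d, hd⟩ := Subgroup.card_dvd_of_le (le_normalizer : Subgroup.zpowers y ≤ N)
  rw [Nat.card_zpowers, hy] at hd
  have hmod : Nat.card (Sylow 13 X) % 13 = 1 := card_sylow_modEq_one 13 X
  rw [hd] at hi hle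
  have hd2 : d = 2 := by
    have h756 : d * Nat.card (Sylow 13 X) = 756 := by
      refine Nat.eq_of_mul_eq_mul_left (show 0 < 13 by norm_num) ?_
      rw [← mul_assoc, hi]
    have hd12 : d ≤ 12 := by omega
    interval_cases d <;> omega
  obtain ⟨⟨w, hwN⟩, hw⟩ := exists_prime_orderOf_dvd_card' (G := N) 2 (by rw [hd, hd2]; norm_num)
  have hw2 : orderOf w = 2 := by rw [← hw, Subgroup.orderOf_mk]
  refine ⟨w, hw2, ?_⟩
  obtain ⟨i, hi'⟩ := Subgroup.mem_zpowers_iff.1 (hmem ⟨w, hwN⟩)
  have hi'' : y ^ i = w * y * w⁻¹ := hi'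
  have hww : w * w = 1 := by rw [← pow_two, ← hw2, pow_orderOf_eq_one]
  have hii : y ^ (i * i - 1) = 1 := by
    rw [zpow_sub, zpow_one, zpow_mul, hi'', conj_zpow, hi'', mul_inv_eq_one]
    calc w * (w * y * w⁻¹) * w⁻¹ = w * w * y * (w * w)⁻¹ := by group
      _ = y := by rw [hww, one_mul, inv_one, mul_one]
  rw [← orderOf_dvd_iff_zpow_eq_one, hy, show i * i - 1 = (i - 1) * (i + 1) by ring] at hii
  rcases (Int.Prime.dvd_mul' (by norm_num : Nat.Prime 13) hii) with h | h
  · exfalso
    have h1 : y ^ (i - 1) = 1 := orderOf_dvd_iff_zpow_eq_one.1 (by rw [hy]; exact h)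
    rw [zpow_sub, zpow_one, mul_inv_eq_one, hi''] at h1
    have hc : w ∈ centralizer ({y} : Set X) :=
      mem_centralizer_singleton_iff.2 (mul_inv_eq_iff_eq_mul.1 h1)
    have := Subgroup.orderOf_dvd_natCard _ hc
    rw [H.cent_thirteen y hy, hw2] at this
    norm_num at this
  · have h1 : y ^ (i + 1) = 1 := orderOf_dvd_iff_zpow_eq_one.1 (by rw [hy]; exact h)
    rw [zpow_add, zpow_one, hi''] at h1
    exact eq_inv_of_mul_eq_one_left h1

end Cfsg.Agent.Invol.JankoWard.CaseD
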