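import Cfsg.Agent.Lib.Transfer.HallWielandt
import Mathlib.GroupTheory.Abelianization.Defs

/-!
The transfer step of case D of the field part of the Janko–Thompson–Ward theorem: an element `φ`
of order three outside the derived group of an odd subgroup `K`, the centralizer of an element
`z` of order three up to an involution, gives a nontrivial transfer.
-/

set_option autoImplicit false
set_option linter.unusedSectionVars false
set_option linter.style.haveILetI false

namespace Cfsg.Agent.Invol.JankoWard.CaseD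

open Subgroup
open scoped commutatorElement Pointwise

universe u v

variable {G : Type u} [Group G] [Finite G]

/-- A transfer is nontrivial on an element of order three when only the base orbit of its centralizer on the cosets
has size prime to three. -/
theorem transfer_ne_one {H : Subgroup G} {A : Type v} [CommGroup A] (c : H →* A) {φ : G} (hφH : φ ∈ H)
    (h3 : φ ^ 3 = 1) (hval : c ⟨φ, hφH⟩ ≠ 1)
    (hbase : ¬ 3 ∣ (H.subgroupOf (centralizer ({φ} : Set G))).index)
    (hkey : ∀ g : G, g⁻¹ * φ * g ∈ H →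
      ¬ 3 ∣ ((MulAut.conj g • H).subgroupOf (centralizer ({φ} : Set G))).index →
        ∃ x ∈ centralizer ({φ} : Set G), x * g ∈ H) :
    c.transfer φ ≠ 1 := by
  classical
  set X := centralizer ({φ} : Set G) with hX
  haveI := Fintype.ofFinite (G ⧸ H)
  haveI : Fintype (MulAction.orbitRel.Quotient X (G ⧸ H)) := Fintype.ofFinite _
  set f : G ⧸ H → A := Transfer.HallWielandt.fixVal c φ with hf
  have hφo : orderOf φ ∣ 3 := orderOf_dvd_of_pow_eq_one h3
  rw [Transfer.HallWielandt.transfer_eq_prod_fixed c φ (fun x l hl hld h => by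
    rcases (Nat.dvd_prime Nat.prime_three).1 (hld.trans hφo) with e | e
    · omega
    · subst e
      exact (congrArg c (Subtype.ext (by rw [Subgroup.coe_one]; simp [h3]) : (⟨_, h⟩ : H) = 1)).trans (map_one c))]
  -- the value is constant on the orbits of the centralizer
  have hinv : ∀ (x : X) (q : G ⧸ H), f (x • q) = f q := fun x q => by
    show Transfer.HallWielandt.fixVal c φ ((x : G) • q) = _
    rw [Transfer.HallWielandt.fixVal_smul, mul_assoc, ← mem_centralizer_singleton_iff.1 x.2, inv_mul_cancel_left]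
  have h3A : ∀ q : G ⧸ H, f q ^ 3 = 1 := fun q => by
    obtain ⟨x, rfl⟩ := QuotientGroup.mk_surjective q
    by_cases h : x⁻¹ * φ * x ∈ H
    · rw [hf, Transfer.HallWielandt.fixVal_mk c h, ← map_pow]
      refine (congrArg c (Subtype.ext ?_ : (⟨_, h⟩ : H) ^ 3 = 1)).trans (map_one c)
      rw [Subgroup.coe_pow, Subgroup.coe_one]
      show (x⁻¹ * φ * x) ^ 3 = 1
      rw [show (x⁻¹ * φ * x) ^ 3 = x⁻¹ * φ ^ 3 * x by simp [pow_succ, mul_assoc], h3]
      group
    · rw [hf, Transfer.HallWielandt.fixVal_mk_of_notMem c h, one_pow]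
  let o0 : MulAction.orbitRel.Quotient X (G ⧸ H) := Quotient.mk'' (((1 : G) : G ⧸ H))
  rw [← Fintype.prod_fiberwise (fun q : G ⧸ H => (Quotient.mk'' q : MulAction.orbitRel.Quotient X (G ⧸ H))) f]
  -- the product over one orbit
  have hfib : ∀ (o : MulAction.orbitRel.Quotient X (G ⧸ H)) (q₀ : G ⧸ H), Quotient.mk'' q₀ = o →
      ∏ q : {q : G ⧸ H // (Quotient.mk'' q : MulAction.orbitRel.Quotient X (G ⧸ H)) = o}, f q =
        f q₀ ^ (MulAction.stabilizer X q₀).index := by
    intro o q₀ hq₀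
    have hmem : ∀ q : G ⧸ H, (Quotient.mk'' q : MulAction.orbitRel.Quotient X (G ⧸ H)) = o ↔
        q ∈ MulAction.orbit X q₀ := fun q => by
      rw [← hq₀]; exact Quotient.eq''
    rw [Finset.prod_eq_pow_card (b := f q₀) (fun q _ => by
      obtain ⟨x, hx⟩ := (hmem q.1).1 q.2
      rw [← hinv x q₀]; exact congrArg f hx.symm)]
    congr 1
    rw [Finset.card_univ, ← Nat.card_eq_fintype_card, MulAction.index_stabilizer, ← Nat.card_coe_set_eq]
    exact Nat.card_congr (Equiv.subtypeEquivRight hmem)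
  have hstab : ∀ g : G, (MulAction.stabilizer X ((g : G ⧸ H))) = (MulAut.conj g • H).subgroupOf X := fun g => by
    ext x
    rw [MulAction.mem_stabilizer_iff, Subgroup.mem_subgroupOf, Subgroup.mem_pointwise_smul_iff_inv_smul_mem]
    show (x : G) • ((g : G ⧸ H)) = (g : G ⧸ H) ↔ _
    rw [MulAction.Quotient.smul_mk, eq_comm, QuotientGroup.eq]
    simp [mul_assoc]
  rw [Finset.prod_eq_single o0 (fun o _ ho => ?_) (fun h => absurd (Finset.mem_univ _) h)]
  · rw [hfib o0 _ rfl, hstab, map_one, one_smul]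
    have h1 : f ((1 : G) : G ⧸ H) = c ⟨φ, hφH⟩ := by
      have h' : (1 : G)⁻¹ * φ * 1 ∈ H := by simpa using hφH
      rw [hf, Transfer.HallWielandt.fixVal_mk c h']
      exact congrArg c (Subtype.ext (by simp))
    rw [h1]
    intro e
    refine hval (orderOf_eq_one_iff.1 ?_)
    rcases (Nat.dvd_prime Nat.prime_three).1 (orderOf_dvd_of_pow_eq_one (show c ⟨φ, hφH⟩ ^ 3 = 1 from h1 ▸ h3A _))
      with e' | e'
    · exact e'
    · exact absurd (e' ▸ orderOf_dvd_of_pow_eq_one e) hbase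
  · obtain ⟨q₀, rfl⟩ := Quotient.mk''_surjective o
    rw [hfib _ q₀ rfl]
    obtain ⟨g, rfl⟩ := QuotientGroup.mk_surjective q₀
    by_cases hd : 3 ∣ (MulAction.stabilizer X ((g : G ⧸ H))).index
    · obtain ⟨m, hm⟩ := hd
      rw [hm, pow_mul, h3A, one_pow]
    by_cases hg : g⁻¹ * φ * g ∈ H
    · exfalso
      obtain ⟨x, hx, hxg⟩ := hkey g hg (hstab g ▸ hd)
      refine ho (Quotient.sound' (show ((g : G ⧸ H)) ∈ MulAction.orbit X ((1 : G) : G ⧸ H) from ⟨⟨x, hx⟩⁻¹, ?_⟩))
      show (x : G)⁻¹ • ((1 : G) : G ⧸ H) = (g : G ⧸ H)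
      rw [MulAction.Quotient.smul_mk, QuotientGroup.eq]
      simpa using hxg
    · rw [hf, Transfer.HallWielandt.fixVal_mk_of_notMem c hg, one_pow]

/-- A transfer from a subgroup of a nonabelian simple group to an abelian group is trivial. -/
theorem transfer_eq_one [IsSimpleGroup G] (hna : ¬ IsMulCommutative G) {H : Subgroup G} {A : Type v}
    [CommGroup A] (c : H →* A) (g : G) : c.transfer g = 1 := by
  rcases (inferInstance : (c.transfer).ker.Normal).eq_bot_or_eq_top with h | h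
  · exact absurd ⟨⟨fun a b => (MonoidHom.ker_eq_bot_iff _).1 h (by rw [map_mul, map_mul, mul_comm])⟩⟩ hna
  · exact MonoidHom.mem_ker.1 (h ▸ Subgroup.mem_top g)

set_option maxHeartbeats 1000000 in
-- one long structural proof
/-- The contradiction from an odd subgroup `K`, `z` central in it, and `φ ∈ K` outside `K'`. -/
theorem false_of_key [IsSimpleGroup G] (hna : ¬ IsMulCommutative G) {K : Subgroup G} {t z φ : G}
    (ht : t * t = 1) (htK : t ∉ K) (htN : t ∈ normalizer (K : Set G)) (hKodd : Odd (Nat.card K))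
    (hφK : φ ∈ K) (hφ3 : φ ^ 3 = 1) (hφt : Commute φ t) (hab : (⟨φ, hφK⟩ : K) ∉ commutator K)
    (hzK : ∀ k ∈ K, Commute k z) (hz3 : z ^ 3 = 1)
    (hN : ∀ n : G, n * z * n⁻¹ ∈ zpowers z → n ∈ K ∨ n * t ∈ K)
    (hP03 : IsPGroup 3 ↥(centralizer ({φ} : Set G) ⊓ K))
    (hrel : ¬ 3 ∣ (centralizer ({φ} : Set G) ⊓ K).relIndex (centralizer ({φ} : Set G)))
    (hZ : ∀ x : G, x ^ 3 = 1 → (∀ p ∈ centralizer ({φ} : Set G) ⊓ K, Commute x p) →
      ∃ a b : ℕ, x = φ ^ a * z ^ b)
    (hbig : ∃ R : Subgroup G, R ≤ K ∧ IsPGroup 3 R ∧ Nat.card ↥(centralizer ({φ} : Set G) ⊓ K) < Nat.card R)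
    (hnc : ∀ g : G, g * φ * g⁻¹ ≠ z ∧ g * φ⁻¹ * g⁻¹ ≠ z ∧ g * φ * g⁻¹ ≠ z⁻¹) : False := by
  classical
  haveI : Fact (Nat.Prime 3) := ⟨Nat.prime_three⟩
  set X := centralizer ({φ} : Set G) with hX
  set P0 := X ⊓ K with hP0
  have hφX : φ ∈ X := mem_centralizer_singleton_iff.2 rfl
  have htinv : t⁻¹ = t := inv_eq_of_mul_eq_one_left ht
  have htc : ∀ k ∈ K, t * k * t ∈ K := fun k hk => by
    have := (mem_normalizer_iff.1 htN k).1 hk
    rwa [htinv] at this
  have hteq : ∀ x : G, x * t * t = x := fun x => by rw [mul_assoc, ht, mul_one]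
  -- the subgroup `K⟨t⟩`
  let H : Subgroup G :=
    { carrier := {x | x ∈ K ∨ x * t ∈ K}
      one_mem' := Or.inl K.one_mem
      mul_mem' := by
        rintro x y (hx | hx) (hy | hy)
        · exact Or.inl (K.mul_mem hx hy)
        · exact Or.inr (by rw [mul_assoc]; exact K.mul_mem hx hy)
        · refine Or.inr ?_
          rw [show x * y * t = x * t * (t⁻¹ * y * t) by group, htinv]
          exact K.mul_mem hx (htc y hy)
        · refine Or.inl ?_
          have : x * y = x * t * (t * (y * t) * t) := by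
            rw [← mul_assoc t y t, hteq (t * y), ← mul_assoc, hteq]
          rw [this]
          exact K.mul_mem hx (htc _ hy)
      inv_mem' := by
        rintro x (hx | hx)
        · exact Or.inl (K.inv_mem hx)
        · refine Or.inr ?_
          have := htc _ (K.inv_mem hx)
          rwa [mul_inv_rev, htinv, ← mul_assoc, ht, one_mul] at this }
  have hKH : K ≤ H := fun x hx => Or.inl hx
  have hoddK : ∀ x ∈ H, Odd (orderOf x) → x ∈ K := by
    rintro x hxH ⟨m, hm⟩
    rcases hxH with hx | hx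
    · exact hx
    have h2 : x * x ∈ K := by
      have : x * x = x * t * (t * (x * t) * t) := by
        rw [← mul_assoc t x t, hteq (t * x), ← mul_assoc, hteq]
      rw [this]
      exact K.mul_mem hx (htc _ hx)
    have hxx : x = (x * x) ^ (m + 1) := by
      rw [← pow_two, ← pow_mul, show 2 * (m + 1) = orderOf x + 1 by omega, pow_succ, pow_orderOf_eq_one, one_mul]
    rw [hxx]
    exact K.pow_mem h2 _
  -- the homomorphism
  let A := Abelianization K
  let cK : K → A := fun k => Abelianization.of k * Abelianization.of ⟨t * k * t, htc k k.2⟩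
  have hcKmul : ∀ a b : K, cK (a * b) = cK a * cK b := fun a b => by
    have e : (⟨t * (a * b : K) * t, htc _ (a * b).2⟩ : K) = ⟨t * a * t, htc _ a.2⟩ * ⟨t * b * t, htc _ b.2⟩ :=
      Subtype.ext (by
        show t * ((a : G) * b) * t = t * a * t * (t * b * t)
        rw [← mul_assoc (t * a * t) (t * b) t, ← mul_assoc (t * a * t) t b, hteq (t * a)]
        simp [mul_assoc])
    show Abelianization.of (a * b) * Abelianization.of ⟨_, _⟩ = _
    rw [e, map_mul, map_mul, mul_mul_mul_comm]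
  have hcKt : ∀ k : K, cK ⟨t * k * t, htc k k.2⟩ = cK k := fun k => by
    show Abelianization.of _ * Abelianization.of _ = _
    rw [mul_comm]
    congr 2
    exact Subtype.ext (by
      show t * (t * k * t) * t = k
      rw [mul_assoc t k t, ← mul_assoc t t, ht, one_mul, hteq])
  have hor : ∀ x : H, (x : G) ∉ K → (x : G) * t ∈ K := fun x hx => x.2.resolve_left hx
  let cfun : H → A := fun x => if hx : (x : G) ∈ K then cK ⟨x, hx⟩ else cK ⟨(x : G) * t, hor x hx⟩
  have hnotboth : ∀ x : G, x ∈ K → x * t ∉ K := fun x hx h => htK (by simpa using K.mul_mem (K.inv_mem hx) h)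
  let c : H →* A := MonoidHom.mk' cfun (by
    rintro ⟨x, hx⟩ ⟨y, hy⟩
    rcases hx with hx | hx <;> rcases hy with hy | hy
    · have hxy := K.mul_mem hx hy
      simp only [cfun, Subgroup.coe_mul, dif_pos hx, dif_pos hy, dif_pos hxy]
      exact hcKmul ⟨x, hx⟩ ⟨y, hy⟩
    · have hy' : y ∉ K := fun h => hnotboth y h hy
      have hxy : x * y ∉ K := fun h => hy' (by simpa using K.mul_mem (K.inv_mem hx) h)
      simp only [cfun, Subgroup.coe_mul, dif_pos hx, dif_neg hy', dif_neg hxy]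
      rw [← hcKmul]
      exact congrArg cK (Subtype.ext (mul_assoc x y t))
    · have hx' : x ∉ K := fun h => hnotboth x h hx
      have hxy : x * y ∉ K := fun h => hx' (by simpa using K.mul_mem h (K.inv_mem hy))
      simp only [cfun, Subgroup.coe_mul, dif_neg hx', dif_pos hy, dif_neg hxy]
      rw [← hcKt ⟨y, hy⟩, ← hcKmul]
      exact congrArg cK (Subtype.ext (by
        show x * y * t = x * t * (t * y * t)
        rw [← mul_assoc (x * t) (t * y) t, ← mul_assoc (x * t) t y, hteq]))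
    · have hx' : x ∉ K := fun h => hnotboth x h hx
      have hy' : y ∉ K := fun h => hnotboth y h hy
      have hxy : x * y ∈ K := by
        have : x * y = x * t * (t * (y * t) * t) := by
          rw [← mul_assoc t y t, hteq (t * y), ← mul_assoc, hteq]
        rw [this]
        exact K.mul_mem hx (htc _ hy)
      simp only [cfun, Subgroup.coe_mul, dif_neg hx', dif_neg hy', dif_pos hxy]
      rw [← hcKt ⟨y * t, hy⟩, ← hcKmul]
      exact congrArg cK (Subtype.ext (by
        show x * y = x * t * (t * (y * t) * t)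
        rw [← mul_assoc t y t, hteq (t * y), ← mul_assoc, hteq])))
  have hval : c ⟨φ, hKH hφK⟩ ≠ 1 := by
    show cfun _ ≠ 1
    simp only [cfun, dif_pos hφK]
    intro e
    have e2 : (⟨t * φ * t, htc φ hφK⟩ : K) = ⟨φ, hφK⟩ := Subtype.ext (by
      show t * φ * t = φ
      rw [← hφt.eq, hteq])
    change Abelianization.of _ * Abelianization.of (⟨t * φ * t, _⟩ : K) = 1 at e
    rw [e2] at e
    refine hab ((QuotientGroup.eq_one_iff _).1 (?_ : Abelianization.of (⟨φ, hφK⟩ : K) = 1))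
    have h3 : Abelianization.of (⟨φ, hφK⟩ : K) ^ 3 = 1 := by
      rw [← map_pow, show (⟨φ, hφK⟩ : K) ^ 3 = 1 from Subtype.ext hφ3, map_one]
    rwa [pow_succ, pow_two, e, one_mul] at h3
  -- a Sylow subgroup of `K` over `P0`
  have hPG : IsPGroup 3 (P0.subgroupOf K) := hP03.of_equiv (Subgroup.subgroupOfEquivOfLe inf_le_right).symm
  obtain ⟨S3, hS3⟩ := hPG.exists_le_sylow
  set P3 := (S3 : Subgroup K).map K.subtype with hP3def
  have hP3 : IsPGroup 3 P3 := S3.isPGroup'.map _
  have hP3K : P3 ≤ K := Subgroup.map_subtype_le _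
  have hP0P3 : P0 ≤ P3 := fun x hx => ⟨⟨x, hx.2⟩, hS3 (show (⟨x, hx.2⟩ : K) ∈ P0.subgroupOf K from hx), rfl⟩
  have hlt : P0 < P3 := by
    refine lt_of_le_of_ne hP0P3 fun e => ?_
    obtain ⟨R, hRK, hR, hcard⟩ := hbig
    obtain ⟨S', hS'⟩ := (hR.of_equiv (Subgroup.subgroupOfEquivOfLe hRK).symm).exists_le_sylow
    have h1 := Subgroup.card_le_of_le hS'
    rw [Nat.card_congr (Subgroup.subgroupOfEquivOfLe hRK).toEquiv, S'.card_eq_multiplicity,
      ← S3.card_eq_multiplicity, ← Subgroup.card_map_of_injective K.subtype_injective, ← hP3def, ← e] at h1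
    omega
  -- elements of order three centralizing `P0`
  have hzX : z ∈ X := mem_centralizer_singleton_iff.2 (hzK φ hφK).symm.eq
  have hzφ : Commute φ z := hzK φ hφK
  have hred : ∀ a b : ℕ, φ ^ a * z ^ b = φ ^ (a % 3) * z ^ (b % 3) := fun a b => by
    rw [pow_eq_pow_mod a hφ3, pow_eq_pow_mod b hz3]
  -- a normalizing element moving `φ`
  obtain ⟨n0, hn0P, hn0N, hn0⟩ : ∃ n0 ∈ P3, n0 ∈ normalizer (P0 : Set G) ∧ n0 ∉ P0 := by
    haveI := hP3.isNilpotent
    by_contra hno
    push Not at hno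
    have h1 : normalizer ((P0.subgroupOf P3 : Subgroup P3) : Set P3) = P0.subgroupOf P3 := by
      refine le_antisymm (fun x hx => ?_) le_normalizer
      refine hno x x.2 (mem_normalizer_fintype fun y hy => ?_)
      exact (Subgroup.mem_normalizer_iff.1 hx ⟨y, hP0P3 hy⟩).1 hy
    have h2 := normalizerCondition_iff_only_full_group_self_normalizing.1 Group.normalizerCondition_of_isNilpotent
      _ h1
    exact hlt.2 (Subgroup.subgroupOf_eq_top.1 h2)
  have hn0z : n0 * z * n0⁻¹ = z := mul_inv_eq_iff_eq_mul.2 (hzK n0 (hP3K hn0P)).eq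
  have hcube : ∀ (g x : G), x ^ 3 = 1 → (g * x * g⁻¹) ^ 3 = 1 := fun g x hx => by
    rw [show (g * x * g⁻¹) ^ 3 = g * x ^ 3 * g⁻¹ by simp [pow_succ, mul_assoc], hx, mul_one, mul_inv_cancel]
  obtain ⟨d, e, hde⟩ := hZ (n0 * φ * n0⁻¹) (hcube n0 φ hφ3) fun p hp => by
    have hp' : n0⁻¹ * p * n0 ∈ P0 := by simpa using (mem_normalizer_iff.1 (inv_mem hn0N) p).1 hp
    have h1 : Commute φ (n0⁻¹ * p * n0) := (mem_centralizer_singleton_iff.1 hp'.1).symm
    have h2 := h1.map (MulAut.conj n0).toMonoidHom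
    simpa [mul_assoc] using h2
  rw [hred] at hde
  have hφ1 : φ ≠ 1 := fun h => hval (by rw [show (⟨φ, hKH hφK⟩ : H) = 1 from Subtype.ext h, map_one])
  -- then every `φ * z ^ j` is conjugate to `φ`
  obtain ⟨ee, hee0, hee3, hstep⟩ : ∃ ee : ℕ, ee ≠ 0 ∧ ee < 3 ∧ n0 * φ * n0⁻¹ = φ * z ^ ee := by
    refine ⟨e % 3, ?_⟩
    have he : e % 3 = 0 ∨ e % 3 = 1 ∨ e % 3 = 2 := by omega
    rcases (show d % 3 = 0 ∨ d % 3 = 1 ∨ d % 3 = 2 by omega) with hd | hd | hd <;> rw [hd] at hde
    · exfalso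
      rw [pow_zero, one_mul] at hde
      rcases he with he | he | he <;> rw [he] at hde
      · rw [pow_zero] at hde
        exact hφ1 (conj_eq_one_iff.1 hde)
      · exact (hnc n0).1 (by rw [hde, pow_one])
      · exact (hnc n0).2.2 (by rw [hde, eq_inv_iff_mul_eq_one, ← pow_succ, hz3])
    · rw [pow_one] at hde
      refine ⟨fun h0 => hn0 ?_, Nat.mod_lt _ (by norm_num), hde⟩
      rw [h0, pow_zero, mul_one] at hde
      exact ⟨mem_centralizer_singleton_iff.2 (mul_inv_eq_iff_eq_mul.1 hde), hP3K hn0P⟩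
    · exfalso
      refine hn0 ?_
      have hc : Commute φ (z ^ (e % 3)) := hzφ.pow_right _
      have h2 : n0 * (n0 * φ * n0⁻¹) * n0⁻¹ = φ := by
        have hzp : n0 * z ^ (e % 3) * n0⁻¹ = z ^ (e % 3) :=
          mul_inv_eq_iff_eq_mul.2 ((hzK n0 (hP3K hn0P)).pow_right _).eq
        rw [hde, pow_two, show n0 * (φ * φ * z ^ (e % 3)) * n0⁻¹ =
          n0 * φ * n0⁻¹ * (n0 * φ * n0⁻¹) * (n0 * z ^ (e % 3) * n0⁻¹) by group, hzp, hde, pow_two]
        have hsq : (φ * φ * z ^ (e % 3)) * (φ * φ * z ^ (e % 3)) = (φ * φ * (φ * φ)) * (z ^ (e % 3) * z ^ (e % 3)) :=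
          (hc.mul_left hc).symm.mul_mul_mul_comm _ _
        rw [hsq, mul_assoc, ← pow_add, ← pow_add, show φ * φ * (φ * φ) = φ ^ 3 * φ by simp [pow_succ, mul_assoc],
          hφ3, one_mul, show e % 3 + e % 3 + e % 3 = 3 * (e % 3) by ring, pow_mul, hz3, one_pow, mul_one]
      have hmem : n0 * n0 ∈ P0 := ⟨mem_centralizer_singleton_iff.2 (mul_inv_eq_iff_eq_mul.1 (Eq.trans (by group) h2)), K.mul_mem (hP3K hn0P) (hP3K hn0P)⟩
      obtain ⟨m, hm⟩ : Odd (orderOf n0) := by
        obtain ⟨k, hk⟩ := IsPGroup.iff_orderOf.1 hP3 ⟨n0, hn0P⟩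
        rw [Subgroup.orderOf_mk] at hk
        rw [hk]
        exact (by decide : Odd 3).pow
      have hx : n0 = (n0 * n0) ^ (m + 1) := by
        rw [← pow_two, ← pow_mul, show 2 * (m + 1) = orderOf n0 + 1 by omega, pow_succ, pow_orderOf_eq_one, one_mul]
      rw [hx]
      exact P0.pow_mem hmem _
  have hpowstep : ∀ i : ℕ, n0 ^ i * φ * (n0 ^ i)⁻¹ = φ * z ^ (ee * i) := by
    intro i
    induction i with
    | zero => simp
    | succ i ih =>
      rw [show n0 ^ (i + 1) * φ * (n0 ^ (i + 1))⁻¹ = n0 * (n0 ^ i * φ * (n0 ^ i)⁻¹) * n0⁻¹ by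
        rw [pow_succ']; group, ih, ← conj_mul, hstep,
        mul_inv_eq_iff_eq_mul.2 ((hzK n0 (hP3K hn0P)).pow_right _).eq, mul_assoc, ← pow_add]
      congr 2
      ring
  have hconj : ∀ j : ℕ, ∃ g : G, g * φ * g⁻¹ = φ * z ^ j := fun j => by
    refine ⟨n0 ^ (ee * j), ?_⟩
    rw [hpowstep, ← mul_assoc]
    congr 1
    have hs : ∀ a b : ℕ, a % 3 = b % 3 → z ^ a = z ^ b := fun a b h => by
      rw [← Nat.div_add_mod a 3, ← Nat.div_add_mod b 3, pow_add, pow_add, pow_mul, pow_mul, hz3, one_pow, one_pow, h]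
    refine hs _ _ ?_
    rcases (show ee = 1 ∨ ee = 2 by omega) with rfl | rfl <;> omega
  -- the transfer
  refine transfer_ne_one c (hKH hφK) hφ3 hval ?_ (fun g _ hdiv => ?_) (transfer_eq_one hna c φ)
  · intro h
    refine hrel (h.trans ?_)
    exact Subgroup.index_dvd_of_le (fun x hx => hKH (hx : (x : G) ∈ P0).2)
  · -- `P0` is conjugate into `gHg⁻¹`
    set W := (MulAut.conj g • H).subgroupOf X with hW
    obtain ⟨SX, hSX⟩ : ∃ SX : Sylow 3 X, (SX : Subgroup X) = P0.subgroupOf X := by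
      obtain ⟨SX, hSX⟩ := (hP03.of_equiv (Subgroup.subgroupOfEquivOfLe inf_le_left).symm :
        IsPGroup 3 (P0.subgroupOf X)).exists_le_sylow
      refine ⟨SX, le_antisymm ?_ hSX⟩
      rw [← Subgroup.relIndex_eq_one]
      obtain ⟨k, hk⟩ := IsPGroup.iff_card.1 SX.isPGroup'
      obtain ⟨j, -, hj⟩ := (Nat.dvd_prime_pow Nat.prime_three).1
        (hk ▸ Subgroup.relIndex_dvd_card (P0.subgroupOf X) (SX : Subgroup X))
      rcases j with _ | j
      · rw [hj, pow_zero]
      · exfalso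
        refine hrel (dvd_trans ?_ (show (P0.subgroupOf X).relIndex (SX : Subgroup X) ∣ (P0.subgroupOf X).index from
          Subgroup.relIndex_dvd_index_of_le hSX))
        rw [hj, pow_succ']
        exact dvd_mul_right 3 _
    obtain ⟨Q⟩ : Nonempty (Sylow 3 W) := Sylow.nonempty
    set Q' := (Q : Subgroup W).map W.subtype with hQ'
    have hQ'i : ¬ 3 ∣ Q'.index := by
      have hWi : ¬ 3 ∣ W.index := hdiv
      rw [hQ', Subgroup.index_map_subtype]
      exact Nat.Prime.not_dvd_mul Nat.prime_three Q.not_dvd_index hWi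
    let QS : Sylow 3 X := IsPGroup.toSylow (Q.isPGroup'.map W.subtype) hQ'i
    obtain ⟨x, hx⟩ := MulAction.exists_smul_eq X SX QS
    set n := g⁻¹ * (x : G) with hn
    have hnP : ∀ p ∈ P0, n * p * n⁻¹ ∈ K := fun p hp => by
      have hmem : x * ⟨p, hp.1⟩ * x⁻¹ ∈ W := by
        have : x * ⟨p, hp.1⟩ * x⁻¹ ∈ (QS : Subgroup X) := by
          rw [← hx, Sylow.coe_subgroup_smul]
          exact ⟨⟨p, hp.1⟩, hSX.ge hp, rfl⟩
        exact Subgroup.map_subtype_le _ this
      rw [hW, Subgroup.mem_subgroupOf, Subgroup.mem_pointwise_smul_iff_inv_smul_mem] at hmem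
      have hH : n * p * n⁻¹ ∈ H := by
        simpa [hn, mul_assoc] using hmem
      refine hoddK _ hH ?_
      rw [show orderOf (n * p * n⁻¹) = orderOf p from
        orderOf_injective (MulAut.conj n).toMonoidHom (MulAut.conj n).injective p]
      exact hKodd.of_dvd_nat (Subgroup.orderOf_dvd_natCard _ hp.2)
    refine ⟨(x : G)⁻¹, inv_mem x.2, ?_⟩
    have hnH : n ∈ H := by
      -- move the image into the fixed Sylow subgroup
      have hzn : ∀ p ∈ P0, Commute (n⁻¹ * z * n) p := fun p hp => by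
        have h2 := (hzK _ (hnP p hp)).symm.map (MulAut.conj n⁻¹).toMonoidHom
        simpa [mul_assoc] using h2
      obtain ⟨a, b, hab'⟩ := hZ (n⁻¹ * z * n) (by simpa using hcube n⁻¹ z hz3) hzn
      rw [hred] at hab'
      have hback : ∀ y : G, n⁻¹ * z * n = y → z = n * y * n⁻¹ := fun y hy => by rw [← hy]; group
      rcases (show a % 3 = 0 ∨ a % 3 = 1 ∨ a % 3 = 2 by omega) with ha | ha | ha <;> rw [ha] at hab'
      · have h1 : n⁻¹ ∈ H := hN n⁻¹ (by
          rw [inv_inv, hab', pow_zero, one_mul]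
          exact Subgroup.pow_mem _ (Subgroup.mem_zpowers z) _)
        simpa using H.inv_mem h1
      · exfalso
        obtain ⟨g', hg'⟩ := hconj (b % 3)
        rw [pow_one, ← hg'] at hab'
        refine (hnc (n * g')).1 (Eq.symm (Eq.trans (hback _ hab') ?_))
        group
      · exfalso
        obtain ⟨g', hg'⟩ := hconj (2 * (b % 3))
        have e : φ ^ 2 * z ^ (b % 3) = (φ * z ^ (2 * (b % 3))) ^ 2 := by
          rw [(hzφ.pow_right _).mul_pow, ← pow_mul,
            show 2 * (b % 3) * 2 = 3 * (b % 3) + b % 3 by ring, pow_add, pow_mul, hz3, one_pow, one_mul]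
        rw [e, ← hg', conj_pow, show φ ^ 2 = φ⁻¹ by
          rw [eq_inv_iff_mul_eq_one, ← pow_succ, hφ3]] at hab'
        refine (hnc (n * g')).2.1 (Eq.symm (Eq.trans (hback _ hab') ?_))
        group
    have := H.inv_mem hnH
    simpa [hn] using this

end Cfsg.Agent.Invol.JankoWard.CaseD
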