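import Cfsg.Agent.Lib.Invol.JankoWard.CaseDExt
import Cfsg.Agent.Lib.Invol.JankoWard.CaseDR
import Cfsg.Agent.Lib.Invol.JankoWard.CaseDTransfer
import Cfsg.Agent.Lib.Invol.JankoWard.LocalBase

/-!
Case D of the field part of the Janko–Thompson–Ward theorem: the fusion in a simple group with
an involution whose centralizer is `⟨t⟩ × L2(27):3`, and the quotient of the centralizer of the
field element.
-/

set_option autoImplicit false
set_option linter.unusedSectionVars false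
set_option linter.style.haveILetI false

namespace Cfsg.Agent.Invol.JankoWard.CaseD

open Subgroup
open scoped commutatorElement Pointwise

universe u

/-- An involution `t` with centralizer `⟨t⟩ × E`, `E` as `L2(27):3`. -/
structure DHyp (G : Type u) [Group G] where
  /-- the involution -/
  t : G
  /-- the second factor -/
  E : Subgroup G
  /-- the data of the second factor -/
  ed : EData E
  amb : Amb G
  ht : orderOf t = 2
  hEt : ∀ e ∈ E, Commute e t
  t_not : t ∉ E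
  cover : ∀ c : G, Commute c t → c ∈ E ∨ t * c ∈ E

namespace DHyp

variable {G : Type u} [Group G] (D : DHyp G)

/-- The field element. -/
abbrev φ : G := D.ed.φ

/-- The element `u`. -/
abbrev u : G := D.ed.u

/-- The element `[u, φ, φ]`. -/
abbrev h : G := ⁅⁅D.u, D.φ⁆, D.φ⁆

/-- The four-group. -/
def V : Subgroup G := D.ed.V.map D.E.subtype

theorem tt : D.t * D.t = 1 := by
  rw [← pow_two, ← D.ht, pow_orderOf_eq_one]

theorem t1 : D.t ≠ 1 := fun e => by
  have := D.ht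
  rw [e, orderOf_one] at this
  omega

theorem tinv : D.t⁻¹ = D.t := inv_eq_of_mul_eq_one_left D.tt

theorem coe_h : ((⁅⁅D.ed.u, D.ed.φ⁆, D.ed.φ⁆ : D.E) : G) = D.h := by
  simp [commutatorElement_def]

theorem φE : D.φ ∈ D.E := D.ed.φ.2

theorem hE : D.h ∈ D.E := D.coe_h ▸ (⁅⁅D.ed.u, D.ed.φ⁆, D.ed.φ⁆ : D.E).2

theorem φ3 : D.φ ^ 3 = 1 := congrArg Subtype.val D.ed.φ3

theorem φ1 : D.φ ≠ 1 := fun e => D.ed.φ1 (Subtype.ext e)

theorem h3 : D.h ^ 3 = 1 := by
  rw [← D.coe_h, ← Subgroup.coe_pow, D.ed.h3, Subgroup.coe_one]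

theorem h1 : D.h ≠ 1 := fun e => D.ed.h_ne (Subtype.ext (D.coe_h.trans e))

theorem hφ : Commute D.φ D.h := by
  rw [← D.coe_h]
  exact congrArg Subtype.val D.ed.h_φ

theorem ht' : Commute D.h D.t := D.hEt _ D.hE

theorem φt : Commute D.φ D.t := D.hEt _ D.φE

theorem mem_E {c : G} (hc : Commute c D.t) (ho : Odd (orderOf c)) : c ∈ D.E := by
  rcases D.cover c hc with h | h
  · exact h
  refine absurd ?_ D.t_not
  obtain ⟨m, hm⟩ := ho
  have h2 : (D.t * c) ^ orderOf c = D.t := by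
    rw [hc.symm.mul_pow, pow_orderOf_eq_one, mul_one, hm, pow_succ, pow_mul, pow_two, D.tt, one_pow, one_mul]
  exact h2 ▸ D.E.pow_mem h _

theorem V_le : D.V ≤ D.E := Subgroup.map_subtype_le _

theorem V_card : Nat.card D.V = 4 := by
  rw [V, Subgroup.card_map_of_injective D.E.subtype_injective]
  exact D.ed.klein.card_four

theorem V_sq {v : G} (hv : v ∈ D.V) : v * v = 1 := by
  obtain ⟨w, hw, rfl⟩ := hv
  haveI := D.ed.klein
  exact congrArg (fun x : D.ed.V => ((x : D.E) : G)) (IsKleinFour.mul_self (⟨w, hw⟩ : D.ed.V))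

theorem V_comm {v w : G} (hv : v ∈ D.V) (hw : w ∈ D.V) : Commute v w := by
  have h1 := D.V_sq (mul_mem hv hw)
  show v * w = w * v
  rw [← inv_eq_of_mul_eq_one_left h1, mul_inv_rev, inv_eq_of_mul_eq_one_left (D.V_sq hv),
    inv_eq_of_mul_eq_one_left (D.V_sq hw)]

theorem V_φ {v : G} (hv : v ∈ D.V) : Commute D.φ v := by
  obtain ⟨w, hw, rfl⟩ := hv
  exact congrArg Subtype.val (D.ed.φ_comm w hw)

theorem V_h {v : G} (hv : v ∈ D.V) : D.h * v * D.h⁻¹ ∈ D.V ∧ (v ≠ 1 → D.h * v * D.h⁻¹ ≠ v) := by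
  obtain ⟨w, hw, rfl⟩ := hv
  rw [← D.coe_h]
  refine ⟨⟨_, D.ed.h_norm w hw, rfl⟩, fun h1 e => ?_⟩
  exact D.ed.h_move w hw (fun e' => h1 (by rw [e']; rfl)) (Subtype.ext e)

theorem V_h_comm {v : G} (hv : v ∈ D.V) (hc : Commute D.h v) : v = 1 := by
  by_contra h1
  exact (D.V_h hv).2 h1 (mul_inv_eq_iff_eq_mul.2 hc.eq)

/-- An element that is both an involution or trivial and of cube one. -/
theorem eq_one_of_two_three {X : Type*} [Group X] {x : X} (h2 : x * x = 1) (h3 : x ^ 3 = 1) : x = 1 := by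
  rwa [pow_succ, pow_two, h2, one_mul] at h3

theorem exp3 {X : Type*} [Group X] {x : X} (h : x ^ 3 = 1) (a : ℕ) : x ^ a = x ^ (a % 3) := pow_eq_pow_mod a h

/-- `h` is not a power of `φ`. -/
theorem h_not : ∀ i : ℕ, D.h ≠ D.φ ^ i := fun i e => by
  obtain ⟨v, hv, hv1⟩ : ∃ v ∈ D.V, v ≠ 1 := by
    by_contra hno
    push Not at hno
    have := D.V_card
    rw [(Subgroup.eq_bot_iff_forall _).2 hno, Subgroup.card_bot] at this
    omega
  exact hv1 (D.V_h_comm hv (e ▸ (D.V_φ hv).pow_left i))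

/-- `φ^i h^j` determines `i` and `j` modulo three. -/
theorem nine_inj {a b : ℕ} (ha : a < 3) (hb : b < 3) (e : D.φ ^ a * D.h ^ b = 1) : a = 0 ∧ b = 0 := by
  have hb0 : b = 0 := by
    by_contra hb0
    have hh : D.h ^ b = D.φ ^ (2 * a) := by
      rw [eq_inv_of_mul_eq_one_right e, inv_eq_of_mul_eq_one_left]
      rw [← pow_add, show 2 * a + a = 3 * a by ring, pow_mul, D.φ3, one_pow]
    rcases (show b = 1 ∨ b = 2 by omega) with rfl | rfl
    · exact D.h_not _ (by simpa using hh)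
    · refine D.h_not (2 * a + 2 * a) ?_
      rw [pow_add, ← hh, ← pow_add, exp3 D.h3 (2 + 2), pow_one]
  subst hb0
  rw [pow_zero, mul_one] at e
  refine ⟨?_, rfl⟩
  by_contra ha0
  refine D.φ1 ?_
  rcases (show a = 1 ∨ a = 2 by omega) with rfl | rfl
  · simpa using e
  · calc D.φ = D.φ ^ (2 + 2) := by rw [exp3 D.φ3 (2 + 2), pow_one]
      _ = 1 := by rw [pow_add, e, one_mul]

variable [Finite G]

/-- The centralizer of `φ` in `E`. -/
theorem cent_φ {e : G} (he : e ∈ D.E) (hc : Commute e D.φ) :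
    ∃ v ∈ D.V, ∃ i j : ℕ, e = v * (D.φ ^ i * D.h ^ j) := by
  set C := centralizer ({D.ed.φ} : Set D.E) with hC
  let f : D.V × Fin 3 × Fin 3 → C := fun p => ⟨⟨(p.1 : G) * (D.φ ^ (p.2.1 : ℕ) * D.h ^ (p.2.2 : ℕ)),
      D.E.mul_mem (D.V_le p.1.2) (D.E.mul_mem (D.E.pow_mem D.φE _) (D.E.pow_mem D.hE _))⟩,
    mem_centralizer_singleton_iff.2 (Subtype.ext
      (((D.V_φ p.1.2).symm.mul_left (((Commute.refl D.φ).pow_left _).mul_left (D.hφ.symm.pow_left _))).eq))⟩
  have hinj : Function.Injective f := by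
    rintro ⟨⟨v, hv⟩, i, j⟩ ⟨⟨v', hv'⟩, i', j'⟩ heq
    have e' : v * (D.φ ^ (i : ℕ) * D.h ^ (j : ℕ)) = v' * (D.φ ^ (i' : ℕ) * D.h ^ (j' : ℕ)) :=
      congrArg (fun x : C => ((x : D.E) : G)) heq
    have hcube : ∀ a b : ℕ, (D.φ ^ a * D.h ^ b) ^ 3 = 1 := fun a b => by
      rw [(D.hφ.pow_pow a b).mul_pow, ← pow_mul, ← pow_mul, mul_comm a, mul_comm b, pow_mul, pow_mul, D.φ3, D.h3,
        one_pow, one_pow, one_mul]
    have hmul : ∀ a b a' b' : ℕ, D.φ ^ a * D.h ^ b * (D.φ ^ a' * D.h ^ b') = D.φ ^ (a + a') * D.h ^ (b + b') :=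
      fun a b a' b' => by rw [(D.hφ.pow_pow a' b).symm.mul_mul_mul_comm, pow_add, pow_add]
    have hinv : (D.φ ^ (i' : ℕ) * D.h ^ (j' : ℕ))⁻¹ = D.φ ^ (2 * (i' : ℕ)) * D.h ^ (2 * (j' : ℕ)) := by
      refine inv_eq_of_mul_eq_one_left ?_
      rw [hmul, show 2 * (i' : ℕ) + i' = 3 * i' by ring, show 2 * (j' : ℕ) + j' = 3 * j' by ring, pow_mul, pow_mul,
        D.φ3, D.h3, one_pow, one_pow, one_mul]
    have hd : v'⁻¹ * v = D.φ ^ ((i' : ℕ) + 2 * i) * D.h ^ ((j' : ℕ) + 2 * j) := by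
      rw [← hmul, show D.φ ^ (2 * (i : ℕ)) * D.h ^ (2 * (j : ℕ)) = (D.φ ^ (i : ℕ) * D.h ^ (j : ℕ))⁻¹ by
        refine (inv_eq_of_mul_eq_one_left ?_).symm
        rw [hmul, show 2 * (i : ℕ) + i = 3 * i by ring, show 2 * (j : ℕ) + j = 3 * j by ring, pow_mul, pow_mul,
          D.φ3, D.h3, one_pow, one_pow, one_mul]]
      rw [eq_mul_inv_iff_mul_eq, mul_assoc, e', inv_mul_cancel_left]
    have hone : v'⁻¹ * v = 1 := eq_one_of_two_three (D.V_sq (mul_mem (inv_mem hv') hv)) (hd ▸ hcube _ _)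
    have hvv : v' = v := inv_mul_eq_one.1 hone
    subst hvv
    rw [hone, exp3 D.φ3, exp3 D.h3] at hd
    obtain ⟨ha, hb⟩ := D.nine_inj (Nat.mod_lt _ (by norm_num)) (Nat.mod_lt _ (by norm_num)) hd.symm
    exact Prod.ext rfl (Prod.ext (Fin.ext (by have := i.2; have := i'.2; dsimp only; omega))
      (Fin.ext (by have := j.2; have := j'.2; dsimp only; omega)))
  have hbij : Function.Bijective f := (Nat.bijective_iff_injective_and_card f).2 ⟨hinj, by
    rw [Nat.card_prod, Nat.card_prod, D.V_card, Nat.card_fin, hC, D.ed.card_centφ]⟩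
  obtain ⟨⟨v, i, j⟩, hp⟩ := hbij.2 ⟨⟨e, he⟩, mem_centralizer_singleton_iff.2 (Subtype.ext hc.eq)⟩
  exact ⟨v, v.2, i, j, (congrArg (fun x : C => ((x : D.E) : G)) hp).symm⟩

/-- The centralizer of the four-group in `E`. -/
theorem cent_V {e : G} (he : e ∈ D.E) (hc : ∀ v ∈ D.V, Commute e v) :
    ∃ v ∈ D.V, ∃ i : ℕ, e = v * D.φ ^ i := by
  set C := centralizer (D.ed.V : Set D.E) with hC
  let f : D.V × Fin 3 → C := fun p => ⟨⟨(p.1 : G) * D.φ ^ (p.2 : ℕ), D.E.mul_mem (D.V_le p.1.2) (D.E.pow_mem D.φE _)⟩,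
    mem_centralizer_iff.2 fun w hw => Subtype.ext
      (((D.V_comm p.1.2 ⟨w, hw, rfl⟩).mul_left ((D.V_φ ⟨w, hw, rfl⟩).pow_left _)).symm.eq)⟩
  have hinj : Function.Injective f := by
    rintro ⟨⟨v, hv⟩, i⟩ ⟨⟨v', hv'⟩, i'⟩ heq
    have e' : v * D.φ ^ (i : ℕ) = v' * D.φ ^ (i' : ℕ) := congrArg (fun x : C => ((x : D.E) : G)) heq
    have hd : v'⁻¹ * v = D.φ ^ ((i' : ℕ) + 2 * i) := by
      rw [inv_mul_eq_iff_eq_mul, pow_add, ← mul_assoc, ← e', mul_assoc, ← pow_add,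
        show (i : ℕ) + 2 * i = 3 * i by ring, pow_mul, D.φ3, one_pow, mul_one]
    have hone : v'⁻¹ * v = 1 := eq_one_of_two_three (D.V_sq (mul_mem (inv_mem hv') hv))
      (by rw [hd, ← pow_mul, mul_comm, pow_mul, D.φ3, one_pow])
    have hvv : v' = v := inv_mul_eq_one.1 hone
    subst hvv
    rw [hone, exp3 D.φ3] at hd
    obtain ⟨ha, -⟩ := D.nine_inj (b := 0) (Nat.mod_lt ((i' : ℕ) + 2 * i) (by norm_num : 0 < 3)) (by norm_num)
      (by rw [pow_zero, mul_one]; exact hd.symm)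
    exact Prod.ext rfl (Fin.ext (by have := i.2; have := i'.2; dsimp only; omega))
  have hbij : Function.Bijective f := (Nat.bijective_iff_injective_and_card f).2 ⟨hinj, by
    rw [Nat.card_prod, D.V_card, Nat.card_fin, hC, D.ed.card_centV]⟩
  obtain ⟨⟨v, i⟩, hp⟩ := hbij.2 ⟨⟨e, he⟩, mem_centralizer_iff.2 fun w hw =>
    Subtype.ext (hc (w : G) ⟨w, hw, rfl⟩).eq.symm⟩
  exact ⟨v, v.2, i, (congrArg (fun x : C => ((x : D.E) : G)) hp).symm⟩

omit [Finite G] in
theorem tV {v : G} (hv : v ∈ D.V) : Commute v D.t := D.hEt v (D.V_le hv)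

/-- The Sylow 2-subgroup `⟨t⟩ × V`. -/
def S : Subgroup G where
  carrier := {x | x ∈ D.V ∨ D.t * x ∈ D.V}
  one_mem' := Or.inl (one_mem _)
  mul_mem' := by
    rintro x y (hx | hx) (hy | hy)
    · exact Or.inl (mul_mem hx hy)
    · refine Or.inr ?_
      rw [← mul_assoc, ← (D.tV hx).eq, mul_assoc]
      exact mul_mem hx hy
    · exact Or.inr (by rw [← mul_assoc]; exact mul_mem hx hy)
    · refine Or.inl ?_
      have hc := (D.tV hx).eq
      have h1 : D.t * x * (D.t * y) = x * y := by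
        rw [← mul_assoc, hc, ← mul_assoc D.t D.t, D.tt, one_mul]
      exact h1 ▸ mul_mem hx hy
  inv_mem' := by
    rintro x (hx | hx)
    · exact Or.inl (inv_mem hx)
    · refine Or.inr ?_
      have h1 : x⁻¹ = (D.t * x)⁻¹ * D.t := by rw [mul_inv_rev, mul_assoc, inv_mul_cancel, mul_one]
      rw [h1, ← mul_assoc, ← (D.tV (inv_mem hx)).eq, mul_assoc, D.tt, mul_one]
      exact inv_mem hx

omit [Finite G] in
theorem tS : D.t ∈ D.S := Or.inr (by rw [D.tt]; exact one_mem _)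

omit [Finite G] in
theorem VS : D.V ≤ D.S := fun _ hv => Or.inl hv

omit [Finite G] in
theorem S_cases {s : G} (hs : s ∈ D.S) : ∃ v ∈ D.V, s = v ∨ s = D.t * v := by
  rcases hs with h | h
  · exact ⟨s, h, Or.inl rfl⟩
  · exact ⟨_, h, Or.inr (by rw [← mul_assoc, D.tt, one_mul])⟩

omit [Finite G] in
theorem S_sq {s : G} (hs : s ∈ D.S) : s * s = 1 := by
  obtain ⟨v, hv, rfl | rfl⟩ := D.S_cases hs
  · exact D.V_sq hv
  · rw [← mul_assoc, mul_assoc D.t v D.t, (D.tV hv).eq, ← mul_assoc, D.tt, one_mul, D.V_sq hv]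

omit [Finite G] in
theorem S_comm {s s' : G} (hs : s ∈ D.S) (hs' : s' ∈ D.S) : Commute s s' := by
  have h1 := D.S_sq (mul_mem hs hs')
  show s * s' = s' * s
  rw [← inv_eq_of_mul_eq_one_left h1, mul_inv_rev, inv_eq_of_mul_eq_one_left (D.S_sq hs),
    inv_eq_of_mul_eq_one_left (D.S_sq hs')]

theorem S_card : Nat.card D.S = 8 := by
  let f : Bool × D.V → D.S := fun p => ⟨(bif p.1 then D.t else 1) * p.2, by
    cases p.1
    · exact Or.inl (by simp [p.2.2])
    · exact Or.inr (by simp [← mul_assoc, D.tt, p.2.2])⟩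
  have hf : Function.Bijective f := by
    refine ⟨?_, fun s => ?_⟩
    · rintro ⟨a, v⟩ ⟨b, w⟩ e
      have e' : (bif a then D.t else 1) * (v : G) = (bif b then D.t else 1) * w := congrArg Subtype.val e
      cases a <;> cases b <;> simp only [cond_true, cond_false, one_mul] at e'
      · exact Prod.ext rfl (Subtype.ext e')
      · refine absurd ?_ D.t_not
        rw [← mul_inv_eq_of_eq_mul e']
        exact D.V_le (mul_mem v.2 (inv_mem w.2))
      · refine absurd ?_ D.t_not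
        rw [← mul_inv_eq_of_eq_mul e'.symm]
        exact D.V_le (mul_mem w.2 (inv_mem v.2))
      · exact Prod.ext rfl (Subtype.ext (mul_left_cancel e'))
    · obtain ⟨v, hv, e | e⟩ := D.S_cases s.2
      · exact ⟨⟨false, v, hv⟩, Subtype.ext (by simp [f, e])⟩
      · exact ⟨⟨true, v, hv⟩, Subtype.ext (by simp [f, e])⟩
  rw [← Nat.card_congr (Equiv.ofBijective f hf), Nat.card_prod, D.V_card, Nat.card_eq_fintype_card, Fintype.card_bool]

theorem exists_sylow : ∃ P : Sylow 2 G, (P : Subgroup G) = D.S := by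
  haveI : Fact (Nat.Prime 2) := ⟨Nat.prime_two⟩
  obtain ⟨P, hP⟩ := (IsPGroup.of_card (n := 3) (by rw [D.S_card]; norm_num) : IsPGroup 2 D.S).exists_le_sylow
  exact ⟨P, (Subgroup.eq_of_le_of_card_ge hP (by rw [D.amb.eight P, D.S_card])).symm⟩

/-- The centralizer of the Sylow 2-subgroup. -/
theorem cent_S {c : G} (hc : ∀ s ∈ D.S, Commute c s) : ∃ s ∈ D.S, ∃ i : ℕ, c = s * D.φ ^ i := by
  rcases D.cover c (hc _ D.tS) with h | h
  · obtain ⟨v, hv, i, e⟩ := D.cent_V h fun v hv => hc v (D.VS hv)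
    exact ⟨v, D.VS hv, i, e⟩
  · obtain ⟨v, hv, i, e⟩ := D.cent_V h fun v hv => (D.tV hv).symm.mul_left (hc v (D.VS hv))
    exact ⟨D.t * v, mul_mem D.tS (D.VS hv), i, by rw [mul_assoc, ← e, ← mul_assoc, D.tt, one_mul]⟩

omit [Finite G] in
theorem φS {s : G} (hs : s ∈ D.S) : Commute D.φ s := by
  obtain ⟨v, hv, rfl | rfl⟩ := D.S_cases hs
  · exact D.V_φ hv
  · exact D.φt.mul_right (D.V_φ hv)

theorem odd_of_three {x : G} (h : x ^ 3 = 1) : Odd (orderOf x) :=
  (by decide : Odd 3).of_dvd_nat (orderOf_dvd_of_pow_eq_one h)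

/-- The normalizer of the Sylow 2-subgroup centralizes `φ`. -/
theorem norm_φ {n : G} (hn : n ∈ normalizer (D.S : Set G)) : Commute n D.φ := by
  haveI : Fact (Nat.Prime 2) := ⟨Nat.prime_two⟩
  have key : ∀ m ∈ normalizer (D.S : Set G), ∃ i : ℕ, m * D.φ * m⁻¹ = D.φ ^ i := by
    intro m hm
    have hc : ∀ s ∈ D.S, Commute (m * D.φ * m⁻¹) s := fun s hs => by
      have hs' : m⁻¹ * s * m ∈ D.S := by simpa using (mem_normalizer_iff.1 (inv_mem hm) s).1 hs
      have := (D.φS hs').map (MulAut.conj m).toMonoidHom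
      simpa [mul_assoc] using this
    obtain ⟨s, hs, i, e⟩ := D.cent_S hc
    have hm3 : (m * D.φ * m⁻¹) ^ 3 = 1 := by rw [conj_pow, D.φ3, mul_one, mul_inv_cancel]
    have hs1 : s = 1 := by
      refine eq_one_of_two_three (D.S_sq hs) ?_
      rw [e, ((D.φS hs).symm.pow_right i).mul_pow, ← pow_mul D.φ, mul_comm i, pow_mul, D.φ3, one_pow,
        mul_one] at hm3
      exact hm3
    exact ⟨i, by rw [e, hs1, one_mul]⟩
  obtain ⟨i, hi⟩ := key n hn
  rw [exp3 D.φ3] at hi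
  rcases (show i % 3 = 0 ∨ i % 3 = 1 ∨ i % 3 = 2 by omega) with e | e | e <;> rw [e] at hi
  · rw [pow_zero] at hi; exact absurd (conj_eq_one_iff.1 hi) D.φ1
  · rw [pow_one] at hi; exact mul_inv_eq_iff_eq_mul.1 hi
  exfalso
  -- the two-part of `n` inverts `φ`
  obtain ⟨k, o, ⟨m, hm⟩, hko⟩ := Nat.exists_eq_two_pow_mul_odd (orderOf_pos n).ne'
  have hsq : Commute (n ^ 2) D.φ := by
    refine mul_inv_eq_iff_eq_mul.1 ?_
    rw [pow_two, show n * n * D.φ * (n * n)⁻¹ = n * (n * D.φ * n⁻¹) * n⁻¹ by group, hi, ← conj_pow, hi, ← pow_mul,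
      exp3 D.φ3, pow_one]
  have hno : n ^ o * D.φ * (n ^ o)⁻¹ = D.φ ^ 2 := by
    rw [hm, pow_succ', pow_mul, show n * (n ^ 2) ^ m * D.φ * (n * (n ^ 2) ^ m)⁻¹ =
      n * ((n ^ 2) ^ m * D.φ * ((n ^ 2) ^ m)⁻¹) * n⁻¹ by group, mul_inv_eq_iff_eq_mul.2 (hsq.pow_left m).eq, hi]
  obtain ⟨P, hP⟩ := D.exists_sylow
  have hz : IsPGroup 2 (zpowers (n ^ o)) := fun x => ⟨k, Subtype.ext (by
    obtain ⟨j, hj⟩ := Subgroup.mem_zpowers_iff.1 x.2
    rw [Subgroup.coe_pow, Subgroup.coe_one, ← hj, ← zpow_natCast, ← zpow_mul, mul_comm j, zpow_mul, zpow_natCast,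
      ← pow_mul, mul_comm o, ← hko, pow_orderOf_eq_one, one_zpow])⟩
  have hS : n ^ o ∈ D.S := by
    have h1 : n ^ o ∈ zpowers (n ^ o) ⊓ (P : Subgroup G) :=
      hz.inf_normalizer_sylow P ▸ ⟨Subgroup.mem_zpowers _, by
        show n ^ o ∈ normalizer ((P : Subgroup G) : Set G)
        rw [hP]; exact pow_mem hn o⟩
    exact hP ▸ h1.2
  rw [mul_inv_eq_iff_eq_mul.2 (D.φS hS).symm.eq, pow_two] at hno
  exact D.φ1 (left_eq_mul.1 hno)

omit [Finite G] in
theorem h_S {s : G} (hs : s ∈ D.S) : D.h * s * D.h⁻¹ ∈ D.S := by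
  obtain ⟨v, hv, rfl | rfl⟩ := D.S_cases hs
  · exact D.VS (D.V_h hv).1
  · rw [← mul_assoc D.h, D.ht'.eq, mul_assoc D.t, mul_assoc D.t]
    exact mul_mem D.tS (D.VS (D.V_h hv).1)

theorem h_norm : D.h ∈ normalizer (D.S : Set G) := mem_normalizer_fintype fun _ hs => D.h_S hs

/-- The orbit of a nontrivial element of `V` under `h`. -/
theorem V_three {v w : G} (hv : v ∈ D.V) (hv1 : v ≠ 1) (hw : w ∈ D.V) (hw1 : w ≠ 1) :
    ∃ i : ℕ, D.h ^ i * v * (D.h ^ i)⁻¹ = w := by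
  classical
  obtain ⟨hv', hne⟩ := D.V_h hv
  specialize hne hv1
  have hv'1 : D.h * v * D.h⁻¹ ≠ 1 := fun e => hv1 (conj_eq_one_iff.1 e)
  set v' := D.h * v * D.h⁻¹ with hv'def
  obtain ⟨hv'', hne'⟩ := D.V_h hv'
  specialize hne' hv'1
  set v'' := D.h * v' * D.h⁻¹ with hv''def
  have hv''1 : v'' ≠ 1 := fun e => hv'1 (conj_eq_one_iff.1 e)
  have hv''v : v'' ≠ v := fun e => hne (by
    have h3' : D.h * v'' * D.h⁻¹ = v := by
      rw [hv''def, hv'def, show D.h * (D.h * (D.h * v * D.h⁻¹) * D.h⁻¹) * D.h⁻¹ = D.h ^ 3 * v * (D.h ^ 3)⁻¹ by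
        simp [pow_succ, mul_assoc], D.h3, one_mul, inv_one, mul_one]
    rw [e] at h3'
    exact h3')
  have hset : (D.V : Set G) = ↑({1, v, v', v''} : Finset G) := by
    refine (Set.eq_of_subset_of_ncard_le (fun x hx => ?_) ?_ (Set.toFinite _)).symm
    · simp only [Finset.coe_insert, Finset.coe_singleton, Set.mem_insert_iff, Set.mem_singleton_iff] at hx
      rcases hx with rfl | rfl | rfl | rfl
      exacts [one_mem _, hv, hv', hv'']
    · rw [← Nat.card_coe_set_eq]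
      refine (le_of_eq D.V_card).trans ?_
      rw [Set.ncard_coe_finset, Finset.card_insert_of_notMem, Finset.card_insert_of_notMem,
        Finset.card_insert_of_notMem, Finset.card_singleton]
      all_goals simp [hv1.symm, hv'1.symm, hv''1.symm, hne.symm, hne'.symm, hv''v.symm]
  have hwm : w ∈ (D.V : Set G) := hw
  rw [hset] at hwm
  simp only [Finset.coe_insert, Finset.coe_singleton, Set.mem_insert_iff, Set.mem_singleton_iff] at hwm
  rcases hwm with e | e | e | e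
  · exact absurd e hw1
  · exact ⟨0, by simp [e]⟩
  · exact ⟨1, by rw [pow_one, e]⟩
  · exact ⟨2, by rw [e, hv''def, hv'def, pow_two]; group⟩

/-- The normalizer of the Sylow 2-subgroup is transitive on its involutions. -/
theorem exists_move [IsSimpleGroup G] {s : G} (hs : s ∈ D.S) (hs1 : s ≠ 1) :
    ∃ n ∈ normalizer (D.S : Set G), n * D.t * n⁻¹ = s := by
  classical
  haveI : Fact (Nat.Prime 2) := ⟨Nat.prime_two⟩
  obtain ⟨P, hP⟩ := D.exists_sylow
  set N := normalizer (D.S : Set G) with hN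
  have hPc : IsMulCommutative (P : Subgroup G) :=
    ⟨⟨fun a b => Subtype.ext (D.S_comm (hP.le a.2) (hP.le b.2)).eq⟩⟩
  -- `t` is moved
  obtain ⟨n₀, hn₀, hne⟩ : ∃ n ∈ N, n * D.t * n⁻¹ ≠ D.t := by
    by_contra hall
    push Not at hall
    have h1 := (Transfer.abelian_sylow_decomp P hPc).1
    have hC : D.t ∈ (P : Subgroup G) ⊓ centralizer (normalizer (P : Set G) : Set G) :=
      ⟨hP.ge D.tS, mem_centralizer_iff.2 fun n hn => by
        refine mul_inv_eq_iff_eq_mul.1 (hall n ?_)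
        rw [hN, ← hP]
        exact hn⟩
    have htop : Cfsg.pResidual 2 G = ⊤ := by
      refine ((Subgroup.normal_of_characteristic _).eq_bot_or_eq_top).resolve_left fun e => D.amb.na ?_
      obtain ⟨k, hk⟩ := Transfer.exists_pResidual_index (G := G) 2
      rw [e, index_bot] at hk
      have hG : IsPGroup 2 ↥(⊤ : Subgroup G) := IsPGroup.of_card (n := k) (by rw [card_top, hk])
      have hTt : (P : Subgroup G) = ⊤ := (P.is_maximal' hG le_top).symm
      exact ⟨⟨fun a b => congrArg Subtype.val (hPc.is_comm.comm (⟨a, hTt ▸ mem_top a⟩ : ↥(P : Subgroup G))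
        ⟨b, hTt ▸ mem_top b⟩)⟩⟩
    rw [htop, inf_top_eq] at h1
    exact D.t1 (mem_bot.1 (h1.le ⟨hC.1, hC⟩))
  set O : Set G := {x | ∃ n ∈ N, n * D.t * n⁻¹ = x} with hO
  have hOodd : Odd O.ncard := by
    letI : MulAction ↥N G := MulAction.compHom G (MulAut.conj.comp N.subtype)
    have hact : ∀ (m : ↥N) (y : G), m • y = (m : G) * y * (m : G)⁻¹ := fun _ _ => rfl
    have horb : O = MulAction.orbit ↥N D.t := by
      ext y
      simp only [hO, Set.mem_ofPred_eq, MulAction.mem_orbit_iff, hact]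
      exact ⟨fun ⟨m, hm, e⟩ => ⟨⟨m, hm⟩, e⟩, fun ⟨⟨m, hm⟩, e⟩ => ⟨m, hm, e⟩⟩
    rw [horb, ← Nat.card_coe_set_eq, Nat.card_congr (MulAction.orbitEquivQuotientStabilizer ↥N D.t),
      ← Subgroup.index_eq_card]
    have hle : (D.S).subgroupOf N ≤ MulAction.stabilizer ↥N D.t := fun m hm => by
      rw [MulAction.mem_stabilizer_iff, hact, (D.S_comm (s := (m : G)) hm D.tS).eq, mul_inv_cancel_right]
    refine Nat.odd_iff.2 (Nat.two_dvd_ne_zero.1 fun h2 => ?_)
    refine P.not_dvd_index (h2.trans ?_)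
    rw [hP]
    exact (Subgroup.index_dvd_of_le hle).trans
      (Subgroup.relIndex_dvd_index_of_le (Subgroup.le_normalizer (H := D.S)))
  have hOh : ∀ x ∈ O, ∀ i : ℕ, D.h ^ i * x * (D.h ^ i)⁻¹ ∈ O := by
    rintro x ⟨n, hn, rfl⟩ i
    exact ⟨D.h ^ i * n, mul_mem (pow_mem D.h_norm i) hn, by group⟩
  -- the orbit contains everything
  suffices hall : s ∈ O by exact hall
  obtain ⟨v, hv, hv1⟩ : ∃ v ∈ D.V, v ≠ 1 := by
    by_contra hno
    push Not at hno
    have := D.V_card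
    rw [(Subgroup.eq_bot_iff_forall _).2 hno, Subgroup.card_bot] at this
    omega
  have hVall : v ∈ O → ∀ w ∈ D.V, w ≠ 1 → w ∈ O := fun h w hw hw1 => by
    obtain ⟨i, rfl⟩ := D.V_three hv hv1 hw hw1
    exact hOh v h i
  have hTall : D.t * v ∈ O → ∀ w ∈ D.V, w ≠ 1 → D.t * w ∈ O := fun h w hw hw1 => by
    obtain ⟨i, rfl⟩ := D.V_three hv hv1 hw hw1
    have := hOh _ h i
    rwa [← mul_assoc, (D.ht'.pow_left i).eq, mul_assoc D.t, mul_assoc D.t] at this
  have hback : ∀ w ∈ D.V, w ≠ 1 → (w ∈ O → v ∈ O) ∧ (D.t * w ∈ O → D.t * v ∈ O) := fun w hw hw1 => by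
    obtain ⟨i, hi⟩ := D.V_three hw hw1 hv hv1
    refine ⟨fun h => hi ▸ hOh w h i, fun h => ?_⟩
    have := hOh _ h i
    rwa [← mul_assoc, (D.ht'.pow_left i).eq, mul_assoc D.t, mul_assoc D.t, hi] at this
  have htO : D.t ∈ O := ⟨1, one_mem _, by group⟩
  have hOcases : ∀ x ∈ O, x = D.t ∨ (∃ w ∈ D.V, w ≠ 1 ∧ (x = w ∨ x = D.t * w)) := by
    rintro x ⟨n, hn, rfl⟩
    obtain ⟨w, hw, e⟩ := D.S_cases ((mem_normalizer_iff.1 hn _).1 D.tS)
    by_cases hw1 : w = 1
    · refine Or.inl ?_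
      rcases e with e | e
      · exact absurd (conj_eq_one_iff.1 (e.trans hw1)) D.t1
      · rw [e, hw1, mul_one]
    · exact Or.inr ⟨w, hw, hw1, e⟩
  have hgoal : v ∈ O → D.t * v ∈ O → s ∈ O := fun hA hB => by
    obtain ⟨w, hw, rfl | rfl⟩ := D.S_cases hs
    · exact hVall hA _ hw hs1
    · by_cases hw1 : w = 1
      · rw [hw1, mul_one]; exact htO
      · exact hTall hB _ hw hw1
  have hVc : ((D.V : Set G) \ {1}).ncard = 3 := by
    rw [Set.ncard_sdiff_singleton_of_mem (one_mem D.V), ← Nat.card_coe_set_eq]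
    have := D.V_card
    rw [show Nat.card ↑(D.V : Set G) = 4 from this]
  by_cases hA : v ∈ O
  · by_cases hB : D.t * v ∈ O
    · exact hgoal hA hB
    exfalso
    have heq : O = insert D.t ((D.V : Set G) \ {1}) := by
      ext x
      refine ⟨fun hx => ?_, ?_⟩
      · rcases hOcases x hx with e | ⟨w, hw, hw1, rfl | rfl⟩
        · exact Or.inl e
        · exact Or.inr ⟨hw, hw1⟩
        · exact absurd ((hback w hw hw1).2 hx) hB
      · rintro (rfl | ⟨hw, hw1⟩)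
        exacts [htO, hVall hA x hw hw1]
    rw [heq, Set.ncard_insert_of_notMem (fun h => D.t_not (D.V_le h.1)), hVc] at hOodd
    exact (Nat.not_even_iff_odd.2 hOodd) (by decide)
  · by_cases hB : D.t * v ∈ O
    · exfalso
      have heq : O = (fun x => D.t * x) '' (D.V : Set G) := by
        ext x
        refine ⟨fun hx => ?_, ?_⟩
        · rcases hOcases x hx with e | ⟨w, hw, hw1, rfl | rfl⟩
          · exact ⟨1, one_mem _, by simp [e]⟩
          · exact absurd ((hback _ hw hw1).1 hx) hA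
          · exact ⟨w, hw, rfl⟩
        · rintro ⟨w, hw, rfl⟩
          by_cases hw1 : w = 1
          · simpa [hw1] using htO
          · exact hTall hB w hw hw1
      rw [heq, Set.ncard_image_of_injective _ (mul_right_injective D.t), ← Nat.card_coe_set_eq] at hOodd
      rw [show Nat.card ↑(D.V : Set G) = 4 from D.V_card] at hOodd
      exact (Nat.not_even_iff_odd.2 hOodd) (by decide)
    · exfalso
      rcases hOcases _ ⟨n₀, hn₀, rfl⟩ with e | ⟨w, hw, hw1, e | e⟩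
      · exact hne e
      · exact hA ((hback w hw hw1).1 (e ▸ ⟨n₀, hn₀, rfl⟩))
      · exact hB ((hback w hw hw1).2 (e ▸ ⟨n₀, hn₀, rfl⟩))

/-- All involutions are conjugate. -/
theorem exists_conj [IsSimpleGroup G] {x : G} (hx : x * x = 1) (hx1 : x ≠ 1) :
    ∃ g : G, g * D.t * g⁻¹ = x := by
  haveI : Fact (Nat.Prime 2) := ⟨Nat.prime_two⟩
  obtain ⟨P, hP⟩ := D.exists_sylow
  obtain ⟨c, hc⟩ := Invol.exists_conj_mem_sylow (p := 2) (n := 1) (x := x)
    (by rw [pow_one]; exact orderOf_eq_prime (by rw [pow_two, hx]) hx1) P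
  obtain ⟨n, -, hn⟩ := D.exists_move (hP.le hc) (fun e => hx1 (conj_eq_one_iff.1 e))
  exact ⟨c⁻¹ * n, by rw [show c⁻¹ * n * D.t * (c⁻¹ * n)⁻¹ = c⁻¹ * (n * D.t * n⁻¹) * c by group, hn]; group⟩

/-- A subgroup through `t` meeting `E` in odd order is odd by `⟨t⟩`. -/
theorem odd_part (C : Subgroup G) (htC : D.t ∈ C) (hno : ∀ x ∈ C, x ∈ D.E → x * x = 1 → x = 1) :
    ∃ K : Subgroup G, K ≤ C ∧ Odd (Nat.card K) ∧ (∀ x ∈ C, Odd (orderOf x) → x ∈ K) ∧
      C ≤ normalizer (K : Set G) ∧ (∀ x ∈ C, x ∈ K ∨ x * D.t ∈ K) := by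
  haveI : Fact (Nat.Prime 2) := ⟨Nat.prime_two⟩
  have hz : IsPGroup 2 (zpowers (⟨D.t, htC⟩ : C)) :=
    IsPGroup.of_card (n := 1) (by rw [Nat.card_zpowers, ← Subgroup.orderOf_coe]; simpa using D.ht)
  obtain ⟨P, hP⟩ := hz.exists_le_sylow
  have htP : (⟨D.t, htC⟩ : C) ∈ (P : Subgroup C) := hP (Subgroup.mem_zpowers _)
  have hsq : ∀ x ∈ (P : Subgroup C), (x : G) * x = 1 := fun x hx => by
    obtain ⟨k, hk⟩ := P.isPGroup' ⟨x, hx⟩
    exact D.amb.sq2 _ ⟨k, congrArg (fun y : (P : Subgroup C) => ((y : C) : G)) hk⟩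
  have hmem : ∀ x ∈ (P : Subgroup C), x = 1 ∨ x = ⟨D.t, htC⟩ := by
    intro x hx
    have h1 := hsq _ (mul_mem hx htP)
    have hxt : Commute (x : G) D.t := by
      show (x : G) * D.t = D.t * x
      have h2 : ((x : G) * D.t) * (x * D.t) = 1 := h1
      rw [← inv_eq_of_mul_eq_one_left h2, mul_inv_rev, D.tinv, inv_eq_of_mul_eq_one_left (hsq x hx)]
    rcases D.cover _ hxt with h | h
    · exact Or.inl (Subtype.ext (hno x x.2 h (hsq x hx)))
    · refine Or.inr (Subtype.ext ?_)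
      have h2 : D.t * (x : G) * (D.t * x) = 1 := hsq _ (mul_mem htP hx)
      have h3 := hno _ (mul_mem htC x.2) h h2
      calc (x : G) = D.t⁻¹ := eq_inv_of_mul_eq_one_right h3
        _ = D.t := D.tinv
  have hle : normalizer ((P : Subgroup C) : Set C) ≤ centralizer ((P : Subgroup C) : Set C) := by
    intro n hn
    refine mem_centralizer_iff.2 fun x hx => ?_
    rcases hmem x hx with rfl | rfl
    · simp
    · rcases hmem _ ((mem_normalizer_iff.1 hn _).1 hx) with e | e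
      · exact absurd (congrArg Subtype.val (conj_eq_one_iff.1 e)) D.t1
      · exact (mul_inv_eq_iff_eq_mul.1 e).symm
  set f := MonoidHom.transferSylow P hle with hf
  have hodd : Odd (Nat.card f.ker) := by
    rw [← Nat.not_even_iff_odd, even_iff_two_dvd]
    exact MonoidHom.not_dvd_card_ker_transferSylow P hle
  have hn : f.ker.Normal := f.normal_ker
  have hcompl : Subgroup.IsComplement' f.ker (P : Subgroup C) := MonoidHom.ker_transferSylow_isComplement' P hle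
  have hOmem : ∀ x : C, Odd (orderOf x) → x ∈ f.ker := fun x ho => by
    rw [MonoidHom.mem_ker]
    obtain ⟨n, hn⟩ := P.isPGroup' (f x)
    exact orderOf_eq_one_iff.1 (Nat.eq_one_of_dvd_coprimes ((Nat.coprime_two_left.2 ho).pow_left n)
      (orderOf_dvd_of_pow_eq_one hn) (orderOf_map_dvd _ _))
  obtain ⟨K0, hK0⟩ : ∃ K0 : Subgroup C, K0 = f.ker := ⟨_, rfl⟩
  rw [← hK0] at hodd hn hcompl hOmem
  clear hK0 hf
  refine ⟨K0.map C.subtype, Subgroup.map_subtype_le _, ?_, fun x hx ho => ?_, fun c hc => ?_, fun x hx => ?_⟩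
  · rwa [Subgroup.card_map_of_injective C.subtype_injective]
  · exact ⟨⟨x, hx⟩, hOmem _ (by rwa [← Subgroup.orderOf_coe]), rfl⟩
  · refine mem_normalizer_fintype fun y hy => ?_
    obtain ⟨z, hz, rfl⟩ := hy
    exact Subgroup.mem_map.2 ⟨⟨c, hc⟩ * z * ⟨c, hc⟩⁻¹, hn.conj_mem z hz _,
      by simp only [Subgroup.subtype_apply, Subgroup.coe_mul, Subgroup.coe_inv]⟩
  · obtain ⟨⟨k, p⟩, hkp⟩ := hcompl.surjective ⟨x, hx⟩
    have hkp' : (k : G) * (p : C) = x := congrArg Subtype.val hkp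
    rcases hmem p p.2 with e | e
    · refine Or.inl ⟨k, k.2, ?_⟩
      rw [e] at hkp'
      simpa using hkp'
    · refine Or.inr ⟨k, k.2, ?_⟩
      rw [e] at hkp'
      rw [← hkp']
      show (k : G) = k * D.t * D.t
      rw [mul_assoc, D.tt, mul_one]

theorem h_cent_odd : ∀ x ∈ centralizer ({D.h} : Set G), x ∈ D.E → x * x = 1 → x = 1 := fun x hx hxE hx2 => by
  have h1 : (⟨x, hxE⟩ : D.E) ∈ centralizer ({⁅⁅D.ed.u, D.ed.φ⁆, D.ed.φ⁆} : Set D.E) :=
    mem_centralizer_singleton_iff.2 (Subtype.ext (by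
      rw [Subgroup.coe_mul, Subgroup.coe_mul, D.coe_h]; exact mem_centralizer_singleton_iff.1 hx))
  rw [D.ed.cent_h] at h1
  have h2 := Subgroup.orderOf_dvd_natCard _ h1
  rw [D.ed.card_F0, ← Subgroup.orderOf_coe] at h2
  exact orderOf_eq_one_iff.1 (Nat.eq_one_of_dvd_coprimes (a := 2) (b := 81) (by norm_num)
    (orderOf_dvd_of_pow_eq_one (by rw [pow_two]; exact hx2)) h2)

/-- `φ` is not conjugate to its inverse. -/
theorem φ_nonreal (g : G) : g * D.φ * g⁻¹ ≠ D.φ⁻¹ := by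
  intro hg
  haveI : Fact (Nat.Prime 2) := ⟨Nat.prime_two⟩
  set X := centralizer ({D.φ} : Set G) with hX
  obtain ⟨P, hP⟩ := D.exists_sylow
  have hPX : (P : Subgroup G) ≤ X := fun s hs => mem_centralizer_singleton_iff.2 (D.φS (hP.le hs)).symm.eq
  have hgP : ∀ s ∈ D.S, g * s * g⁻¹ ∈ X := fun s hs => by
    have h1 : Commute (g * D.φ * g⁻¹) (g * s * g⁻¹) := (D.φS hs).map (MulAut.conj g).toMonoidHom
    rw [hg] at h1
    exact mem_centralizer_singleton_iff.2 (Commute.inv_left_iff.1 h1).symm.eq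
  have hle : ((g • P : Sylow 2 G) : Subgroup G) ≤ X := by
    rintro _ ⟨s, hs, rfl⟩
    exact hgP s (hP.le hs)
  obtain ⟨x, hx⟩ := MulAction.exists_smul_eq X ((g • P).subtype hle) (P.subtype hPX)
  rw [Sylow.smul_subtype] at hx
  have hxg : ((x : G) * g) • P = P := by
    rw [mul_smul]
    exact Sylow.subtype_injective hx
  rw [Sylow.smul_eq_iff_mem_normalizer] at hxg
  replace hxg : (x : G) * g ∈ normalizer (D.S : Set G) := hP ▸ (show _ ∈ normalizer ((P : Subgroup G) : Set G) from hxg)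
  have h2 := D.norm_φ hxg
  have h3 : (x : G) * g * D.φ * ((x : G) * g)⁻¹ = D.φ⁻¹ := by
    rw [show (x : G) * g * D.φ * ((x : G) * g)⁻¹ = x * (g * D.φ * g⁻¹) * (x : G)⁻¹ by group, hg,
      ((show Commute (x : G) D.φ from mem_centralizer_singleton_iff.1 x.2).inv_right).eq, mul_inv_cancel_right]
  rw [mul_inv_eq_iff_eq_mul.2 h2.eq] at h3
  exact D.φ1 (eq_one_of_two_three (mul_eq_one_iff_eq_inv.2 h3) D.φ3)

/-- `h` is not conjugate to its inverse. -/
theorem h_nonreal (g : G) : g * D.h * g⁻¹ ≠ D.h⁻¹ := by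
  intro hg
  haveI : Fact (Nat.Prime 2) := ⟨Nat.prime_two⟩
  set C := centralizer ({D.h} : Set G) with hC
  have htC : D.t ∈ C := mem_centralizer_singleton_iff.2 D.ht'.symm.eq
  obtain ⟨K, hKC, hKodd, -, hCK, hcov⟩ := D.odd_part C htC D.h_cent_odd
  have hsC : g * D.t * g⁻¹ ∈ C := by
    have h1 : Commute (g * D.h * g⁻¹) (g * D.t * g⁻¹) := D.ht'.map (MulAut.conj g).toMonoidHom
    rw [hg] at h1
    exact mem_centralizer_singleton_iff.2 (Commute.inv_left_iff.1 h1).symm.eq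
  set s := g * D.t * g⁻¹ with hs
  have hs2 : s * s = 1 := by rw [hs, conj_mul, D.tt, mul_one, mul_inv_cancel]
  have hs1 : s ≠ 1 := fun e => D.t1 (conj_eq_one_iff.1 e)
  have hkK : s * D.t ∈ K := (hcov s hsC).resolve_left fun h =>
    hs1 (GW.Klein.eq_one_of_odd hKodd h hs2)
  -- `t` inverts `s t`
  set k := s * D.t with hk
  obtain ⟨m, hm⟩ : Odd (orderOf k) := hKodd.of_dvd_nat (Subgroup.orderOf_dvd_natCard _ hkK)
  have hinv : D.t * k * D.t = k⁻¹ := by
    rw [hk, mul_inv_rev, D.tinv, inv_eq_of_mul_eq_one_left hs2, mul_assoc, mul_assoc, D.tt, mul_one]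
  have hpow : k ^ (m + 1) * D.t * (k ^ (m + 1))⁻¹ = s := by
    have h1 : D.t * (k ^ (m + 1))⁻¹ = k ^ (m + 1) * D.t := by
      have h2 : D.t * k ^ (m + 1) * D.t⁻¹ = (k ^ (m + 1))⁻¹ := by
        rw [← conj_pow, D.tinv, hinv, inv_pow]
      rw [← h2, D.tinv, mul_assoc D.t, ← mul_assoc D.t D.t, D.tt, one_mul]
    rw [mul_assoc, h1, ← mul_assoc, ← pow_add, show m + 1 + (m + 1) = orderOf k + 1 by omega, pow_succ,
      pow_orderOf_eq_one, one_mul, hk, mul_assoc, D.tt, mul_one]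
  have hkC : k ^ (m + 1) ∈ C := hKC (K.pow_mem hkK _)
  set y := (k ^ (m + 1))⁻¹ * g with hy
  have hyt : Commute y D.t := mul_inv_eq_iff_eq_mul.1 (by
    rw [hy, show (k ^ (m + 1))⁻¹ * g * D.t * ((k ^ (m + 1))⁻¹ * g)⁻¹ = (k ^ (m + 1))⁻¹ * s * k ^ (m + 1) by
      rw [hs]; group, ← hpow]; group)
  have hyh : y * D.h * y⁻¹ = D.h⁻¹ := by
    rw [hy, show (k ^ (m + 1))⁻¹ * g * D.h * ((k ^ (m + 1))⁻¹ * g)⁻¹ =
      (k ^ (m + 1))⁻¹ * (g * D.h * g⁻¹) * k ^ (m + 1) by group, hg, mul_assoc,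
      ← (show Commute (k ^ (m + 1)) D.h from mem_centralizer_singleton_iff.1 hkC).inv_right.eq, inv_mul_cancel_left]
  have hE : ∀ e ∈ D.E, e * D.h * e⁻¹ ≠ D.h⁻¹ := fun e he h => by
    refine D.ed.h_nonreal ⟨e, he⟩ (Subtype.ext ?_)
    rw [Subgroup.coe_mul, Subgroup.coe_mul, Subgroup.coe_inv, Subgroup.coe_inv, D.coe_h]
    exact h
  rcases D.cover y hyt with h | h
  · exact hE y h hyh
  · refine hE _ h ?_
    rw [show D.t * y * D.h * (D.t * y)⁻¹ = D.t * (y * D.h * y⁻¹) * D.t⁻¹ by group, hyh,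
      (D.ht'.symm.inv_right).eq, mul_inv_cancel_right]

include D in
/-- An element of order three commuting with an involution is not conjugate to its inverse. -/
theorem three_nonreal [IsSimpleGroup G] {x s : G} (hx : x ^ 3 = 1) (hx1 : x ≠ 1) (hs : s * s = 1) (hs1 : s ≠ 1)
    (hc : Commute x s) (g : G) : g * x * g⁻¹ ≠ x⁻¹ := by
  intro hg
  obtain ⟨c, rfl⟩ := D.exists_conj hs hs1
  set y := c⁻¹ * x * c with hy
  have hy3 : y ^ 3 = 1 := by
    rw [show y ^ 3 = c⁻¹ * x ^ 3 * c by simp [hy, pow_succ, mul_assoc], hx, mul_one, inv_mul_cancel]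
  have hyt : Commute y D.t := by
    have := hc.map (MulAut.conj c⁻¹).toMonoidHom
    simpa [hy, mul_assoc] using this
  have hyE : y ∈ D.E := D.mem_E hyt (odd_of_three hy3)
  have hy1 : y ≠ 1 := fun e => hx1 (by
    rw [hy] at e
    simpa [mul_assoc] using congrArg (fun z => c * z * c⁻¹) e)
  have hyr : (c⁻¹ * g * c) * y * (c⁻¹ * g * c)⁻¹ = y⁻¹ := by
    rw [hy, show c⁻¹ * g * c * (c⁻¹ * x * c) * (c⁻¹ * g * c)⁻¹ = c⁻¹ * (g * x * g⁻¹) * c by group, hg]
    group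
  have key : ∀ w : G, (∀ k : G, k * w * k⁻¹ ≠ w⁻¹) → ∀ e : G, e * y * e⁻¹ ≠ w ∧ e * y * e⁻¹ ≠ w⁻¹ := by
    intro w hw e
    have hconj : (e * (c⁻¹ * g * c) * e⁻¹) * (e * y * e⁻¹) * (e * (c⁻¹ * g * c) * e⁻¹)⁻¹ = (e * y * e⁻¹)⁻¹ := by
      rw [show (e * (c⁻¹ * g * c) * e⁻¹) * (e * y * e⁻¹) * (e * (c⁻¹ * g * c) * e⁻¹)⁻¹ =
        e * ((c⁻¹ * g * c) * y * (c⁻¹ * g * c)⁻¹) * e⁻¹ by group, hyr]
      group
    refine ⟨fun h => hw _ (h ▸ hconj), fun h => ?_⟩
    rw [h, inv_inv, ← conj_inv, inv_eq_iff_eq_inv] at hconj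
    exact hw _ hconj
  rcases D.ed.classes ⟨y, hyE⟩ (Subtype.ext hy3) (fun e => hy1 (congrArg Subtype.val e)) with h | h | h | h <;>
    obtain ⟨e, he⟩ := isConj_iff.1 h <;> have he' := congrArg Subtype.val he
  · exact (key _ D.φ_nonreal e).1 he'
  · exact (key _ D.φ_nonreal e).2 he'
  · exact (key _ D.h_nonreal e).1 (he'.trans D.coe_h)
  · exact (key _ D.h_nonreal e).2 (he'.trans (by rw [Subgroup.coe_inv, D.coe_h]))

/-- The centralizer of `φ` and `t`. -/
theorem card_centXt : Nat.card ↥(centralizer ({D.φ} : Set G) ⊓ centralizer ({D.t} : Set G)) = 72 := by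
  set C := centralizer ({D.ed.φ} : Set D.E) with hC
  let f : Bool × C → ↥(centralizer ({D.φ} : Set G) ⊓ centralizer ({D.t} : Set G)) := fun p =>
    ⟨(bif p.1 then D.t else 1) * ((p.2 : D.E) : G), by
      have h1 : Commute ((p.2 : D.E) : G) D.φ := congrArg Subtype.val (mem_centralizer_singleton_iff.1 p.2.2)
      have h2 : Commute ((p.2 : D.E) : G) D.t := D.hEt _ (p.2 : D.E).2
      refine Subgroup.mem_inf.2 ⟨mul_mem ?_ (mem_centralizer_singleton_iff.2 h1.eq),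
        mul_mem ?_ (mem_centralizer_singleton_iff.2 h2.eq)⟩
      · cases p.1
        · exact one_mem _
        · exact mem_centralizer_singleton_iff.2 D.φt.symm.eq
      · cases p.1
        · exact one_mem _
        · exact mem_centralizer_singleton_iff.2 rfl⟩
  have hf : Function.Bijective f := by
    refine ⟨?_, fun x => ?_⟩
    · rintro ⟨a, v⟩ ⟨b, w⟩ e
      have e' : (bif a then D.t else 1) * ((v : D.E) : G) = (bif b then D.t else 1) * ((w : D.E) : G) :=
        congrArg Subtype.val e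
      cases a <;> cases b <;> simp only [cond_true, cond_false, one_mul] at e'
      · exact Prod.ext rfl (Subtype.ext (Subtype.ext e'))
      · refine absurd ?_ D.t_not
        rw [← mul_inv_eq_of_eq_mul e']
        exact D.E.mul_mem (v : D.E).2 (D.E.inv_mem (w : D.E).2)
      · refine absurd ?_ D.t_not
        rw [← mul_inv_eq_of_eq_mul e'.symm]
        exact D.E.mul_mem (w : D.E).2 (D.E.inv_mem (v : D.E).2)
      · exact Prod.ext rfl (Subtype.ext (Subtype.ext (mul_left_cancel e')))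
    · obtain ⟨hxφ, hxt⟩ := Subgroup.mem_inf.1 x.2
      rcases D.cover _ (mem_centralizer_singleton_iff.1 hxt) with h | h
      · refine ⟨⟨false, ⟨⟨x, h⟩, mem_centralizer_singleton_iff.2 (Subtype.ext (mem_centralizer_singleton_iff.1 hxφ))⟩⟩,
          Subtype.ext (one_mul _)⟩
      · refine ⟨⟨true, ⟨⟨_, h⟩, mem_centralizer_singleton_iff.2 (Subtype.ext
          (D.φt.symm.mul_left (mem_centralizer_singleton_iff.1 hxφ : Commute (x : G) D.φ)).eq)⟩⟩, Subtype.ext ?_⟩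
        show D.t * (D.t * (x : G)) = x
        rw [← mul_assoc, D.tt, one_mul]
  rw [← Nat.card_congr (Equiv.ofBijective f hf), Nat.card_prod, Nat.card_eq_fintype_card, Fintype.card_bool, hC,
    D.ed.card_centφ]

/-- The centralizer of `φ` and `t` normalizes the Sylow 2-subgroup. -/
theorem centXt_norm {x : G} (hφ : Commute x D.φ) (ht : Commute x D.t) : x ∈ normalizer (D.S : Set G) := by
  have hS : ∀ s ∈ D.S, s ∈ normalizer (D.S : Set G) := fun s hs => le_normalizer hs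
  have hφN : D.φ ∈ normalizer (D.S : Set G) := mem_normalizer_fintype fun s hs => by
    rwa [(D.φS hs).eq, mul_inv_cancel_right]
  have hE : ∀ e ∈ D.E, Commute e D.φ → e ∈ normalizer (D.S : Set G) := fun e he hc => by
    obtain ⟨v, hv, i, j, rfl⟩ := D.cent_φ he hc
    exact mul_mem (hS v (D.VS hv)) (mul_mem (pow_mem hφN i) (pow_mem D.h_norm j))
  rcases D.cover x ht with h | h
  · exact hE x h hφ
  · have := mul_mem (hS _ D.tS) (hE _ h (D.φt.symm.mul_left hφ))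
    rwa [← mul_assoc, D.tt, one_mul] at this

end DHyp

end Cfsg.Agent.Invol.JankoWard.CaseD
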