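import Cfsg.Agent.Lib.Invol.JankoWard.CaseDLocal
import Cfsg.Agent.Lib.Invol.JankoWard.CaseDSolv
import Cfsg.Agent.Lib.Grp.Coprime

/-!
Case D of the field part of the Janko–Thompson–Ward theorem: a simple group has no involution
with centralizer `⟨t⟩ × L2(27):3`.
-/

set_option autoImplicit false
set_option linter.unusedSectionVars false
set_option linter.style.haveILetI false

namespace Cfsg.Agent.Invol.JankoWard.CaseD

open Subgroup
open scoped commutatorElement Pointwise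

universe u

/-- The join of two commuting cyclic groups. -/
theorem mem_sup_zpowers {X : Type*} [Group X] {a b x : X} (hab : Commute a b)
    (hx : x ∈ zpowers a ⊔ zpowers b) : ∃ i j : ℤ, x = a ^ i * b ^ j := by
  rw [← SetLike.mem_coe, Subgroup.coe_mul_of_right_le_normalizer_left _ _ (Subgroup.zpowers_le.2
    (mem_normalizer_iff.2 fun y => by
      constructor
      · intro hy
        obtain ⟨i, rfl⟩ := Subgroup.mem_zpowers_iff.1 hy
        rw [← (hab.zpow_left i).eq, mul_inv_cancel_right]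
        exact hy
      · intro hy
        obtain ⟨i, hi⟩ := Subgroup.mem_zpowers_iff.1 hy
        exact ⟨i, show a ^ i = y by
          rw [show y = b⁻¹ * (b * y * b⁻¹) * b by group, ← hi, mul_assoc, (hab.zpow_left i).eq,
            inv_mul_cancel_left]⟩))] at hx
  obtain ⟨_, ⟨i, rfl⟩, _, ⟨j, rfl⟩, rfl⟩ := hx
  exact ⟨i, j, rfl⟩

/-- Integral powers of an element of cube one are natural powers. -/
theorem zpow_three {X : Type*} [Group X] {x : X} (h : x ^ 3 = 1) (i : ℤ) : x ^ i = x ^ (i % 3).toNat := by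
  rw [← zpow_natCast, Int.toNat_of_nonneg (Int.emod_nonneg _ (by norm_num))]
  conv_lhs => rw [← Int.mul_ediv_add_emod i 3]
  rw [zpow_add, zpow_mul, show x ^ (3 : ℤ) = 1 by exact_mod_cast h, one_zpow, one_mul]

namespace DHyp

variable {G : Type u} [Group G] [Finite G] (D : DHyp G)

theorem uE : D.u ∈ D.E := D.ed.u.2

theorem ut : Commute D.u D.t := D.hEt _ D.uE

theorem u3 : D.u ^ 3 = 1 := congrArg Subtype.val D.ed.u3

/-- `⟨u, φ⟩`. -/
def F0 : Subgroup G := Subgroup.closure {D.u, D.φ}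

theorem map_F0 : (Subgroup.closure ({D.ed.u, D.ed.φ} : Set D.E)).map D.E.subtype = D.F0 := by
  rw [F0, MonoidHom.map_closure, Set.image_pair]
  rfl

theorem F0_card : Nat.card D.F0 = 81 := by
  rw [← D.map_F0, Subgroup.card_map_of_injective D.E.subtype_injective]
  exact D.ed.card_F0

theorem F0_three : IsPGroup 3 D.F0 := IsPGroup.of_card (n := 4) (by rw [D.F0_card]; norm_num)

theorem F0_le : D.F0 ≤ D.E := by
  rw [← D.map_F0]; exact Subgroup.map_subtype_le _

theorem cent_h {e : G} (he : e ∈ D.E) : Commute e D.h ↔ e ∈ D.F0 := by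
  have h1 : (⟨e, he⟩ : D.E) ∈ centralizer ({⁅⁅D.ed.u, D.ed.φ⁆, D.ed.φ⁆} : Set D.E) ↔ Commute e D.h := by
    rw [mem_centralizer_singleton_iff, Subtype.ext_iff, Subgroup.coe_mul, Subgroup.coe_mul, D.coe_h]
    rfl
  rw [← h1, D.ed.cent_h, ← D.map_F0]
  constructor
  · exact fun h => ⟨_, h, rfl⟩
  · rintro ⟨y, hy, hye⟩
    rwa [show (⟨e, he⟩ : D.E) = y from Subtype.ext hye.symm]

/-- No element of order three of `E` commutes with an element of order thirteen. -/
theorem no_three_thirteen {x y : G} (hx : x ∈ D.E) (hx3 : x ^ 3 = 1) (hy : y ∈ D.E) (hy13 : orderOf y = 13)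
    (hc : Commute x y) : x = 1 := by
  by_contra hx1
  set y' : D.E := ⟨y, hy⟩ with hy'
  have hy'o : orderOf y' = 13 := (Subgroup.orderOf_coe y').symm.trans hy13
  have key : ∀ w : D.E, Nat.card (centralizer ({w} : Set D.E)) ∣ 2 ^ 2 * 3 ^ 4 →
      IsConj (⟨x, hx⟩ : D.E) w → False := by
    intro w hw hconj
    obtain ⟨c, hcw⟩ := isConj_iff.1 hconj
    have hm : c * y' * c⁻¹ ∈ centralizer ({w} : Set D.E) := by
      rw [mem_centralizer_singleton_iff, ← hcw, conj_mul, conj_mul]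
      exact congrArg (fun z => c * z * c⁻¹) (Subtype.ext hc.symm.eq)
    have hd := (Subgroup.orderOf_dvd_natCard _ hm).trans hw
    rw [show orderOf (c * y' * c⁻¹) = orderOf y' from
      orderOf_injective (MulAut.conj c).toMonoidHom (MulAut.conj c).injective y', hy'o] at hd
    norm_num at hd
  have hinv : ∀ w : D.E, centralizer ({w⁻¹} : Set D.E) = centralizer ({w} : Set D.E) := fun w => by
    ext a
    rw [mem_centralizer_singleton_iff, mem_centralizer_singleton_iff]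
    exact Commute.inv_right_iff
  rcases D.ed.classes ⟨x, hx⟩ (Subtype.ext hx3) (fun e => hx1 (congrArg Subtype.val e)) with h | h | h | h
  · exact key _ (by rw [D.ed.card_centφ]; norm_num) h
  · exact key _ (by rw [hinv, D.ed.card_centφ]; norm_num) h
  · exact key _ (by rw [D.ed.cent_h, D.ed.card_F0]; norm_num) h
  · exact key _ (by rw [hinv, D.ed.cent_h, D.ed.card_F0]; norm_num) h

/-- The quotient of the centralizer of `φ`. -/
abbrev X : Subgroup G := centralizer ({D.φ} : Set G)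

/-- The kernel. -/
def Fk : Subgroup D.X := (zpowers D.φ).subgroupOf D.X

theorem φX : D.φ ∈ D.X := mem_centralizer_singleton_iff.2 rfl

theorem tX : D.t ∈ D.X := mem_centralizer_singleton_iff.2 D.φt.symm.eq

theorem hX : D.h ∈ D.X := mem_centralizer_singleton_iff.2 D.hφ.symm.eq

instance Fk_normal : D.Fk.Normal := ⟨fun n hn x => by
  obtain ⟨i, hi⟩ := Subgroup.mem_zpowers_iff.1 (show (n : G) ∈ zpowers D.φ from hn)
  show ((x * n * x⁻¹ : D.X) : G) ∈ zpowers D.φ
  rw [Subgroup.coe_mul, Subgroup.coe_mul, Subgroup.coe_inv, ← hi,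
    ((show Commute (x : G) D.φ from mem_centralizer_singleton_iff.1 x.2).zpow_right i).eq, mul_inv_cancel_right]
  exact ⟨i, rfl⟩⟩

theorem Fk_card : Nat.card D.Fk = 3 := by
  rw [Fk, Nat.card_congr (Subgroup.subgroupOfEquivOfLe (Subgroup.zpowers_le.2 D.φX)).toEquiv, Nat.card_zpowers]
  exact orderOf_eq_prime D.φ3 D.φ1

theorem mem_Fk {x : D.X} : x ∈ D.Fk ↔ ∃ i : ℕ, (x : G) = D.φ ^ i := by
  constructor
  · intro hx
    obtain ⟨i, hi⟩ := Subgroup.mem_zpowers_iff.1 (show (x : G) ∈ zpowers D.φ from hx)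
    exact ⟨_, hi.symm.trans (zpow_three D.φ3 i)⟩
  · rintro ⟨i, hi⟩
    show (x : G) ∈ zpowers D.φ
    rw [hi]
    exact Subgroup.pow_mem _ (Subgroup.mem_zpowers _) i

/-- The projection. -/
abbrev π : D.X →* D.X ⧸ D.Fk := QuotientGroup.mk' D.Fk

theorem π_eq {x y : D.X} : D.π x = D.π y ↔ ∃ i : ℕ, (y : G) = x * D.φ ^ i := by
  rw [QuotientGroup.mk'_apply, QuotientGroup.mk'_apply, QuotientGroup.eq, D.mem_Fk]
  refine exists_congr fun i => ?_
  rw [Subgroup.coe_mul, Subgroup.coe_inv, inv_mul_eq_iff_eq_mul]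

/-- The image of the Sylow 2-subgroup. -/
def T : Subgroup (D.X ⧸ D.Fk) := (D.S.subgroupOf D.X).map D.π

/-- The image of `t`. -/
abbrev tb : D.X ⧸ D.Fk := D.π ⟨D.t, D.tX⟩

/-- The image of `h`. -/
abbrev hb : D.X ⧸ D.Fk := D.π ⟨D.h, D.hX⟩

theorem S_le : D.S ≤ D.X := fun _ hs => mem_centralizer_singleton_iff.2 (D.φS hs).symm.eq

theorem mem_T {r : D.X ⧸ D.Fk} : r ∈ D.T ↔ ∃ (s : G) (hs : s ∈ D.S), r = D.π ⟨s, D.S_le hs⟩ := by
  constructor
  · rintro ⟨x, hx, rfl⟩
    exact ⟨x, hx, rfl⟩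
  · rintro ⟨s, hs, rfl⟩
    exact ⟨⟨s, D.S_le hs⟩, hs, rfl⟩

theorem π_S_inj {s : G} (hs : s ∈ D.S) (h : D.π ⟨s, D.S_le hs⟩ = 1) : s = 1 := by
  rw [QuotientGroup.mk'_apply, QuotientGroup.eq_one_iff, D.mem_Fk] at h
  obtain ⟨i, hi⟩ := h
  refine eq_one_of_two_three (D.S_sq hs) ?_
  rw [show s = D.φ ^ i from hi, ← pow_mul, mul_comm, pow_mul, D.φ3, one_pow]

theorem card_X : Nat.card D.X = 3 * Nat.card (D.X ⧸ D.Fk) := by
  rw [Subgroup.card_eq_card_quotient_mul_card_subgroup D.Fk, D.Fk_card, mul_comm]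

theorem card_pre (N : Subgroup D.X) (hN : D.Fk ≤ N) : Nat.card N = 3 * Nat.card (N.map D.π) := by
  rw [card_eq_inf_mul D.Fk N, inf_eq_right.2 hN, D.Fk_card]

/-- The hypotheses of `rCases`. -/
theorem rHyp [IsSimpleGroup G] : RHyp D.T D.hb D.tb := by
  haveI : Fact (Nat.Prime 2) := ⟨Nat.prime_two⟩
  have hsq : ∀ r ∈ D.T, r * r = 1 := by
    intro r hr
    obtain ⟨s, hs, rfl⟩ := D.mem_T.1 hr
    rw [← map_mul, show (⟨s, D.S_le hs⟩ * ⟨s, D.S_le hs⟩ : D.X) = 1 from Subtype.ext (D.S_sq hs), map_one]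
  have hcent : ∀ (x : D.X) (s : G) (hs : s ∈ D.S),
      D.π x * D.π ⟨s, D.S_le hs⟩ = D.π ⟨s, D.S_le hs⟩ * D.π x → Commute (x : G) s := by
    intro x s hs h
    rw [← map_mul, ← map_mul, D.π_eq] at h
    obtain ⟨i, hi⟩ := h
    have hi' : s * (x : G) = (x : G) * s * D.φ ^ i := hi
    have hx : Commute (x : G) D.φ := mem_centralizer_singleton_iff.1 x.2
    have h2 : (x : G)⁻¹ * s * x = s * D.φ ^ i := by rw [mul_assoc, hi', ← mul_assoc, inv_mul_cancel_left]
    have h3 : D.φ ^ (i + i) = 1 := by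
      have h4 : ((x : G)⁻¹ * s * x) * ((x : G)⁻¹ * s * x) = 1 := by
        rw [show ((x : G)⁻¹ * s * x) * ((x : G)⁻¹ * s * x) = (x : G)⁻¹ * (s * s) * x by group, D.S_sq hs, mul_one,
          inv_mul_cancel]
      rwa [h2, ((D.φS hs).pow_left i).mul_mul_mul_comm, D.S_sq hs, one_mul, ← pow_add] at h4
    have h0 : D.φ ^ i = 1 := by
      rw [exp3 D.φ3] at h3 ⊢
      rcases (show i % 3 = 0 ∨ i % 3 = 1 ∨ i % 3 = 2 by omega) with e | e | e
      · rw [e, pow_zero]
      · exfalso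
        rw [show (i + i) % 3 = 2 by omega] at h3
        exact D.φ1 (by rw [← D.φ3, pow_succ, h3, one_mul])
      · exfalso
        rw [show (i + i) % 3 = 1 by omega, pow_one] at h3
        exact D.φ1 h3
    rw [h0, mul_one] at hi'
    exact hi'.symm
  have hcard24 : ∀ r ∈ D.T, r ≠ 1 → Nat.card (centralizer ({r} : Set (D.X ⧸ D.Fk))) = 24 ∧
      centralizer ({r} : Set (D.X ⧸ D.Fk)) ≤ normalizer (D.T : Set (D.X ⧸ D.Fk)) := by
    intro r hr hr1
    obtain ⟨s, hs, rfl⟩ := D.mem_T.1 hr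
    have hs1 : s ≠ 1 := fun e => hr1 (by rw [show (⟨s, D.S_le hs⟩ : D.X) = 1 from Subtype.ext e, map_one])
    set N := (centralizer ({s} : Set G)).subgroupOf D.X with hN
    have heq : centralizer ({D.π ⟨s, D.S_le hs⟩} : Set (D.X ⧸ D.Fk)) = N.map D.π := by
      ext y
      constructor
      · intro hy
        obtain ⟨x, rfl⟩ := QuotientGroup.mk'_surjective D.Fk y
        exact ⟨x, mem_centralizer_singleton_iff.2 (hcent x s hs (mem_centralizer_singleton_iff.1 hy)).eq, rfl⟩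
      · rintro ⟨x, hx, rfl⟩
        rw [mem_centralizer_singleton_iff, ← map_mul, ← map_mul]
        exact congrArg D.π (Subtype.ext (mem_centralizer_singleton_iff.1 hx))
    obtain ⟨n, hn, hne⟩ := D.exists_move hs hs1
    have hnX : n ∈ D.X := mem_centralizer_singleton_iff.2 (D.norm_φ hn).eq
    have hcN : Nat.card N = 72 := by
      rw [hN, ← D.card_centXt, ← Nat.card_congr (Subgroup.subgroupOfEquivOfLe
        (inf_le_left : D.X ⊓ centralizer ({D.t} : Set G) ≤ D.X)).toEquiv]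
      refine (Nat.card_congr (Equiv.subtypeEquiv (MulAut.conj (⟨n, hnX⟩ : D.X)).toEquiv fun x => ?_)).symm
      show (x : G) ∈ D.X ⊓ centralizer ({D.t} : Set G) ↔ n * x * n⁻¹ ∈ centralizer ({s} : Set G)
      rw [mem_centralizer_singleton_iff, ← hne, conj_mul, conj_mul, mul_left_inj, mul_right_inj]
      exact ⟨fun h => mem_centralizer_singleton_iff.1 h.2, fun h => ⟨x.2, mem_centralizer_singleton_iff.2 h⟩⟩
    refine ⟨?_, ?_⟩
    · have h1 := D.card_pre N fun x hx => by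
        obtain ⟨i, hi⟩ := D.mem_Fk.1 hx
        refine mem_centralizer_singleton_iff.2 ?_
        show (x : G) * s = s * x
        rw [hi]
        exact ((D.φS hs).pow_left i).eq
      rw [hcN] at h1
      rw [heq]
      omega
    · rw [heq]
      rintro _ ⟨x, hx, rfl⟩
      refine mem_normalizer_fintype fun v hv => ?_
      obtain ⟨w, hw, rfl⟩ := D.mem_T.1 hv
      have hxn : n⁻¹ * (x : G) * n ∈ normalizer (D.S : Set G) := by
        have hx' : Commute (x : G) s := mem_centralizer_singleton_iff.1 hx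
        refine D.centXt_norm ?_ ?_
        · have h1 : Commute (x : G) D.φ := mem_centralizer_singleton_iff.1 x.2
          exact (((D.norm_φ hn).inv_left.mul_left h1).mul_left (D.norm_φ hn))
        · have := hx'.map (MulAut.conj n⁻¹).toMonoidHom
          have e : (MulAut.conj n⁻¹).toMonoidHom s = D.t := by
            show n⁻¹ * s * n⁻¹⁻¹ = D.t
            rw [← hne]; group
          rw [e] at this
          simpa using this
      have hxN : (x : G) ∈ normalizer (D.S : Set G) := by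
        rw [show (x : G) = n * (n⁻¹ * x * n) * n⁻¹ by group]
        exact mul_mem (mul_mem hn hxn) (inv_mem hn)
      exact D.mem_T.2 ⟨_, (mem_normalizer_iff.1 hxN w).1 hw, by rw [← map_inv, ← map_mul, ← map_mul]; rfl⟩
  refine ⟨?_, hsq, ?_, hcard24, ?_, ?_, D.mem_T.2 ⟨_, D.tS, rfl⟩, ?_, ?_, ?_, ?_, ?_⟩
  · have hinj : Nat.card D.T = Nat.card (D.S.subgroupOf D.X) := by
      refine (Nat.card_congr (Equiv.ofBijective (fun x : D.S.subgroupOf D.X => (⟨D.π x, x, x.2, rfl⟩ : D.T))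
        ⟨fun a b hab => ?_, fun ⟨_, x, hx, e⟩ => ⟨⟨x, hx⟩, Subtype.ext e⟩⟩)).symm
      have h1 : D.π (a : D.X) = D.π b := congrArg Subtype.val hab
      have h2 := D.π_S_inj (D.S.mul_mem a.2 (D.S.inv_mem b.2)) (by
        show D.π ((a : D.X) * (b : D.X)⁻¹) = 1
        rw [map_mul, map_inv, h1, mul_inv_cancel])
      exact Subtype.ext (Subtype.ext (mul_inv_eq_one.1 h2))
    rw [hinj, Nat.card_congr (Subgroup.subgroupOfEquivOfLe D.S_le).toEquiv, D.S_card]
  · intro h16
    obtain ⟨P, -⟩ := D.exists_sylow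
    have h1 : 2 ^ 4 ∣ Nat.card G := by
      refine (show 2 ^ 4 = 16 by norm_num) ▸ h16.trans (dvd_trans ?_ (Subgroup.card_subgroup_dvd_card D.X))
      rw [D.card_X]
      exact dvd_mul_left _ _
    have h2 := Nat.le_of_dvd Nat.card_pos (P.pow_dvd_card_of_pow_dvd_card h1)
    rw [D.amb.eight P] at h2
    norm_num at h2
  · refine le_antisymm (fun r hr => ?_) fun r hr => mem_centralizer_iff.2 fun v hv => ?_
    · obtain ⟨x, rfl⟩ := QuotientGroup.mk'_surjective D.Fk r
      obtain ⟨s, hs, i, e⟩ := D.cent_S (c := x) fun s hs =>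
        hcent x s hs (mem_centralizer_iff.1 hr _ (D.mem_T.2 ⟨s, hs, rfl⟩)).symm
      exact D.mem_T.2 ⟨s, hs, (D.π_eq.2 ⟨i, e⟩).symm⟩
    · obtain ⟨w, hw, rfl⟩ := D.mem_T.1 hv
      obtain ⟨s, hs, rfl⟩ := D.mem_T.1 hr
      rw [← map_mul, ← map_mul]
      exact congrArg D.π (Subtype.ext (D.S_comm hw hs).eq)
  · intro a ha b hb ha1 hb1
    obtain ⟨s, hs, rfl⟩ := D.mem_T.1 ha
    obtain ⟨w, hw, rfl⟩ := D.mem_T.1 hb
    have hne : ∀ (s : G) (hs : s ∈ D.S), D.π ⟨s, D.S_le hs⟩ ≠ 1 → s ≠ 1 := fun s hs h e =>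
      h (by rw [show (⟨s, D.S_le hs⟩ : D.X) = 1 from Subtype.ext e, map_one])
    obtain ⟨n, hn, hne1⟩ := D.exists_move hs (hne s hs ha1)
    obtain ⟨m, hm, hne2⟩ := D.exists_move hw (hne w hw hb1)
    have hmn : m * n⁻¹ ∈ D.X := mul_mem (mem_centralizer_singleton_iff.2 (D.norm_φ hm).eq)
      (inv_mem (mem_centralizer_singleton_iff.2 (D.norm_φ hn).eq))
    refine isConj_iff.2 ⟨D.π ⟨_, hmn⟩, ?_⟩
    rw [← map_inv, ← map_mul, ← map_mul]
    refine congrArg D.π (Subtype.ext ?_)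
    show m * n⁻¹ * s * (m * n⁻¹)⁻¹ = w
    rw [← hne1, ← hne2]; group
  · exact fun e => D.t1 (D.π_S_inj D.tS e)
  · rw [← map_pow, show (⟨D.h, D.hX⟩ : D.X) ^ 3 = 1 from Subtype.ext D.h3, map_one]
  · intro e
    change QuotientGroup.mk' D.Fk ⟨D.h, D.hX⟩ = 1 at e
    rw [QuotientGroup.mk'_apply, QuotientGroup.eq_one_iff, D.mem_Fk] at e
    obtain ⟨i, hi⟩ := e
    exact D.h_not i hi
  · show D.hb * D.tb = D.tb * D.hb
    rw [← map_mul, ← map_mul]
    exact congrArg D.π (Subtype.ext D.ht'.eq)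
  · -- the centralizer of `h` and `t`
    have hb3 : D.hb ^ 3 = 1 := by
      rw [← map_pow, show (⟨D.h, D.hX⟩ : D.X) ^ 3 = 1 from Subtype.ext D.h3, map_one]
    have hb1 : D.hb ≠ 1 := fun e => by
      change QuotientGroup.mk' D.Fk ⟨D.h, D.hX⟩ = 1 at e
      rw [QuotientGroup.mk'_apply, QuotientGroup.eq_one_iff, D.mem_Fk] at e
      obtain ⟨i, hi⟩ := e
      exact D.h_not i hi
    have hbt : Commute D.hb D.tb := by
      show D.hb * D.tb = D.tb * D.hb
      rw [← map_mul, ← map_mul]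
      exact congrArg D.π (Subtype.ext D.ht'.eq)
    have htsq : D.tb * D.tb = 1 := hsq _ (D.mem_T.2 ⟨_, D.tS, rfl⟩)
    have ht1 : D.tb ≠ 1 := fun e => D.t1 (D.π_S_inj D.tS e)
    have hto : orderOf D.tb = 2 := orderOf_eq_prime (by rw [pow_two]; exact htsq) ht1
    have hho : orderOf D.hb = 3 := orderOf_eq_prime hb3 hb1
    suffices heq : centralizer ({D.hb} : Set (D.X ⧸ D.Fk)) ⊓ centralizer ({D.tb} : Set (D.X ⧸ D.Fk)) =
        zpowers (D.hb * D.tb) by
      rw [heq, Nat.card_zpowers, hbt.orderOf_mul_eq_mul_orderOf_of_coprime (by rw [hho, hto]; norm_num), hho, hto]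
    refine le_antisymm (fun r hr => ?_) (Subgroup.zpowers_le.2 (Subgroup.mem_inf.2
      ⟨mem_centralizer_singleton_iff.2 ((Commute.refl D.hb).mul_left hbt.symm).eq,
        mem_centralizer_singleton_iff.2 (hbt.mul_left (Commute.refl D.tb)).eq⟩))
    obtain ⟨hrh, hrt⟩ := Subgroup.mem_inf.1 hr
    obtain ⟨x, rfl⟩ := QuotientGroup.mk'_surjective D.Fk r
    have hxt : Commute (x : G) D.t := hcent x D.t D.tS (mem_centralizer_singleton_iff.1 hrt)
    have hxφ : Commute (x : G) D.φ := mem_centralizer_singleton_iff.1 x.2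
    have hh : D.hb = (D.hb * D.tb) ^ 4 := by
      rw [hbt.mul_pow, show (4 : ℕ) = 2 * 2 by norm_num, pow_mul D.tb, pow_two D.tb, htsq, one_pow, mul_one,
        show 2 * 2 = 3 + 1 by norm_num, pow_succ, hb3, one_mul]
    have ht : D.tb = (D.hb * D.tb) ^ 3 := by
      rw [hbt.mul_pow, hb3, one_mul, pow_succ, pow_two, htsq, one_mul]
    have hhm : D.hb ∈ zpowers (D.hb * D.tb) :=
      Subgroup.mem_zpowers_iff.2 ⟨4, by rw [zpow_ofNat]; exact hh.symm⟩
    have htm : D.tb ∈ zpowers (D.hb * D.tb) :=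
      Subgroup.mem_zpowers_iff.2 ⟨3, by rw [zpow_ofNat]; exact ht.symm⟩
    -- reduce to `E`
    have key : ∀ (y : D.X), (y : G) ∈ D.E → Commute (y : G) D.φ → Commute (D.π y) D.hb →
        D.π y ∈ zpowers (D.hb * D.tb) := by
      intro y hyE hyφ hyh
      obtain ⟨v, hv, i, j, e⟩ := D.cent_φ hyE hyφ
      have hvX : v ∈ D.X := D.S_le (D.VS hv)
      have hy : D.π y = D.π ⟨v, hvX⟩ * D.hb ^ j := by
        rw [← map_pow, ← map_mul, D.π_eq]
        refine ⟨2 * i, ?_⟩
        show v * D.h ^ j = (y : G) * D.φ ^ (2 * i)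
        rw [e, mul_assoc, mul_assoc, ← ((D.hφ.pow_pow (2 * i) j)).eq, ← mul_assoc (D.φ ^ i), ← pow_add,
          show i + 2 * i = 3 * i by ring, pow_mul, D.φ3, one_pow, one_mul]
      have hvh : Commute (D.π ⟨v, hvX⟩) D.hb := by
        have h1 := hyh.mul_left (((Commute.refl D.hb).pow_left j).inv_left)
        rwa [hy, mul_inv_cancel_right] at h1
      have h2 : D.h * v * D.h⁻¹ = v := by
        have h3 : D.π ⟨_, D.S_le (D.VS (mul_mem (D.V_h hv).1 (inv_mem hv)))⟩ = 1 := by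
          show D.π (⟨D.h, D.hX⟩ * ⟨v, hvX⟩ * ⟨D.h, D.hX⟩⁻¹ * ⟨v, hvX⟩⁻¹) = 1
          rw [map_mul, map_mul, map_mul, map_inv, map_inv, ← hvh.eq, mul_inv_cancel_right, mul_inv_cancel]
        exact mul_inv_eq_one.1 (D.π_S_inj (D.VS (mul_mem (D.V_h hv).1 (inv_mem hv))) h3)
      rw [hy, show (⟨v, hvX⟩ : D.X) = 1 from Subtype.ext (D.V_h_comm hv (mul_inv_eq_iff_eq_mul.1 h2)), map_one,
        one_mul]
      exact Subgroup.pow_mem _ hhm _
    rcases D.cover _ hxt with h | h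
    · exact key x h hxφ (mem_centralizer_singleton_iff.1 hrh)
    · have h1 := key (⟨D.t, D.tX⟩ * x) h (D.φt.symm.mul_left hxφ) (by
        rw [map_mul]; exact hbt.symm.mul_left (mem_centralizer_singleton_iff.1 hrh))
      rw [map_mul] at h1
      have h2 : D.π x = D.tb * (D.tb * D.π x) := by rw [← mul_assoc, htsq, one_mul]
      rw [h2]
      exact mul_mem htm h1

/-- `φ` lies outside the derived group of a suitable odd subgroup. -/
theorem not_mem_commutator {K : Subgroup G} (hKodd : Odd (Nat.card K)) (htN : D.t ∈ normalizer (K : Set G))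
    (hF : D.F0 ≤ K) (hfix : ∀ x ∈ K, Commute x D.t → x ∈ D.F0) (hC : IsPGroup 3 ↥(D.X ⊓ K))
    (h81 : Nat.card ↥(D.X ⊓ K) ≤ 81)
    (hy : Nat.card ↥(D.X ⊓ K) ≤ 9 ∨ ∃ y ∈ K, Commute y D.φ ∧ ¬ Commute y D.h) :
    (⟨D.φ, hF (Subgroup.subset_closure (by simp))⟩ : K) ∉ commutator K := by
  set φ' : K := ⟨D.φ, hF (Subgroup.subset_closure (by simp))⟩ with hφ'
  set u' : K := ⟨D.u, hF (Subgroup.subset_closure (by simp))⟩ with hu'
  have htc : ∀ k ∈ K, D.t * k * D.t ∈ K := fun k hk => by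
    have := (mem_normalizer_iff.1 htN k).1 hk
    rwa [D.tinv] at this
  have htt : ∀ k : G, D.t * (D.t * k * D.t) * D.t = k := fun k => by
    rw [show D.t * (D.t * k * D.t) * D.t = (D.t * D.t) * k * (D.t * D.t) by group, D.tt, one_mul, mul_one]
  let τ : K ≃* K :=
    { toFun := fun k => ⟨D.t * k * D.t, htc k k.2⟩
      invFun := fun k => ⟨D.t * k * D.t, htc k k.2⟩
      left_inv := fun k => Subtype.ext (htt k)
      right_inv := fun k => Subtype.ext (htt k)
      map_mul' := fun a b => Subtype.ext (by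
        show D.t * ((a : G) * b) * D.t = D.t * a * D.t * (D.t * b * D.t)
        rw [show D.t * (a : G) * D.t * (D.t * b * D.t) = D.t * a * (D.t * D.t) * b * D.t by group, D.tt, mul_one,
          mul_assoc D.t (a : G) b]) }
  have hτ : ∀ x : G, Commute x D.t → D.t * x * D.t = x := fun x hx => by
    rw [← hx.eq, mul_assoc, D.tt, mul_one]
  have hmap : (Subgroup.closure ({u', φ'} : Set K)).map K.subtype = D.F0 := by
    rw [MonoidHom.map_closure, Set.image_pair]
    rfl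
  have hcoe : ((⁅⁅u', φ'⁆, φ'⁆ : K) : G) = D.h := by simp [commutatorElement_def, hu', hφ']
  have hCeq : (centralizer ({φ'} : Set K)).map K.subtype = D.X ⊓ K := by
    ext x
    constructor
    · rintro ⟨k, hk, rfl⟩
      exact ⟨mem_centralizer_singleton_iff.2 (congrArg Subtype.val (mem_centralizer_singleton_iff.1 hk)), k.2⟩
    · rintro ⟨hx, hxK⟩
      exact ⟨⟨x, hxK⟩, mem_centralizer_singleton_iff.2 (Subtype.ext (mem_centralizer_singleton_iff.1 hx)), rfl⟩
  have hcard : Nat.card (centralizer ({φ'} : Set K)) = Nat.card ↥(D.X ⊓ K) := by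
    rw [← hCeq, Subgroup.card_map_of_injective K.subtype_injective]
  refine kLemma hKodd τ (fun x => Subtype.ext (htt x)) (φ := φ') (u := u') (Subtype.ext D.φ3) (Subtype.ext D.u3)
    (Subtype.ext (hτ _ D.φt)) (Subtype.ext (hτ _ D.ut)) (fun x hx => ?_) ?_ (fun e => D.h1 (hcoe.symm.trans
      (congrArg Subtype.val e))) (fun N hN hNn hN1 => ?_) (hcard.trans_le h81) ?_ ?_
  · have h1 : Commute (x : G) D.t := by
      have h2 : D.t * (x : G) * D.t = x := congrArg Subtype.val hx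
      show (x : G) * D.t = D.t * x
      nth_rewrite 1 [← h2]
      rw [mul_assoc, D.tt, mul_one]
    obtain ⟨y, hy, hyx⟩ := hmap.ge (hfix x x.2 h1)
    rwa [show x = y from Subtype.ext hyx.symm]
  · exact D.F0_three.of_equiv ((Subgroup.equivMapOfInjective _ K.subtype K.subtype_injective).trans
      (MulEquiv.subgroupCongr hmap)).symm
  · have hEmem : ∀ f : D.E, f ∈ Subgroup.closure ({D.ed.u, D.ed.φ} : Set D.E) ↔ (f : G) ∈ D.F0 := fun f => by
      rw [← D.map_F0]
      exact (Subgroup.mem_map_iff_mem D.E.subtype_injective).symm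
    have hKmem : ∀ f : K, f ∈ Subgroup.closure ({u', φ'} : Set K) ↔ (f : G) ∈ D.F0 := fun f => by
      rw [← hmap]
      exact (Subgroup.mem_map_iff_mem K.subtype_injective).symm
    set N' := (N.map K.subtype).subgroupOf D.E with hN'
    have hle : N.map K.subtype ≤ D.F0 := hmap ▸ Subgroup.map_mono hN
    have h1 : ⁅⁅D.ed.u, D.ed.φ⁆, D.ed.φ⁆ ∈ N' := by
      refine D.ed.h_min N' (fun e he => (hEmem e).2 (hle he)) (fun f hf x hx => ?_) (fun e => hN1 ?_)
      · obtain ⟨y, hy, hyx⟩ := hx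
        have hfK : (f : G) ∈ K := hF ((hEmem f).1 hf)
        refine ⟨⟨f, hfK⟩ * y * ⟨f, hfK⟩⁻¹, hNn _ ((hKmem _).2 ((hEmem f).1 hf)) y hy, ?_⟩
        show (f : G) * y * (f : G)⁻¹ = f * x * (f : G)⁻¹
        rw [show (y : G) = (x : G) from hyx]
      · refine (Subgroup.eq_bot_iff_forall N).2 fun y hy => ?_
        have hyE : (y : G) ∈ D.E := D.F0_le (hle ⟨y, hy, rfl⟩)
        have h2 : (⟨y, hyE⟩ : D.E) ∈ N' := ⟨y, hy, rfl⟩
        rw [e, Subgroup.mem_bot] at h2
        exact Subtype.ext (congrArg Subtype.val h2 :)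
    obtain ⟨y, hy, hyh⟩ := h1
    rwa [show (⁅⁅u', φ'⁆, φ'⁆ : K) = y from Subtype.ext (hcoe.trans (D.coe_h.symm.trans hyh.symm))]
  · exact hC.of_equiv ((Subgroup.equivMapOfInjective _ K.subtype K.subtype_injective).trans
      (MulEquiv.subgroupCongr hCeq)).symm
  · rcases hy with h | ⟨y, hyK, h1, h2⟩
    · exact Or.inl (hcard.trans_le h)
    · refine Or.inr ⟨⟨y, hyK⟩, Subtype.ext h1.eq, fun e => h2 ?_⟩
      have h3 := congrArg Subtype.val e.eq
      rwa [Subgroup.coe_mul, Subgroup.coe_mul, hcoe] at h3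

/-- The case `|C(φ)/⟨φ⟩| = 168`. -/
theorem false_of_168 [IsSimpleGroup G] (h168 : Nat.card (D.X ⧸ D.Fk) = 168) : False := by
  haveI : Fact (Nat.Prime 3) := ⟨Nat.prime_three⟩
  have hcX : Nat.card D.X = 504 := by rw [D.card_X, h168]
  have htC : D.t ∈ centralizer ({D.h} : Set G) := mem_centralizer_singleton_iff.2 D.ht'.symm.eq
  obtain ⟨K, hKC, hKodd, hKmem, hCK, hcov⟩ := D.odd_part _ htC D.h_cent_odd
  have hKh : ∀ k ∈ K, Commute k D.h := fun k hk => mem_centralizer_singleton_iff.1 (hKC hk)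
  have hFh : ∀ f ∈ D.F0, Commute f D.h := fun f hf => (D.cent_h (D.F0_le hf)).2 hf
  have hF : D.F0 ≤ K := fun f hf => hKmem f (mem_centralizer_singleton_iff.2 (hFh f hf).eq)
    ((D.F0_card ▸ (by decide : Odd 81) : Odd (Nat.card D.F0)).of_dvd_nat (Subgroup.orderOf_dvd_natCard _ hf))
  have hφK : D.φ ∈ K := hF (Subgroup.subset_closure (by simp))
  have hhK : D.h ∈ K := hKmem _ (mem_centralizer_singleton_iff.2 rfl) (odd_of_three D.h3)
  have hfix : ∀ x ∈ K, Commute x D.t → x ∈ D.F0 := fun x hx hxt =>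
    (D.cent_h (D.mem_E hxt (hKodd.of_dvd_nat (Subgroup.orderOf_dvd_natCard _ hx)))).1 (hKh x hx)
  -- the normal Sylow subgroup
  have hNS : ∀ x ∈ D.X, x ∈ normalizer (D.S : Set G) := fun x hx => by
    have hN : normalizer (D.T : Set (D.X ⧸ D.Fk)) = ⊤ :=
      Subgroup.eq_top_of_card_eq _ (by rw [D.rHyp.n168, h168])
    refine mem_normalizer_fintype fun s hs => ?_
    have h1 := (mem_normalizer_iff.1 (hN.ge (Subgroup.mem_top (D.π ⟨x, hx⟩))) _).1 (D.mem_T.2 ⟨s, hs, rfl⟩)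
    obtain ⟨w, hw, e⟩ := D.mem_T.1 h1
    rw [← map_inv, ← map_mul, ← map_mul, eq_comm, D.π_eq] at e
    obtain ⟨i, hi⟩ := e
    have hi' : x * s * x⁻¹ = w * D.φ ^ i := hi
    have h2 : (x * s * x⁻¹) * (x * s * x⁻¹) = 1 := by rw [conj_mul, D.S_sq hs, mul_one, mul_inv_cancel]
    have h0 : D.φ ^ i = 1 := by
      refine eq_one_of_two_three ?_ (by rw [← pow_mul, mul_comm, pow_mul, D.φ3, one_pow])
      rwa [hi', ((D.φS hw).pow_left i).mul_mul_mul_comm, D.S_sq hw, one_mul] at h2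
    rw [hi', h0, mul_one]
    exact hw
  -- the order of `C_K(φ)`
  have hC9 : Nat.card ↥(D.X ⊓ K) = 9 := by
    have hd : Nat.card ↥(D.X ⊓ K) ∣ 63 := by
      have h1 : Nat.card ↥(D.X ⊓ K) ∣ 8 * 63 := by
        have := Subgroup.card_dvd_of_le (inf_le_left : D.X ⊓ K ≤ D.X)
        rwa [hcX] at this
      refine Nat.Coprime.dvd_of_dvd_mul_left ?_ h1
      exact (Nat.coprime_two_right.2 (hKodd.of_dvd_nat (Subgroup.card_dvd_of_le inf_le_right))).pow_right 3
    have h7 : ¬ 7 ∣ Nat.card ↥(D.X ⊓ K) := by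
      intro h7
      haveI : Fact (Nat.Prime 7) := ⟨by norm_num⟩
      obtain ⟨⟨x, hxX, hxK⟩, hxo⟩ := exists_prime_orderOf_dvd_card' (G := ↥(D.X ⊓ K)) 7 h7
      replace hxo : orderOf x = 7 := (Subgroup.orderOf_coe (⟨x, hxX, hxK⟩ : ↥(D.X ⊓ K))).trans hxo
      obtain ⟨v, hv, e⟩ := D.S_cases ((mem_normalizer_iff.1 (hNS x hxX) _).1 D.tS)
      have hc : Commute D.h (x * D.t * x⁻¹) :=
        ((hKh x hxK).symm.mul_right D.ht').mul_right (hKh x hxK).symm.inv_right
      have hxt : Commute x D.t := by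
        rcases e with e | e
        · exfalso
          rw [e] at hc
          rw [D.V_h_comm hv hc] at e
          exact D.t1 (conj_eq_one_iff.1 e)
        · rw [e] at hc
          have hc' : Commute D.h v := by
            have := D.ht'.mul_right hc
            rwa [← mul_assoc, D.tt, one_mul] at this
          rw [D.V_h_comm hv hc', mul_one] at e
          exact mul_inv_eq_iff_eq_mul.1 e
      have h1 := Subgroup.orderOf_dvd_natCard _ (hfix x hxK hxt)
      rw [hxo, D.F0_card] at h1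
      norm_num at h1
    have h9 : 9 ≤ Nat.card ↥(D.X ⊓ K) := by
      let f : Fin 3 × Fin 3 → ↥(D.X ⊓ K) := fun p => ⟨D.φ ^ (p.1 : ℕ) * D.h ^ (p.2 : ℕ),
        mul_mem (pow_mem (⟨D.φX, hφK⟩ : D.φ ∈ D.X ⊓ K) _) (pow_mem (⟨D.hX, hhK⟩ : D.h ∈ D.X ⊓ K) _)⟩
      have hf : Function.Injective f := by
        rintro ⟨i, j⟩ ⟨i', j'⟩ e
        have e' : D.φ ^ (i : ℕ) * D.h ^ (j : ℕ) = D.φ ^ (i' : ℕ) * D.h ^ (j' : ℕ) := congrArg Subtype.val e
        have e2 : D.φ ^ ((i : ℕ) + 2 * i') * D.h ^ ((j : ℕ) + 2 * j') = 1 := by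
          rw [pow_add, pow_add, (D.hφ.pow_pow (2 * (i' : ℕ)) (j : ℕ)).mul_mul_mul_comm, e',
            ← (D.hφ.pow_pow (2 * (i' : ℕ)) (j' : ℕ)).mul_mul_mul_comm, ← pow_add, ← pow_add,
            show (i' : ℕ) + 2 * i' = 3 * i' by ring, show (j' : ℕ) + 2 * j' = 3 * j' by ring, pow_mul, pow_mul,
            D.φ3, D.h3, one_pow, one_pow, one_mul]
        rw [exp3 D.φ3, exp3 D.h3] at e2
        obtain ⟨ha, hb⟩ := D.nine_inj (Nat.mod_lt _ (by norm_num)) (Nat.mod_lt _ (by norm_num)) e2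
        exact Prod.ext (Fin.ext (by have := i.2; have := i'.2; dsimp only; omega))
          (Fin.ext (by have := j.2; have := j'.2; dsimp only; omega))
      have := Nat.card_le_card_of_injective f hf
      rwa [Nat.card_prod, Nat.card_fin] at this
    have h9' : Nat.card ↥(D.X ⊓ K) ∣ 9 := by
      refine Nat.Coprime.dvd_of_dvd_mul_left ?_ (show Nat.card ↥(D.X ⊓ K) ∣ 7 * 9 from hd)
      exact ((Nat.Prime.coprime_iff_not_dvd (by norm_num)).2 h7).symm
    have := Nat.le_of_dvd (by norm_num) h9'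
    omega
  have hC3 : IsPGroup 3 ↥(D.X ⊓ K) := IsPGroup.of_card (n := 2) (by rw [hC9]; norm_num)
  have hab := D.not_mem_commutator hKodd (hCK htC) hF hfix hC3 (by rw [hC9]; norm_num) (Or.inl hC9.le)
  have hP0 : ∀ x ∈ D.X ⊓ K, ∃ a b : ℕ, x = D.φ ^ a * D.h ^ b := by
    intro x hx
    let f : Fin 3 × Fin 3 → ↥(D.X ⊓ K) := fun p => ⟨D.φ ^ (p.1 : ℕ) * D.h ^ (p.2 : ℕ),
      mul_mem (pow_mem (⟨D.φX, hφK⟩ : D.φ ∈ D.X ⊓ K) _) (pow_mem (⟨D.hX, hhK⟩ : D.h ∈ D.X ⊓ K) _)⟩
    have hf : Function.Injective f := by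
      rintro ⟨i, j⟩ ⟨i', j'⟩ e
      have e' : D.φ ^ (i : ℕ) * D.h ^ (j : ℕ) = D.φ ^ (i' : ℕ) * D.h ^ (j' : ℕ) := congrArg Subtype.val e
      have e2 : D.φ ^ ((i : ℕ) + 2 * i') * D.h ^ ((j : ℕ) + 2 * j') = 1 := by
        rw [pow_add, pow_add, (D.hφ.pow_pow (2 * (i' : ℕ)) (j : ℕ)).mul_mul_mul_comm, e',
          ← (D.hφ.pow_pow (2 * (i' : ℕ)) (j' : ℕ)).mul_mul_mul_comm, ← pow_add, ← pow_add,
          show (i' : ℕ) + 2 * i' = 3 * i' by ring, show (j' : ℕ) + 2 * j' = 3 * j' by ring, pow_mul, pow_mul,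
          D.φ3, D.h3, one_pow, one_pow, one_mul]
      rw [exp3 D.φ3, exp3 D.h3] at e2
      obtain ⟨ha, hb⟩ := D.nine_inj (Nat.mod_lt _ (by norm_num)) (Nat.mod_lt _ (by norm_num)) e2
      exact Prod.ext (Fin.ext (by have := i.2; have := i'.2; dsimp only; omega))
        (Fin.ext (by have := j.2; have := j'.2; dsimp only; omega))
    obtain ⟨⟨a, b⟩, e⟩ := ((Nat.bijective_iff_injective_and_card f).2 ⟨hf, by
      rw [Nat.card_prod, Nat.card_fin, hC9]⟩).2 ⟨x, hx⟩
    exact ⟨a, b, (congrArg Subtype.val e).symm⟩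
  refine false_of_key D.amb.na D.tt ?_ (hCK htC) hKodd hφK D.φ3 D.φt hab hKh D.h3 (fun n hn => ?_) hC3 ?_
    (fun x hx hc => ?_) ⟨D.F0, hF, D.F0_three, by rw [D.F0_card]; exact hC9 ▸ (by norm_num : 9 < 81)⟩ (fun g => ?_)
  · exact fun h => D.t1 (GW.Klein.eq_one_of_odd hKodd h D.tt)
  · obtain ⟨i, hi⟩ := Subgroup.mem_zpowers_iff.1 hn
    rw [zpow_three D.h3] at hi
    rcases (show (i % 3).toNat = 0 ∨ (i % 3).toNat = 1 ∨ (i % 3).toNat = 2 by omega) with e | e | e <;>
      rw [e] at hi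
    · rw [pow_zero] at hi
      exact absurd (conj_eq_one_iff.1 hi.symm) D.h1
    · rw [pow_one] at hi
      exact hcov n (mem_centralizer_singleton_iff.2 (mul_inv_eq_iff_eq_mul.1 hi.symm))
    · refine absurd ?_ (D.h_nonreal n)
      rw [← hi, eq_inv_iff_mul_eq_one, ← pow_succ, D.h3]
  · intro h
    have h1 := Subgroup.card_mul_index ((D.X ⊓ K).subgroupOf D.X)
    rw [Nat.card_congr (Subgroup.subgroupOfEquivOfLe (inf_le_left : D.X ⊓ K ≤ D.X)).toEquiv, hC9, hcX] at h1
    obtain ⟨m, hm⟩ := h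
    have h2 : ((D.X ⊓ K).subgroupOf D.X).index = 3 * m := hm
    omega
  · have hxX : x ∈ D.X := mem_centralizer_singleton_iff.2 (hc D.φ ⟨D.φX, hφK⟩).eq
    have hxK : x ∈ K := hKmem x (mem_centralizer_singleton_iff.2 (hc D.h ⟨D.hX, hhK⟩).eq) (odd_of_three hx)
    exact hP0 x ⟨hxX, hxK⟩
  · -- conjugates of `φ` have centralizers with Sylow 2-subgroup of order eight
    have key : ∀ w : G, (∀ s ∈ D.S, Commute w s) → g * w * g⁻¹ ≠ D.h ∧ g * w * g⁻¹ ≠ D.h⁻¹ := by
      intro w hw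
      suffices hmain : ¬ Commute (g * w * g⁻¹) D.h ∨ g * w * g⁻¹ ∉ ({D.h, D.h⁻¹} : Set G) by
        refine ⟨fun e => ?_, fun e => ?_⟩
        · rcases hmain with h | h
          · exact h (e ▸ Commute.refl _)
          · exact h (Or.inl e)
        · rcases hmain with h | h
          · exact h (e ▸ (Commute.refl D.h).inv_left)
          · exact h (Or.inr e)
      refine Or.inr fun hmem => ?_
      have hconj : ∀ s ∈ D.S, g * s * g⁻¹ ∈ centralizer ({D.h} : Set G) := fun s hs => by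
        have h1 : Commute (g * w * g⁻¹) (g * s * g⁻¹) := (hw s hs).map (MulAut.conj g).toMonoidHom
        rcases hmem with e | e
        · rw [e] at h1; exact mem_centralizer_singleton_iff.2 h1.symm.eq
        · rw [Set.mem_singleton_iff.1 e] at h1
          exact mem_centralizer_singleton_iff.2 (Commute.inv_left_iff.1 h1).symm.eq
      obtain ⟨v, hv, hv1⟩ : ∃ v ∈ D.V, v ≠ 1 := by
        by_contra hno
        push Not at hno
        have := D.V_card
        rw [(Subgroup.eq_bot_iff_forall _).2 hno, Subgroup.card_bot] at this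
        omega
      have hsq : ∀ s ∈ D.S, (g * s * g⁻¹) * (g * s * g⁻¹) = 1 := fun s hs => by
        rw [conj_mul, D.S_sq hs, mul_one, mul_inv_cancel]
      have hout : ∀ s ∈ D.S, s ≠ 1 → g * s * g⁻¹ * D.t ∈ K := fun s hs hs1 =>
        (hcov _ (hconj s hs)).resolve_left fun h =>
          hs1 (conj_eq_one_iff.1 (GW.Klein.eq_one_of_odd hKodd h (hsq s hs)))
      have hmemK : g * D.t * g⁻¹ * (g * v * g⁻¹) ∈ K := by
        have h1 := K.mul_mem (hout _ D.tS D.t1) (K.inv_mem (hout v (D.VS hv) hv1))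
        rwa [mul_inv_rev, D.tinv, inv_eq_of_mul_eq_one_left (hsq v (D.VS hv)), ← mul_assoc, mul_assoc _ D.t D.t,
          D.tt, mul_one] at h1
      rw [conj_mul] at hmemK
      have h3 := conj_eq_one_iff.1 (GW.Klein.eq_one_of_odd hKodd hmemK (hsq _ (mul_mem D.tS (D.VS hv))))
      refine D.t_not ?_
      rw [eq_inv_of_mul_eq_one_left h3]
      exact inv_mem (D.V_le hv)
    exact ⟨(key _ fun s hs => D.φS hs).1, (key _ fun s hs => (D.φS hs).inv_left).1,
      (key _ fun s hs => D.φS hs).2⟩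

set_option maxHeartbeats 1000000 in
-- one long structural proof
/-- The case `|C(φ)/⟨φ⟩| = 1512`. -/
theorem false_of_two [IsSimpleGroup G] (W : RTwo D.hb D.tb) : False := by
  haveI : Fact (Nat.Prime 3) := ⟨Nat.prime_three⟩
  have hcX : Nat.card D.X = 4536 := by rw [D.card_X, W.card_R]
  obtain ⟨ab, habQ, habo⟩ := W.Qgen
  obtain ⟨a0, ha0⟩ := QuotientGroup.mk'_surjective D.Fk ab
  -- the lift inverted by `t`
  set aX : D.X := a0 * (⟨D.t, D.tX⟩ * a0 * ⟨D.t, D.tX⟩⁻¹)⁻¹ with haX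
  set a : G := (aX : G) with ha
  have hπa : D.π aX = ab * ab := by
    rw [haX, map_mul, map_inv, map_mul, map_mul, map_inv, ha0, W.tQ ab habQ, inv_inv]
  have hat : D.t * a * D.t⁻¹ = a⁻¹ := by
    show D.t * ((a0 : G) * (D.t * a0 * D.t⁻¹)⁻¹) * D.t⁻¹ = ((a0 : G) * (D.t * a0 * D.t⁻¹)⁻¹)⁻¹
    rw [show D.t * ((a0 : G) * (D.t * a0 * D.t⁻¹)⁻¹) * D.t⁻¹ = D.t * a0 * (D.t * (a0 : G)⁻¹ * (D.t⁻¹ * D.t⁻¹)) by
      group, D.tinv, D.tt, mul_one, mul_inv_rev, inv_inv]
    group
  have hab9 : orderOf (ab * ab) = 9 := by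
    rw [← pow_two, orderOf_pow, habo]
    norm_num
  have haφ : Commute a D.φ := mem_centralizer_singleton_iff.1 aX.2
  have ha9 : a ^ 9 = 1 := by
    have h1 : D.π (aX ^ 9) = D.π 1 := by
      rw [map_pow, hπa, map_one, ← hab9, pow_orderOf_eq_one]
    obtain ⟨i, hi⟩ := D.π_eq.1 h1.symm
    have hi' : a ^ 9 = D.φ ^ i := by simpa using hi
    rw [hi']
    refine eq_one_of_two_three ?_ (by rw [← pow_mul, mul_comm, pow_mul, D.φ3, one_pow])
    have h2 : D.t * a ^ 9 * D.t⁻¹ = (a ^ 9)⁻¹ := by rw [← conj_pow, hat, inv_pow]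
    rw [hi', ← (D.φt.pow_left i).eq, mul_inv_cancel_right] at h2
    nth_rewrite 2 [h2]
    exact mul_inv_cancel _
  set z := a ^ 3 with hz
  set zX : D.X := aX ^ 3 with hzX
  have hzt : D.t * z * D.t⁻¹ = z⁻¹ := by rw [hz, ← conj_pow, hat, inv_pow]
  have hz3 : z ^ 3 = 1 := by rw [hz, ← pow_mul]; exact ha9
  have hπz : D.π zX = (ab * ab) ^ 3 := by rw [hzX, map_pow, hπa]
  have hπz3 : orderOf (D.π zX) = 3 := by
    rw [hπz, orderOf_pow, hab9]
    norm_num
  have hz1 : z ≠ 1 := fun e => by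
    rw [show zX = 1 from Subtype.ext (by simpa [hzX] using e), map_one, orderOf_one] at hπz3
    omega
  have hzφ : Commute z D.φ := haφ.pow_left 3
  -- the two elements of order three of `Q`
  have hQeq : zpowers ab = W.Q := Subgroup.eq_of_le_of_card_ge (Subgroup.zpowers_le.2 habQ) (by
    rw [W.Q9, Nat.card_zpowers, habo])
  have hWz : zpowers W.z = zpowers (D.π zX) := by
    have hzo : orderOf W.z = 3 := orderOf_eq_prime W.z3 W.z1
    have hle : zpowers W.z ≤ zpowers (D.π zX) := by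
      refine Subgroup.zpowers_le.2 ?_
      obtain ⟨i, hi⟩ := Subgroup.mem_zpowers_iff.1 (hQeq.ge W.zQ)
      have h3 : (9 : ℤ) ∣ i * 3 := by
        have := orderOf_dvd_iff_zpow_eq_one.2 (show ab ^ (i * 3) = 1 by
          rw [zpow_mul, hi]; exact_mod_cast W.z3)
        rwa [habo] at this
      obtain ⟨k, rfl⟩ : (3 : ℤ) ∣ i := by omega
      refine Subgroup.mem_zpowers_iff.2 ⟨2 * k, ?_⟩
      rw [hπz, ← pow_two, ← pow_mul, ← zpow_natCast ab, ← zpow_mul, ← hi]
      refine zpow_eq_zpow_iff_modEq.2 ?_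
      rw [habo, Int.modEq_iff_dvd]
      exact ⟨-k, by push_cast; ring⟩
    exact Subgroup.eq_of_le_of_card_ge hle (by rw [Nat.card_zpowers, Nat.card_zpowers, hπz3, hzo])
  have hhz : Commute D.h z := by
    have h1 : Commute D.hb (D.π zX) := by
      obtain ⟨i, hi⟩ := Subgroup.mem_zpowers_iff.1 (hWz.ge (Subgroup.mem_zpowers (D.π zX)))
      rw [← hi]
      exact W.zh.symm.zpow_right i
    have h2 : D.π (⟨D.h, D.hX⟩ * zX * ⟨D.h, D.hX⟩⁻¹) = D.π zX := by
      rw [map_mul, map_mul, map_inv]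
      exact mul_inv_eq_iff_eq_mul.2 h1.eq
    obtain ⟨i, hi⟩ := D.π_eq.1 h2.symm
    have hi' : D.h * z * D.h⁻¹ = z * D.φ ^ i := by simpa [hzX] using hi
    have h3 : (z * D.φ ^ i)⁻¹ = z⁻¹ * D.φ ^ i := by
      have h4 : D.t * (D.h * z * D.h⁻¹) * D.t⁻¹ = (D.h * z * D.h⁻¹)⁻¹ := by
        rw [show D.t * (D.h * z * D.h⁻¹) * D.t⁻¹ = (D.t * D.h) * z * (D.t * D.h)⁻¹ by group, ← D.ht'.eq,
          show D.h * D.t * z * (D.h * D.t)⁻¹ = D.h * (D.t * z * D.t⁻¹) * D.h⁻¹ by group, hzt, conj_inv]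
      rw [hi', show D.t * (z * D.φ ^ i) * D.t⁻¹ = (D.t * z * D.t⁻¹) * (D.t * D.φ ^ i * D.t⁻¹) by group, hzt,
        ← (D.φt.pow_left i).eq, mul_inv_cancel_right] at h4
      exact h4.symm
    rw [mul_inv_rev] at h3
    have h0 : D.φ ^ i = 1 := by
      refine eq_one_of_two_three ?_ (by rw [← pow_mul, mul_comm, pow_mul, D.φ3, one_pow])
      have h5 : (D.φ ^ i)⁻¹ * z⁻¹ = D.φ ^ i * z⁻¹ := by
        rw [h3, (hzφ.inv_left.pow_right i).eq]

      have h6 := mul_right_cancel h5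
      nth_rewrite 1 [← h6]
      exact inv_mul_cancel _
    rw [h0, mul_one] at hi'
    exact mul_inv_eq_iff_eq_mul.1 hi'
  have hah : ¬ Commute a D.h := fun hc => by
    refine W.hnot (ab * ab) (mul_mem habQ habQ) hab9 ?_
    have := (show Commute (⟨D.h, D.hX⟩ : D.X) aX from Subtype.ext hc.symm.eq).map D.π
    rwa [hπa] at this
  -- odd elements of `C(φ)` and `C(h)`
  have hthree : ∀ x : G, x ∈ D.X → Commute x D.h → Odd (orderOf x) →
      ∃ i j k : ℕ, x = D.φ ^ i * D.h ^ j * z ^ k := by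
    intro x hx hxh hxo
    have h1 : D.π ⟨x, hx⟩ ∈ zpowers D.hb ⊔ zpowers W.z := by
      refine W.odd_h _ ?_ (hxo.of_dvd_nat ?_)
      · exact (show Commute (⟨x, hx⟩ : D.X) ⟨D.h, D.hX⟩ from Subtype.ext hxh.eq).map D.π
      · exact (orderOf_map_dvd D.π _).trans (by rw [← Subgroup.orderOf_coe])
    rw [hWz] at h1
    obtain ⟨i, j, e⟩ := mem_sup_zpowers ((show Commute (⟨D.h, D.hX⟩ : D.X) zX from
      Subtype.ext (by simpa [hzX] using hhz.eq)).map D.π) h1
    rw [← map_zpow, ← map_zpow, ← map_mul, eq_comm, D.π_eq] at e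
    obtain ⟨k, hk⟩ := e
    refine ⟨k, (i % 3).toNat, (j % 3).toNat, ?_⟩
    have hk' : x = D.h ^ i * z ^ j * D.φ ^ k := by simpa [hzX] using hk
    rw [hk', zpow_three D.h3, zpow_three hz3, mul_assoc (D.φ ^ k)]
    exact (((D.hφ.pow_pow k _).mul_right ((hzφ.symm).pow_pow k _))).eq.symm
  have hinv : ∀ x : G, x ∈ D.X → Commute x D.h → Odd (orderOf x) → D.t * x * D.t⁻¹ = x⁻¹ → x ∈ zpowers z := by
    intro x hx hxh hxo hxt
    obtain ⟨i, j, k, rfl⟩ := hthree x hx hxh hxo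
    set f := D.φ ^ i * D.h ^ j with hf
    have hft : Commute f D.t := (D.φt.pow_left i).mul_left (D.ht'.pow_left j)
    have hfz : Commute f z := (hzφ.symm.pow_left i).mul_left (hhz.pow_left j)
    have h1 : D.t * z ^ k * D.t⁻¹ = (z ^ k)⁻¹ := by rw [← conj_pow, hzt, inv_pow]
    rw [show D.t * (f * z ^ k) * D.t⁻¹ = (D.t * f * D.t⁻¹) * (D.t * z ^ k * D.t⁻¹) by group, h1, ← hft.eq,
      mul_inv_cancel_right, mul_inv_rev, (hfz.pow_right k).inv_right.eq] at hxt
    have h2 : f = f⁻¹ := mul_left_cancel hxt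
    have h3 : f = 1 := eq_one_of_two_three (by nth_rewrite 1 [h2]; exact inv_mul_cancel f) (by
      rw [hf, (D.hφ.pow_pow i j).mul_pow, ← pow_mul, ← pow_mul, mul_comm i, mul_comm j, pow_mul, pow_mul, D.φ3,
        D.h3, one_pow, one_pow, one_mul])
    rw [h3, one_mul]
    exact Subgroup.pow_mem _ (Subgroup.mem_zpowers z) k
  -- `F0` centralizes `z`
  have hFodd : ∀ g ∈ D.F0, Odd (orderOf g) := fun g hg =>
    (D.F0_card ▸ (by decide : Odd 81) : Odd (Nat.card D.F0)).of_dvd_nat (Subgroup.orderOf_dvd_natCard _ hg)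
  have hFh : ∀ f ∈ D.F0, Commute f D.h := fun f hf => (D.cent_h (D.F0_le hf)).2 hf
  have hzh' : Commute z D.h := hhz.symm
  have hzo : Odd (orderOf z) := odd_of_three hz3
  have hfixz : ∀ g ∈ D.F0, Commute (g * z * g⁻¹) D.φ → Commute g z := by
    intro g hg hc
    have hgt : Commute g D.t := D.hEt _ (D.F0_le hg)
    have hch : Commute (g * z * g⁻¹) D.h :=
      ((hFh g hg).mul_left hzh').mul_left (hFh g hg).inv_left
    have hord : Odd (orderOf (g * z * g⁻¹)) := by
      rwa [show orderOf (g * z * g⁻¹) = orderOf z from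
        orderOf_injective (MulAut.conj g).toMonoidHom (MulAut.conj g).injective z]
    have hgt' : D.t * (g * z * g⁻¹) * D.t⁻¹ = (g * z * g⁻¹)⁻¹ := by
      rw [show D.t * (g * z * g⁻¹) * D.t⁻¹ = (D.t * g) * z * (D.t * g)⁻¹ by group, ← hgt.eq,
        show g * D.t * z * (g * D.t)⁻¹ = g * (D.t * z * D.t⁻¹) * g⁻¹ by group, hzt, conj_inv]
    obtain ⟨i, hi⟩ := Subgroup.mem_zpowers_iff.1
      (hinv _ (mem_centralizer_singleton_iff.2 hc.eq) hch hord hgt')
    rw [zpow_three hz3] at hi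
    rcases (show (i % 3).toNat = 0 ∨ (i % 3).toNat = 1 ∨ (i % 3).toNat = 2 by omega) with e | e | e <;>
      rw [e] at hi
    · rw [pow_zero] at hi
      exact absurd (conj_eq_one_iff.1 hi.symm) hz1
    · rw [pow_one] at hi
      exact mul_inv_eq_iff_eq_mul.1 hi.symm
    · obtain ⟨m, hm⟩ := hFodd g hg
      have h2 : Commute (g * g) z := mul_inv_eq_iff_eq_mul.1 (by
        rw [show g * g * z * (g * g)⁻¹ = g * (g * z * g⁻¹) * g⁻¹ by group, ← hi, ← conj_pow, ← hi, ← pow_mul,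
          exp3 hz3, pow_one])
      have h3 := h2.pow_left (m + 1)
      rwa [← pow_two, ← pow_mul, show 2 * (m + 1) = orderOf g + 1 by omega, pow_succ, pow_orderOf_eq_one,
        one_mul] at h3
  have huF : D.u ∈ D.F0 := Subgroup.subset_closure (by simp)
  have hφF : D.φ ∈ D.F0 := Subgroup.subset_closure (by simp)
  set u2 := ⁅D.u, D.φ⁆ with hu2
  have hu2F : u2 ∈ D.F0 := by
    rw [hu2, commutatorElement_def]
    exact mul_mem (mul_mem (mul_mem huF hφF) (inv_mem huF)) (inv_mem hφF)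
  have hhF : D.h ∈ D.F0 := (D.cent_h D.hE).1 (Commute.refl _)
  have hu2z : Commute u2 z := by
    refine hfixz u2 hu2F ?_
    have h1 : u2 * D.φ * u2⁻¹ = D.h * D.φ := by
      show u2 * D.φ * u2⁻¹ = u2 * D.φ * u2⁻¹ * D.φ⁻¹ * D.φ
      rw [inv_mul_cancel_right]
    have h2 : Commute (u2 * z * u2⁻¹) (u2 * D.φ * u2⁻¹) := hzφ.map (MulAut.conj u2).toMonoidHom
    rw [h1] at h2
    have h3 : Commute (u2 * z * u2⁻¹) D.h := ((hFh u2 hu2F).mul_left hzh').mul_left (hFh u2 hu2F).inv_left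
    have h4 := h3.inv_right.mul_right h2
    rwa [inv_mul_cancel_left] at h4
  have hFz : ∀ f ∈ D.F0, Commute f z := by
    set B := (centralizer ({z} : Set G)).subgroupOf D.F0 with hB
    have hmem : ∀ f : D.F0, Commute (f : G) z → f ∈ B := fun f hf => mem_centralizer_singleton_iff.2 hf.eq
    have huz : Commute D.u z := by
      refine hfixz D.u huF ?_
      by_cases hBu : (⟨D.u, huF⟩ : D.F0) ∈ B
      · have h1 : Commute D.u z := mem_centralizer_singleton_iff.1 hBu
        rw [h1.eq, mul_inv_cancel_right]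
        exact hzφ
      have hB3 : IsPGroup 3 D.F0 := D.F0_three
      have h27 : Nat.card B = 27 := by
        have hlt : Nat.card B < 81 := by
          refine lt_of_le_of_ne (D.F0_card ▸ Subgroup.card_le_card_group B) fun e => hBu ?_
          rw [Subgroup.eq_top_of_card_eq B (e.trans D.F0_card.symm)]
          exact Subgroup.mem_top _
        obtain ⟨k, hk, hkc⟩ := (Nat.dvd_prime_pow Nat.prime_three).1
          (show Nat.card B ∣ 3 ^ 4 by
            have := Subgroup.card_subgroup_dvd_card B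
            rwa [D.F0_card] at this)
        have h9 : 9 < Nat.card B := by
          set B1 := zpowers (⟨D.φ, hφF⟩ : D.F0) ⊔ zpowers ⟨D.h, hhF⟩ with hB1
          have hc : Commute (⟨D.φ, hφF⟩ : D.F0) ⟨D.h, hhF⟩ := Subtype.ext D.hφ.eq
          have hlt1 : B1 < B := by
            refine lt_of_le_of_ne (sup_le (Subgroup.zpowers_le.2 (hmem _ hzφ.symm))
              (Subgroup.zpowers_le.2 (hmem _ hhz))) fun e => ?_
            obtain ⟨i, j, hij⟩ := mem_sup_zpowers hc (e.ge (hmem ⟨u2, hu2F⟩ hu2z))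
            have hij' : u2 = D.φ ^ i * D.h ^ j := congrArg Subtype.val hij
            refine D.h1 ?_
            show ⁅u2, D.φ⁆ = 1
            rw [commutatorElement_eq_one_iff_mul_comm, hij']
            exact (((Commute.refl D.φ).zpow_left i).mul_left (D.hφ.symm.zpow_left j)).eq
          have hlt0 : zpowers (⟨D.φ, hφF⟩ : D.F0) < B1 := by
            refine lt_of_le_of_ne le_sup_left fun e => ?_
            obtain ⟨i, hi⟩ := Subgroup.mem_zpowers_iff.1
              (e.ge (Subgroup.mem_sup_right (Subgroup.mem_zpowers (⟨D.h, hhF⟩ : D.F0))))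
            exact D.h_not _ ((congrArg Subtype.val hi).symm.trans (zpow_three D.φ3 i))
          have hp : IsPGroup 3 B := hB3.to_subgroup B
          have a1 := three_mul_le_of_le hp hlt0 hlt1.le
          have a2 := three_mul_le_of_le hp hlt1 le_rfl
          have a0 : Nat.card (zpowers (⟨D.φ, hφF⟩ : D.F0)) = 3 := by
            rw [Nat.card_zpowers, ← Subgroup.orderOf_coe]
            exact orderOf_eq_prime D.φ3 D.φ1
          omega
        rw [hkc] at hlt h9 ⊢
        interval_cases k <;> omega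
      haveI : B.Normal := Subgroup.normal_of_index_eq_minFac_card (by
        rw [D.F0_card]
        have h1 := B.card_mul_index
        rw [h27, D.F0_card] at h1
        rw [show Nat.minFac 81 = 3 by norm_num]
        omega)
      have hconj : (⟨D.u, huF⟩ : D.F0)⁻¹ * ⟨D.φ, hφF⟩ * ⟨D.u, huF⟩ ∈ B := by
        have h1 := (inferInstance : B.Normal).conj_mem _ (hmem ⟨D.φ, hφF⟩ hzφ.symm) (⟨D.u, huF⟩ : D.F0)⁻¹
        rwa [inv_inv] at h1
      have h1 : Commute (D.u⁻¹ * D.φ * D.u) z := mem_centralizer_singleton_iff.1 hconj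
      have h2 : Commute (D.u * (D.u⁻¹ * D.φ * D.u) * D.u⁻¹) (D.u * z * D.u⁻¹) :=
        h1.map (MulAut.conj D.u).toMonoidHom
      rw [show D.u * (D.u⁻¹ * D.φ * D.u) * D.u⁻¹ = D.φ by group] at h2
      exact h2.symm
    intro f hf
    have hle : D.F0 ≤ centralizer ({z} : Set G) := by
      rw [F0, Subgroup.closure_le]
      rintro x (rfl | rfl)
      exacts [mem_centralizer_singleton_iff.2 huz.eq, mem_centralizer_singleton_iff.2 hzφ.symm.eq]
    exact mem_centralizer_singleton_iff.1 (hle hf)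
  -- the centralizer of `z` is odd
  set K := centralizer ({z} : Set G) with hK
  have hKinv : ∀ s ∈ K, s * s = 1 → s = 1 := fun s hs hs2 => by
    by_contra hs1
    exact D.three_nonreal hz3 hz1 hs2 hs1 (mem_centralizer_singleton_iff.1 hs : Commute s z).symm D.t hzt
  have hKodd : Odd (Nat.card K) := by
    rw [← Nat.not_even_iff_odd, even_iff_two_dvd]
    intro h2
    haveI : Fact (Nat.Prime 2) := ⟨Nat.prime_two⟩
    obtain ⟨⟨s, hs⟩, hso⟩ := exists_prime_orderOf_dvd_card' (G := K) 2 h2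
    have hso' : orderOf s = 2 := (Subgroup.orderOf_coe (⟨s, hs⟩ : K)).trans hso
    have := hKinv s hs (by rw [← pow_two, ← hso', pow_orderOf_eq_one])
    rw [this, orderOf_one] at hso'
    omega
  have htK : D.t ∉ K := fun h => D.t1 (hKinv _ h D.tt)
  have htN : D.t ∈ normalizer (K : Set G) := mem_normalizer_fintype fun x hx => by
    have h1 : Commute x z := mem_centralizer_singleton_iff.1 hx
    have h2 : Commute (D.t * x * D.t⁻¹) (D.t * z * D.t⁻¹) := h1.map (MulAut.conj D.t).toMonoidHom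
    rw [hzt] at h2
    exact mem_centralizer_singleton_iff.2 (Commute.inv_right_iff.1 h2).eq
  have hF : D.F0 ≤ K := fun f hf => mem_centralizer_singleton_iff.2 (hFz f hf).eq
  have hzK : z ∈ K := mem_centralizer_singleton_iff.2 rfl
  -- the fixed points of `t`
  have hfix : ∀ x ∈ K, Commute x D.t → x ∈ D.F0 := by
    set O := (K ⊓ centralizer ({D.t} : Set G)).subgroupOf D.E with hO
    have hOE : ∀ x ∈ K, Commute x D.t → x ∈ D.E := fun x hx hxt =>
      D.mem_E hxt (hKodd.of_dvd_nat (Subgroup.orderOf_dvd_natCard _ hx))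
    have hle : K ⊓ centralizer ({D.t} : Set G) ≤ D.E := fun x hx =>
      hOE x hx.1 (mem_centralizer_singleton_iff.1 hx.2)
    have hOodd : Odd (Nat.card O) := by
      rw [Nat.card_congr (Subgroup.subgroupOfEquivOfLe hle).toEquiv]
      exact hKodd.of_dvd_nat (Subgroup.card_dvd_of_le inf_le_left)
    have hFO : Subgroup.closure ({D.ed.u, D.ed.φ} : Set D.E) ≤ O := fun x hx => by
      have hxF : (x : G) ∈ D.F0 := D.map_F0 ▸ ⟨x, hx, rfl⟩
      exact ⟨hF hxF, mem_centralizer_singleton_iff.2 (D.hEt _ (D.F0_le hxF)).eq⟩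
    by_cases heq : O = Subgroup.closure ({D.ed.u, D.ed.φ} : Set D.E)
    · intro x hx hxt
      have h1 : (⟨x, hOE x hx hxt⟩ : D.E) ∈ O := ⟨hx, mem_centralizer_singleton_iff.2 hxt.eq⟩
      rw [heq] at h1
      exact D.map_F0 ▸ ⟨_, h1, rfl⟩
    exfalso
    obtain ⟨y, hy, hy13, w, hw, hwy⟩ := D.ed.odd_over O hOodd hFO heq
    have hy13' : orderOf (y : G) = 13 := (Subgroup.orderOf_coe y).trans hy13
    have hyz : Commute (y : G) z := mem_centralizer_singleton_iff.1 hy.1
    have hyt : Commute (y : G) D.t := D.hEt _ y.2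
    have hw2 : (w : G) * w = 1 := by
      rw [← Subgroup.coe_mul, ← pow_two, ← hw, pow_orderOf_eq_one, Subgroup.coe_one]
    have hwt : Commute (w : G) D.t := D.hEt _ w.2
    have hwy' : (w : G) * y * (w : G)⁻¹ = (y : G)⁻¹ := congrArg Subtype.val hwy
    set C := centralizer ({(y : G)} : Set G) with hC
    have htC : D.t ∈ C := mem_centralizer_singleton_iff.2 hyt.symm.eq
    obtain ⟨Ky, hKyC, hKyodd, hKymem, hCKy, -⟩ := D.odd_part C htC fun x hx hxE hx2 => by
      have h1 := D.ed.thirteen y hy13 ⟨x, hxE⟩ (Subtype.ext hx2)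
        (Subtype.ext (mem_centralizer_singleton_iff.1 hx))
      exact congrArg Subtype.val h1
    have hzKy : z ∈ Ky := hKymem z (mem_centralizer_singleton_iff.2 hyz.symm.eq) hzo
    have hwKy : (w : G) ∈ normalizer (Ky : Set G) := mem_normalizer_fintype fun x hx => by
      refine hKymem _ (mem_centralizer_singleton_iff.2 ?_) ?_
      · have h1 : Commute ((w : G) * x * (w : G)⁻¹) ((w : G) * y * (w : G)⁻¹) :=
          (show Commute x (y : G) from mem_centralizer_singleton_iff.1 (hKyC hx)).map (MulAut.conj (w : G)).toMonoidHom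
        rw [hwy'] at h1
        exact (Commute.inv_right_iff.1 h1).eq
      · rw [show orderOf ((w : G) * x * (w : G)⁻¹) = orderOf x from
          orderOf_injective (MulAut.conj (w : G)).toMonoidHom (MulAut.conj (w : G)).injective x]
        exact hKyodd.of_dvd_nat (Subgroup.orderOf_dvd_natCard _ hx)
    set A := fourSub D.t (w : G) D.tt hw2 hwt.symm.eq with hA
    haveI hAK : IsKleinFour ↥A := fourSub_klein D.t1 (fun e => by
        rw [show w = 1 from Subtype.ext e, orderOf_one] at hw; omega) fun e => D.t_not (e ▸ w.2)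
    have hA2 : IsPGroup 2 A := IsPGroup.of_card (n := 2) (by rw [IsKleinFour.card_four]; norm_num)
    have hAN : A ≤ normalizer (Ky : Set G) := by
      rintro x (rfl | rfl | rfl | rfl)
      exacts [one_mem _, hCKy htC, hwKy, mul_mem (hCKy htC) hwKy]
    obtain ⟨R, ⟨hRK, hR3, hRi⟩, hAR⟩ := Grp.exists_invariant_sylow A Ky hAN (by
        rw [IsKleinFour.card_four, show (4 : ℕ) = 2 ^ 2 by norm_num]
        exact (Nat.coprime_two_left.2 hKyodd).pow_left 2)
      (Or.inl (by haveI := hA2.isNilpotent; infer_instance)) 3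
    have hRodd : Odd (Nat.card R) := hKyodd.of_dvd_nat (Subgroup.card_dvd_of_le hRK)
    -- the three involutions act without fixed points
    have hfp : ∀ s : G, s * s = 1 → s ≠ 1 → Commute s D.t →
        (∀ c ∈ R, Commute D.t c → c = 1) → ∀ c ∈ R, Commute s c → c = 1 := by
      intro s hs hs1 hst htf c hc hsc
      have htinvc := GW.ThreeClass.inverted_of_fixed_free D.tt hRodd (hAR (Or.inr (Or.inl rfl))) htf hc
      obtain ⟨k, hk⟩ := IsPGroup.iff_orderOf.1 hR3 ⟨c, hc⟩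
      rw [Subgroup.orderOf_mk] at hk
      rcases k with _ | k
      · exact orderOf_eq_one_iff.1 (by rw [hk, pow_zero])
      exfalso
      have hc3 : (c ^ 3 ^ k) ^ 3 = 1 := by rw [← pow_mul, ← pow_succ, ← hk, pow_orderOf_eq_one]
      have hc1 : c ^ 3 ^ k ≠ 1 := fun e => by
        have := orderOf_dvd_of_pow_eq_one e
        rw [hk, Nat.pow_dvd_pow_iff_le_right (by norm_num : 1 < 3)] at this
        omega
      exact D.three_nonreal hc3 hc1 hs hs1 (hsc.symm.pow_left _) D.t (by rw [← conj_pow, htinvc, inv_pow])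
    have htf : ∀ c ∈ R, Commute D.t c → c = 1 := by
      intro c hc htc
      have hcE : c ∈ D.E := D.mem_E htc.symm (hRodd.of_dvd_nat (Subgroup.orderOf_dvd_natCard _ hc))
      have hcy : Commute c (y : G) := mem_centralizer_singleton_iff.1 (hKyC (hRK hc))
      obtain ⟨k, hk⟩ := IsPGroup.iff_orderOf.1 hR3 ⟨c, hc⟩
      rw [Subgroup.orderOf_mk] at hk
      rcases k with _ | k
      · exact orderOf_eq_one_iff.1 (by rw [hk, pow_zero])
      exfalso
      have h1 := D.no_three_thirteen (D.E.pow_mem hcE (3 ^ k))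
        (by rw [← pow_mul, ← pow_succ, ← hk, pow_orderOf_eq_one]) y.2 hy13' (hcy.pow_left _)
      have := orderOf_dvd_of_pow_eq_one h1
      rw [hk, Nat.pow_dvd_pow_iff_le_right (by norm_num : 1 < 3)] at this
      omega
    have hw1 : (w : G) ≠ 1 := fun e => by rw [show w = 1 from Subtype.ext e, orderOf_one] at hw; omega
    have htw2 : D.t * (w : G) * (D.t * w) = 1 := by
      rw [← mul_assoc, mul_assoc D.t (w : G) D.t, hwt.eq, ← mul_assoc, D.tt, one_mul, hw2]
    have htw1 : D.t * (w : G) ≠ 1 := fun e => D.t_not (by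
      rw [eq_inv_of_mul_eq_one_left e]; exact D.E.inv_mem w.2)
    have hwf := hfp (w : G) hw2 hw1 hwt htf
    have htwf := hfp _ htw2 htw1 ((Commute.refl D.t).mul_left hwt) htf
    have hRbot : R = ⊥ := by
      refine (Subgroup.eq_bot_iff_forall R).2 fun x hx => htwf x hx ?_
      have ea := GW.ThreeClass.inverted_of_fixed_free D.tt hRodd (hAR (Or.inr (Or.inl rfl))) htf hx
      have eb := GW.ThreeClass.inverted_of_fixed_free hw2 hRodd (hAR (Or.inr (Or.inr (Or.inl rfl)))) hwf hx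
      show D.t * (w : G) * x = x * (D.t * w)
      calc D.t * (w : G) * x = D.t * ((w : G) * x * (w : G)⁻¹) * w := by group
        _ = D.t * x⁻¹ * w := by rw [eb]
        _ = (D.t * x * D.t⁻¹)⁻¹ * (D.t * w) := by group
        _ = x * (D.t * w) := by rw [ea, inv_inv]
    rw [hRbot, Subgroup.relIndex_bot_left] at hRi
    exact hRi ((orderOf_eq_prime hz3 hz1) ▸ Subgroup.orderOf_dvd_natCard Ky hzKy)
  -- `C_K(φ)`
  set P0 := D.X ⊓ K with hP0
  have hφK : D.φ ∈ K := hF hφF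
  have haK : a ∈ K := mem_centralizer_singleton_iff.2 ((Commute.refl a).pow_right 3).eq
  have hhK : D.h ∈ K := mem_centralizer_singleton_iff.2 hhz.eq
  set PX := P0.subgroupOf D.X with hPX
  have hFP : D.Fk ≤ PX := fun x hx => by
    obtain ⟨i, hi⟩ := D.mem_Fk.1 hx
    exact Subgroup.mem_subgroupOf.2 ⟨x.2, hi ▸ K.pow_mem hφK i⟩
  have hsup3 : IsPGroup 3 ↥(W.Q ⊔ zpowers D.hb) := by
    have hQ3 : IsPGroup 3 W.Q := IsPGroup.of_card (n := 2) (by rw [W.Q9]; norm_num)
    have hh3 : IsPGroup 3 (zpowers D.hb) := IsPGroup.of_card (n := 1) (by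
      rw [Nat.card_zpowers, pow_one]; exact orderOf_eq_prime D.rHyp.h3 D.rHyp.h1)
    rw [sup_comm]
    exact IsPGroup.to_sup_of_normal_right' hh3 hQ3 W.hQ
  have hsupc : Nat.card ↥(W.Q ⊔ zpowers D.hb) ≤ 27 := by
    have h1 : ((W.Q ⊔ zpowers D.hb : Subgroup (D.X ⧸ D.Fk)) : Set (D.X ⧸ D.Fk)) = (W.Q : Set _) * (zpowers D.hb : Set _) :=
      Subgroup.coe_mul_of_right_le_normalizer_left _ _ W.hQ
    have h2 := Set.natCard_mul_le (s := (W.Q : Set (D.X ⧸ D.Fk))) (t := (zpowers D.hb : Set (D.X ⧸ D.Fk)))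
    rw [← h1] at h2
    refine h2.trans (le_of_eq ?_)
    show Nat.card W.Q * Nat.card (zpowers D.hb) = 27
    rw [W.Q9, Nat.card_zpowers, orderOf_eq_prime D.rHyp.h3 D.rHyp.h1]
  have himg : PX.map D.π ≤ W.Q ⊔ zpowers D.hb := by
    refine le_trans ?_ W.cent_z
    rintro _ ⟨x, hx, rfl⟩
    refine mem_centralizer_singleton_iff.2 ?_
    obtain ⟨i, hi⟩ := Subgroup.mem_zpowers_iff.1 (hWz.le (Subgroup.mem_zpowers W.z))
    rw [← hi]
    refine (((show Commute x zX from Subtype.ext ?_).map D.π).zpow_right i).eq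
    simpa [hzX] using mem_centralizer_singleton_iff.1 hx.2
  have hπaP : D.π aX ∈ PX.map D.π := ⟨aX, ⟨aX.2, haK⟩, rfl⟩
  have hhP : D.hb ∈ PX.map D.π := ⟨⟨D.h, D.hX⟩, ⟨D.hX, hhK⟩, rfl⟩
  have hm3 : IsPGroup 3 (PX.map D.π) := hsup3.to_le himg
  have h27 : Nat.card (PX.map D.π) = 27 := by
    refine le_antisymm ((Subgroup.card_le_of_le himg).trans hsupc) ?_
    have hQa : zpowers (D.π aX) = W.Q := Subgroup.eq_of_le_of_card_ge
      (Subgroup.zpowers_le.2 (hπa ▸ mul_mem habQ habQ)) (by rw [W.Q9, Nat.card_zpowers, hπa, hab9])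
    have hlt : W.Q < PX.map D.π := by
      refine lt_of_le_of_ne (hQa ▸ Subgroup.zpowers_le.2 hπaP) fun e => W.hQ' (e.ge hhP)
    have := three_mul_le_of_le hm3 hlt le_rfl
    rw [W.Q9] at this
    omega
  have h81 : Nat.card P0 = 81 := by
    rw [← Nat.card_congr (Subgroup.subgroupOfEquivOfLe (inf_le_left : P0 ≤ D.X)).toEquiv, ← hPX,
      D.card_pre PX hFP, h27]
  have hP03 : IsPGroup 3 P0 := IsPGroup.of_card (n := 4) (by rw [h81]; norm_num)
  have hab' := D.not_mem_commutator hKodd htN hF hfix hP03 h81.le (Or.inr ⟨a, haK, haφ, hah⟩)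
  refine false_of_key D.amb.na D.tt htK htN hKodd hφK D.φ3 D.φt hab'
    (fun k hk => mem_centralizer_singleton_iff.1 hk) hz3 (fun n hn => ?_) hP03 ?_ (fun x hx hc => ?_) ?_
    (fun g => ?_)
  · obtain ⟨i, hi⟩ := Subgroup.mem_zpowers_iff.1 hn
    rw [zpow_three hz3] at hi
    rcases (show (i % 3).toNat = 0 ∨ (i % 3).toNat = 1 ∨ (i % 3).toNat = 2 by omega) with e | e | e <;>
      rw [e] at hi
    · rw [pow_zero] at hi
      exact absurd (conj_eq_one_iff.1 hi.symm) hz1
    · rw [pow_one] at hi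
      exact Or.inl (mem_centralizer_singleton_iff.2 (mul_inv_eq_iff_eq_mul.1 hi.symm))
    · refine Or.inr (mem_centralizer_singleton_iff.2 (mul_inv_eq_iff_eq_mul.1 ?_))
      rw [show n * D.t * z * (n * D.t)⁻¹ = n * (D.t * z * D.t⁻¹) * n⁻¹ by group, hzt, ← conj_inv, ← hi,
        inv_eq_iff_mul_eq_one, ← pow_succ, hz3]
  · intro h
    have h1 := Subgroup.card_mul_index PX
    rw [Nat.card_congr (Subgroup.subgroupOfEquivOfLe (inf_le_left : P0 ≤ D.X)).toEquiv, h81, hcX] at h1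
    obtain ⟨m, hm⟩ := h
    have h2 : PX.index = 3 * m := hm
    omega
  · have hxX : x ∈ D.X := mem_centralizer_singleton_iff.2 (hc D.φ ⟨D.φX, hφK⟩).eq
    obtain ⟨i, j, k, rfl⟩ := hthree x hxX (hc D.h ⟨D.hX, hhK⟩) (odd_of_three hx)
    refine ⟨i, k, ?_⟩
    rw [show D.h ^ j = 1 from ?_, mul_one]
    rw [exp3 D.h3]
    rcases (show j % 3 = 0 ∨ j % 3 = 1 ∨ j % 3 = 2 by omega) with e | e | e
    · rw [e, pow_zero]
    all_goals exfalso
    all_goals
      have h1 : Commute (D.h ^ j) a := by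
        have h2 := hc a ⟨aX.2, haK⟩
        have h3 := (haφ.pow_right i).symm.inv_left.mul_left h2
        rw [← mul_assoc, inv_mul_cancel_left] at h3
        have h4 := h3.mul_left (((Commute.refl a).pow_left 3).pow_left k).inv_left
        rwa [mul_inv_cancel_right] at h4
      rw [exp3 D.h3, e] at h1
    · exact hah (by simpa using h1.symm)
    · refine hah ?_
      have h2 := h1.pow_left 2
      rw [← pow_mul, exp3 D.h3, pow_one] at h2
      exact h2.symm
  · refine ⟨D.F0 ⊔ zpowers z, sup_le hF (Subgroup.zpowers_le.2 hzK), ?_, ?_⟩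
    · refine IsPGroup.to_sup_of_normal_right' D.F0_three (IsPGroup.of_card (n := 1) (by
        rw [Nat.card_zpowers, pow_one]; exact orderOf_eq_prime hz3 hz1)) ?_
      intro f hf
      refine mem_normalizer_fintype fun x hx => ?_
      obtain ⟨i, rfl⟩ := Subgroup.mem_zpowers_iff.1 hx
      rw [((hFz f hf).zpow_right i).eq, mul_inv_cancel_right]
      exact hx
    · rw [h81]
      have hlt : D.F0 < D.F0 ⊔ zpowers z := by
        refine lt_of_le_of_ne le_sup_left fun e => hz1 ?_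
        have hzF : z ∈ D.F0 := e.ge (Subgroup.mem_sup_right (Subgroup.mem_zpowers z))
        have h1 := hzt
        rw [← (D.hEt _ (D.F0_le hzF)).eq, mul_inv_cancel_right] at h1
        exact eq_one_of_two_three (by nth_rewrite 1 [h1]; exact inv_mul_cancel z) hz3
      have h1 := Subgroup.card_le_of_le hlt.le
      rcases h1.lt_or_eq with h | h
      · rwa [D.F0_card] at h
      · exact absurd (Subgroup.eq_of_le_of_card_ge hlt.le h.ge) hlt.ne
  · have key : ∀ w : G, Commute w D.t → g * w * g⁻¹ ≠ z ∧ g * w * g⁻¹ ≠ z⁻¹ := fun w hw => by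
      have h1 : Commute (g * w * g⁻¹) (g * D.t * g⁻¹) := hw.map (MulAut.conj g).toMonoidHom
      have h2 : (g * D.t * g⁻¹) * (g * D.t * g⁻¹) = 1 := by rw [conj_mul, D.tt, mul_one, mul_inv_cancel]
      have h3 : g * D.t * g⁻¹ ≠ 1 := fun e => D.t1 (conj_eq_one_iff.1 e)
      refine ⟨fun e => ?_, fun e => ?_⟩ <;> rw [e] at h1
      · exact h3 (hKinv _ (mem_centralizer_singleton_iff.2 h1.symm.eq) h2)
      · exact h3 (hKinv _ (mem_centralizer_singleton_iff.2 (Commute.inv_left_iff.1 h1).symm.eq) h2)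
    exact ⟨(key _ D.φt).1, (key _ D.φt.inv_left).1, (key _ D.φt).2⟩

include D in
/-- No simple group has an involution with centralizer `⟨t⟩ × L2(27):3`. -/
theorem contradiction [IsSimpleGroup G] : False := by
  rcases rCases D.rHyp with h | hW
  · exact D.false_of_168 h
  · exact hW.elim fun W => D.false_of_two W

end DHyp

end Cfsg.Agent.Invol.JankoWard.CaseD
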