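import Cfsg.Agent.Lib.Grp.AssocLie
import Cfsg.Agent.Lib.Block.InvolutionBound
import Cfsg.Agent.Lib.Transfer.MaxClass

/-!
The `3`-group step of case D of the field part of the Janko–Thompson–Ward theorem: if a
`3`-group has an involutory automorphism whose fixed points are generated by `u` and `φ`
and the centralizer of `φ` is small, then `φ` is not in the derived group.
-/

set_option autoImplicit false
set_option linter.unusedSectionVars false

namespace Cfsg.Agent.Invol.JankoWard.CaseD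

open Subgroup
open scoped commutatorElement
open Cfsg.Agent.AssocLie (lcs lcs_le three_subgroups lcs_commutator)

universe u

variable {P : Type u} [Group P]

/-- The elements commuting with `a` modulo `N`. -/
def modC (N : Subgroup P) [N.Normal] (a : P) : Subgroup P :=
  (Subgroup.centralizer ({(a : P ⧸ N)} : Set (P ⧸ N))).comap (QuotientGroup.mk' N)

theorem mem_modC_iff {N : Subgroup P} [N.Normal] {a x : P} :
    x ∈ modC N a ↔ Commute (x : P ⧸ N) (a : P ⧸ N) := by
  rw [modC, Subgroup.mem_comap, QuotientGroup.mk'_apply, Subgroup.mem_centralizer_singleton_iff]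
  rfl

theorem comm_mem_iff {N : Subgroup P} [N.Normal] {a x : P} :
    ⁅x, a⁆ ∈ N ↔ x ∈ modC N a := by
  rw [mem_modC_iff, ← commutatorElement_eq_one_iff_commute, ← QuotientGroup.eq_one_iff]
  exact Eq.congr (map_commutatorElement (QuotientGroup.mk' N) x a) rfl

theorem modC_symm {N : Subgroup P} [N.Normal] {a x : P} : x ∈ modC N a ↔ a ∈ modC N x := by
  rw [mem_modC_iff, mem_modC_iff]
  exact Commute.symm_iff

theorem self_mem_modC (N : Subgroup P) [N.Normal] (a : P) : a ∈ modC N a :=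
  mem_modC_iff.2 (Commute.refl _)

theorem mem_modC_of_commute {N : Subgroup P} [N.Normal] {a x : P} (h : Commute x a) :
    x ∈ modC N a :=
  mem_modC_iff.2 (h.map (QuotientGroup.mk' N))

theorem le_modC {N H K : Subgroup P} [N.Normal] {a : P} (h : ⁅H, K⁆ ≤ N) (ha : a ∈ K) :
    H ≤ modC N a :=
  fun _ hx => comm_mem_iff.1 (h (Subgroup.commutator_mem_commutator hx ha))

theorem le_modC_succ (i : ℕ) (x : P) : lcs P i ≤ modC (lcs P (i + 1)) x :=
  le_modC (le_of_eq rfl) (Subgroup.mem_top x)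

/-- A group generated modulo a central part by two commuting elements is abelian. -/
theorem all_mod {N M : Subgroup P} [N.Normal] {a b : P} (hM : ∀ x, M ≤ modC N x)
    (htop : (Subgroup.closure ({a, b} : Set P)) ⊔ M = ⊤) (hab : a ∈ modC N b) (x y : P) :
    ⁅x, y⁆ ∈ N := by
  have key : ∀ c, a ∈ modC N c → b ∈ modC N c → modC N c = ⊤ := fun c h1 h2 => by
    refine top_unique (htop.symm.le.trans (sup_le ?_ (hM c)))
    rw [Subgroup.closure_le]
    rintro z (rfl | rfl)
    exacts [h1, h2]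
  have hb : modC N b = ⊤ := key b hab (self_mem_modC N b)
  have ha : modC N a = ⊤ := key a (self_mem_modC N a) (modC_symm.1 hab)
  have hy : modC N y = ⊤ := key y (modC_symm.1 (by rw [ha]; exact Subgroup.mem_top y))
    (modC_symm.1 (by rw [hb]; exact Subgroup.mem_top y))
  exact comm_mem_iff.2 (by rw [hy]; exact Subgroup.mem_top x)

/-! ## Orders in a `3`-group -/

section Card

variable [Finite P] (hP : IsPGroup 3 P)
include hP

theorem three_mul_le {H K : Subgroup P} (h : H < K) : 3 * Nat.card H ≤ Nat.card K := by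
  haveI : Fact (Nat.Prime 3) := ⟨Nat.prime_three⟩
  obtain ⟨i, hi⟩ := IsPGroup.iff_card.1 (hP.to_subgroup H)
  obtain ⟨j, hj⟩ := IsPGroup.iff_card.1 (hP.to_subgroup K)
  have hlt : Nat.card H < Nat.card K := lt_of_le_of_ne (Subgroup.card_le_of_le h.le)
    fun e => h.ne (Subgroup.eq_of_le_of_card_ge h.le e.ge)
  rw [hi, hj] at hlt ⊢
  rw [← pow_succ']
  exact Nat.pow_le_pow_right (by norm_num) (Nat.succ_le_of_lt
    ((Nat.pow_lt_pow_iff_right (by norm_num)).1 hlt))

theorem eq_of_small_step {H L K : Subgroup P} (h1 : H < L) (h2 : L ≤ K)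
    (hc : Nat.card K ≤ 3 * Nat.card H) : L = K :=
  Subgroup.eq_of_le_of_card_ge h2 (hc.trans (three_mul_le hP h1))

theorem sup_zpowers_eq {H K : Subgroup P} {x : P} (h : H ≤ K) (hx : x ∈ K) (hx' : x ∉ H)
    (hc : Nat.card K ≤ 3 * Nat.card H) : H ⊔ Subgroup.zpowers x = K := by
  refine eq_of_small_step hP (lt_of_le_of_ne le_sup_left fun e => hx' ?_)
    (sup_le h (Subgroup.zpowers_le.2 hx)) hc
  rw [e]
  exact Subgroup.mem_sup_right (Subgroup.mem_zpowers x)

theorem pow_three_of_card {H : Subgroup P} (hH : Nat.card H = 3) {x : P} (hx : x ∈ H) :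
    x ^ 3 = 1 := by
  have := pow_card_eq_one' (G := H) (x := ⟨x, hx⟩)
  rw [hH] at this
  exact congrArg Subtype.val this

theorem sq_mem {N : Subgroup P} {x : P} (h : x * x ∈ N) : x ∈ N := by
  obtain ⟨k, hk⟩ := hP x
  have hodd : Odd ((3 : ℕ) ^ k) := Odd.pow (by decide)
  obtain ⟨m, hm⟩ := hodd
  have : x = ((x * x) ^ m)⁻¹ := by
    rw [eq_inv_iff_mul_eq_one, ← pow_two, ← pow_mul, ← pow_succ', ← hm, hk]
  rw [this]
  exact inv_mem (pow_mem h m)

theorem odd_orderOf (x : P) : Odd (orderOf x) := by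
  haveI : Fact (Nat.Prime 3) := ⟨Nat.prime_three⟩
  obtain ⟨k, hk⟩ := IsPGroup.iff_orderOf.1 hP x
  rw [hk]
  exact Odd.pow (by decide)

theorem exists_not_mem_three {A B C : Subgroup P} (hA : A ≠ ⊤) (hB : B ≠ ⊤) (hC : C ≠ ⊤) :
    ∃ a, a ∉ A ∧ a ∉ B ∧ a ∉ C := by
  by_contra hne
  push_neg at hne
  have hcov : (Set.univ : Set P) ⊆ (A : Set P) ∪ (((B : Set P) \ {1}) ∪ ((C : Set P) \ {1})) := by
    intro a _
    by_cases h1 : a ∈ A
    · exact Or.inl h1
    have ha1 : a ∉ ({1} : Set P) := fun e => h1 (by rw [Set.mem_singleton_iff.1 e]; exact one_mem A)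
    by_cases h2 : a ∈ B
    · exact Or.inr (Or.inl ⟨h2, ha1⟩)
    · exact Or.inr (Or.inr ⟨hne a h1 h2, ha1⟩)
  have h3 : ∀ S : Subgroup P, S ≠ ⊤ → 3 * Nat.card S ≤ Nat.card P := fun S hS => by
    simpa [Subgroup.card_top] using three_mul_le hP (lt_top_iff_ne_top.2 hS)
  have hd : ∀ S : Subgroup P, ((S : Set P) \ {1}).ncard = Nat.card S - 1 := fun S => by
    rw [Set.ncard_diff_singleton_of_mem (one_mem S)]
    rfl
  have h := (Set.ncard_le_ncard hcov (Set.toFinite _)).trans ((Set.ncard_union_le _ _).trans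
    (Nat.add_le_add_left (Set.ncard_union_le _ _) _))
  rw [Set.ncard_univ, hd, hd, show (A : Set P).ncard = Nat.card A from rfl] at h
  have := h3 A hA
  have := h3 B hB
  have := h3 C hC
  have : 0 < Nat.card B := Nat.card_pos
  omega

end Card

theorem card_sup_zpowers [Finite P] (N : Subgroup P) [N.Normal] {x : P} (hx : x ^ 3 ∈ N) :
    Nat.card ↥(N ⊔ Subgroup.zpowers x) ≤ 3 * Nat.card N := by
  set H := N ⊔ Subgroup.zpowers x with hH
  have hmap : H.map (QuotientGroup.mk' N) = Subgroup.zpowers (x : P ⧸ N) := by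
    rw [hH, Subgroup.map_sup, QuotientGroup.map_mk'_self, bot_sup_eq, MonoidHom.map_zpowers]
    rfl
  have hidx : (H.map (QuotientGroup.mk' N)).index = H.index :=
    Subgroup.index_map_eq H (QuotientGroup.mk'_surjective N) (by simp [hH])
  have h1 := H.card_mul_index
  rw [Subgroup.card_eq_card_quotient_mul_card_subgroup N,
    ← (H.map (QuotientGroup.mk' N)).card_mul_index, hidx, hmap, Nat.card_zpowers] at h1
  have h3 : orderOf (x : P ⧸ N) ≤ 3 := Nat.le_of_dvd (by norm_num)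
    (orderOf_dvd_of_pow_eq_one (by rw [← QuotientGroup.mk_pow]; exact (QuotientGroup.eq_one_iff _).2 hx))
  have h4 : Nat.card H = orderOf (x : P ⧸ N) * Nat.card N :=
    Nat.eq_of_mul_eq_mul_right (Nat.pos_of_ne_zero H.index_ne_zero_of_finite) (by linarith)
  rw [h4]
  exact Nat.mul_le_mul_right _ h3

theorem index_le_card_centralizer [Finite P] (N : Subgroup P) [N.Normal] {v : P}
    (h : ∀ x, x ∈ modC N v) : N.index ≤ Nat.card (Subgroup.centralizer ({v} : Set P)) := by
  refine le_trans (le_of_eq ?_) (Cfsg.Agent.Block.card_centralizer_quotient_le N v)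
  rw [Subgroup.index, ← Subgroup.card_top (G := P ⧸ N)]
  refine congrArg (fun S : Subgroup (P ⧸ N) => Nat.card S) (top_unique fun z _ => ?_).symm
  obtain ⟨x, rfl⟩ := QuotientGroup.mk_surjective z
  exact Subgroup.mem_centralizer_singleton_iff.2 (mem_modC_iff.1 (h x))

/-! ## Commutator identities -/

theorem comm_inv_inv {x b : P} (hb : Commute ⁅x, b⁆ b) (hx : Commute ⁅x, b⁆ x) :
    ⁅x⁻¹, b⁻¹⁆ = ⁅x, b⁆ := by
  have h2 : Commute ⁅x, b⁆ (b * x) := hb.mul_right hx
  calc ⁅x⁻¹, b⁻¹⁆ = (b * x)⁻¹ * ⁅x, b⁆ * (b * x) := by rw [commutatorElement_def, commutatorElement_def]; group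
    _ = ⁅x, b⁆ := by rw [mul_assoc, h2.eq, inv_mul_cancel_left]

theorem comm_inv_right {x b : P} (hb : Commute ⁅x, b⁆ b) : ⁅x, b⁻¹⁆ = ⁅x, b⁆⁻¹ := by
  calc ⁅x, b⁻¹⁆ = b⁻¹ * ⁅x, b⁆⁻¹ * b := by rw [commutatorElement_def, commutatorElement_def]; group
    _ = ⁅x, b⁆⁻¹ := by rw [mul_assoc, hb.inv_left.eq, inv_mul_cancel_left]

theorem comm_inv_left {x b : P} (hx : Commute ⁅x, b⁆ x) : ⁅x⁻¹, b⁆ = ⁅x, b⁆⁻¹ := by
  calc ⁅x⁻¹, b⁆ = x⁻¹ * ⁅x, b⁆⁻¹ * x := by rw [commutatorElement_def, commutatorElement_def]; group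
    _ = ⁅x, b⁆⁻¹ := by rw [mul_assoc, hx.inv_left.eq, inv_mul_cancel_left]

theorem comm_pow_left {x b : P} (hx : Commute ⁅x, b⁆ x) : ∀ n : ℕ, ⁅x ^ n, b⁆ = ⁅x, b⁆ ^ n := by
  intro n
  induction n with
  | zero => simp
  | succ n ih =>
    calc ⁅x ^ (n + 1), b⁆ = x * ⁅x ^ n, b⁆ * x⁻¹ * ⁅x, b⁆ := by
          rw [pow_succ', commutatorElement_def, commutatorElement_def, commutatorElement_def]; group
      _ = ⁅x, b⁆ ^ n * ⁅x, b⁆ := by rw [ih, ← (hx.pow_left n).eq, mul_inv_cancel_right]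
      _ = ⁅x, b⁆ ^ (n + 1) := (pow_succ _ _).symm

theorem comm_mul_central {x m b : P} (hm : ∀ g, Commute m g) : ⁅x * m, b⁆ = ⁅x, b⁆ := by
  calc ⁅x * m, b⁆ = x * (m * b * m⁻¹) * x⁻¹ * b⁻¹ := by rw [commutatorElement_def]; group
    _ = ⁅x, b⁆ := by rw [(hm b).eq, mul_inv_cancel_right, commutatorElement_def]

theorem comm_mul_commute {x b n : P} (hn : Commute n x) : ⁅x, b * n⁆ = ⁅x, b⁆ := by
  calc ⁅x, b * n⁆ = x * b * (n * x⁻¹ * n⁻¹) * b⁻¹ := by rw [commutatorElement_def]; group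
    _ = ⁅x, b⁆ := by rw [hn.inv_right.eq, mul_inv_cancel_right, commutatorElement_def]

/-- The third power of a conjugation on a chain of commuting steps. -/
theorem conj_cube {a x d e f : P} (h1 : a * x * a⁻¹ = x * d) (h2 : a * d * a⁻¹ = d * e)
    (h3 : a * e * a⁻¹ = e * f) (hde : Commute d e) :
    a ^ 3 * x * (a ^ 3)⁻¹ = x * (d ^ 3 * e ^ 3 * f) := by
  have t1 : a * (x * d) * a⁻¹ = x * d * (d * e) := by
    rw [show a * (x * d) * a⁻¹ = a * x * a⁻¹ * (a * d * a⁻¹) by group, h1, h2]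
  have t2 : a * (x * d * (d * e)) * a⁻¹ = x * d * (d * e) * (d * e * (e * f)) := by
    rw [show a * (x * d * (d * e)) * a⁻¹
      = a * x * a⁻¹ * (a * d * a⁻¹) * (a * d * a⁻¹ * (a * e * a⁻¹)) by group, h1, h2, h3]
  calc a ^ 3 * x * (a ^ 3)⁻¹ = a * (a * (a * x * a⁻¹) * a⁻¹) * a⁻¹ := by
        simp only [pow_succ, pow_zero, one_mul, mul_inv_rev, mul_assoc]
    _ = x * d * (d * e) * (d * e * (e * f)) := by rw [h1, t1, t2]
    _ = x * (d * (d * e) * (d * e * (e * f))) := by group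
    _ = x * (d ^ 3 * e ^ 3 * f) := by
      congr 1
      calc d * (d * e) * (d * e * (e * f)) = d * d * (e * d) * e * e * f := by group
        _ = d * d * (d * e) * e * e * f := by rw [hde.eq]
        _ = d ^ 3 * e ^ 3 * f := by simp only [pow_succ, pow_zero, one_mul, mul_assoc]

/-! ## The class four quotient -/

section ClassFour

variable [Finite P] (hP : IsPGroup 3 P)

theorem commute_of_lcs {k : ℕ} (hk : lcs P k = ⊥) {i j : ℕ} (h : k ≤ i + j + 1) {x y : P}
    (hx : x ∈ lcs P i) (hy : y ∈ lcs P j) : Commute x y := by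
  have := ((lcs_commutator j i).trans ((lcs_le h).trans hk.le))
    (Subgroup.commutator_mem_commutator hx hy)
  exact commutatorElement_eq_one_iff_commute.1 (Subgroup.mem_bot.1 this)

theorem central_of_lcs {k : ℕ} (hk : lcs P k = ⊥) {i : ℕ} (h : k ≤ i + 1) {x : P}
    (hx : x ∈ lcs P i) (y : P) : Commute x y :=
  commute_of_lcs hk (i := i) (j := 0) (by omega) hx (Subgroup.mem_top y)

theorem abelian_one (h4 : lcs P 4 = ⊥) {c : P} (h1 : lcs P 2 ⊔ Subgroup.zpowers c = lcs P 1)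
    {x y : P} (hx : x ∈ lcs P 1) (hy : y ∈ lcs P 1) : Commute x y := by
  have hc : c ∈ lcs P 1 := h1 ▸ Subgroup.mem_sup_right (Subgroup.mem_zpowers c)
  have key : ∀ v ∈ lcs P 1, Commute c v → lcs P 1 ≤ Subgroup.centralizer ({v} : Set P) := by
    intro v hv hcv
    rw [← h1]
    exact sup_le (fun w hw => Subgroup.mem_centralizer_singleton_iff.2
      (commute_of_lcs h4 (by norm_num) hw hv).eq)
      (Subgroup.zpowers_le.2 (Subgroup.mem_centralizer_singleton_iff.2 hcv.eq))
  have hcy : Commute c y :=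
    ((Subgroup.mem_centralizer_singleton_iff.1 (key c hc (Commute.refl c) hy)) : Commute y c).symm
  exact Subgroup.mem_centralizer_singleton_iff.1 (key y hy hcy hx)

/-- If `y` commutes with the first term modulo the third, it centralizes the second. -/
theorem commute_two (h4 : lcs P 4 = ⊥) {c : P} (h1 : lcs P 2 ⊔ Subgroup.zpowers c = lcs P 1)
    {y : P} (hy : ∀ x ∈ lcs P 1, ⁅x, y⁆ ∈ lcs P 3) {x : P} (hx : x ∈ lcs P 2) : Commute x y := by
  have h : ⁅⁅lcs P 1, (⊤ : Subgroup P)⁆, Subgroup.zpowers y⁆ ≤ (⊥ : Subgroup P) := by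
    refine three_subgroups _ _ _ _ ?_ ?_
    · refine (Subgroup.commutator_mono (Subgroup.commutator_mono le_rfl le_top) le_rfl).trans ?_
      refine Subgroup.commutator_le.2 fun v hv w hw => Subgroup.mem_bot.2 ?_
      exact commutatorElement_eq_one_iff_commute.2 (abelian_one h4 h1 hv hw)
    · refine (Subgroup.commutator_mono (K₁ := lcs P 3) ?_ le_rfl).trans ((le_of_eq rfl).trans h4.le)
      rw [Subgroup.commutator_comm]
      exact Subgroup.commutator_le.2 fun v hv w hw => comm_mem_iff.2 (modC_symm.1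
        ((Subgroup.zpowers_le.2 (modC_symm.1 (comm_mem_iff.1 (hy v hv)))) hw))
  exact commutatorElement_eq_one_iff_commute.1 (Subgroup.mem_bot.1
    (h (Subgroup.commutator_mem_commutator (show x ∈ ⁅lcs P 1, (⊤ : Subgroup P)⁆ from hx)
      (Subgroup.mem_zpowers y))))

include hP

/-- The counting step: the first three terms and `y` fill a centralizer of order `≤ 81`. -/
theorem cards (h4 : lcs P 4 = ⊥) (h3 : lcs P 3 ≠ ⊥) {v y : P}
    (hle : lcs P 1 ≤ Subgroup.centralizer ({v} : Set P)) (hy : Commute y v) (hy1 : y ∉ lcs P 1)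
    (hb : Nat.card (Subgroup.centralizer ({v} : Set P)) ≤ 81) :
    Nat.card (lcs P 3) = 3 ∧ Nat.card (lcs P 2) = 9 ∧ Nat.card (lcs P 1) = 27 ∧
      lcs P 1 ⊔ Subgroup.zpowers y = Subgroup.centralizer ({v} : Set P) := by
  haveI : Fact (Nat.Prime 3) := ⟨Nat.prime_three⟩
  haveI : Group.IsNilpotent P := hP.isNilpotent
  have h2 : lcs P 2 ≠ ⊥ := fun e => h3 (eq_bot_iff.2 (e ▸ lcs_le (by norm_num)))
  have h1 : lcs P 1 ≠ ⊥ := fun e => h3 (eq_bot_iff.2 (e ▸ lcs_le (by norm_num)))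
  have a3 := three_mul_le hP (bot_lt_iff_ne_bot.2 h3)
  rw [Subgroup.card_bot] at a3
  have a2 : 3 * Nat.card (lcs P 3) ≤ Nat.card (lcs P 2) :=
    three_mul_le hP (Transfer.MaxClass.lcs_succ_lt (i := 2) h2)
  have a1 : 3 * Nat.card (lcs P 2) ≤ Nat.card (lcs P 1) :=
    three_mul_le hP (Transfer.MaxClass.lcs_succ_lt (i := 1) h1)
  have hlt : lcs P 1 < lcs P 1 ⊔ Subgroup.zpowers y := by
    refine lt_of_le_of_ne le_sup_left fun e => hy1 ?_
    rw [e]
    exact Subgroup.mem_sup_right (Subgroup.mem_zpowers y)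
  have hN : lcs P 1 ⊔ Subgroup.zpowers y ≤ Subgroup.centralizer ({v} : Set P) :=
    sup_le hle (Subgroup.zpowers_le.2 (Subgroup.mem_centralizer_singleton_iff.2 hy.eq))
  have a0 := three_mul_le hP hlt
  have a := Subgroup.card_le_of_le hN
  refine ⟨?_, ?_, ?_, Subgroup.eq_of_le_of_card_ge hN ?_⟩ <;> omega

/-- The conjugation step: the chain `w, d, e, f` cannot exist. -/
theorem twist (h4 : lcs P 4 = ⊥) {a w : P}
    (hab : ∀ x ∈ lcs P 1, ∀ y ∈ lcs P 1, Commute x y)
    (hc : Nat.card (lcs P 2) ≤ 3 * Nat.card (lcs P 3))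
    (hd : ⁅w⁻¹, a⁆ ∉ lcs P 2) (hd3 : ⁅w⁻¹, a⁆ ^ 3 = 1)
    (hsep : ∀ x ∈ lcs P 1, ⁅a, x⁆ ∈ lcs P 3 → x ∈ lcs P 2)
    (ha : ∃ x ∈ lcs P 2, ¬ Commute a x) (hcube : Commute (a ^ 3) w) : False := by
  set d := ⁅w⁻¹, a⁆ with hdd
  have hd1 : d ∈ lcs P 1 :=
    Subgroup.commutator_mem_commutator (Subgroup.mem_top _) (Subgroup.mem_top _)
  have hconj : ∀ {i : ℕ} {x : P}, x ∈ lcs P i → a * x * a⁻¹ ∈ lcs P i := fun {i x} hx =>
    Subgroup.Normal.conj_mem inferInstance x hx a
  set e := ⁅a, d⁆ with hee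
  have he2 : e ∈ lcs P 2 := by
    rw [hee, ← commutatorElement_inv]
    exact inv_mem (Subgroup.commutator_mem_commutator hd1 (Subgroup.mem_top a))
  set f := ⁅a, e⁆ with hff
  have he1 : e ∈ lcs P 1 := lcs_le (by norm_num) he2
  have hf3 : f ∈ lcs P 3 := by
    rw [hff, ← commutatorElement_inv]
    exact inv_mem (Subgroup.commutator_mem_commutator he2 (Subgroup.mem_top a))
  have hde : Commute d e := hab d hd1 e he1
  have hef : Commute e f := hab e he1 f (lcs_le (by norm_num) hf3)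
  have h1 : a * w * a⁻¹ = w * d := by rw [hdd, commutatorElement_def]; group
  have h2 : a * d * a⁻¹ = d * e := by
    rw [hde.eq, hee, commutatorElement_def]; group
  have h3 : a * e * a⁻¹ = e * f := by
    rw [hef.eq, hff, commutatorElement_def]; group
  have he3 : e ^ 3 = 1 := by
    have := congrArg (fun t : P => t ^ 3) h2
    simp only [hde.mul_pow, conj_pow, hd3] at this
    simpa using this.symm
  have h := conj_cube h1 h2 h3 hde
  rw [hd3, he3, one_mul, one_mul, hcube.eq, mul_inv_cancel_right] at h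
  have hf1 : f = 1 := by simpa using h.symm
  have hcae : Commute a e := commutatorElement_eq_one_iff_commute.1 hf1
  have he' : e ∉ lcs P 3 := fun he => hd (hsep d hd1 he)
  obtain ⟨x, hx, hax⟩ := ha
  refine hax ?_
  have hle : lcs P 2 ≤ Subgroup.centralizer ({a} : Set P) := by
    rw [← sup_zpowers_eq hP (lcs_le (by norm_num)) he2 he' hc]
    exact sup_le (fun z hz => Subgroup.mem_centralizer_singleton_iff.2
      (central_of_lcs h4 (by norm_num) hz a).eq)
      (Subgroup.zpowers_le.2 (Subgroup.mem_centralizer_singleton_iff.2 hcae.symm.eq))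
  exact (Subgroup.mem_centralizer_singleton_iff.1 (hle hx) : Commute x a).symm

theorem no_centralizing_two (h3 : lcs P 3 ≠ ⊥) :
    Subgroup.centralizer ((lcs P 2 : Subgroup P) : Set P) ≠ ⊤ := fun e => h3 (eq_bot_iff.2 (by
  show ⁅lcs P 2, (⊤ : Subgroup P)⁆ ≤ ⊥
  exact Subgroup.commutator_le.2 fun x hx y _ => Subgroup.mem_bot.2
    (commutatorElement_eq_one_iff_commute.2
      (Subgroup.mem_centralizer_iff.1 (e ▸ Subgroup.mem_top y) x hx))))

theorem not_two_le_three (h3 : lcs P 3 ≠ ⊥) : ¬ lcs P 2 ≤ lcs P 3 := fun h => by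
  haveI : Fact (Nat.Prime 3) := ⟨Nat.prime_three⟩
  haveI : Group.IsNilpotent P := hP.isNilpotent
  exact (Transfer.MaxClass.lcs_succ_lt (i := 2)
    (fun e => h3 (eq_bot_iff.2 (e ▸ lcs_le (by norm_num))))).not_ge h

/-- Case `φ ∈ γ₂ \ γ₃`, in the class four quotient. -/
theorem core_one (h4 : lcs P 4 = ⊥) (h3 : lcs P 3 ≠ ⊥) {φ y : P} (hφ1 : φ ∈ lcs P 1)
    (hφ2 : φ ∉ lcs P 2) (hφ3 : φ ^ 3 = 1) (hy : Commute y φ) (hyZ : ∃ g, ⁅y, g⁆ ∉ lcs P 2)
    (h12 : Nat.card (lcs P 1) ≤ 3 * Nat.card (lcs P 2))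
    (hb : Nat.card (Subgroup.centralizer ({φ} : Set P)) ≤ 81) : False := by
  have hg1 : lcs P 2 ⊔ Subgroup.zpowers φ = lcs P 1 :=
    sup_zpowers_eq hP (lcs_le (by norm_num)) hφ1 hφ2 h12
  have hab : ∀ x ∈ lcs P 1, ∀ z ∈ lcs P 1, Commute x z := fun x hx z hz => abelian_one h4 hg1 hx hz
  have hy3 : ∀ x ∈ lcs P 1, ⁅x, y⁆ ∈ lcs P 3 := by
    intro x hx
    rw [← hg1] at hx
    exact comm_mem_iff.2 ((sup_le (le_modC_succ 2 y)
      (Subgroup.zpowers_le.2 (mem_modC_of_commute hy.symm))) hx)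
  have hy2 : ∀ x ∈ lcs P 1, Commute x y := by
    intro x hx
    rw [← hg1] at hx
    have hle : lcs P 2 ⊔ Subgroup.zpowers φ ≤ Subgroup.centralizer ({y} : Set P) :=
      sup_le (fun z hz => Subgroup.mem_centralizer_singleton_iff.2
        (commute_two h4 hg1 hy3 hz).eq)
        (Subgroup.zpowers_le.2 (Subgroup.mem_centralizer_singleton_iff.2 hy.symm.eq))
    exact Subgroup.mem_centralizer_singleton_iff.1 (hle hx)
  have hy1 : y ∉ lcs P 1 := fun h => by
    obtain ⟨g, hg⟩ := hyZ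
    exact hg (Subgroup.commutator_mem_commutator h (Subgroup.mem_top g))
  obtain ⟨c3, c2, c1, hC⟩ := cards hP h4 h3
    (fun x hx => Subgroup.mem_centralizer_singleton_iff.2 (hab x hx φ hφ1).eq) hy hy1 hb
  have hS1 : modC (lcs P 2) y ≠ ⊤ := fun e => by
    obtain ⟨g, hg⟩ := hyZ
    exact hg (comm_mem_iff.2 (modC_symm.1 (e ▸ Subgroup.mem_top g)))
  have hS2 : modC (lcs P 3) φ ≠ ⊤ := fun e => by
    refine not_two_le_three hP h3 ?_
    show ⁅lcs P 1, (⊤ : Subgroup P)⁆ ≤ _
    refine Subgroup.commutator_le.2 fun x hx g _ => comm_mem_iff.2 ?_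
    rw [← hg1] at hx
    exact (sup_le (le_modC_succ 2 g)
      (Subgroup.zpowers_le.2 (modC_symm.1 (e ▸ Subgroup.mem_top g)))) hx
  obtain ⟨a, ha1, ha2, ha3⟩ := exists_not_mem_three hP hS1 hS2 (no_centralizing_two hP h3)
  have hsep : ∀ x ∈ lcs P 1, ⁅a, x⁆ ∈ lcs P 3 → x ∈ lcs P 2 := by
    intro x hx hax
    by_contra hx2
    refine ha2 (modC_symm.1 ?_)
    have hle : lcs P 1 ≤ modC (lcs P 3) a := by
      rw [← sup_zpowers_eq hP (lcs_le (by norm_num)) hx hx2 h12]
      exact sup_le (le_modC_succ 2 a)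
        (Subgroup.zpowers_le.2 (modC_symm.1 (comm_mem_iff.1 hax)))
    exact hle hφ1
  set e' := ⁅a, φ⁆ with hee
  have he2 : e' ∈ lcs P 2 := by
    rw [hee, ← commutatorElement_inv]
    exact inv_mem (Subgroup.commutator_mem_commutator hφ1 (Subgroup.mem_top a))
  have he1 : e' ∈ lcs P 1 := lcs_le (by norm_num) he2
  have hcφ : Commute φ e' := hab φ hφ1 e' he1
  have h1 : a * φ * a⁻¹ = φ * e' := by rw [hcφ.eq, hee, commutatorElement_def]; group
  have he3 : e' ^ 3 = 1 := by
    have := congrArg (fun t : P => t ^ 3) h1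
    simp only [hcφ.mul_pow, conj_pow, hφ3] at this
    simpa using this.symm
  have he' : e' ∉ lcs P 3 := fun h => hφ2 (hsep φ hφ1 h)
  have hg2 : lcs P 3 ⊔ Subgroup.zpowers e' = lcs P 2 :=
    sup_zpowers_eq hP (lcs_le (by norm_num)) he2 he' (by omega)
  have hexp2 : ∀ x ∈ lcs P 2, x ^ 3 = 1 := by
    intro x hx
    rw [← hg2] at hx
    obtain ⟨u, hu, v, hv, rfl⟩ := Subgroup.mem_sup_of_normal_left.1 hx
    obtain ⟨i, rfl⟩ := Subgroup.mem_zpowers_iff.1 hv
    rw [(hab u (lcs_le (by norm_num) hu) _ (zpow_mem he1 i)).mul_pow, pow_three_of_card hP c3 hu,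
      ← zpow_natCast (e' ^ i), zpow_comm, zpow_natCast, he3, one_zpow, one_mul]
  have hexp1 : ∀ x ∈ lcs P 1, x ^ 3 = 1 := by
    intro x hx
    rw [← hg1] at hx
    obtain ⟨u, hu, v, hv, rfl⟩ := Subgroup.mem_sup_of_normal_left.1 hx
    obtain ⟨i, rfl⟩ := Subgroup.mem_zpowers_iff.1 hv
    rw [(hab u (lcs_le (by norm_num) hu) _ (zpow_mem hφ1 i)).mul_pow, hexp2 u hu,
      ← zpow_natCast (φ ^ i), zpow_comm, zpow_natCast, hφ3, one_zpow, one_mul]
  have hd1 : ⁅y⁻¹, a⁆ ∈ lcs P 1 :=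
    Subgroup.commutator_mem_commutator (Subgroup.mem_top _) (Subgroup.mem_top _)
  have hd2 : ⁅y⁻¹, a⁆ ∉ lcs P 2 := fun h => ha1 (modC_symm.1 (by
    simpa using (modC (lcs P 2) a).inv_mem (comm_mem_iff.1 h)))
  have hcube : Commute (a ^ 3) y := by
    set f' := ⁅a, e'⁆ with hff
    have hf3 : f' ∈ lcs P 3 := by
      rw [hff, ← commutatorElement_inv]
      exact inv_mem (Subgroup.commutator_mem_commutator he2 (Subgroup.mem_top a))
    have hef : Commute e' f' := hab e' he1 f' (lcs_le (by norm_num) hf3)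
    have h2 : a * e' * a⁻¹ = e' * f' := by rw [hef.eq, hff, commutatorElement_def]; group
    have h3' : a * f' * a⁻¹ = f' * 1 := by
      rw [mul_one, ← (central_of_lcs h4 (by norm_num) hf3 a).eq, mul_inv_cancel_right]
    have h := conj_cube h1 h2 h3' hef
    rw [he3, pow_three_of_card hP c3 hf3, one_mul, one_mul, mul_one, mul_inv_eq_iff_eq_mul] at h
    have hmem : a ^ 3 ∈ lcs P 1 ⊔ Subgroup.zpowers y :=
      hC ▸ Subgroup.mem_centralizer_singleton_iff.2 h
    have hle : lcs P 1 ⊔ Subgroup.zpowers y ≤ Subgroup.centralizer ({y} : Set P) :=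
      sup_le (fun z hz => Subgroup.mem_centralizer_singleton_iff.2 (hy2 z hz).eq)
        (Subgroup.zpowers_le.2 (Subgroup.mem_centralizer_singleton_iff.2 rfl))
    exact Subgroup.mem_centralizer_singleton_iff.1 (hle hmem)
  refine twist hP h4 hab (by omega) hd2 (hexp1 _ hd1) hsep ?_ hcube
  by_contra hno
  push_neg at hno
  exact ha3 (Subgroup.mem_centralizer_iff.2 fun x hx => (hno x hx).symm.eq)

/-- Case `φ ∈ γ₃ \ γ₄`, in the class four quotient. -/
theorem core_two (h4 : lcs P 4 = ⊥) (h3 : lcs P 3 ≠ ⊥) {φ u b : P} (hφ2 : φ ∈ lcs P 2)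
    (hu3 : u ^ 3 = 1) (hu1 : u ∉ lcs P 1)
    (htop : Subgroup.closure ({u, b} : Set P) ⊔ lcs P 1 = ⊤) (hb3 : b ^ 3 ∈ lcs P 1)
    (hsign : ∀ x ∈ lcs P 1, ⁅x, u⁆ ∈ lcs P 3)
    (h12 : Nat.card (lcs P 1) ≤ 3 * Nat.card (lcs P 2))
    (hb : Nat.card (Subgroup.centralizer ({φ} : Set P)) ≤ 81) : False := by
  haveI : Fact (Nat.Prime 3) := ⟨Nat.prime_three⟩
  haveI : Group.IsNilpotent P := hP.isNilpotent
  have hub : u ∉ modC (lcs P 2) b := fun hub => by
    refine (Transfer.MaxClass.lcs_succ_lt (G := P) (i := 1)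
      (fun e => h3 (eq_bot_iff.2 (e ▸ lcs_le (by norm_num))))).not_ge ?_
    show ⁅(⊤ : Subgroup P), (⊤ : Subgroup P)⁆ ≤ lcs P 2
    exact Subgroup.commutator_le.2 fun x _ z _ => all_mod (le_modC_succ 1) htop hub x z
  have hd2 : ⁅u⁻¹, b⁆ ∉ lcs P 2 := fun h => hub (by
    simpa using (modC (lcs P 2) b).inv_mem (comm_mem_iff.1 h))
  have hd1 : ⁅u⁻¹, b⁆ ∈ lcs P 1 :=
    Subgroup.commutator_mem_commutator (Subgroup.mem_top _) (Subgroup.mem_top _)
  have hg1 : lcs P 2 ⊔ Subgroup.zpowers ⁅u⁻¹, b⁆ = lcs P 1 :=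
    sup_zpowers_eq hP (lcs_le (by norm_num)) hd1 hd2 h12
  have hab : ∀ x ∈ lcs P 1, ∀ z ∈ lcs P 1, Commute x z := fun x hx z hz => abelian_one h4 hg1 hx hz
  have hu2 : ∀ x ∈ lcs P 2, Commute x u := fun x hx => commute_two h4 hg1 hsign hx
  obtain ⟨c3, c2, c1, -⟩ := cards hP h4 h3
    (fun x hx => Subgroup.mem_centralizer_singleton_iff.2
      (hab x hx φ (lcs_le (by norm_num) hφ2)).eq) (hu2 φ hφ2).symm hu1 hb
  have hsep : ∀ x ∈ lcs P 1, ⁅b, x⁆ ∈ lcs P 3 → x ∈ lcs P 2 := by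
    intro x hx hbx
    by_contra hx2
    refine not_two_le_three hP h3 ?_
    have hle : lcs P 1 ≤ modC (lcs P 3) b := by
      rw [← sup_zpowers_eq hP (lcs_le (by norm_num)) hx hx2 h12]
      exact sup_le (le_modC_succ 2 b)
        (Subgroup.zpowers_le.2 (modC_symm.1 (comm_mem_iff.1 hbx)))
    show ⁅lcs P 1, (⊤ : Subgroup P)⁆ ≤ _
    refine Subgroup.commutator_le.2 fun v hv g _ => comm_mem_iff.2 (modC_symm.1 ?_)
    refine (htop.ge.trans (sup_le ?_ (le_modC ((lcs_commutator 1 1).trans le_rfl) hv))) (Subgroup.mem_top g)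
    rw [Subgroup.closure_le]
    rintro z (rfl | rfl)
    exacts [modC_symm.1 (comm_mem_iff.1 (hsign v hv)), modC_symm.1 (hle hv)]
  have hb2 : b ^ 3 ∈ lcs P 2 := hsep _ hb3 (by
    rw [commutatorElement_eq_one_iff_commute.2 (Commute.self_pow b 3)]
    exact one_mem _)
  have hd3 : ⁅u⁻¹, b⁆ ^ 3 = 1 := by
    set d := ⁅u⁻¹, b⁆ with hdd
    set w := ⁅u, d⁆ with hww
    have hw3 : w ∈ lcs P 3 := by
      rw [hww, ← commutatorElement_inv]
      exact inv_mem (hsign d hd1)
    have hwc : ∀ g, Commute w g := central_of_lcs h4 (by norm_num) hw3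
    have hud : u * d * u⁻¹ = w * d := by rw [hww, commutatorElement_def]; group
    have huw : u * (w * d) * u⁻¹ = w * (w * d) := by
      rw [← mul_assoc, ← (hwc u).eq, mul_assoc w u d, mul_assoc w, hud]
    have hconj : (u * d) ^ 3 = 1 := by
      have : u * d = b * u * b⁻¹ := by rw [hdd, commutatorElement_def]; group
      rw [this, conj_pow, hu3, mul_one, mul_inv_cancel]
    have hexp : (u * d) ^ 3 = w * d * (w * (w * d)) * d := by
      calc (u * d) ^ 3 = (u * d * u⁻¹) * (u * (u * d * u⁻¹) * u⁻¹) * u ^ 3 * d := by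
            simp [pow_succ, mul_assoc]
        _ = w * d * (w * (w * d)) * d := by rw [hud, huw, hu3, mul_one]
    have hpow : w * d * (w * (w * d)) * d = w ^ 3 * d ^ 3 := by
      have e1 : d * (w * w) = w * w * d := (((hwc d).mul_left (hwc d)).eq).symm
      calc w * d * (w * (w * d)) * d = w * (d * (w * w)) * d * d := by simp only [mul_assoc]
        _ = w * (w * w * d) * d * d := by rw [e1]
        _ = w ^ 3 * d ^ 3 := by simp [pow_succ, mul_assoc]
    rw [hconj, hpow, pow_three_of_card hP c3 hw3, one_mul] at hexp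
    exact hexp.symm
  refine twist hP h4 hab (by omega) hd2 hd3 hsep ?_ (hu2 _ hb2)
  by_contra hno
  push_neg at hno
  refine h3 (eq_bot_iff.2 ?_)
  show ⁅lcs P 2, (⊤ : Subgroup P)⁆ ≤ ⊥
  refine Subgroup.commutator_le.2 fun v hv g _ => Subgroup.mem_bot.2
    (commutatorElement_eq_one_iff_commute.2 ?_)
  have hle : (⊤ : Subgroup P) ≤ Subgroup.centralizer ({v} : Set P) := by
    refine htop.ge.trans (sup_le ?_ fun z hz => Subgroup.mem_centralizer_singleton_iff.2
      (hab z hz v (lcs_le (by norm_num) hv)).eq)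
    rw [Subgroup.closure_le]
    rintro z (rfl | rfl)
    exacts [Subgroup.mem_centralizer_singleton_iff.2 (hu2 v hv).symm.eq,
      Subgroup.mem_centralizer_singleton_iff.2 (hno v hv).eq]
  exact (Subgroup.mem_centralizer_singleton_iff.1 (hle (Subgroup.mem_top g)) : Commute g v).symm

end ClassFour

/-! ## Quotients by the lower central series -/

theorem map_lcs (N : Subgroup P) [N.Normal] (i : ℕ) :
    (lcs P i).map (QuotientGroup.mk' N) = lcs (P ⧸ N) i := by
  rw [Subgroup.map_lowerCentralSeries, Subgroup.map_top_of_surjective _ (QuotientGroup.mk'_surjective N)]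

theorem lcs_quot_bot (k : ℕ) : lcs (P ⧸ lcs P k) k = ⊥ := by
  rw [← map_lcs, QuotientGroup.map_mk'_self]

theorem mk_mem_lcs_iff {k i : ℕ} (h : i ≤ k) {x : P} :
    (x : P ⧸ lcs P k) ∈ lcs (P ⧸ lcs P k) i ↔ x ∈ lcs P i := by
  rw [← map_lcs, ← QuotientGroup.mk'_apply, ← Subgroup.mem_comap, Subgroup.comap_map_eq,
    QuotientGroup.ker_mk', sup_eq_left.2 (lcs_le h)]

theorem card_lcs_quot [Finite P] {k i : ℕ} (h : i ≤ k) :
    Nat.card (lcs (P ⧸ lcs P k) i) * Nat.card (lcs P k) = Nat.card (lcs P i) := by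
  have hidx : ((lcs P i).map (QuotientGroup.mk' (lcs P k))).index = (lcs P i).index :=
    Subgroup.index_map_eq _ (QuotientGroup.mk'_surjective _) (by simpa using lcs_le h)
  have h1 := (lcs P i).card_mul_index
  rw [Subgroup.card_eq_card_quotient_mul_card_subgroup (lcs P k),
    ← ((lcs P i).map (QuotientGroup.mk' (lcs P k))).card_mul_index, hidx, map_lcs] at h1
  exact Nat.eq_of_mul_eq_mul_right (Nat.pos_of_ne_zero (lcs P i).index_ne_zero_of_finite) (by linarith)

theorem map_lcs_tau (τ : P ≃* P) {i : ℕ} {x : P} (hx : x ∈ lcs P i) : τ x ∈ lcs P i := by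
  have h := Subgroup.mem_map_of_mem τ.toMonoidHom hx
  rwa [Subgroup.map_lowerCentralSeries,
    Subgroup.map_top_of_surjective _ τ.surjective] at h

theorem tau_mk (τ : P ≃* P) {i : ℕ} {x y : P} (h : (x : P ⧸ lcs P i) = y) :
    ((τ x : P) : P ⧸ lcs P i) = (τ y : P) := by
  rw [QuotientGroup.eq] at h ⊢
  simpa using map_lcs_tau τ h

theorem exists_index_one [Finite P] (hP : IsPGroup 3 P) (h : lcs P 1 ≠ ⊥) :
    ∃ j, 2 ≤ j ∧ (lcs P 1).index = 3 ^ j := by
  haveI : Fact (Nat.Prime 3) := ⟨Nat.prime_three⟩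
  haveI : Group.IsNilpotent P := hP.isNilpotent
  obtain ⟨n, hn⟩ := IsPGroup.iff_card.1 hP
  have hn2 : 2 ≤ n := by
    by_contra hlt
    have h3 : Nat.card P ≤ 3 ^ 1 := hn ▸ Nat.pow_le_pow_right (by norm_num) (by omega)
    have h1 : 3 * Nat.card (lcs P 1) ≤ Nat.card (lcs P 0) :=
      three_mul_le hP (Transfer.MaxClass.lcs_succ_lt (i := 0)
        (fun e => h (eq_bot_iff.2 (e ▸ lcs_le (by norm_num)))))
    have h0 : Nat.card (lcs P 0) = Nat.card P := Subgroup.card_top
    have h2 := three_mul_le hP (bot_lt_iff_ne_bot.2 h)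
    rw [Subgroup.card_bot] at h2
    omega
  obtain ⟨j, hj, -, hje⟩ := Transfer.MaxClass.commutator_index_ge hn hn2
  exact ⟨j, hj, by rw [← hje, ← Subgroup.top_lowerCentralSeries_one]⟩

theorem lcs_chain [Finite P] (hP : IsPGroup 3 P) {i : ℕ} (h : lcs P i ≠ ⊥) :
    3 * Nat.card (lcs P (i + 1)) ≤ Nat.card (lcs P i) := by
  haveI : Fact (Nat.Prime 3) := ⟨Nat.prime_three⟩
  haveI : Group.IsNilpotent P := hP.isNilpotent
  exact three_mul_le hP (Transfer.MaxClass.lcs_succ_lt h)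

/-- An element splits as a fixed times an inverted element. -/
theorem exists_split [Finite P] (hP : IsPGroup 3 P) (τ : P ≃* P) (hτ : ∀ x, τ (τ x) = x) (g : P) :
    ∃ f e, g = f * e ∧ τ f = f ∧ τ e = e⁻¹ ∧ e ∈ Subgroup.zpowers (g⁻¹ * τ g) := by
  set k := g⁻¹ * τ g with hk
  have hτk : τ k = k⁻¹ := by simp [hk, hτ]
  obtain ⟨m, hm⟩ := odd_orderOf hP k
  have hsq : k ^ (m + 1) * k ^ (m + 1) = k := by
    rw [← pow_add, show m + 1 + (m + 1) = orderOf k + 1 by omega, pow_succ, pow_orderOf_eq_one,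
      one_mul]
  refine ⟨g * k ^ (m + 1), (k ^ (m + 1))⁻¹, by group, ?_, by simp [hτk],
    inv_mem (pow_mem (Subgroup.mem_zpowers k) _)⟩
  calc τ (g * k ^ (m + 1)) = g * k * (k ^ (m + 1))⁻¹ := by
        rw [map_mul, map_pow, hτk, inv_pow, hk, mul_inv_cancel_left]
    _ = g * (k ^ (m + 1) * k ^ (m + 1)) * (k ^ (m + 1))⁻¹ := by rw [hsq]
    _ = g * k ^ (m + 1) := by group

/-- The subgroup of elements of `γ₃` inverted modulo `γ₄`. -/
def invPart (τ : P ≃* P) : Subgroup P where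
  carrier := {x | x ∈ lcs P 2 ∧ τ x * x ∈ lcs P 3}
  one_mem' := ⟨one_mem _, by simp⟩
  mul_mem' := by
    rintro x y ⟨hx, hx'⟩ ⟨hy, hy'⟩
    refine ⟨mul_mem hx hy, ?_⟩
    rw [← QuotientGroup.eq_one_iff] at hx' hy' ⊢
    have hc : Commute ((τ y : P) : P ⧸ lcs P 3) (x : P ⧸ lcs P 3) :=
      mem_modC_iff.1 (le_modC_succ 2 x (map_lcs_tau τ hy))
    simp only [QuotientGroup.mk_mul, map_mul] at hx' hy' ⊢
    calc ((τ x : P) : P ⧸ lcs P 3) * (τ y : P) * ((x : P ⧸ lcs P 3) * y)
        = (τ x : P) * (((τ y : P) : P ⧸ lcs P 3) * (x : P ⧸ lcs P 3)) * y := by group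
      _ = ((τ x : P) * (x : P ⧸ lcs P 3)) * ((τ y : P) * (y : P ⧸ lcs P 3)) := by rw [hc.eq]; group
      _ = 1 := by rw [hx', hy', one_mul]
  inv_mem' := by
    rintro x ⟨hx, hx'⟩
    refine ⟨inv_mem hx, ?_⟩
    rw [← QuotientGroup.eq_one_iff] at hx' ⊢
    simp only [QuotientGroup.mk_mul, map_inv, QuotientGroup.mk_inv] at hx' ⊢
    rw [← mul_inv_rev, mul_eq_one_comm.1 hx', inv_one]

/-- `φ` is not in the derived group. -/
theorem pLemma [Finite P] (hP : IsPGroup 3 P) (τ : P ≃* P) (hτ : ∀ x, τ (τ x) = x) {φ u : P}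
    (hφ3 : φ ^ 3 = 1) (hu3 : u ^ 3 = 1) (hφτ : τ φ = φ) (huτ : τ u = u)
    (hfix : ∀ x, τ x = x → x ∈ Subgroup.closure ({u, φ} : Set P))
    (hh : ⁅⁅u, φ⁆, φ⁆ ≠ 1)
    (hmin : ∀ N : Subgroup P, N ≤ Subgroup.closure ({u, φ} : Set P) →
      (∀ f ∈ Subgroup.closure ({u, φ} : Set P), ∀ x ∈ N, f * x * f⁻¹ ∈ N) → N ≠ ⊥ → ⁅⁅u, φ⁆, φ⁆ ∈ N)
    (hb81 : Nat.card (Subgroup.centralizer ({φ} : Set P)) ≤ 81)
    (hy : Nat.card (Subgroup.centralizer ({φ} : Set P)) ≤ 9 ∨
      ∃ y, Commute y φ ∧ ¬ Commute y ⁅⁅u, φ⁆, φ⁆) :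
    φ ∉ commutator P := by
  haveI : Fact (Nat.Prime 3) := ⟨Nat.prime_three⟩
  haveI : Group.IsNilpotent P := hP.isNilpotent
  intro hφc
  set h := ⁅⁅u, φ⁆, φ⁆ with hhdef
  set F0 := Subgroup.closure ({u, φ} : Set P) with hF0
  have hF0τ : ∀ x ∈ F0, τ x = x := by
    have : F0 ≤ τ.toMonoidHom.eqLocus (MonoidHom.id P) := by
      rw [hF0, Subgroup.closure_le]
      rintro z (rfl | rfl)
      exacts [huτ, hφτ]
    exact fun x hx => this hx
  have hφ1 : φ ∈ lcs P 1 := by
    show φ ∈ (⊤ : Subgroup P).lowerCentralSeries 1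
    rwa [Subgroup.top_lowerCentralSeries_one]
  have hu2 : ⁅u, φ⁆ ∈ lcs P 2 := by
    rw [← commutatorElement_inv]
    exact inv_mem (Subgroup.commutator_mem_commutator hφ1 (Subgroup.mem_top u))
  have hh4 : h ∈ lcs P 4 := lcs_commutator 1 2 (Subgroup.commutator_mem_commutator hu2 hφ1)
  have hne : ∀ i ≤ 4, lcs P i ≠ ⊥ := fun i hi e => hh (Subgroup.mem_bot.1 (e ▸ lcs_le hi hh4))
  obtain ⟨j, hj, hje⟩ := exists_index_one hP (hne 1 (by norm_num))
  have e1 := (lcs P 1).card_mul_index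
  have e2 := (lcs P 2).card_mul_index
  have e3 := (lcs P 3).card_mul_index
  have e4 := (lcs P 4).card_mul_index
  have c12 : 3 * Nat.card (lcs P 2) ≤ Nat.card (lcs P 1) := lcs_chain hP (hne 1 (by norm_num))
  have c23 : 3 * Nat.card (lcs P 3) ≤ Nat.card (lcs P 2) := lcs_chain hP (hne 2 (by norm_num))
  have c34 : 3 * Nat.card (lcs P 4) ≤ Nat.card (lcs P 3) := lcs_chain hP (hne 3 (by norm_num))
  have hi9 : 9 ≤ (lcs P 1).index :=
    hje ▸ le_trans (by norm_num) (Nat.pow_le_pow_right (show 1 ≤ 3 by norm_num) hj)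
  have p1 : 9 * Nat.card (lcs P 1) ≤ Nat.card P := by
    rw [← e1, mul_comm 9]
    exact Nat.mul_le_mul_left _ hi9
  have p2 : 27 * Nat.card (lcs P 2) ≤ Nat.card P := by omega
  have p4 : 243 * Nat.card (lcs P 4) ≤ Nat.card P := by omega
  have hφnot3 : φ ∉ lcs P 3 := fun h3 => by
    have hi := (index_le_card_centralizer (lcs P 4) (v := φ)
      (fun x => modC_symm.1 (le_modC_succ 3 x h3))).trans hb81
    have hpos : 0 < Nat.card (lcs P 4) := Nat.card_pos
    nlinarith
  have hiφ : (lcs P 2).index ≤ Nat.card (Subgroup.centralizer ({φ} : Set P)) :=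
    index_le_card_centralizer (lcs P 2) (fun x => modC_symm.1 (le_modC_succ 1 x hφ1))
  obtain ⟨y, hyφ, hyh⟩ : ∃ y, Commute y φ ∧ ¬ Commute y h := by
    rcases hy with h9 | hy
    · exfalso
      have hpos : 0 < Nat.card (lcs P 2) := Nat.card_pos
      nlinarith
    · exact hy
  have hQP : IsPGroup 3 (P ⧸ lcs P 4) := hP.to_quotient _
  have hQ3 : lcs (P ⧸ lcs P 4) 3 ≠ ⊥ := fun e => by
    have h1 := card_lcs_quot (P := P) (k := 4) (i := 3) (by norm_num)
    rw [e, Subgroup.card_bot] at h1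
    have hpos : 0 < Nat.card (lcs P 4) := Nat.card_pos
    omega
  have hQb : Nat.card (Subgroup.centralizer ({(φ : P ⧸ lcs P 4)} : Set (P ⧸ lcs P 4))) ≤ 81 :=
    (Cfsg.Agent.Block.card_centralizer_quotient_le _ φ).trans hb81
  have hQ12 : Nat.card (lcs P 1) ≤ 3 * Nat.card (lcs P 2) →
      Nat.card (lcs (P ⧸ lcs P 4) 1) ≤ 3 * Nat.card (lcs (P ⧸ lcs P 4) 2) := by
    intro hc
    rw [← card_lcs_quot (P := P) (k := 4) (i := 1) (by norm_num),
      ← card_lcs_quot (P := P) (k := 4) (i := 2) (by norm_num), ← mul_assoc] at hc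
    exact Nat.le_of_mul_le_mul_right hc Nat.card_pos
  have hφQ : (φ : P ⧸ lcs P 4) ^ 3 = 1 := by rw [← QuotientGroup.mk_pow, hφ3, QuotientGroup.mk_one]
  by_cases hφ2 : φ ∈ lcs P 2
  · -- `φ` in the third term
    have hi3 := (index_le_card_centralizer (lcs P 3) (v := φ)
      (fun x => modC_symm.1 (le_modC_succ 2 x hφ2))).trans hb81
    have p3 : Nat.card P ≤ 81 * Nat.card (lcs P 3) := by rw [← e3]; nlinarith
    have hP9 : Nat.card P = 9 * Nat.card (lcs P 1) := by omega
    have hc12 : Nat.card (lcs P 1) ≤ 3 * Nat.card (lcs P 2) := by omega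
    have hj2 : (lcs P 1).index = 3 ^ 2 := by
      have hpos : 0 < Nat.card (lcs P 1) := Nat.card_pos
      exact Nat.eq_of_mul_eq_mul_left hpos (by rw [e1, hP9]; ring)
    have hcom : lcs P 1 = commutator P := Subgroup.top_lowerCentralSeries_one
    have hpow : ∀ g : P, g ^ 3 ∈ lcs P 1 := fun g => by
      rw [hcom] at hj2 ⊢
      exact Transfer.MaxClass.pow_mem_commutator hP hj2 (hcom ▸ hne 1 (by norm_num)) g
    -- the sign of the automorphism on the second factor
    have hu1 : u ∉ lcs P 1 := fun hu1 => by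
      have hF1 : F0 ≤ lcs P 1 := by
        rw [hF0, Subgroup.closure_le]
        rintro z (rfl | rfl)
        exacts [hu1, hφ1]
      have hinv : ∀ g : P, ∃ n ∈ lcs P 1, τ g = g⁻¹ * n := fun g => by
        obtain ⟨f, e, rfl, hf, he, -⟩ := exists_split hP τ hτ g
        refine ⟨f * e * (f * e⁻¹), ?_, by rw [map_mul, hf, he]; group⟩
        rw [show f * e * (f * e⁻¹) = f * (e * f * e⁻¹) by group]
        exact mul_mem (hF1 (hfix f hf)) (Subgroup.Normal.conj_mem inferInstance f (hF1 (hfix f hf)) e)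
      have hH2 : lcs P 1 ≤ ((QuotientGroup.mk' (lcs P 2)).comp τ.toMonoidHom).eqLocus
          (QuotientGroup.mk' (lcs P 2)) := by
        show ⁅(⊤ : Subgroup P), (⊤ : Subgroup P)⁆ ≤ _
        refine Subgroup.commutator_le.2 fun a _ b _ => ?_
        obtain ⟨n, hn, hna⟩ := hinv a
        obtain ⟨n', hn', hnb⟩ := hinv b
        have hcn : ∀ {v : P}, v ∈ lcs P 1 → ∀ z : P ⧸ lcs P 2, Commute (v : P ⧸ lcs P 2) z := by
          intro v hv z
          obtain ⟨z, rfl⟩ := QuotientGroup.mk_surjective z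
          exact mem_modC_iff.1 (le_modC_succ 1 z hv)
        have hab : ⁅a, b⁆ ∈ lcs P 1 :=
          Subgroup.commutator_mem_commutator (Subgroup.mem_top _) (Subgroup.mem_top _)
        have hc := hcn hab
        rw [show ((⁅a, b⁆ : P) : P ⧸ lcs P 2) = ⁅(a : P ⧸ lcs P 2), (b : P ⧸ lcs P 2)⁆
          from map_commutatorElement (QuotientGroup.mk' (lcs P 2)) a b] at hc
        show QuotientGroup.mk' (lcs P 2) (τ.toMonoidHom ⁅a, b⁆) = QuotientGroup.mk' (lcs P 2) ⁅a, b⁆
        rw [map_commutatorElement, MulEquiv.coe_toMonoidHom, hna, hnb, map_commutatorElement,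
          map_commutatorElement, map_mul, map_mul, map_inv, map_inv]
        simp only [QuotientGroup.mk'_apply]
        rw [comm_mul_central (hcn hn),
          comm_mul_commute (hcn hn' _)]
        exact comm_inv_inv (hc _) (hc _)
      have hle : lcs P 2 ≤ invPart τ := by
        show ⁅lcs P 1, (⊤ : Subgroup P)⁆ ≤ _
        refine Subgroup.commutator_le.2 fun c hc g _ => ?_
        have hcg : ⁅c, g⁆ ∈ lcs P 2 := Subgroup.commutator_mem_commutator hc (Subgroup.mem_top g)
        refine ⟨hcg, ?_⟩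
        obtain ⟨n, hn, hng⟩ := hinv g
        set m := c⁻¹ * τ c with hm
        have hm2 : m ∈ lcs P 2 := QuotientGroup.eq.1 (hH2 hc).symm
        rw [← QuotientGroup.eq_one_iff, QuotientGroup.mk_mul, map_commutatorElement,
          show τ c = c * m by rw [hm, mul_inv_cancel_left], hng]
        have hz : ∀ {v : P}, v ∈ lcs P 2 → ∀ z : P ⧸ lcs P 3, Commute (v : P ⧸ lcs P 3) z := by
          intro v hv z
          obtain ⟨z, rfl⟩ := QuotientGroup.mk_surjective z
          exact mem_modC_iff.1 (le_modC_succ 2 z hv)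
        have hnc : Commute (n : P ⧸ lcs P 3) (c : P ⧸ lcs P 3) :=
          mem_modC_iff.1 (le_modC ((lcs_commutator 1 1).trans le_rfl) hc hn)
        have hcc := hz hcg
        rw [show ((⁅c, g⁆ : P) : P ⧸ lcs P 3) = ⁅(c : P ⧸ lcs P 3), (g : P ⧸ lcs P 3)⁆
          from map_commutatorElement (QuotientGroup.mk' (lcs P 3)) c g] at hcc ⊢
        rw [show ((⁅c * m, g⁻¹ * n⁆ : P) : P ⧸ lcs P 3)
            = ⁅(c : P ⧸ lcs P 3) * (m : P ⧸ lcs P 3), (g : P ⧸ lcs P 3)⁻¹ * (n : P ⧸ lcs P 3)⁆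
          from map_commutatorElement (QuotientGroup.mk' (lcs P 3)) _ _,
          comm_mul_central (hz hm2), comm_mul_commute hnc, comm_inv_right (hcc _), inv_mul_cancel]
      have h2 := (hle hφ2).2
      rw [hφτ] at h2
      exact hφnot3 (sq_mem hP h2)
    -- an inverted element outside
    set M := lcs P 1 ⊔ Subgroup.zpowers u with hM
    have hMc : Nat.card M ≤ 3 * Nat.card (lcs P 1) := card_sup_zpowers _ (by rw [hu3]; exact one_mem _)
    have hM3 : 3 * Nat.card (lcs P 1) ≤ Nat.card M := three_mul_le hP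
      (lt_of_le_of_ne le_sup_left fun e => hu1 (by
        rw [e]; exact Subgroup.mem_sup_right (Subgroup.mem_zpowers u)))
    obtain ⟨b, hbM, hbτ⟩ : ∃ b, b ∉ M ∧ τ b = b⁻¹ := by
      by_contra hno
      push_neg at hno
      have hFM : F0 ≤ M := by
        rw [hF0, Subgroup.closure_le]
        rintro z (rfl | rfl)
        exacts [Subgroup.mem_sup_right (Subgroup.mem_zpowers _), Subgroup.mem_sup_left hφ1]
      have htop : M = ⊤ := top_unique fun g _ => by
        obtain ⟨f, e, rfl, hf, he, -⟩ := exists_split hP τ hτ g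
        refine mul_mem (hFM (hfix f hf)) ?_
        by_contra heM
        exact hno e heM he
      rw [htop, Subgroup.card_top] at hMc
      have hpos : 0 < Nat.card (lcs P 1) := Nat.card_pos
      omega
    have htop : Subgroup.closure ({u, b} : Set P) ⊔ lcs P 1 = ⊤ := by
      have h1 : M ⊔ Subgroup.zpowers b = ⊤ := sup_zpowers_eq hP le_top (Subgroup.mem_top b) hbM
        (by rw [Subgroup.card_top]; omega)
      refine top_unique (h1.ge.trans (sup_le (sup_le le_sup_right ?_) ?_))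
      · exact Subgroup.zpowers_le.2 (Subgroup.mem_sup_left (Subgroup.subset_closure (by simp)))
      · exact Subgroup.zpowers_le.2 (Subgroup.mem_sup_left (Subgroup.subset_closure (by simp)))
    -- `u` centralizes the factor
    have hsign : ∀ x ∈ lcs P 1, ⁅x, u⁆ ∈ lcs P 3 := by
      set c := ⁅u, b⁆ with hcdef
      have hc1 : c ∈ lcs P 1 :=
        Subgroup.commutator_mem_commutator (Subgroup.mem_top _) (Subgroup.mem_top _)
      have hc2 : c ∉ lcs P 2 := fun h2 => by
        refine (Transfer.MaxClass.lcs_succ_lt (G := P) (i := 1) (hne 1 (by norm_num))).not_ge ?_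
        show ⁅(⊤ : Subgroup P), (⊤ : Subgroup P)⁆ ≤ lcs P 2
        exact Subgroup.commutator_le.2 fun x _ z _ =>
          all_mod (le_modC_succ 1) htop (comm_mem_iff.1 h2) x z
      have hg1 : lcs P 2 ⊔ Subgroup.zpowers c = lcs P 1 :=
        sup_zpowers_eq hP (lcs_le (by norm_num)) hc1 hc2 hc12
      set v := ⁅c, u⁆ with hvdef
      have hv2 : v ∈ lcs P 2 := Subgroup.commutator_mem_commutator hc1 (Subgroup.mem_top u)
      have hz : ∀ {v : P}, v ∈ lcs P 2 → ∀ z : P ⧸ lcs P 3, Commute (v : P ⧸ lcs P 3) z := by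
        intro v hv z
        obtain ⟨z, rfl⟩ := QuotientGroup.mk_surjective z
        exact mem_modC_iff.1 (le_modC_succ 2 z hv)
      have hv3 : v ∈ lcs P 3 := by
        refine sq_mem hP ?_
        have hg2 : lcs P 3 ⊔ Subgroup.zpowers φ = lcs P 2 :=
          sup_zpowers_eq hP (lcs_le (by norm_num)) hφ2 hφnot3 (by omega)
        have hvfix : ((τ v : P) : P ⧸ lcs P 3) = (v : P ⧸ lcs P 3) := by
          have : lcs P 2 ≤ ((QuotientGroup.mk' (lcs P 3)).comp τ.toMonoidHom).eqLocus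
              (QuotientGroup.mk' (lcs P 3)) := by
            rw [← hg2]
            refine sup_le (fun x hx => ?_) (Subgroup.zpowers_le.2 ?_)
            · show QuotientGroup.mk' (lcs P 3) (τ x) = QuotientGroup.mk' (lcs P 3) x
              rw [QuotientGroup.mk'_apply, QuotientGroup.mk'_apply, (QuotientGroup.eq_one_iff _).2 hx, (QuotientGroup.eq_one_iff _).2 (map_lcs_tau τ hx)]
            · show QuotientGroup.mk' (lcs P 3) (τ φ) = QuotientGroup.mk' (lcs P 3) φ
              rw [hφτ]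
          exact this hv2
        have hcτ : c * τ c ∈ lcs P 2 := by
          rw [← QuotientGroup.eq_one_iff, QuotientGroup.mk_mul, hcdef, map_commutatorElement, huτ, hbτ]
          have hcc : ∀ z : P ⧸ lcs P 2, Commute ((⁅u, b⁆ : P) : P ⧸ lcs P 2) z := fun z => by
            obtain ⟨z, rfl⟩ := QuotientGroup.mk_surjective z
            exact mem_modC_iff.1 (le_modC_succ 1 z hc1)
          rw [show ((⁅u, b⁆ : P) : P ⧸ lcs P 2) = ⁅(u : P ⧸ lcs P 2), (b : P ⧸ lcs P 2)⁆
            from map_commutatorElement (QuotientGroup.mk' (lcs P 2)) u b] at hcc ⊢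
          rw [show ((⁅u, b⁻¹⁆ : P) : P ⧸ lcs P 2) = ⁅(u : P ⧸ lcs P 2), (b : P ⧸ lcs P 2)⁻¹⁆
            from map_commutatorElement (QuotientGroup.mk' (lcs P 2)) u b⁻¹,
            comm_inv_right (hcc _), mul_inv_cancel]
        set m := c * τ c with hm
        have hvinv : ((τ v : P) : P ⧸ lcs P 3) = (v : P ⧸ lcs P 3)⁻¹ := by
          have hτv : τ v = ⁅c⁻¹ * m, u⁆ := by
            rw [hvdef, map_commutatorElement, huτ, hm, inv_mul_cancel_left]
          have hvc := hz hv2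
          rw [show ((v : P) : P ⧸ lcs P 3) = ⁅(c : P ⧸ lcs P 3), (u : P ⧸ lcs P 3)⁆
            from map_commutatorElement (QuotientGroup.mk' (lcs P 3)) c u] at hvc ⊢
          rw [hτv, show ((⁅c⁻¹ * m, u⁆ : P) : P ⧸ lcs P 3)
              = ⁅(c : P ⧸ lcs P 3)⁻¹ * (m : P ⧸ lcs P 3), (u : P ⧸ lcs P 3)⁆
            from map_commutatorElement (QuotientGroup.mk' (lcs P 3)) _ _,
            comm_mul_central (hz hcτ), comm_inv_left (hvc _)]
        rw [← QuotientGroup.eq_one_iff, QuotientGroup.mk_mul]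
        rw [hvfix] at hvinv
        exact eq_inv_iff_mul_eq_one.1 hvinv
      intro x hx
      rw [← hg1] at hx
      exact comm_mem_iff.2 ((sup_le (le_modC_succ 2 u)
        (Subgroup.zpowers_le.2 (comm_mem_iff.1 hv3))) hx)
    refine core_two hQP (lcs_quot_bot 4) hQ3 (φ := (φ : P ⧸ lcs P 4)) (u := (u : P ⧸ lcs P 4))
      (b := (b : P ⧸ lcs P 4)) ((mk_mem_lcs_iff (by norm_num)).2 hφ2)
      (by rw [← QuotientGroup.mk_pow, hu3, QuotientGroup.mk_one])
      (fun e => hu1 ((mk_mem_lcs_iff (by norm_num)).1 e)) ?_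
      (by rw [← QuotientGroup.mk_pow]; exact (mk_mem_lcs_iff (by norm_num)).2 (hpow b)) ?_
      (hQ12 hc12) hQb
    · have h1 := congrArg (fun S : Subgroup P => S.map (QuotientGroup.mk' (lcs P 4))) htop
      simp only [Subgroup.map_sup, MonoidHom.map_closure, Set.image_pair, map_lcs,
        Subgroup.map_top_of_surjective _ (QuotientGroup.mk'_surjective (lcs P 4))] at h1
      exact h1
    · intro x hx
      obtain ⟨x, rfl⟩ := QuotientGroup.mk_surjective x
      rw [show ⁅(x : P ⧸ lcs P 4), (u : P ⧸ lcs P 4)⁆ = ((⁅x, u⁆ : P) : P ⧸ lcs P 4)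
        from (map_commutatorElement (QuotientGroup.mk' (lcs P 4)) x u).symm]
      exact (mk_mem_lcs_iff (by norm_num)).2 (hsign x ((mk_mem_lcs_iff (by norm_num)).1 hx))
  · -- `φ` in the second term only
    have hi2 := hiφ.trans hb81
    have p2' : Nat.card P ≤ 81 * Nat.card (lcs P 2) := by rw [← e2]; nlinarith
    have hpos2 : 0 < Nat.card (lcs P 2) := Nat.card_pos
    have hmk : ∀ {v : P}, v ∈ lcs P 1 → ∀ z : P ⧸ lcs P 2, Commute (v : P ⧸ lcs P 2) z := by
      intro v hv z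
      obtain ⟨z, rfl⟩ := QuotientGroup.mk_surjective z
      exact mem_modC_iff.1 (le_modC_succ 1 z hv)
    have hc12 : Nat.card (lcs P 1) ≤ 3 * Nat.card (lcs P 2) := by
      rcases Nat.lt_or_ge j 3 with hj3 | hj3
      · obtain rfl : j = 2 := by omega
        have hcom : lcs P 1 = commutator P := Subgroup.top_lowerCentralSeries_one
        have hpow : ∀ g : P, g ^ 3 ∈ lcs P 1 := fun g => by
          rw [hcom] at hje ⊢
          exact Transfer.MaxClass.pow_mem_commutator hP hje (hcom ▸ hne 1 (by norm_num)) g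
        have hP9 : Nat.card P = 9 * Nat.card (lcs P 1) := by rw [← e1, hje]; ring
        have hpos1 : 0 < Nat.card (lcs P 1) := Nat.card_pos
        obtain ⟨a, ha⟩ : ∃ a, a ∉ lcs P 1 := by
          by_contra hno
          push_neg at hno
          rw [show lcs P 1 = ⊤ from top_unique fun g _ => hno g, Subgroup.card_top] at hP9 hpos1
          omega
        set M := lcs P 1 ⊔ Subgroup.zpowers a with hM
        have hMc : Nat.card M ≤ 3 * Nat.card (lcs P 1) := card_sup_zpowers _ (hpow a)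
        have hM3 : 3 * Nat.card (lcs P 1) ≤ Nat.card M := three_mul_le hP
          (lt_of_le_of_ne le_sup_left fun e => ha (by
            rw [e]; exact Subgroup.mem_sup_right (Subgroup.mem_zpowers a)))
        obtain ⟨b, hb⟩ : ∃ b, b ∉ M := by
          by_contra hno
          push_neg at hno
          rw [show M = ⊤ from top_unique fun g _ => hno g, Subgroup.card_top] at hMc
          omega
        have htop : Subgroup.closure ({a, b} : Set P) ⊔ lcs P 1 = ⊤ := by
          have h1 : M ⊔ Subgroup.zpowers b = ⊤ := sup_zpowers_eq hP le_top (Subgroup.mem_top b) hb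
            (by rw [Subgroup.card_top]; omega)
          refine top_unique (h1.ge.trans (sup_le (sup_le le_sup_right ?_) ?_))
          · exact Subgroup.zpowers_le.2 (Subgroup.mem_sup_left (Subgroup.subset_closure (by simp)))
          · exact Subgroup.zpowers_le.2 (Subgroup.mem_sup_left (Subgroup.subset_closure (by simp)))
        set c := ⁅a, b⁆ with hcdef
        have hc1 : c ∈ lcs P 1 :=
          Subgroup.commutator_mem_commutator (Subgroup.mem_top _) (Subgroup.mem_top _)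
        have hc3 : c ^ 3 ∈ lcs P 2 := by
          have hc := hmk hc1
          rw [show ((c : P) : P ⧸ lcs P 2) = ⁅(a : P ⧸ lcs P 2), (b : P ⧸ lcs P 2)⁆
            from map_commutatorElement (QuotientGroup.mk' (lcs P 2)) a b] at hc
          rw [← QuotientGroup.eq_one_iff, QuotientGroup.mk_pow,
            show ((c : P) : P ⧸ lcs P 2) = ⁅(a : P ⧸ lcs P 2), (b : P ⧸ lcs P 2)⁆
              from map_commutatorElement (QuotientGroup.mk' (lcs P 2)) a b,
            ← comm_pow_left (hc _) 3, commutatorElement_eq_one_iff_commute, ← QuotientGroup.mk_pow]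
          exact hmk (hpow a) _
        set D := lcs P 2 ⊔ Subgroup.zpowers c with hD
        have hDle : D ≤ lcs P 1 := sup_le (lcs_le (by norm_num)) (Subgroup.zpowers_le.2 hc1)
        haveI : D.Normal := by
          refine ⟨fun n hn g => ?_⟩
          have h1 : ⁅g, n⁆ ∈ lcs P 2 := by
            rw [← commutatorElement_inv]
            exact inv_mem (Subgroup.commutator_mem_commutator (hDle hn) (Subgroup.mem_top g))
          have : g * n * g⁻¹ = ⁅g, n⁆ * n := by rw [commutatorElement_def]; group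
          rw [this]
          exact mul_mem (Subgroup.mem_sup_left h1) hn
        refine le_trans (Subgroup.card_le_of_le ?_) (card_sup_zpowers _ hc3)
        show ⁅(⊤ : Subgroup P), (⊤ : Subgroup P)⁆ ≤ D
        refine Subgroup.commutator_le.2 fun x _ z _ => all_mod ?_ htop
          (comm_mem_iff.1 (Subgroup.mem_sup_right (Subgroup.mem_zpowers c))) x z
        exact fun w v hv => comm_mem_iff.1 (Subgroup.mem_sup_left
          (Subgroup.commutator_mem_commutator hv (Subgroup.mem_top w)))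
      · have h27 : 27 ≤ (lcs P 1).index :=
          hje ▸ le_trans (by norm_num) (Nat.pow_le_pow_right (show 1 ≤ 3 by norm_num) hj3)
        have h27' : 27 * Nat.card (lcs P 1) ≤ Nat.card P := by
          rw [← e1, mul_comm 27]; exact Nat.mul_le_mul_left _ h27
        omega
    have hg1 : lcs P 2 ⊔ Subgroup.zpowers φ = lcs P 1 :=
      sup_zpowers_eq hP (lcs_le (by norm_num)) hφ1 hφ2 hc12
    -- the automorphism is trivial on the second factor
    have hfix1 : lcs P 1 ≤ ((QuotientGroup.mk' (lcs P 2)).comp τ.toMonoidHom).eqLocus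
        (QuotientGroup.mk' (lcs P 2)) := by
      rw [← hg1]
      refine sup_le (fun x hx => ?_) (Subgroup.zpowers_le.2 ?_)
      · show QuotientGroup.mk' (lcs P 2) (τ x) = QuotientGroup.mk' (lcs P 2) x
        rw [QuotientGroup.mk'_apply, QuotientGroup.mk'_apply, (QuotientGroup.eq_one_iff _).2 hx,
          (QuotientGroup.eq_one_iff _).2 (map_lcs_tau τ hx)]
      · show QuotientGroup.mk' (lcs P 2) (τ φ) = QuotientGroup.mk' (lcs P 2) φ
        rw [hφτ]
    -- the fixed points are central modulo the third term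
    set Z := (Subgroup.center (P ⧸ lcs P 2)).comap (QuotientGroup.mk' (lcs P 2)) with hZdef
    have hZmem : ∀ {x : P}, x ∈ Z ↔ ∀ g, ⁅x, g⁆ ∈ lcs P 2 := by
      intro x
      rw [hZdef, Subgroup.mem_comap, Subgroup.mem_center_iff]
      constructor
      · exact fun hx g => comm_mem_iff.2 (mem_modC_iff.2 (hx g).symm)
      · intro hx z
        obtain ⟨g, rfl⟩ := QuotientGroup.mk_surjective z
        exact ((mem_modC_iff.1 (comm_mem_iff.1 (hx g))).eq).symm
    have huF : u ∈ F0 := Subgroup.subset_closure (by simp)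
    have hφF : φ ∈ F0 := Subgroup.subset_closure (by simp)
    have huZ : u ∈ Z := hZmem.2 fun g => by
      obtain ⟨f, e, rfl, hf, he, -⟩ := exists_split hP τ hτ g
      refine comm_mem_iff.2 (modC_symm.1 (mul_mem ?_ ?_))
      · have hle : F0 ≤ modC (lcs P 2) u := by
          rw [hF0, Subgroup.closure_le]
          rintro z (rfl | rfl)
          exacts [self_mem_modC _ _, le_modC_succ 1 u hφ1]
        exact hle (hfix f hf)
      · refine modC_symm.1 (comm_mem_iff.1 (sq_mem hP ?_))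
        have hc1 : ⁅u, e⁆ ∈ lcs P 1 :=
          Subgroup.commutator_mem_commutator (Subgroup.mem_top _) (Subgroup.mem_top _)
        have hfixc : ((τ ⁅u, e⁆ : P) : P ⧸ lcs P 2) = (⁅u, e⁆ : P) := hfix1 hc1
        have hc := hmk hc1
        rw [show ((⁅u, e⁆ : P) : P ⧸ lcs P 2) = ⁅(u : P ⧸ lcs P 2), (e : P ⧸ lcs P 2)⁆
          from map_commutatorElement (QuotientGroup.mk' (lcs P 2)) u e] at hc
        rw [map_commutatorElement, huτ, he,
          show ((⁅u, e⁻¹⁆ : P) : P ⧸ lcs P 2) = ⁅(u : P ⧸ lcs P 2), (e : P ⧸ lcs P 2)⁻¹⁆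
            from map_commutatorElement (QuotientGroup.mk' (lcs P 2)) u e⁻¹,
          comm_inv_right (hc _),
          show ((⁅u, e⁆ : P) : P ⧸ lcs P 2) = ⁅(u : P ⧸ lcs P 2), (e : P ⧸ lcs P 2)⁆
            from map_commutatorElement (QuotientGroup.mk' (lcs P 2)) u e] at hfixc
        rw [← QuotientGroup.eq_one_iff, QuotientGroup.mk_mul,
          show ((⁅u, e⁆ : P) : P ⧸ lcs P 2) = ⁅(u : P ⧸ lcs P 2), (e : P ⧸ lcs P 2)⁆
            from map_commutatorElement (QuotientGroup.mk' (lcs P 2)) u e]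
        exact inv_eq_iff_mul_eq_one.1 hfixc
    have hFZ : F0 ≤ Z := by
      rw [hF0, Subgroup.closure_le]
      rintro z (rfl | rfl)
      exacts [huZ, hZmem.2 fun g => Subgroup.commutator_mem_commutator hφ1 (Subgroup.mem_top g)]
    have hZstep : ∀ i, ⁅lcs P i, Z⁆ ≤ lcs P (i + 2) := by
      intro i
      induction i with
      | zero =>
        rw [Subgroup.commutator_comm]
        exact Subgroup.commutator_le.2 fun x hx g _ => hZmem.1 hx g
      | succ i ih =>
        show ⁅⁅lcs P i, (⊤ : Subgroup P)⁆, Z⁆ ≤ _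
        refine three_subgroups _ _ _ _ ?_ ?_
        · refine (Subgroup.commutator_mono (K₁ := lcs P 2) ?_ le_rfl).trans
            ((lcs_commutator i 2).trans (lcs_le (by omega)))
          rw [Subgroup.commutator_comm]
          exact Subgroup.commutator_le.2 fun x hx g _ => hZmem.1 hx g
        · refine (Subgroup.commutator_mono (K₁ := lcs P (i + 2)) ?_ le_rfl).trans
            ((le_of_eq (show _ = lcs P (i + 2 + 1) from rfl)).trans (lcs_le (by omega)))
          rw [Subgroup.commutator_comm]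
          exact ih
    have hyZ : y ∉ Z := fun hyZ => by
      let Q : ℕ → Prop := fun i => ∃ x ∈ lcs P i, τ x = x ∧ x ≠ 1
      obtain ⟨N, hN⟩ := Subgroup.nilpotent_iff_lowerCentralSeries.1 (inferInstance : Group.IsNilpotent P)
      have hex : ∃ i, ¬ Q i := ⟨N, fun ⟨x, hx, _, hx1⟩ => hx1 (Subgroup.mem_bot.1 (hN ▸ hx))⟩
      classical
      set k := Nat.find hex with hk
      have hkQ : ¬ Q k := Nat.find_spec hex
      have hk0 : k ≠ 0 := fun e => hkQ (e ▸ ⟨φ, Subgroup.mem_top φ, hφτ, fun e' => hh (by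
        rw [hhdef, e']; simp)⟩)
      obtain ⟨m, hm⟩ : ∃ m, k = m + 1 := ⟨k - 1, by omega⟩
      have hmQ : Q m := not_not.1 (Nat.find_min hex (by omega))
      rw [hm] at hkQ
      -- `h` lies in the last term with fixed points
      have hhm : h ∈ lcs P m := by
        obtain ⟨x, hx, hxτ, hx1⟩ := hmQ
        refine (hmin (F0 ⊓ lcs P m) inf_le_left (fun f hf z hz => ⟨F0.mul_mem (F0.mul_mem hf hz.1)
          (F0.inv_mem hf), Subgroup.Normal.conj_mem inferInstance z hz.2 f⟩) fun e => hx1 ?_).2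
        exact Subgroup.mem_bot.1 (e ▸ ⟨hfix x hxτ, hx⟩)
      -- below it everything is inverted
      have hinv : ∀ x ∈ lcs P (m + 1), τ x = x⁻¹ := by
        intro x hx
        obtain ⟨f, e, hfe, hf, he, hmem⟩ := exists_split hP τ hτ x
        have he1 : e ∈ lcs P (m + 1) :=
          (Subgroup.zpowers_le.2 (mul_mem (inv_mem hx) (map_lcs_tau τ hx))) hmem
        have hf1 : f ∈ lcs P (m + 1) := by
          have : f = x * e⁻¹ := by rw [hfe, mul_inv_cancel_right]
          rw [this]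
          exact mul_mem hx (inv_mem he1)
        have hf0 : f = 1 := by
          by_contra hne
          exact hkQ ⟨f, hf1, hf, hne⟩
        rw [hfe, hf0, one_mul, he]
      have hstop : lcs P (m + 2) = ⊥ := by
        by_contra hne2
        refine (Transfer.MaxClass.lcs_succ_lt (G := P) (i := m + 2) hne2).not_ge ?_
        show ⁅lcs P (m + 1), (⊤ : Subgroup P)⁆ ≤ _
        refine Subgroup.commutator_le.2 fun x hx g _ => comm_mem_iff.2 (modC_symm.1 ?_)
        obtain ⟨f, e, rfl, hf, he, -⟩ := exists_split hP τ hτ g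
        refine mul_mem (modC_symm.1 (le_modC (hZstep (m + 1)) (hFZ (hfix f hf)) hx)) (modC_symm.1
          (comm_mem_iff.1 (sq_mem hP ?_)))
        have hc2 : ⁅x, e⁆ ∈ lcs P (m + 2) := Subgroup.commutator_mem_commutator hx (Subgroup.mem_top e)
        have hτc : τ ⁅x, e⁆ = ⁅x, e⁆⁻¹ := hinv _ (lcs_le (by omega) hc2)
        rw [map_commutatorElement, hinv x hx, he] at hτc
        have hc : ∀ z : P ⧸ lcs P (m + 2 + 1),
            Commute ((⁅x, e⁆ : P) : P ⧸ lcs P (m + 2 + 1)) z := by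
          intro z
          obtain ⟨z, rfl⟩ := QuotientGroup.mk_surjective z
          exact mem_modC_iff.1 (le_modC_succ (m + 2) z hc2)
        have hce : ((⁅x, e⁆ : P) : P ⧸ lcs P (m + 2 + 1))
            = ⁅(x : P ⧸ lcs P (m + 2 + 1)), (e : P ⧸ lcs P (m + 2 + 1))⁆ :=
          map_commutatorElement (QuotientGroup.mk' (lcs P (m + 2 + 1))) x e
        rw [hce] at hc
        have hq := congrArg (fun t : P => (t : P ⧸ lcs P (m + 2 + 1))) hτc
        simp only [QuotientGroup.mk_inv] at hq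
        rw [show ((⁅x⁻¹, e⁻¹⁆ : P) : P ⧸ lcs P (m + 2 + 1))
            = ⁅(x : P ⧸ lcs P (m + 2 + 1))⁻¹, (e : P ⧸ lcs P (m + 2 + 1))⁻¹⁆
          from map_commutatorElement (QuotientGroup.mk' (lcs P (m + 2 + 1))) x⁻¹ e⁻¹,
          comm_inv_inv (hc _) (hc _), hce] at hq
        rw [← QuotientGroup.eq_one_iff, QuotientGroup.mk_mul, hce]
        exact eq_inv_iff_mul_eq_one.1 hq
      refine hyh (commutatorElement_eq_one_iff_commute.1 ?_)
      have := hZstep m (Subgroup.commutator_mem_commutator hhm hyZ)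
      rw [hstop, Subgroup.mem_bot] at this
      rw [← commutatorElement_inv, this, inv_one]
    rw [hZmem] at hyZ
    push_neg at hyZ
    obtain ⟨g, hg⟩ := hyZ
    refine core_one hQP (lcs_quot_bot 4) hQ3 (φ := (φ : P ⧸ lcs P 4)) (y := (y : P ⧸ lcs P 4))
      ((mk_mem_lcs_iff (by norm_num)).2 hφ1) (fun e => hφ2 ((mk_mem_lcs_iff (by norm_num)).1 e)) hφQ
      (hyφ.map (QuotientGroup.mk' _)) ⟨(g : P ⧸ lcs P 4), ?_⟩ (hQ12 hc12) hQb
    rw [show ⁅(y : P ⧸ lcs P 4), (g : P ⧸ lcs P 4)⁆ = ((⁅y, g⁆ : P) : P ⧸ lcs P 4)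
      from (map_commutatorElement (QuotientGroup.mk' (lcs P 4)) y g).symm]
    exact fun e => hg ((mk_mem_lcs_iff (by norm_num)).1 e)

end Cfsg.Agent.Invol.JankoWard.CaseD
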