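import Cfsg.Agent.Lib.Block.ClassMul
import Cfsg.Agent.Lib.Char.Complete

/-!
# The number of ways of writing an element as a product of two conjugates of `t`
-/

open scoped ComplexConjugate Classical

set_option autoImplicit false
set_option linter.unusedSectionVars false

namespace Cfsg.Agent.Invol.JankoWard

open Cfsg Cfsg.Agent.Char

universe u

variable {G : Type u} [Group G] [Fintype G]

/-- The number of `a` conjugate to `t` with `a⁻¹ * x` conjugate to `t`. -/
noncomputable def nPairs (t x : G) : ℕ := (Finset.univ.filter fun a : G => IsConj t a ∧ IsConj t (a⁻¹ * x)).card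

theorem card_conj_fibre (t : G) {a : G} (h : IsConj t a) :
    (Finset.univ.filter fun g : G => g * t * g⁻¹ = a).card = Nat.card (Subgroup.centralizer ({t} : Set G)) := by
  obtain ⟨c, rfl⟩ := isConj_iff.1 h
  rw [← Fintype.card_coe, ← Nat.card_eq_fintype_card]
  refine Nat.card_congr
    { toFun := fun g => ⟨c⁻¹ * g.1, Subgroup.mem_centralizer_singleton_iff.2 ?_⟩
      invFun := fun x => ⟨c * x.1, Finset.mem_filter.2 ⟨Finset.mem_univ _, ?_⟩⟩
      left_inv := fun g => by simp
      right_inv := fun x => by simp }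
  · have h := (Finset.mem_filter.1 g.2).2
    calc c⁻¹ * g.1 * t = c⁻¹ * (g.1 * t * g.1⁻¹) * g.1 := by group
      _ = t * (c⁻¹ * g.1) := by rw [h]; group
  · have hx : (x : G) * t = t * x := Subgroup.mem_centralizer_singleton_iff.1 x.2
    calc c * x.1 * t * (c * x.1)⁻¹ = c * (x.1 * t) * x.1⁻¹ * c⁻¹ := by group
      _ = c * t * c⁻¹ := by rw [hx]; group

theorem card_conj_pairs (t x : G) :
    (Finset.univ.filter fun p : G × G => p.1 * t * p.1⁻¹ * (p.2 * t * p.2⁻¹) = x).card =
      Nat.card (Subgroup.centralizer ({t} : Set G)) ^ 2 * nPairs t x := by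
  rw [Finset.card_eq_sum_card_fiberwise (f := fun p : G × G => p.1 * t * p.1⁻¹)
    (t := Finset.univ.filter fun a : G => IsConj t a ∧ IsConj t (a⁻¹ * x)) (fun p hp => by
      simp only [Finset.coe_filter, Finset.mem_univ, true_and, Set.mem_setOf_eq] at hp ⊢
      exact ⟨isConj_iff.2 ⟨_, rfl⟩, isConj_iff.2 ⟨p.2, by rw [← hp]; group⟩⟩)]
  rw [Finset.sum_const_nat (m := Nat.card (Subgroup.centralizer ({t} : Set G)) ^ 2), nPairs, mul_comm]
  intro a ha
  obtain ⟨h1, h2⟩ := (Finset.mem_filter.1 ha).2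
  rw [show (Finset.filter (fun p : G × G => p.1 * t * p.1⁻¹ = a)
      (Finset.univ.filter fun p : G × G => p.1 * t * p.1⁻¹ * (p.2 * t * p.2⁻¹) = x)) =
    (Finset.univ.filter fun g : G => g * t * g⁻¹ = a) ×ˢ
      (Finset.univ.filter fun g : G => g * t * g⁻¹ = a⁻¹ * x) from ?_, Finset.card_product,
    card_conj_fibre t h1, card_conj_fibre t h2, sq]
  ext p
  simp only [Finset.mem_filter, Finset.mem_univ, true_and, Finset.mem_product]
  constructor
  · rintro ⟨e1, e2⟩
    exact ⟨e2, by rw [← e1, ← e2]; group⟩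
  · rintro ⟨e1, e2⟩
    exact ⟨by rw [e1, e2]; group, e1⟩

/-- The class multiplication formula. -/
theorem sum_sq_div (t x : G) :
    ∑ χ : IrrCharacter G, (χ : G → ℂ) t ^ 2 / (χ : G → ℂ) 1 * conj ((χ : G → ℂ) x) =
      (Nat.card (Subgroup.centralizer ({t} : Set G)) : ℂ) ^ 2 * (nPairs t x : ℂ) / (Nat.card G : ℂ) := by
  have hg : (Nat.card G : ℂ) ≠ 0 := Nat.cast_ne_zero.2 Nat.card_pos.ne'
  have key : ∀ χ : IrrCharacter G, (Nat.card G : ℂ) ^ 2 * ((χ : G → ℂ) t ^ 2 / (χ : G → ℂ) 1) =
      ∑ g : G, ∑ h : G, (χ : G → ℂ) (g * t * g⁻¹ * (h * t * h⁻¹)) := by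
    intro χ
    simp only [Block.sum_mul_conj, IsIrr.classFun χ.2 t _, Finset.sum_const, Finset.card_univ,
      nsmul_eq_mul, Nat.card_eq_fintype_card]
    ring
  have h2 : (Nat.card G : ℂ) ^ 2 * ∑ χ : IrrCharacter G, (χ : G → ℂ) t ^ 2 / (χ : G → ℂ) 1 * conj ((χ : G → ℂ) x) =
      (Nat.card G : ℂ) * ((Finset.univ.filter fun p : G × G =>
        p.1 * t * p.1⁻¹ * (p.2 * t * p.2⁻¹) = x).card : ℂ) := by
    rw [Finset.mul_sum, Finset.sum_congr rfl fun χ _ => by rw [← mul_assoc, key χ, Finset.sum_mul,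
      Finset.sum_congr rfl fun g _ => Finset.sum_mul _ _ _],
      Finset.sum_comm, Finset.sum_congr rfl fun g _ => Finset.sum_comm]
    simp only [sum_irr_mul_conj]
    have hc : ∀ y : G, (if IsConj y x then (Nat.card (Subgroup.centralizer ({x} : Set G)) : ℂ) else 0) =
        ∑ z : G, if z * y * z⁻¹ = x then (1 : ℂ) else 0 := by
      intro y
      rw [Finset.sum_boole]
      split_ifs with h
      · obtain ⟨c, hc⟩ := isConj_iff.1 h.symm
        rw [← hc, ← card_conj_fibre x (isConj_iff.2 ⟨c, rfl⟩)]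
        refine congrArg Nat.cast (Finset.card_nbij' (fun g => g⁻¹) (fun g => g⁻¹) ?_ ?_ ?_ ?_)
        · intro g hg
          simp only [Finset.coe_filter, Finset.mem_univ, true_and, Set.mem_setOf_eq] at hg ⊢
          calc g⁻¹ * _ * g⁻¹⁻¹ = g⁻¹ * (g * _ * g⁻¹) * g := by rw [hg]; group
            _ = _ := by group
        · intro g hg
          simp only [Finset.coe_filter, Finset.mem_univ, true_and, Set.mem_setOf_eq] at hg ⊢
          calc g⁻¹ * _ * g⁻¹⁻¹ = g⁻¹ * (g * _ * g⁻¹) * g := by rw [hg]; group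
            _ = _ := by group
        · intro g _; exact inv_inv g
        · intro g _; exact inv_inv g
      · rw [eq_comm, Nat.cast_eq_zero, Finset.card_eq_zero, Finset.filter_eq_empty_iff]
        exact fun z _ hz => h (isConj_iff.2 ⟨z, hz⟩)
    rw [Finset.sum_congr rfl fun g _ => Finset.sum_congr rfl fun h _ =>
      (show _ = _ by convert hc (g * t * g⁻¹ * (h * t * h⁻¹)) using 2)]
    rw [Finset.sum_congr rfl fun g _ => Finset.sum_comm, Finset.sum_comm]
    have hz : ∀ z : G, (∑ g : G, ∑ h : G, if z * (g * t * g⁻¹ * (h * t * h⁻¹)) * z⁻¹ = x then (1 : ℂ) else 0) =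
        ((Finset.univ.filter fun p : G × G => p.1 * t * p.1⁻¹ * (p.2 * t * p.2⁻¹) = x).card : ℂ) := by
      intro z
      rw [← Finset.sum_product', Finset.univ_product_univ, Finset.sum_boole]
      refine congrArg Nat.cast (Finset.card_nbij' (fun p : G × G => (z * p.1, z * p.2))
        (fun p : G × G => (z⁻¹ * p.1, z⁻¹ * p.2)) ?_ ?_ ?_ ?_)
      · intro p hp
        simp only [Finset.coe_filter, Finset.mem_univ, true_and, Set.mem_setOf_eq] at hp ⊢
        rw [← hp]; group
      · intro p hp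
        simp only [Finset.coe_filter, Finset.mem_univ, true_and, Set.mem_setOf_eq] at hp ⊢
        rw [← hp]; group
      · intro p _; simp
      · intro p _; simp
    simp only [hz, Finset.sum_const, Finset.card_univ, nsmul_eq_mul, Nat.card_eq_fintype_card]
  rw [card_conj_pairs] at h2
  push_cast at h2
  rw [eq_div_iff hg]
  refine mul_left_cancel₀ hg ?_
  linear_combination h2

end Cfsg.Agent.Invol.JankoWard
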