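import Cfsg.Agent.Lib.Invol.JankoWard.Vals
import Cfsg.Agent.Lib.Invol.JankoWard.ClassCount

/-!
# The class multiplication formula against the three functions of the section of `t`
-/

open scoped ComplexConjugate

set_option autoImplicit false
set_option linter.unusedSectionVars false
set_option linter.style.haveILetI false

open scoped Classical

namespace Cfsg.Agent.Invol.JankoWard

open Cfsg Cfsg.Agent.Char Cfsg.Agent.Block

universe u v

namespace LData

variable {P : Type v} [Group P] [Fintype P] (D : LData P)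
include D

theorem V_fact {a : P} (ha : a = D.u ∨ a = D.w ∨ a = D.u * D.w) : a * a = 1 ∧ a ≠ 1 := by
  rcases ha with rfl | rfl | rfl
  · exact ⟨D.u2, D.u1⟩
  · exact ⟨D.w2, D.w1⟩
  · refine ⟨by rw [mul_assoc, ← mul_assoc D.w, ← D.comm, mul_assoc D.u, D.w2, mul_one, D.u2], fun e => D.uw ?_⟩
    rw [← inv_eq_of_mul_eq_one_right e, inv_eq_of_mul_eq_one_right D.u2]

theorem not_V {a : P} (ha : a = D.u ∨ a = D.w ∨ a = D.u * D.w) : a ∉ D.Y := fun h => by
  have h1 := D.odd_Y h
  rw [orderOf_eq_prime (p := 2) (by rw [pow_two]; exact (D.V_fact ha).1) (D.V_fact ha).2] at h1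
  exact absurd h1 (by decide)

theorem card_cent_u : Nat.card (Subgroup.centralizer ({D.u} : Set P)) = 4 * D.r := by
  have hY : ∀ y ∈ D.Y, y * D.u = D.u * y := fun y hy => (D.u_Y y hy).symm
  have hmem : ∀ p : Fin 4 × D.Y, ![1, D.u, D.w, D.u * D.w] p.1 * p.2.1 ∈ Subgroup.centralizer ({D.u} : Set P) := by
    rintro ⟨i, y⟩
    refine Subgroup.mem_centralizer_singleton_iff.2 ?_
    have hu : Commute D.u (y : P) := D.u_Y _ y.2
    have hw : Commute D.u D.w := D.comm
    fin_cases i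
    · exact ((Commute.one_right D.u).mul_right hu).eq.symm
    · exact (((Commute.refl D.u)).mul_right hu).eq.symm
    · exact (hw.mul_right hu).eq.symm
    · exact ((((Commute.refl D.u)).mul_right hw).mul_right hu).eq.symm
  have hbij : Function.Bijective fun p : Fin 4 × D.Y =>
      (⟨_, hmem p⟩ : Subgroup.centralizer ({D.u} : Set P)) := by
    refine ⟨?_, fun c => ?_⟩
    · rintro ⟨i, y⟩ ⟨j, z⟩ h
      have h' := congrArg Subtype.val h
      simp only at h'
      have hd : (![1, D.u, D.w, D.u * D.w] j)⁻¹ * ![1, D.u, D.w, D.u * D.w] i ∈ D.Y := by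
        rw [show (![1, D.u, D.w, D.u * D.w] j)⁻¹ * ![1, D.u, D.w, D.u * D.w] i = z.1 * (y.1)⁻¹ from
          eq_mul_inv_of_mul_eq (by rw [mul_assoc, h', inv_mul_cancel_left])]
        exact mul_mem z.2 (inv_mem y.2)
      have hij : i = j := by
        have iu : D.u⁻¹ = D.u := inv_eq_of_mul_eq_one_right D.u2
        have iw : D.w⁻¹ = D.w := inv_eq_of_mul_eq_one_right D.w2
        have hwu : D.w * D.u = D.u * D.w := D.comm.symm
        have n1 : D.u ∉ D.Y := D.not_V (Or.inl rfl)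
        have n2 : D.w ∉ D.Y := D.not_V (Or.inr (Or.inl rfl))
        have n3 : D.u * D.w ∉ D.Y := D.not_V (Or.inr (Or.inr rfl))
        fin_cases i <;> fin_cases j <;> first
          | rfl
          | (exfalso; simp [iu, iw, hwu, ← mul_assoc, D.u2, D.w2] at hd
             first
              | exact n1 hd | exact n2 hd | exact n3 hd
              | (rw [mul_assoc, hwu, ← mul_assoc, D.u2, one_mul] at hd; exact n2 hd)
              | (rw [mul_assoc, D.w2, mul_one] at hd; exact n1 hd))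
      subst hij
      exact Prod.ext rfl (Subtype.ext (mul_left_cancel h'))
    · obtain ⟨y, hy, h | h | h | h⟩ := D.cent_u c (Subgroup.mem_centralizer_singleton_iff.1 c.2)
      · exact ⟨(0, ⟨y, hy⟩), Subtype.ext (by simp [h])⟩
      · exact ⟨(1, ⟨y, hy⟩), Subtype.ext (by simp [h])⟩
      · exact ⟨(2, ⟨y, hy⟩), Subtype.ext (by simp [h])⟩
      · exact ⟨(3, ⟨y, hy⟩), Subtype.ext (by simp [h])⟩
  rw [← Nat.card_eq_of_bijective _ hbij, Nat.card_prod, D.card_Y, Nat.card_eq_fintype_card, Fintype.card_fin]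

/-- The involutions. -/
noncomputable def invols (_D : LData P) : Finset P := Finset.univ.filter fun x : P => x * x = 1 ∧ x ≠ 1

theorem card_invols : (D.invols.card : ℤ) = D.q * D.m := by
  have hsum : ∑ x ∈ D.invols, (Finset.univ.filter fun g : P => g * D.u * g⁻¹ = x).card = Fintype.card P := by
    rw [← Finset.card_univ]
    exact (Finset.card_eq_sum_card_fiberwise (f := fun g : P => g * D.u * g⁻¹) fun g _ => by
      simp only [Finset.mem_coe, invols, Finset.mem_filter, Finset.mem_univ, true_and]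
      exact ⟨by rw [show g * D.u * g⁻¹ * (g * D.u * g⁻¹) = g * (D.u * D.u) * g⁻¹ by group, D.u2]; group,
        fun e => D.u1 (by rwa [conj_eq_one_iff] at e)⟩).symm
  rw [Finset.sum_congr rfl fun x hx => by
      obtain ⟨h1, h2⟩ := (Finset.mem_filter.1 hx).2
      exact card_conj_fibre D.u (D.one_class x h1 h2),
    Finset.sum_const, smul_eq_mul, D.card_cent_u, ← Nat.card_eq_fintype_card, D.card_eq, E] at hsum
  have h : ((D.invols.card * (4 * D.r) : ℕ) : ℤ) = ((4 * (D.r * D.q * D.m.natAbs) : ℕ) : ℤ) := by rw [hsum]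
  push_cast [D.natAbs_m] at h
  refine mul_right_cancel₀ (b := (4 * (D.r : ℤ))) (by have := D.r3; omega) ?_
  rw [h]; ring

/-- The number of `i` with `i² = (ik)² = 1`. -/
noncomputable def Inv (_D : LData P) (k : P) : ℕ :=
  (Finset.univ.filter fun i : P => i * i = 1 ∧ i * k * (i * k) = 1).card

theorem sum_mul_Inv (ψ : IrrCharacter P) :
    ∑ k : P, (ψ : P → ℂ) k * (D.Inv k : ℂ) =
      ((ψ : P → ℂ) 1 + (D.invols.card : ℂ) * (ψ : P → ℂ) D.u) ^ 2 / (ψ : P → ℂ) 1 := by
  set T := insert (1 : P) D.invols with hT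
  have hTmem : ∀ x : P, x ∈ T ↔ x * x = 1 := fun x => by
    by_cases hx : x = 1 <;> simp [T, invols, hx]
  have h1 : ∑ k : P, (ψ : P → ℂ) k * (D.Inv k : ℂ) = ∑ a ∈ T, ∑ b ∈ T, (ψ : P → ℂ) (a * b) := by
    rw [Finset.sum_congr rfl (g := fun k => ∑ i : P, if i * i = 1 ∧ i * k * (i * k) = 1 then (ψ : P → ℂ) k else 0)
      (fun k _ => by rw [← Finset.sum_filter, Finset.sum_const, nsmul_eq_mul, Inv, mul_comm]),
      Finset.sum_comm]
    rw [show T = Finset.univ.filter fun x : P => x * x = 1 by ext x; simp [hTmem], Finset.sum_filter]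
    refine Finset.sum_congr rfl fun a _ => ?_
    split_ifs with ha
    · rw [Finset.sum_filter]
      refine Fintype.sum_equiv (Equiv.mulLeft a) _ _ fun k => ?_
      simp only [Equiv.coe_mulLeft, ha, true_and]
      rw [← mul_assoc a a k, ha, one_mul]
      exact if_congr Iff.rfl rfl rfl
    · exact Finset.sum_eq_zero fun k _ => if_neg fun h => ha h.1
  have hval : ∀ a ∈ D.invols, (ψ : P → ℂ) a = (ψ : P → ℂ) D.u := fun a ha => by
    obtain ⟨h1, h2⟩ := (Finset.mem_filter.1 ha).2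
    obtain ⟨c, rfl⟩ := isConj_iff.1 (D.one_class a h1 h2)
    exact IsIrr.classFun ψ.2 D.u c
  have hn : (1 : P) ∉ D.invols := by simp [invols]
  have hψ1 : (ψ : P → ℂ) 1 ≠ 0 := IsIrr.one_ne_zero ψ.2
  have hKK : ∑ a ∈ D.invols, ∑ b ∈ D.invols, (ψ : P → ℂ) (a * b) =
      (D.invols.card : ℂ) ^ 2 * (ψ : P → ℂ) D.u ^ 2 / (ψ : P → ℂ) 1 := by
    have hc0 : (Nat.card (Subgroup.centralizer ({D.u} : Set P)) : ℂ) ≠ 0 :=
      Nat.cast_ne_zero.2 Nat.card_pos.ne'
    have hin : ∀ a ∈ D.invols, (Nat.card (Subgroup.centralizer ({D.u} : Set P)) : ℂ) * ∑ b ∈ D.invols, (ψ : P → ℂ) (a * b) =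
        (Nat.card P : ℂ) * (ψ : P → ℂ) a * (ψ : P → ℂ) D.u / (ψ : P → ℂ) 1 := by
      intro a _
      rw [← Block.sum_mul_conj]
      conv_rhs => rw [← Finset.sum_fiberwise_of_maps_to (g := fun g : P => g * D.u * g⁻¹) (t := D.invols)
        (fun g _ => by
          simp only [invols, Finset.mem_filter, Finset.mem_univ, true_and]
          exact ⟨by rw [show g * D.u * g⁻¹ * (g * D.u * g⁻¹) = g * (D.u * D.u) * g⁻¹ by group, D.u2]; group,
            fun e => D.u1 (by rwa [conj_eq_one_iff] at e)⟩) (fun g : P => (ψ : P → ℂ) (a * (g * D.u * g⁻¹)))]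
      rw [Finset.mul_sum]
      refine Finset.sum_congr rfl fun b hb => ?_
      rw [Finset.sum_congr (s₂ := Finset.univ.filter fun g : P => g * D.u * g⁻¹ = b) rfl (g := fun _ => (ψ : P → ℂ) (a * b)) (fun g hg => by rw [(Finset.mem_filter.1 hg).2]),
        Finset.sum_const, nsmul_eq_mul,
        card_conj_fibre D.u (D.one_class b (Finset.mem_filter.1 hb).2.1 (Finset.mem_filter.1 hb).2.2)]
    refine mul_left_cancel₀ hc0 ?_
    rw [Finset.mul_sum, Finset.sum_congr rfl hin, Finset.sum_congr rfl fun a ha => by rw [hval a ha],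
      Finset.sum_const, nsmul_eq_mul]
    have hcard : (Nat.card P : ℂ) = (Nat.card (Subgroup.centralizer ({D.u} : Set P)) : ℂ) * D.invols.card := by
      have h1 : ((Nat.card P : ℤ)) = (Nat.card (Subgroup.centralizer ({D.u} : Set P)) : ℤ) * D.invols.card := by
        rw [D.card_invols, D.card_cent_u, D.card_eq, E]; push_cast [D.natAbs_m]; ring
      exact_mod_cast congrArg (Int.cast : ℤ → ℂ) h1
    rw [hcard]; ring
  rw [h1, hT, Finset.sum_insert hn]
  simp only [Finset.sum_insert hn, one_mul, mul_one, Finset.sum_add_distrib, hKK,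
    Finset.sum_congr rfl hval, Finset.sum_const, nsmul_eq_mul]
  field_simp

end LData

namespace LChars

variable {P : Type v} [Group P] [Fintype P] {D : LData P} (X : LChars D)
include X

/-- `r` times the product count against the projective, divided by the order of `P`. -/
theorem sum_Phi (hδ : D.δ = -1) :
    ∑ k : P, X.Phi 0 k * (2 * (D.Inv k : ℂ) - if k = 1 then 2 else 0) = (Nat.card P : ℂ) * (2 * D.m) ∧
    (D.r : ℂ) * ∑ k : P, X.Phi 1 k * (2 * (D.Inv k : ℂ) - if k = 1 then 2 else 0) =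
      (Nat.card P : ℂ) * (3 * D.r - 1) := by
  have hu : 2 ∣ orderOf D.u := by rw [D.orderOf_u]
  have hI : (D.invols.card : ℂ) = (D.q : ℂ) * D.m := by exact_mod_cast congrArg (Int.cast : ℤ → ℂ) D.card_invols
  have hcc : D.cc = 0 := by simp [LData.cc, hδ]
  have hP : (Nat.card P : ℂ) = 4 * ((D.r : ℂ) * D.q * D.m) := by
    have h1 : (Nat.card P : ℤ) = 4 * ((D.r : ℤ) * D.q * D.m) := by
      rw [D.card_eq, LData.E]; push_cast [D.natAbs_m]; ring
    exact_mod_cast congrArg (Int.cast : ℤ → ℂ) h1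
  have hm : (D.m : ℂ) = 2 * (D.r : ℂ) - 1 := by
    have : D.m = 2 * (D.r : ℤ) - 1 := by simp [LData.m, hδ]; ring
    exact_mod_cast congrArg (Int.cast : ℤ → ℂ) this
  have hq : (D.q : ℂ) = 4 * (D.r : ℂ) - 1 := by
    have : (D.q : ℤ) = 4 * (D.r : ℤ) - 1 := by rw [D.hq, hδ]; ring
    exact_mod_cast congrArg (Int.cast : ℤ → ℂ) this
  have hm0 : (2 : ℂ) * D.r - 1 ≠ 0 := by
    rw [← hm]; exact_mod_cast (show D.m ≠ 0 by have := D.m_ge; omega)
  have hq0 : (4 : ℂ) * D.r - 1 ≠ 0 := by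
    rw [← hq]; exact_mod_cast (show D.q ≠ 0 by have := D.q_ge; omega)
  have key : ∀ i : Fin 3, ∑ k : P, X.Phi i k * (2 * (D.Inv k : ℂ) - if k = 1 then 2 else 0) =
      ∑ j, (X.coef i j : ℂ) * (2 * (((X.four j : P → ℂ) 1 + (D.invols.card : ℂ) * (X.four j : P → ℂ) D.u) ^ 2 /
        (X.four j : P → ℂ) 1) - 2 * (X.four j : P → ℂ) 1) := by
    intro i
    simp only [← D.sum_mul_Inv, Phi, Finset.sum_mul]
    rw [Finset.sum_comm]
    refine Finset.sum_congr rfl fun j _ => ?_
    simp only [mul_sub, Finset.sum_sub_distrib, mul_ite, mul_zero, Finset.sum_ite_eq', Finset.mem_univ,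
      if_true, Finset.mul_sum]
    ring_nf
  constructor
  · rw [key, hI, hP]
    simp [coef, four, Fin.sum_univ_four, trivialIrr, X.St_one, hcc, X.St_even _ hu, hδ]
    rw [hm, hq]; field_simp; ring
  · rw [key, hI, hP]
    simp [coef, four, Fin.sum_univ_four, trivialIrr, X.St_one, X.e1_one, hcc, X.St_even _ hu, X.e1_even _ hu, hδ]
    rw [hm, hq]
    have he : ((4 : ℂ) * D.r - 1 + -1) / 2 = 2 * D.r - 1 := by ring
    rw [he]
    field_simp
    ring

/-- The same for `δ = 1`. -/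
theorem sum_Phi' (hδ : D.δ = 1) :
    (D.r : ℂ) * ∑ k : P, X.Phi 0 k * (2 * (D.Inv k : ℂ) - if k = 1 then 2 else 0) =
      (Nat.card P : ℂ) * (4 * (D.r : ℂ) ^ 2 + 8 * D.r + 2) ∧
    (D.r : ℂ) * ∑ k : P, X.Phi 1 k * (2 * (D.Inv k : ℂ) - if k = 1 then 2 else 0) =
      (Nat.card P : ℂ) * (3 * D.r + 1) := by
  have hu : 2 ∣ orderOf D.u := by rw [D.orderOf_u]
  have hI : (D.invols.card : ℂ) = (D.q : ℂ) * D.m := by exact_mod_cast congrArg (Int.cast : ℤ → ℂ) D.card_invols
  have hcc : D.cc = 1 := by simp [LData.cc, hδ]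
  have hP : (Nat.card P : ℂ) = 4 * ((D.r : ℂ) * D.q * D.m) := by
    have h1 : (Nat.card P : ℤ) = 4 * ((D.r : ℤ) * D.q * D.m) := by
      rw [D.card_eq, LData.E]; push_cast [D.natAbs_m]; ring
    exact_mod_cast congrArg (Int.cast : ℤ → ℂ) h1
  have hm : (D.m : ℂ) = 2 * (D.r : ℂ) + 1 := by
    have : D.m = 2 * (D.r : ℤ) + 1 := by simp [LData.m, hδ]
    exact_mod_cast congrArg (Int.cast : ℤ → ℂ) this
  have hq : (D.q : ℂ) = 4 * (D.r : ℂ) + 1 := by
    have : (D.q : ℤ) = 4 * (D.r : ℤ) + 1 := by rw [D.hq, hδ]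
    exact_mod_cast congrArg (Int.cast : ℤ → ℂ) this
  have hm0 : (2 : ℂ) * D.r + 1 ≠ 0 := by
    rw [← hm]; exact_mod_cast (show D.m ≠ 0 by have := D.m_ge; omega)
  have hq0 : (4 : ℂ) * D.r + 1 ≠ 0 := by
    rw [← hq]; exact_mod_cast (show D.q ≠ 0 by have := D.q_ge; omega)
  have key : ∀ i : Fin 3, ∑ k : P, X.Phi i k * (2 * (D.Inv k : ℂ) - if k = 1 then 2 else 0) =
      ∑ j, (X.coef i j : ℂ) * (2 * (((X.four j : P → ℂ) 1 + (D.invols.card : ℂ) * (X.four j : P → ℂ) D.u) ^ 2 /
        (X.four j : P → ℂ) 1) - 2 * (X.four j : P → ℂ) 1) := by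
    intro i
    simp only [← D.sum_mul_Inv, Phi, Finset.sum_mul]
    rw [Finset.sum_comm]
    refine Finset.sum_congr rfl fun j _ => ?_
    simp only [mul_sub, Finset.sum_sub_distrib, mul_ite, mul_zero, Finset.sum_ite_eq', Finset.mem_univ,
      if_true, Finset.mul_sum]
    ring_nf
  have he : ((4 : ℂ) * D.r + 1 + 1) / 2 = 2 * D.r + 1 := by ring
  constructor
  · rw [key, hI, hP]
    simp [coef, four, Fin.sum_univ_four, trivialIrr, X.St_one, X.e1_one, X.e2_one, hcc, X.St_even _ hu,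
      X.e1_even _ hu, X.e2_even _ hu, hδ]
    rw [hm, hq, he]; field_simp; ring
  · rw [key, hI, hP]
    simp [coef, four, Fin.sum_univ_four, trivialIrr, X.St_one, X.e1_one, hcc, X.St_even _ hu, X.e1_even _ hu, hδ]
    rw [hm, hq, he]
    field_simp
    ring

end LChars

namespace Base

variable {G : Type u} [Group G] [Fintype G] {P : Type v} [Group P] [Fintype P] (S : Base G P) (X : LChars S.D)

/-- The weight of a character in the product counts. -/
noncomputable def wt (χ : IrrCharacter G) : ℂ := (χ : G → ℂ) S.t ^ 2 / (χ : G → ℂ) 1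

/-- `|C|² / |G|`. -/
noncomputable def kap : ℂ := (Nat.card S.C : ℂ) ^ 2 / (Nat.card G : ℂ)

theorem sum_wt (x : G) :
    ∑ χ : IrrCharacter G, S.wt χ * conj ((χ : G → ℂ) x) = S.kap * (nPairs S.t x : ℂ) := by
  unfold wt kap
  rw [sum_sq_div]
  ring

variable (hone : ∀ x : G, orderOf x = 2 → IsConj S.t x)
include hone

theorem isConj_iff_invol (x : G) : IsConj S.t x ↔ x * x = 1 ∧ x ≠ 1 := by
  constructor
  · intro h
    obtain ⟨c, rfl⟩ := isConj_iff.1 h
    exact ⟨by rw [show c * S.t * c⁻¹ * (c * S.t * c⁻¹) = c * (S.t * S.t) * c⁻¹ by group, S.tt]; group,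
      fun e => S.t_ne (by rwa [conj_eq_one_iff] at e)⟩
  · rintro ⟨h1, h2⟩
    exact hone x (orderOf_eq_prime (by rw [pow_two]; exact h1) h2)

theorem nPairs_t {k : P} (hk : Odd (orderOf k)) :
    (nPairs S.t (S.t * S.ι k) : ℂ) = 2 * (S.D.Inv k : ℂ) - if k = 1 then 2 else 0 := by
  have hkE : k ^ S.D.E = 1 := S.D.pow_E_iff.2 hk
  set T := Finset.univ.filter fun i : P => i * i = 1 ∧ i * k * (i * k) = 1 with hT
  set Z : Finset (Bool × P) := (Finset.univ ×ˢ T).filter fun p => ¬ (k = 1 ∧ p.2 = 1) with hZ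
  have hsq : ∀ (b : Bool) (i : P), ((bif b then S.t else 1) * S.ι i) * ((bif b then S.t else 1) * S.ι i) =
      S.ι (i * i) := by
    intro b i
    cases b
    · simp
    · simp only [cond_true]; rw [mul_assoc, S.t_ι, ← mul_assoc, S.tt, one_mul]
  have hinv : ∀ (b : Bool) {i : P}, i * i = 1 → ((bif b then S.t else 1) * S.ι i)⁻¹ = (bif b then S.t else 1) * S.ι i :=
    fun b i hi => inv_eq_of_mul_eq_one_right (by rw [hsq, hi, map_one])
  have hprod : ∀ (b : Bool) (i : P), (bif b then S.t else 1) * S.ι i * (S.t * S.ι k) =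
      (bif !b then S.t else 1) * S.ι (i * k) := by
    intro b i
    cases b
    · simp only [cond_false, one_mul, Bool.not_false, cond_true]; exact S.t_ι i k
    · simp only [cond_true, Bool.not_true, cond_false, one_mul]
      rw [mul_assoc, S.t_ι, ← mul_assoc, S.tt, one_mul]
  have hcard : nPairs S.t (S.t * S.ι k) = Z.card := by
    refine (Finset.card_bij (fun p _ => (bif p.1 then S.t else 1) * S.ι p.2) ?_ ?_ ?_).symm
    · rintro ⟨b, i⟩ hp
      simp only [Z, T, Finset.mem_filter, Finset.mem_product, Finset.mem_univ, true_and] at hp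
      obtain ⟨⟨h1, h2⟩, h3⟩ := hp
      refine Finset.mem_filter.2 ⟨Finset.mem_univ _, (S.isConj_iff_invol hone _).2 ⟨by rw [hsq, h1, map_one], ?_⟩,
        (S.isConj_iff_invol hone _).2 ⟨?_, ?_⟩⟩
      · intro e
        cases b
        · simp only [cond_false, one_mul] at e
          have hi : i = 1 := S.inj (e.trans (map_one _).symm)
          subst hi
          simp only [one_mul] at h2
          exact h3 ⟨by
            have h4 : orderOf k ∣ 2 := orderOf_dvd_of_pow_eq_one (by rw [pow_two, h2])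
            exact orderOf_eq_one_iff.1 ((Nat.dvd_prime Nat.prime_two).1 h4 |>.resolve_right fun h5 => by
              rw [h5] at hk; exact absurd hk (by decide)), rfl⟩
        · exact S.t_mul_ne i 1 (e.trans (map_one _).symm)
      · rw [hinv b h1, hprod, hsq, h2, map_one]
      · rw [hinv b h1, hprod]
        intro e
        cases b
        · exact S.t_mul_ne (i * k) 1 (e.trans (map_one _).symm)
        · simp only [Bool.not_true, cond_false, one_mul] at e
          have hik : i * k = 1 := S.inj (e.trans (map_one _).symm)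
          have hki : k = i := by rw [← inv_eq_of_mul_eq_one_right hik, inv_eq_of_mul_eq_one_right h1]
          subst hki
          have h4 : orderOf k ∣ 2 := orderOf_dvd_of_pow_eq_one (by rw [pow_two, h1])
          have : k = 1 := orderOf_eq_one_iff.1 ((Nat.dvd_prime Nat.prime_two).1 h4 |>.resolve_right fun h5 => by
            rw [h5] at hk; exact absurd hk (by decide))
          exact h3 ⟨this, this⟩
    · rintro ⟨b, i⟩ _ ⟨b', i'⟩ _ h
      exact S.pairMap_bijective.1 (Subtype.ext h)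
    · intro a ha
      obtain ⟨h1, h2⟩ := (Finset.mem_filter.1 ha).2
      obtain ⟨h1, h1'⟩ := (S.isConj_iff_invol hone _).1 h1
      obtain ⟨h2, h2'⟩ := (S.isConj_iff_invol hone _).1 h2
      have ha' : a⁻¹ = a := inv_eq_of_mul_eq_one_right h1
      rw [ha'] at h2 h2'
      have hxa : a * (S.t * S.ι k) * a⁻¹ = (S.t * S.ι k)⁻¹ := by
        rw [ha']
        exact eq_inv_of_mul_eq_one_left (by rw [mul_assoc _ a (S.t * S.ι k)]; exact h2)
      have hat : a * S.t = S.t * a := by
        have h := congrArg (· ^ S.D.E) hxa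
        simp only [conj_pow, inv_pow, S.pow_E_t hkE, S.t_inv] at h
        calc a * S.t = a * S.t * a⁻¹ * a := by group
          _ = S.t * a := by rw [h]
      obtain ⟨⟨b, i⟩, hbi⟩ := S.pairMap_bijective.2 ⟨a, S.mem_C.2 hat⟩
      have hae : a = (bif b then S.t else 1) * S.ι i := (congrArg Subtype.val hbi).symm
      subst hae
      rw [hsq] at h1
      rw [hprod, hsq] at h2
      have h1 : i * i = 1 := S.inj (h1.trans (map_one _).symm)
      have h2 : i * k * (i * k) = 1 := S.inj (h2.trans (map_one _).symm)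
      refine ⟨(b, i), ?_, rfl⟩
      simp only [Z, T, Finset.mem_filter, Finset.mem_product, Finset.mem_univ, true_and]
      refine ⟨⟨h1, h2⟩, fun ⟨e1, e2⟩ => ?_⟩
      subst e1; subst e2
      cases b
      · exact h1' (by simp)
      · rw [hprod] at h2'; exact h2' (by simp)
  rw [hcard]
  have hI : S.D.Inv k = T.card := rfl
  by_cases hk1 : k = 1
  · subst hk1
    have hZ' : Z = (Finset.univ : Finset Bool) ×ˢ T.erase 1 := by
      ext ⟨b, i⟩; simp [Z, and_comm]
    have h1T : (1 : P) ∈ T := by simp [T]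
    rw [if_pos rfl, hZ', Finset.card_product, Finset.card_univ, Fintype.card_bool, hI,
      Finset.card_erase_of_mem h1T, Nat.cast_mul, Nat.cast_sub (Finset.card_pos.2 ⟨1, h1T⟩)]
    ring
  · have hZ' : Z = (Finset.univ : Finset Bool) ×ˢ T := by
      ext ⟨b, i⟩; simp [Z, hk1]
    rw [if_neg hk1, hZ', Finset.card_product, Finset.card_univ, Fintype.card_bool, hI, Nat.cast_mul]
    ring

theorem sum_v_wt (i : Fin 3) :
    ∑ χ : IrrCharacter G, (S.v X i χ : ℂ) * S.wt χ =
      S.kap / (Nat.card P : ℂ) * ∑ k : P, X.Phi i k * (2 * (S.D.Inv k : ℂ) - if k = 1 then 2 else 0) := by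
  set F : G → ℂ := fun x => conj (∑ χ : IrrCharacter G, S.wt χ * conj ((χ : G → ℂ) x)) with hF
  have hFc : IsClassFunction G F := fun a b => by
    simp only [F]
    congr 1
    exact Finset.sum_congr rfl fun χ _ => by rw [IsIrr.classFun χ.2 a b]
  have h1 : classInner (S.Psi X i) F = ∑ χ : IrrCharacter G, (S.v X i χ : ℂ) * S.wt χ := by
    simp only [← S.v_spec X i, classInner, F, Complex.conj_conj, Finset.mul_sum, Finset.sum_mul]
    rw [Finset.sum_comm]
    exact Finset.sum_congr rfl fun χ _ => Finset.sum_congr rfl fun g _ => by ring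
  rw [← h1, Psi, S.classInner_Ind _ hFc, classInner, Finset.mul_sum, Finset.mul_sum]
  refine Finset.sum_congr rfl fun k _ => ?_
  by_cases hk : X.Phi i k = 0
  · rw [hk]; ring
  · simp only [fS, F, Complex.conj_conj, S.sum_wt, S.nPairs_t hone (S.D.pow_E_iff.1 (X.Phi_supp hk))]
    ring

theorem count_neg (hδ : S.D.δ = -1) :
    ∑ χ : IrrCharacter G, (S.v X 0 χ : ℂ) * S.wt χ = S.kap * (2 * S.D.m) ∧
    (S.D.r : ℂ) * ∑ χ : IrrCharacter G, (S.v X 1 χ : ℂ) * S.wt χ = S.kap * (3 * S.D.r - 1) := by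
  have hP : (Nat.card P : ℂ) ≠ 0 := Nat.cast_ne_zero.2 Nat.card_pos.ne'
  obtain ⟨h0, h1⟩ := X.sum_Phi hδ
  refine ⟨?_, ?_⟩
  · rw [S.sum_v_wt X hone, h0]; field_simp
  · rw [S.sum_v_wt X hone, mul_left_comm, h1]; field_simp

theorem count_pos (hδ : S.D.δ = 1) :
    (S.D.r : ℂ) * ∑ χ : IrrCharacter G, (S.v X 0 χ : ℂ) * S.wt χ =
      S.kap * (4 * (S.D.r : ℂ) ^ 2 + 8 * S.D.r + 2) ∧
    (S.D.r : ℂ) * ∑ χ : IrrCharacter G, (S.v X 1 χ : ℂ) * S.wt χ = S.kap * (3 * S.D.r + 1) := by
  have hP : (Nat.card P : ℂ) ≠ 0 := Nat.cast_ne_zero.2 Nat.card_pos.ne'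
  obtain ⟨h0, h1⟩ := X.sum_Phi' hδ
  refine ⟨?_, ?_⟩
  · rw [S.sum_v_wt X hone, mul_left_comm, h0]; field_simp
  · rw [S.sum_v_wt X hone, mul_left_comm, h1]; field_simp

end Base

end Cfsg.Agent.Invol.JankoWard
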