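import Cfsg.Agent.Lib.Invol.JankoWard.Torus
import Cfsg.Agent.Lib.Char.Galois
import Mathlib.Tactic.LinearCombination

/-!
# The two virtual characters induced from `A`

`Locals.Ex true` has norm three and `Locals.Ex false` norm seven.
-/

open scoped ComplexConjugate

set_option autoImplicit false
set_option linter.unusedSectionVars false
set_option linter.style.haveILetI false

open scoped Classical

namespace Cfsg.Agent.Invol.JankoWard.Locals

open Cfsg Cfsg.Agent.Char

universe u v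

variable {G : Type u} [Group G] [Fintype G] {P : Type v} [Group P] [Fintype P] {S : Base G P} (L : Locals S)
include L

/-- The sign character of `⟨t, u⟩`, or the trivial one. -/
noncomputable def mu (b : Bool) : L.A →* ℂˣ := if b then S.D.eps.comp L.κA else 1

/-- A character of `A` faithful on `Y`. -/
noncomputable def J (l : S.D.Y →* ℂˣ) : L.A →* ℂˣ := l.comp L.yA

/-- The virtual character of `A`. -/
noncomputable def F (l : S.D.Y →* ℂˣ) (b : Bool) : L.A → ℂ := fun a => ((L.mu b * L.J l) a : ℂ) - (L.mu b a : ℂ)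

/-- Its induced function. -/
noncomputable def Ex (l : S.D.Y →* ℂˣ) (b : Bool) : G → ℂ := indFun L.A (L.F l b)

variable (l : S.D.Y →* ℂˣ)

theorem F_eq_zero (b : Bool) {a : L.A} (h : L.yA a = 1) : L.F l b a = 0 := by
  simp [F, J, h]

theorem Ex_class (b : Bool) : IsClassFunction G (L.Ex l b) := indFun_classFun _ _

theorem Ex_gen (b : Bool) : IsGeneralizedCharacter G (L.Ex l b) :=
  IsGenChar.ind L.A (IsGenChar.sub (IsGenChar.of_isCharacter (IsIrr.isCharacter (isIrr_linear _)))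
    (IsGenChar.of_isCharacter (IsIrr.isCharacter (isIrr_linear _))))

theorem Ex_of_sq (b : Bool) {z : G} (hz : z * z = 1) : L.Ex l b z = 0 := by
  simp only [Ex, indFun]
  rw [Finset.sum_eq_zero, mul_zero]
  intro x _
  by_cases hm : x⁻¹ * z * x ∈ L.A
  · rw [extendByZero_of_mem _ hm]
    refine L.F_eq_zero l b ((L.sq_eq_one_iff _).1 ?_)
    show x⁻¹ * z * x * (x⁻¹ * z * x) = 1
    calc x⁻¹ * z * x * (x⁻¹ * z * x) = x⁻¹ * (z * z) * x := by group
      _ = 1 := by rw [hz]; group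
  · exact extendByZero_not_mem _ hm

theorem ιw_not_A : S.ι S.D.w ∉ L.A := fun h => by
  obtain ⟨k, hk, e | e⟩ := h
  · rw [← S.inj e] at hk
    rcases hk with hk | hk
    · have h1 := S.D.Y_sq hk S.D.w2
      exact S.D.w1 h1
    · have h1 := S.D.Y_sq hk (by rw [mul_assoc, ← mul_assoc S.D.w, ← S.D.comm, mul_assoc S.D.u, S.D.w2, mul_one, S.D.u2])
      exact S.D.uw (by rw [← inv_eq_of_mul_eq_one_right h1, inv_eq_of_mul_eq_one_right S.D.u2])
  · exact S.t_mul_ne _ _ e.symm

theorem gpow_t {n : Fin 3} (h : L.g ^ (n : ℕ) * S.t * (L.g ^ (n : ℕ))⁻¹ = S.t) : n = 0 := by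
  fin_cases n
  · rfl
  · exfalso
    simp only [Fin.mk_one, Fin.val_one, pow_one] at h
    exact S.t_not _ (L.gt.symm.trans h)
  · exfalso
    have e : L.g ^ 2 * S.t * (L.g ^ 2)⁻¹ = S.t * S.ι S.D.u := by
      calc L.g ^ 2 * S.t * (L.g ^ 2)⁻¹ = L.g * (L.g * S.t * L.g⁻¹) * L.g⁻¹ := by rw [pow_two]; group
        _ = S.t * S.ι S.D.u := by rw [L.gt, L.gu]
    exact S.D.u1 (S.inj ((mul_eq_left.1 (e.symm.trans h)).trans (map_one _).symm))

theorem w_commute_t : (S.ι S.D.w) * S.t * (S.ι S.D.w)⁻¹ = S.t := by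
  rw [S.tc, mul_inv_cancel_right]

theorem repMap_injective : Function.Injective fun q : L.A × (Bool × Fin 3) => (q.1 : G) * L.rep q.2 := by
  rintro ⟨a, s, n⟩ ⟨a', s', n'⟩ h
  simp only [rep] at h
  set c := (a : G) * (bif s then S.ι S.D.w else 1) with hc
  set c' := (a' : G) * (bif s' then S.ι S.D.w else 1) with hc'
  rw [← mul_assoc, ← mul_assoc, ← hc, ← hc'] at h
  have hfix : ∀ (b : L.A) (e : Bool), (b : G) * (bif e then S.ι S.D.w else 1) * S.t =
      S.t * ((b : G) * (bif e then S.ι S.D.w else 1)) := by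
    intro b e
    have h1 : Commute (b : G) S.t := S.mem_C.1 (L.A_C b.2)
    have h2 : Commute (bif e then S.ι S.D.w else 1 : G) S.t := by cases e; exact Commute.one_left _; exact S.tc _
    exact (h1.mul_left h2).eq
  have hn : n = n' := by
    have hg : L.g ^ (n : ℕ) * (L.g ^ (n' : ℕ))⁻¹ = c⁻¹ * c' := by
      rw [eq_inv_mul_iff_mul_eq, ← mul_assoc, h, mul_inv_cancel_right]
    have hd : L.g ^ (n : ℕ) * (L.g ^ (n' : ℕ))⁻¹ = L.g ^ ((n - n' : Fin 3) : ℕ) := by
      rw [mul_inv_eq_iff_eq_mul, ← pow_add]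
      have e3 : ∀ a : ℕ, L.g ^ a = L.g ^ (a % 3) := fun a => by
        conv_lhs => rw [← Nat.div_add_mod a 3, pow_add, pow_mul, L.g3, one_pow, one_mul]
      rw [e3 (((n - n' : Fin 3) : ℕ) + (n' : ℕ)), ← Fin.val_add, sub_add_cancel]
    refine sub_eq_zero.1 (L.gpow_t ?_)
    rw [← hd, hg]
    have h1 : Commute (c⁻¹ * c') S.t := (Commute.inv_left (hfix a s)).mul_left (hfix a' s')
    rw [h1.eq, mul_inv_cancel_right]
  subst hn
  have hcc := mul_right_cancel h
  have hs : s = s' := by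
    by_contra hne
    cases s <;> cases s' <;> simp only [c, c', cond_true, cond_false, mul_one] at hcc <;>
      first
      | exact hne rfl
      | (refine L.ιw_not_A ?_
         rw [show S.ι S.D.w = (a' : G)⁻¹ * a by rw [hcc]; group]
         exact mul_mem (inv_mem a'.2) a.2)
      | (refine L.ιw_not_A ?_
         rw [show S.ι S.D.w = (a : G)⁻¹ * a' by rw [← hcc]; group]
         exact mul_mem (inv_mem a.2) a'.2)
  subst hs
  rw [Subtype.ext (mul_right_cancel hcc : (a : G) = a')]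

theorem act_yA {p : Bool × Fin 3} {a : L.A} (h : L.yA a = 1) : L.yA (L.act p a) = 1 := by
  rw [← L.sq_eq_one_iff] at h ⊢
  rw [L.act_coe]
  calc (L.rep p)⁻¹ * a * L.rep p * ((L.rep p)⁻¹ * a * L.rep p) = (L.rep p)⁻¹ * ((a : G) * a) * L.rep p := by group
    _ = 1 := by rw [h]; group

/-- The values on `A`. -/
theorem Ex_A (b : Bool) (a : L.A) : L.Ex l b a = ∑ p : Bool × Fin 3, L.F l b (L.act p a) := by
  by_cases ha : L.yA a = 1
  · rw [L.Ex_of_sq l b ((L.sq_eq_one_iff a).2 ha), Finset.sum_eq_zero fun p _ => L.F_eq_zero l b (L.act_yA ha)]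
  simp only [Ex, indFun]
  set φ := fun q : L.A × (Bool × Fin 3) => (q.1 : G) * L.rep q.2
  rw [← Fintype.sum_of_injective φ L.repMap_injective
    (fun q => extendByZero L.A (L.F l b) ((φ q)⁻¹ * a * φ q)) (fun x => extendByZero L.A (L.F l b) (x⁻¹ * a * x))
    (fun x hx => ?_) fun q => rfl]
  · have hq : ∀ q : L.A × (Bool × Fin 3), extendByZero L.A (L.F l b) ((φ q)⁻¹ * a * φ q) = L.F l b (L.act q.2 a) := by
      rintro ⟨c, p⟩
      have e : (φ (c, p))⁻¹ * a * φ (c, p) = (L.act p a : G) := by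
        show ((c : G) * L.rep p)⁻¹ * a * ((c : G) * L.rep p) = _
        rw [L.act_coe]
        calc ((c : G) * L.rep p)⁻¹ * a * ((c : G) * L.rep p) = (L.rep p)⁻¹ * ((c : G)⁻¹ * ((a : G) * c)) * L.rep p := by group
          _ = _ := by rw [L.A_comm a.2 c.2, inv_mul_cancel_left]
      rw [e]
      exact extendByZero_apply _ _
    rw [Finset.sum_congr rfl fun q _ => hq q, Fintype.sum_prod_type]
    dsimp only
    rw [Finset.sum_const, Finset.card_univ,
      ← Nat.card_eq_fintype_card, nsmul_eq_mul, ← mul_assoc,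
      inv_mul_cancel₀ (Nat.cast_ne_zero.2 Nat.card_pos.ne'), one_mul]
  · by_cases hm : x⁻¹ * a * x ∈ L.A
    · obtain ⟨c, hc, p, hcp⟩ := L.fusion ha hm
      exact absurd ⟨(⟨c, hc⟩, p), hcp.symm⟩ hx
    · exact extendByZero_not_mem _ hm

theorem mu_el (i : Fin 4) (y : S.D.Y) :
    (L.mu true (L.el (i, y)) : ℂ) = ![1, 1, -1, -1] i ∧ (L.mu false (L.el (i, y)) : ℂ) = 1 ∧
      (L.J l (L.el (i, y)) : ℂ) = l y := by
  refine ⟨?_, by simp [mu], by simp [J, L.yA_el]⟩
  have hy : L.κA ⟨S.ι y, L.Y_A y.2⟩ = ⟨y, Or.inl y.2⟩ := L.κA_eq _ (Or.inl rfl)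
  rw [show L.el (i, y) = ⟨L.v i, L.v_A i⟩ * ⟨S.ι y, L.Y_A y.2⟩ from rfl]
  simp only [mu, if_true, map_mul, MonoidHom.coe_comp, Function.comp_apply, hy, S.D.eps_Y y.2, mul_one]
  fin_cases i
  all_goals simp only [Fin.mk_one, Fin.zero_eta, Fin.reduceFinMk]
  · rw [show (⟨L.v 0, L.v_A 0⟩ : L.A) = 1 from Subtype.ext (by simp [v])]; simp
  · rw [L.κA_eq (one_mem _) (Or.inr (by simp [v]))]; simp [S.D.eps_Y (one_mem _)]
  · rw [L.κA_eq S.D.u_T (Or.inl (by simp [v]))]; simp [S.D.eps_u]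
  · rw [L.κA_eq S.D.u_T (Or.inr (by simp [v]))]; simp [S.D.eps_u]

theorem sum_A (f : L.A → ℂ) : ∑ a : L.A, f a = ∑ i : Fin 4, ∑ y : S.D.Y, f (L.el (i, y)) := by
  rw [← Fintype.sum_bijective _ L.el_bijective _ _ fun _ => rfl, Fintype.sum_prod_type]

theorem act_zero : L.act (false, 0) = MonoidHom.id L.A := by
  refine MonoidHom.ext fun a => Subtype.ext ?_
  simp [L.act_coe, rep]

/-- A representative fixing `⟨t, u⟩` has no power of `g`. -/
theorem mu_act {p : Bool × Fin 3} (h : ∀ a, L.mu true (L.act p a) = L.mu true a) : p.2 = 0 := by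
  obtain ⟨s, n⟩ := p
  have ht1 : (L.mu true (L.el (1, 1)) : ℂ) = 1 := by rw [(L.mu_el (1 : S.D.Y →* ℂˣ) 1 1).1]; simp
  have hval : (L.rep (s, n))⁻¹ * (L.el (1, 1) : G) * L.rep (s, n) = (L.g ^ (n : ℕ))⁻¹ * S.t * L.g ^ (n : ℕ) := by
    have hw : (bif s then S.ι S.D.w else 1 : G)⁻¹ * S.t * (bif s then S.ι S.D.w else 1) = S.t := by
      cases s
      · simp
      · simp only [cond_true]
        rw [mul_assoc, ← S.tc, inv_mul_cancel_left]
    show _ * (L.v 1 * S.ι ((1 : S.D.Y) : P)) * _ = _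
    simp only [rep, v, Matrix.cons_val_one, Matrix.cons_val_zero, Subgroup.coe_one, map_one, mul_one]
    conv_rhs => rw [← hw]
    group
  have h1 := congrArg (fun z : ℂˣ => (z : ℂ)) (h (L.el (1, 1)))
  simp only [ht1] at h1
  fin_cases n
  · rfl
  all_goals exfalso
  all_goals simp only [Fin.mk_one, Fin.reduceFinMk, Fin.val_one, Fin.val_two] at h1 hval
  · have e : L.act (s, 1) (L.el (1, 1)) = L.el (3, 1) := Subtype.ext (by
      rw [L.act_coe, hval]
      show _ = L.v 3 * S.ι ((1 : S.D.Y) : P)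
      rw [Subgroup.coe_one, map_one, mul_one, pow_one, show L.v 3 = S.t * S.ι S.D.u from rfl]
      conv_lhs => rw [← L.gtu]
      group)
    simp only [Fin.mk_one, e, (L.mu_el (1 : S.D.Y →* ℂˣ) 3 1).1] at h1
    simp at h1
    norm_num at h1
  · have e : L.act (s, 2) (L.el (1, 1)) = L.el (2, 1) := Subtype.ext (by
      rw [L.act_coe, hval]
      show _ = L.v 2 * S.ι ((1 : S.D.Y) : P)
      rw [Subgroup.coe_one, map_one, mul_one, show L.v 2 = S.ι S.D.u from rfl, ← L.g_inv, inv_inv, L.gt])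
    simp only [Fin.reduceFinMk, e, (L.mu_el (1 : S.D.Y →* ℂˣ) 2 1).1] at h1
    simp at h1
    norm_num at h1

/-- Only the trivial representative fixes a non-trivial element of `Y`. -/
theorem rep_free {p : Bool × Fin 3} {y₀ : P} (hy₀ : y₀ ∈ S.D.Y) (hy1 : y₀ ≠ 1)
    (hfix : (L.rep p)⁻¹ * S.ι y₀ * L.rep p = S.ι y₀) : p = (false, 0) := by
  obtain ⟨s, n⟩ := p
  have hy1' : S.ι y₀ ≠ S.ι (y₀⁻¹) := fun e => hy1 (S.D.Y_sq hy₀ (mul_eq_one_iff_eq_inv.2 (S.inj e)))
  have hw : (S.ι S.D.w)⁻¹ * S.ι y₀ * S.ι S.D.w = S.ι (y₀⁻¹) := by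
    rw [inv_eq_of_mul_eq_one_right L.ιw_sq]
    conv_lhs => arg 2; rw [← inv_eq_of_mul_eq_one_right L.ιw_sq]
    rw [← map_inv, ← map_mul, ← map_mul, S.D.w_Y y₀ hy₀]
  have hn0 : n = 0 := by
    by_contra hn
    -- a power of `g` fixing `y₀` up to inversion fixes it
    have hgy : L.g * S.ι y₀ * L.g⁻¹ = S.ι y₀ ∨ L.g * S.ι y₀ * L.g⁻¹ = S.ι y₀⁻¹ := by
      have hs : (L.g ^ (n : ℕ))⁻¹ * S.ι (bif s then y₀⁻¹ else y₀) * L.g ^ (n : ℕ) = S.ι y₀ := by
        cases s
        · simpa [rep] using hfix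
        · simp only [cond_true, ← hw]
          conv_rhs => rw [← hfix]
          simp only [rep, cond_true]; group
      have h3 : L.g ^ (n : ℕ) * S.ι y₀ * (L.g ^ (n : ℕ))⁻¹ = S.ι (bif s then y₀⁻¹ else y₀) := by
        calc _ = L.g ^ (n : ℕ) * ((L.g ^ (n : ℕ))⁻¹ * S.ι (bif s then y₀⁻¹ else y₀) * L.g ^ (n : ℕ)) *
              (L.g ^ (n : ℕ))⁻¹ := by rw [hs]
          _ = _ := by group
      fin_cases n
      · exact absurd rfl hn
      · simp only [Fin.mk_one, Fin.val_one, pow_one] at h3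
        cases s
        · exact Or.inl h3
        · exact Or.inr h3
      · simp only [Fin.reduceFinMk, Fin.val_two] at h3
        rw [← L.g_inv, inv_inv] at h3
        cases s
        · refine Or.inl ?_
          simp only [cond_false] at h3
          conv_lhs => rw [← h3]
          group
        · refine Or.inr ?_
          simp only [cond_true, map_inv] at h3 ⊢
          have h4 := congrArg (·⁻¹) h3
          simp only [inv_inv, mul_inv_rev] at h4
          conv_lhs => rw [← h4]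
          group
    rcases hgy with e | e
    · exact hy1 (L.g_free y₀ hy₀ e)
    · refine hy1' ?_
      have e2 : L.g * S.ι y₀⁻¹ * L.g⁻¹ = S.ι y₀ := by
        rw [map_inv, ← conj_inv, e, map_inv, inv_inv]
      calc S.ι y₀ = L.g ^ 3 * S.ι y₀ * (L.g ^ 3)⁻¹ := by rw [L.g3]; group
        _ = L.g * (L.g * (L.g * S.ι y₀ * L.g⁻¹) * L.g⁻¹) * L.g⁻¹ := by rw [pow_succ, pow_two]; group
        _ = S.ι y₀⁻¹ := by rw [e, e2, e]
  subst hn0
  cases s
  · rfl
  · exfalso
    refine hy1' ?_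
    rw [← hw]
    simpa [rep] using hfix.symm

/-- Only the trivial representative fixes `J`. -/
theorem J_act (hl : l ≠ 1) {p : Bool × Fin 3} (h : ∀ a, L.J l (L.act p a) = L.J l a) : p = (false, 0) := by
  by_contra hp
  have hel : ∀ y : S.D.Y, L.el (0, y) = ⟨S.ι y, L.Y_A y.2⟩ := fun y => Subtype.ext (by simp [el, v])
  set f : S.D.Y → S.D.Y := fun y => L.yA (L.act p (L.el (0, y))) * y⁻¹ with hf
  have hYc : ∀ a b : S.D.Y, a * b = b * a := fun a b => Subtype.ext (S.D.Y_comm a.2 b.2)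
  have hinj : Function.Injective f := by
    intro a b e
    by_contra hab
    have hc : a * b⁻¹ ≠ 1 := fun e => hab (mul_inv_eq_one.1 e)
    have hψ : L.yA (L.act p (L.el (0, a * b⁻¹))) = a * b⁻¹ := by
      have e1 : L.el (0, a * b⁻¹) = L.el (0, a) * (L.el (0, b))⁻¹ := by
        refine Subtype.ext ?_
        simp [el, v]
      simp only [e1, map_mul, map_inv]
      simp only [f] at e
      calc L.yA (L.act p (L.el (0, a))) * (L.yA (L.act p (L.el (0, b))))⁻¹
          = (L.yA (L.act p (L.el (0, a))) * a⁻¹) * a * ((L.yA (L.act p (L.el (0, b))) * b⁻¹) * b)⁻¹ := by simp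
        _ = (L.yA (L.act p (L.el (0, b))) * b⁻¹) * a * ((L.yA (L.act p (L.el (0, b))) * b⁻¹) * b)⁻¹ := by rw [e]
        _ = a * b⁻¹ := by
          rw [hYc _ a, mul_inv_rev, ← mul_assoc, hYc (a * _) b⁻¹, mul_assoc, mul_assoc, mul_inv_cancel, mul_one,
            hYc b⁻¹ a]
    have hne : L.yA (L.act p (L.el (0, a * b⁻¹))) ≠ 1 := by rw [hψ]; exact hc
    have h2 := L.odd_part hne
    rw [hψ, L.act_coe, hel, show (L.rep p)⁻¹ * S.ι ((a * b⁻¹ : S.D.Y) : P) * L.rep p =
      (L.rep p)⁻¹ * S.ι ((a * b⁻¹ : S.D.Y) : P) * (L.rep p)⁻¹⁻¹ by rw [inv_inv], conj_pow, inv_inv, ← map_pow,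
      pow_succ, S.D.pow_r (a * b⁻¹ : S.D.Y).2, one_mul] at h2
    exact hp (L.rep_free (a * b⁻¹ : S.D.Y).2 (fun e => hc (Subtype.ext e)) h2)
  refine hl (MonoidHom.ext fun y => ?_)
  obtain ⟨z, rfl⟩ := Finite.surjective_of_injective hinj y
  have h1 : l (L.yA (L.act p (L.el (0, z)))) = l z := by
    have := h (L.el (0, z))
    simpa [J, L.yA_el] using this
  simp [f, h1]

theorem inner_lin (a b : L.A →* ℂˣ) :
    classInner (fun x : L.A => (a x : ℂ)) (fun x : L.A => (b x : ℂ)) = if a = b then 1 else 0 := by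
  rw [classInner_irr_eq_ite (isIrr_linear a) (isIrr_linear b)]
  congr 1
  exact propext ⟨fun h => MonoidHom.ext fun x => Units.ext (congrFun h x), fun h => h ▸ rfl⟩

theorem J_ne_one (hl : l ≠ 1) : L.J l ≠ 1 := fun h => by
  refine hl (MonoidHom.ext fun y => ?_)
  simpa [J, L.yA_el] using DFunLike.congr_fun h (L.el (0, y))

theorem eq_of_mul (hl : l ≠ 1) {b b' : Bool} {p : Bool × Fin 3} :
    (L.mu b * L.J l = (L.mu b' * L.J l).comp (L.act p) ↔ b = b' ∧ p = (false, 0)) ∧
    (L.mu b = (L.mu b').comp (L.act p) ↔ b = b' ∧ (b = true → p.2 = 0)) ∧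
    L.mu b * L.J l ≠ (L.mu b').comp (L.act p) ∧ L.mu b ≠ (L.mu b' * L.J l).comp (L.act p) := by
  have hV : ∀ (c : Bool) (a : L.A), L.yA a = 1 → (L.mu c * L.J l) a = L.mu c a := fun c a ha => by
    simp [J, ha]
  have hY : ∀ (c : Bool) (y : S.D.Y), L.mu c (L.el (0, y)) = 1 := by
    intro c y
    refine Units.ext ?_
    cases c
    · exact (L.mu_el l 0 y).2.1
    · rw [(L.mu_el l 0 y).1]; simp
  have hy0 : ∀ (y : S.D.Y), L.el (0, y) = ⟨S.ι y, L.Y_A y.2⟩ := fun y => Subtype.ext (by simp [el, v])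
  have hactY : ∀ y : S.D.Y, ∃ y' : S.D.Y, L.act p (L.el (0, y)) = L.el (0, y') := by
    intro y
    obtain ⟨⟨i, y'⟩, hi⟩ := L.el_bijective.2 (L.act p (L.el (0, y)))
    refine ⟨y', ?_⟩
    by_cases hy : y = 1
    · subst hy
      have e : L.el ((0 : Fin 4), (1 : S.D.Y)) = 1 := Subtype.ext (by simp [el, v])
      rw [e, map_one] at hi ⊢
      rw [← e] at hi
      obtain ⟨-, rfl⟩ := Prod.mk.inj (L.el_bijective.1 hi)
      exact e.symm
    rw [← hi]
    have hne : L.yA (L.el (i, y')) ≠ 1 := fun e => hy (by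
      rw [← L.sq_eq_one_iff, hi, L.act_coe] at e
      have : (L.el (0, y) : G) * L.el (0, y) = 1 := by
        calc (L.el (0, y) : G) * L.el (0, y) = L.rep p * ((L.rep p)⁻¹ * L.el (0, y) * L.rep p *
              ((L.rep p)⁻¹ * L.el (0, y) * L.rep p)) * (L.rep p)⁻¹ := by group
          _ = 1 := by rw [e]; group
      rw [L.sq_eq_one_iff, L.yA_el] at this
      exact this)
    refine Subtype.ext ?_
    have hop := L.odd_part hne
    rw [L.yA_el] at hop
    rw [hy0 y']
    show _ = S.ι y'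
    rw [← hop, hi, L.act_coe,
      show (L.rep p)⁻¹ * (L.el (0, y) : G) * L.rep p = (L.rep p)⁻¹ * L.el (0, y) * (L.rep p)⁻¹⁻¹ by rw [inv_inv],
      conj_pow, hy0 y, ← map_pow, pow_succ, S.D.pow_r y.2, one_mul]
  refine ⟨⟨fun h => ?_, ?_⟩, ⟨fun h => ?_, ?_⟩, fun h => L.J_ne_one l hl ?_, fun h => L.J_ne_one l hl ?_⟩
  · have hJ : ∀ a, L.J l (L.act p a) = L.J l a := by
      intro a
      obtain ⟨⟨i, y⟩, rfl⟩ := L.el_bijective.2 a
      rw [show L.el (i, y) = L.el (i, 1) * L.el (0, y) from Subtype.ext (by simp [el, v]), map_mul, map_mul, map_mul]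
      congr 1
      · simp [J, L.yA_el, L.act_yA (L.yA_el i 1)]
      · obtain ⟨y', hy'⟩ := hactY y
        have h1 := DFunLike.congr_fun h (L.el (0, y))
        simp only [MonoidHom.mul_apply, MonoidHom.comp_apply, hy', hY, one_mul] at h1
        rw [hy', h1]
    obtain rfl := L.J_act l hl hJ
    refine ⟨?_, rfl⟩
    have h1 := DFunLike.congr_fun h (L.el (2, 1))
    simp only [MonoidHom.comp_apply, L.act_zero, MonoidHom.id_apply, hV _ _ (L.yA_el 2 1)] at h1
    have h2 := congrArg (fun z : ℂˣ => (z : ℂ)) h1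
    cases b <;> cases b' <;> simp [(L.mu_el l 2 1).1, (L.mu_el l 2 1).2.1] at h2 ⊢ <;> norm_num at h2
  · rintro ⟨rfl, rfl⟩; simp [L.act_zero]
  · have hbb : b = b' := by
      cases b <;> cases b'
      · rfl
      · exfalso
        have hone : ∀ a, L.mu true (L.act p a) = 1 := fun a => by
          have := DFunLike.congr_fun h a
          simpa [mu] using this.symm
        obtain ⟨a, ha⟩ : ∃ a, L.act p a = L.el (2, 1) := by
          have hinj : Function.Injective (L.act p) := fun a c e => Subtype.ext (by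
            have := congrArg Subtype.val e
            rw [L.act_coe, L.act_coe] at this
            exact mul_left_cancel (mul_right_cancel this))
          exact (Finite.surjective_of_injective hinj) _
        have h2 := congrArg (fun z : ℂˣ => (z : ℂ)) (hone a)
        rw [ha, (L.mu_el l 2 1).1] at h2
        simp at h2
        norm_num at h2
      · exfalso
        have h2 := congrArg (fun z : ℂˣ => (z : ℂ)) (DFunLike.congr_fun h (L.el (2, 1)))
        simp [mu] at h2
        have h3 : (L.mu true (L.el (2, 1)) : ℂ) = 1 := by simp [mu, h2]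
        rw [(L.mu_el l 2 1).1] at h3
        simp at h3
        norm_num at h3
      · rfl
    refine ⟨hbb, fun hb => ?_⟩
    subst hb hbb
    exact L.mu_act fun a => (DFunLike.congr_fun h a).symm
  · rintro ⟨rfl, hp⟩
    cases b
    · simp [mu]
    · refine MonoidHom.ext fun a => ?_
      obtain ⟨s, n⟩ := p
      obtain rfl : n = 0 := hp rfl
      cases s
      · simp [L.act_zero]
      · -- `w` centralises `⟨t, u⟩`
        obtain ⟨⟨i, y⟩, rfl⟩ := L.el_bijective.2 a
        have e : L.act (true, 0) (L.el (i, y)) = L.el (i, y⁻¹) := Subtype.ext (by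
          have hc : Commute (S.ι S.D.w) (L.v i) := by
            have h1 : Commute (S.ι S.D.w) S.t := S.tc _
            have h2 : Commute (S.ι S.D.w) (S.ι S.D.u) := (show Commute S.D.w S.D.u from S.D.comm.symm).map S.ι
            fin_cases i
            · exact Commute.one_right _
            · exact h1
            · exact h2
            · exact h1.mul_right h2
          have hwi : S.D.w⁻¹ = S.D.w := inv_eq_of_mul_eq_one_right S.D.w2
          simp only [L.act_coe, rep, el, cond_true, Fin.val_zero, pow_zero, mul_one, ← mul_assoc,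
            hc.inv_left.eq, Subgroup.coe_inv]
          simp only [mul_assoc, ← map_inv, ← map_mul]
          rw [hwi]
          have := S.D.w_Y y y.2
          rw [hwi, mul_assoc] at this
          rw [this])
        refine Units.ext ?_
        rw [MonoidHom.comp_apply, e, (L.mu_el l i y).1, (L.mu_el l i y⁻¹).1]
  · refine MonoidHom.ext fun a => ?_
    obtain ⟨⟨i, y⟩, rfl⟩ := L.el_bijective.2 a
    obtain ⟨y', hy'⟩ := hactY y
    have h1 := DFunLike.congr_fun h (L.el (0, y))
    simp only [MonoidHom.mul_apply, MonoidHom.comp_apply, hy', hY, one_mul] at h1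
    simp only [J, MonoidHom.comp_apply, L.yA_el, MonoidHom.one_apply] at h1 ⊢
    exact h1
  · have hsur : ∀ y' : S.D.Y, ∃ y, L.act p (L.el (0, y)) = L.el (0, y') := by
      choose σ hσ using hactY
      have hinj : Function.Injective σ := fun a c e => by
        have h1 : L.act p (L.el (0, a)) = L.act p (L.el (0, c)) := by rw [hσ, hσ, e]
        have h2 := congrArg Subtype.val h1
        rw [L.act_coe, L.act_coe] at h2
        exact (Prod.mk.inj (L.el_bijective.1 (Subtype.ext (mul_left_cancel (mul_right_cancel h2))))).2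
      intro y'
      obtain ⟨y, hy⟩ := Finite.surjective_of_injective hinj y'
      exact ⟨y, by rw [hσ, hy]⟩
    refine MonoidHom.ext fun a => ?_
    obtain ⟨⟨i, y'⟩, rfl⟩ := L.el_bijective.2 a
    obtain ⟨y, hy⟩ := hsur y'
    have h1 := DFunLike.congr_fun h (L.el (0, y))
    simp only [MonoidHom.mul_apply, MonoidHom.comp_apply, hy, hY, one_mul] at h1
    simp only [J, MonoidHom.comp_apply, L.yA_el, MonoidHom.one_apply] at h1 ⊢
    exact h1.symm

theorem inner_Ex (hl : l ≠ 1) (b b' : Bool) :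
    classInner (L.Ex l b) (L.Ex l b') = if b = b' then (if b then 3 else 7) else 0 := by
  have hA : classInner (L.Ex l b) (L.Ex l b') =
      ∑ p : Bool × Fin 3, classInner (L.F l b) (fun a => L.F l b' (L.act p a)) := by
    rw [Ex, classInner_indFun _ _ (L.Ex_class l b')]
    simp only [classInner, ← Finset.mul_sum]
    rw [Finset.sum_comm]
    congr 1
    refine Finset.sum_congr rfl fun a _ => ?_
    rw [L.Ex_A l, map_sum, Finset.mul_sum]
  rw [hA]
  have hp : ∀ p, classInner (L.F l b) (fun a => L.F l b' (L.act p a)) =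
      (if b = b' ∧ p = (false, 0) then (1 : ℂ) else 0) + if b = b' ∧ (b = true → p.2 = 0) then 1 else 0 := by
    intro p
    obtain ⟨e1, e2, e3, e4⟩ := L.eq_of_mul l hl (b := b) (b' := b') (p := p)
    have h : classInner (L.F l b) (fun a => L.F l b' (L.act p a)) =
        classInner ((fun a => ((L.mu b * L.J l) a : ℂ)) - fun a => (L.mu b a : ℂ))
          ((fun a => (((L.mu b' * L.J l).comp (L.act p)) a : ℂ)) - fun a => (((L.mu b').comp (L.act p)) a : ℂ)) := rfl
    rw [h, classInner_sub_left, classInner_sub_right, classInner_sub_right, L.inner_lin, L.inner_lin, L.inner_lin,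
      L.inner_lin, if_neg e3, if_neg e4]
    simp only [e1, e2]
    ring
  simp only [hp, Finset.sum_add_distrib, Fintype.sum_prod_type, Fintype.sum_bool, Fin.sum_univ_three]
  cases b <;> cases b' <;> simp <;> norm_num

/-- The inner product with a class function that is constant on the mixed elements. -/
theorem inner_const (hl : l ≠ 1) (b : Bool) {χ : G → ℂ} (hχ : IsClassFunction G χ) {φ : ℂ}
    (hφ : ∀ y ∈ S.D.Y, y ≠ 1 → χ (S.t * S.ι y) = φ) :
    classInner (L.Ex l b) χ = (4 * S.D.r : ℂ)⁻¹ *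
      ((∑ y : S.D.Y, ((l y : ℂ) - 1) * conj (χ (S.ι y))) + (if b then (S.D.r : ℂ) else -3 * S.D.r) * conj φ) := by
  rw [Ex, classInner_indFun _ _ hχ, classInner, L.card_A, L.sum_A]
  push_cast
  congr 1
  have hF : ∀ i y, L.F l b (L.el (i, y)) = (if b then (![1, 1, -1, -1] i : ℂ) else 1) * ((l y : ℂ) - 1) := by
    intro i y
    obtain ⟨h1, h2, h3⟩ := L.mu_el l i y
    cases b <;> simp [F, h1, h2, h3] <;> ring
  have hsum : ∑ y : S.D.Y, ((l y : ℂ) - 1) = -(S.D.r : ℂ) := by
    rw [Finset.sum_sub_distrib, linear_sum l hl]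
    simp [← Nat.card_eq_fintype_card, S.D.card_Y]
  have hu : ∀ y : S.D.Y, y ≠ 1 → χ (S.ι S.D.u * S.ι y) = φ ∧ χ (S.t * S.ι S.D.u * S.ι y) = φ := by
    have step : ∀ a c : G, (∀ y : S.D.Y, y ≠ 1 → χ (a * S.ι y) = φ) → L.g * a * L.g⁻¹ = c →
        ∀ y : S.D.Y, y ≠ 1 → χ (c * S.ι y) = φ := by
      intro a c ha hc y hy
      obtain ⟨y1, hy1, e1⟩ := L.gY y y.2
      obtain ⟨y2, hy2, e2⟩ := L.gY y1 hy1
      have e3 : L.g * S.ι y2 * L.g⁻¹ = S.ι y := by
        rw [← e2, ← e1]
        calc _ = L.g ^ 3 * S.ι y * (L.g ^ 3)⁻¹ := by rw [pow_succ, pow_two]; group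
          _ = _ := by rw [L.g3]; group
      have hne : y2 ≠ 1 := fun e => hy (by
        rw [e, map_one, mul_one, mul_inv_cancel] at e3
        exact Subtype.ext (S.inj (e3.symm.trans (map_one _).symm)))
      rw [← hc, ← e3, conj_mul, hχ, ha ⟨y2, hy2⟩ fun e => hne (congrArg Subtype.val e)]
    have h1 := step S.t (S.ι S.D.u) (fun y hy => hφ y y.2 fun e => hy (Subtype.ext e)) L.gt
    exact fun y hy => ⟨h1 y hy, step _ _ h1 L.gu y hy⟩
  have key : ∀ y : S.D.Y, ∑ i : Fin 4, L.F l b (L.el (i, y)) * conj (χ (L.el (i, y) : G)) =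
      ((l y : ℂ) - 1) * conj (χ (S.ι y)) + (if b then -1 else 3) * ((l y : ℂ) - 1) * conj φ := by
    intro y
    by_cases hy : y = 1
    · subst hy; simp [hF]
    have h1 := hφ y y.2 fun e => hy (Subtype.ext e)
    obtain ⟨h2, h3⟩ := hu y hy
    simp only [Fin.sum_univ_four, hF]
    simp only [el, v]
    cases b <;> simp [h1, h2, h3] <;> ring
  rw [Finset.sum_comm, Finset.sum_congr rfl fun y _ => key y, Finset.sum_add_distrib, ← Finset.sum_mul,
    ← Finset.mul_sum, hsum]
  cases b <;> simp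

theorem inner_sub (hl : l ≠ 1) {χ : G → ℂ} (hχ : IsClassFunction G χ) {φ : ℂ}
    (hφ : ∀ y ∈ S.D.Y, y ≠ 1 → χ (S.t * S.ι y) = φ) :
    classInner (L.Ex l false) χ = classInner (L.Ex l true) χ - conj φ := by
  rw [L.inner_const l hl _ hχ hφ, L.inner_const l hl _ hχ hφ]
  have h : (S.D.r : ℂ) ≠ 0 := Nat.cast_ne_zero.2 (by have := S.D.r3; omega)
  simp only [Bool.false_eq_true, if_false, if_true]
  field_simp
  ring

theorem Ex_map (b : Bool) {σ : ℂ ≃+* ℂ} (hσ : ∀ z : ℂ, z ^ S.D.r = 1 → σ z = z) (x : G) :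
    σ (L.Ex l b x) = L.Ex l b x := by
  have hF : ∀ a, σ (L.F l b a) = L.F l b a := by
    intro a
    obtain ⟨⟨i, y⟩, rfl⟩ := L.el_bijective.2 a
    obtain ⟨h1, h2, h3⟩ := L.mu_el l i y
    have hl : σ (l y : ℂ) = l y := hσ _ (by
      rw [← Units.val_pow_eq_pow_val, ← map_pow, show y ^ S.D.r = 1 from Subtype.ext (S.D.pow_r y.2), map_one,
        Units.val_one])
    have hi : σ ((![1, 1, -1, -1] i : ℂ)) = ![1, 1, -1, -1] i := by fin_cases i <;> simp
    simp only [F, MonoidHom.mul_apply, Units.val_mul, map_sub, map_mul]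
    cases b <;> simp only [h1, h2, h3, hl, hi, map_one]
  simp only [Ex, indFun, map_mul, map_inv₀, map_natCast, map_sum]
  congr 1
  refine Finset.sum_congr rfl fun z _ => ?_
  by_cases hm : z⁻¹ * x * z ∈ L.A
  · rw [extendByZero_of_mem _ hm, hF]
  · rw [extendByZero_not_mem _ hm, map_zero]

end Cfsg.Agent.Invol.JankoWard.Locals
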