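import Cfsg.Agent.Lib.Invol.JankoWard.Vals

/-!
# The Galois automorphism exchanging the two halves
-/

open scoped ComplexConjugate

set_option autoImplicit false
set_option linter.unusedSectionVars false
set_option linter.style.haveILetI false

open scoped Classical

namespace Cfsg.Agent.Invol.JankoWard

open Cfsg Cfsg.Agent.Char Cfsg.Agent.Block

universe u v

/-- The exchange of `1` and `2`. -/
def sw : Fin 3 → Fin 3 := ![0, 2, 1]

namespace LChars

variable {P : Type v} [Group P] [Fintype P] {D : LData P} (X : LChars D)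
include X

theorem Phi_conj (i : Fin 3) (k : P) : conj (X.Phi i k) = X.Phi i k⁻¹ := by
  simp only [Phi, map_sum, map_mul, map_intCast]
  exact Finset.sum_congr rfl fun j _ => by rw [IsIrr.apply_inv (X.four j).2]

theorem Phi_map {σ : ℂ ≃+* ℂ} (h1 : ∀ x, σ ((X.e1 : P → ℂ) x) = (X.e2 : P → ℂ) x)
    (h2 : ∀ x, σ ((X.e2 : P → ℂ) x) = (X.e1 : P → ℂ) x) (i : Fin 3) (k : P) :
    σ (X.Phi i k) = X.Phi (sw i) k := by
  have hS : σ ((X.St : P → ℂ) k) = (X.St : P → ℂ) k := by
    by_cases hk : 2 ∣ orderOf k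
    · rw [X.St_even k hk, map_intCast]
    · rw [X.relation k hk, map_sub, map_add, h1, h2, map_intCast]; ring
  fin_cases i <;> simp [Phi, sw, coef, four, Fin.sum_univ_four, trivialIrr, hS, h1, h2] <;> ring

theorem sw_sw (_X : LChars D) (i : Fin 3) : sw (sw i) = i := by fin_cases i <;> rfl

end LChars

namespace Base

variable {G : Type u} [Group G] [Fintype G] {P : Type v} [Group P] [Fintype P] (S : Base G P) (X : LChars S.D)

theorem v_swap {σ : ℂ ≃+* ℂ} (h1 : ∀ x, σ ((X.e1 : P → ℂ) x) = (X.e2 : P → ℂ) x)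
    (h2 : ∀ x, σ ((X.e2 : P → ℂ) x) = (X.e1 : P → ℂ) x) (i : Fin 3) (χ : IrrCharacter G) :
    S.v X (sw i) (PrinCol.galIrr σ χ) = S.v X i χ := by
  have h : σ (S.v X i χ : ℂ) = (S.v X (sw i) (PrinCol.galIrr σ χ) : ℂ) := by
    rw [S.v_eq X i χ, S.v_eq X (sw i) _]
    simp only [classInner, map_mul, map_sum, map_inv₀, map_natCast, X.Phi_conj]
    congr 1
    refine Finset.sum_congr rfl fun k _ => ?_
    rw [X.Phi_map h1 h2]
    rfl
  rw [map_intCast] at h
  exact_mod_cast h.symm

end Base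

end Cfsg.Agent.Invol.JankoWard
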