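import Cfsg.Agent.Lib.Invol.JankoWard.Exc
import Cfsg.Agent.Lib.Invol.JankoWard.Count
import Cfsg.Agent.Lib.Invol.JankoWard.Swap

/-!
# Inner products and product counts of the exceptional functions
-/

open scoped ComplexConjugate

set_option autoImplicit false
set_option linter.unusedSectionVars false
set_option linter.style.haveILetI false

open scoped Classical

namespace Cfsg.Agent.Invol.JankoWard.Locals

open Cfsg Cfsg.Agent.Char Cfsg.Agent.Block

universe u v

variable {G : Type u} [Group G] [Fintype G] {P : Type v} [Group P] [Fintype P] {S : Base G P} (L : Locals S)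
include L

theorem A_ιy {a : G} (ha : a ∈ L.A) {y : P} (hy : y ∈ S.D.Y) : a * S.ι y = S.ι y * a :=
  L.A_comm ha (L.Y_A hy)

theorem w_inv {y : P} (hy : y ∈ S.D.Y) : S.ι S.D.w * S.ι y * (S.ι S.D.w)⁻¹ = (S.ι y)⁻¹ := by
  rw [← map_inv, ← map_mul, ← map_mul, S.D.w_Y y hy, map_inv]

/-- The count at a non-trivial element of `Y` or of `tY`. -/
theorem nPairs_eq {y : P} (hy : y ∈ S.D.Y) (hy1 : y ≠ 1) {x : G} (hx : x = S.ι y ∨ x = S.t * S.ι y) :
    nPairs S.t x = 4 * S.D.r := by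
  have hsq : x * x ≠ 1 := by
    intro h
    have e : S.ι (y * y) = 1 := by
      rcases hx with rfl | rfl
      · rw [map_mul, h]
      · rw [map_mul, ← h, mul_assoc, ← mul_assoc (S.ι y), S.tc, ← mul_assoc, ← mul_assoc, S.tt, one_mul]
    exact hy1 (S.D.Y_sq hy (S.inj (e.trans (map_one _).symm)))
  have hpow : x ^ (S.D.r + 1) = S.ι y := by
    obtain ⟨j, hj⟩ := S.D.r_odd
    have hιy : S.ι y ^ (S.D.r + 1) = S.ι y := by rw [← map_pow, pow_succ, S.D.pow_r hy, one_mul]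
    rcases hx with rfl | rfl
    · exact hιy
    · rw [(S.commute y).mul_pow, hιy, hj, show 2 * j + 1 + 1 = 2 * (j + 1) by omega, pow_mul, pow_two, S.tt,
        one_pow, one_mul]
  have hAx : ∀ c ∈ L.A, c * x = x * c := fun c hc => by
    have h1 := L.A_ιy hc hy
    rcases hx with rfl | rfl
    · exact h1
    · have h2 : Commute c S.t := S.mem_C.1 (L.A_C hc)
      exact (h2.mul_right (show Commute c (S.ι y) from h1)).eq
  have hwx : S.ι S.D.w * x * (S.ι S.D.w)⁻¹ = x⁻¹ := by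
    rcases hx with rfl | rfl
    · exact L.w_inv hy
    · rw [show S.ι S.D.w * (S.t * S.ι y) * (S.ι S.D.w)⁻¹ =
        (S.ι S.D.w * S.t * (S.ι S.D.w)⁻¹) * (S.ι S.D.w * S.ι y * (S.ι S.D.w)⁻¹) by group, L.w_commute_t,
        L.w_inv hy, mul_inv_rev, S.t_inv]
      exact (S.commute y).inv_right.eq
  have hset : (Finset.univ.filter fun a : G => IsConj S.t a ∧ IsConj S.t (a⁻¹ * x)) =
      (Finset.univ : Finset L.A).map ⟨fun c : L.A => (c : G) * S.ι S.D.w,
        mul_left_injective (S.ι S.D.w) |>.comp Subtype.val_injective⟩ := by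
    ext a
    simp only [Finset.mem_filter, Finset.mem_univ, true_and, Finset.mem_map, Function.Embedding.coeFn_mk]
    rw [S.isConj_iff_invol L.one_class, S.isConj_iff_invol L.one_class]
    constructor
    · rintro ⟨⟨h1, -⟩, h2, -⟩
      have ha : a⁻¹ = a := inv_eq_of_mul_eq_one_right h1
      have hax : a * x * a⁻¹ = x⁻¹ := by
        rw [ha] at h2 ⊢
        exact eq_inv_of_mul_eq_one_left (by rw [mul_assoc _ a x]; exact h2)
      have hay : a * S.ι y * a⁻¹ = (S.ι y)⁻¹ := by rw [← hpow, ← conj_pow, hax, inv_pow]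
      refine ⟨⟨a * (S.ι S.D.w)⁻¹, L.comm_A hy hy1 ?_⟩, inv_mul_cancel_right a _⟩
      have h3 : (S.ι S.D.w)⁻¹ * S.ι y = (S.ι y)⁻¹ * (S.ι S.D.w)⁻¹ := by
        rw [← L.w_inv hy, inv_eq_of_mul_eq_one_right L.ιw_sq, mul_assoc (S.ι S.D.w * S.ι y), L.ιw_sq, mul_one]
      calc a * (S.ι S.D.w)⁻¹ * S.ι y = (a * S.ι y * a⁻¹)⁻¹ * a * (S.ι S.D.w)⁻¹ := by
            rw [mul_assoc, h3]; group
        _ = S.ι y * (a * (S.ι S.D.w)⁻¹) := by rw [hay]; group
    · rintro ⟨⟨c, hc⟩, rfl⟩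
      have hcc : c * S.ι S.D.w * (c * S.ι S.D.w) = 1 := by
        obtain ⟨⟨i, z⟩, hz⟩ := L.el_bijective.2 ⟨c, hc⟩
        have e : c = L.v i * S.ι z := (congrArg Subtype.val hz).symm
        have hwv : Commute (S.ι S.D.w) (L.v i) := by
          have h1 : Commute (S.ι S.D.w) S.t := S.tc _
          have h2 : Commute (S.ι S.D.w) (S.ι S.D.u) := (show Commute S.D.w S.D.u from S.D.comm.symm).map S.ι
          fin_cases i
          · exact Commute.one_right _
          · exact h1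
          · exact h2
          · exact h1.mul_right h2
        have hzv : Commute (S.ι (z : P)) (L.v i) := L.A_comm (L.Y_A z.2) (L.v_A i)
        have hwz : S.ι S.D.w * S.ι z = (S.ι z)⁻¹ * S.ι S.D.w := by
          rw [← L.w_inv z.2]; group
        calc c * S.ι S.D.w * (c * S.ι S.D.w) = L.v i * S.ι z * (S.ι S.D.w * L.v i) * S.ι z * S.ι S.D.w := by
              rw [e]; group
          _ = L.v i * (S.ι z * L.v i) * (S.ι S.D.w * S.ι z) * S.ι S.D.w := by rw [hwv.eq]; group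
          _ = (L.v i * L.v i) * (S.ι z * (S.ι z)⁻¹) * (S.ι S.D.w * S.ι S.D.w) := by rw [hzv.eq, hwz]; group
          _ = 1 := by rw [L.v_sq, L.ιw_sq]; group
      have hinv : c * S.ι S.D.w * x * (c * S.ι S.D.w)⁻¹ = x⁻¹ := by
        calc c * S.ι S.D.w * x * (c * S.ι S.D.w)⁻¹ = c * (S.ι S.D.w * x * (S.ι S.D.w)⁻¹) * c⁻¹ := by group
          _ = (c * x * c⁻¹)⁻¹ := by rw [hwx]; group
          _ = x⁻¹ := by rw [hAx c hc, mul_inv_cancel_right]
      have hne : c * S.ι S.D.w ≠ 1 := fun h => L.ιw_not_A (by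
        rw [show S.ι S.D.w = c⁻¹ from eq_inv_of_mul_eq_one_right h]
        exact inv_mem hc)
      refine ⟨⟨hcc, hne⟩, ?_, fun h => ?_⟩
      · simp only [inv_eq_of_mul_eq_one_right hcc]
        rw [inv_eq_of_mul_eq_one_right hcc] at hinv
        calc c * S.ι S.D.w * x * (c * S.ι S.D.w * x) = (c * S.ι S.D.w * x * (c * S.ι S.D.w)) * x := by group
          _ = 1 := by rw [hinv, inv_mul_cancel]
      · rw [inv_mul_eq_one] at h
        exact hsq (h ▸ hcc)
  rw [nPairs, hset, Finset.card_map, Finset.card_univ, ← Nat.card_eq_fintype_card, L.card_A]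

variable (l : S.D.Y →* ℂˣ) (X : LChars S.D)

theorem exists_coord (b : Bool) :
    ∃ a : IrrCharacter G → ℤ, ∀ χ : IrrCharacter G, classInner (L.Ex l b) (χ : G → ℂ) = a χ :=
  (IsGenChar.exists_decomp (L.Ex_gen l b)).imp fun _ h => h.1

/-- The coordinates of the exceptional functions. -/
noncomputable def e (b : Bool) : IrrCharacter G → ℤ := (L.exists_coord l b).choose

theorem e_spec (b : Bool) (χ : IrrCharacter G) : classInner (L.Ex l b) (χ : G → ℂ) = L.e l b χ :=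
  (L.exists_coord l b).choose_spec χ

theorem sum_e_mul_classInner (b : Bool) (F : G → ℂ) (hF : IsClassFunction G F) :
    classInner (L.Ex l b) F = ∑ χ : IrrCharacter G, (L.e l b χ : ℂ) * conj (classInner F (χ : G → ℂ)) := by
  conv_lhs => rw [classFunction_expansion hF, classInner_sum_right]
  refine Finset.sum_congr rfl fun χ _ => ?_
  rw [classInner_smul_right, L.e_spec, mul_comm]

theorem sum_e_value (b : Bool) {z : G} (hz : z * z = 1) :
    ∑ χ : IrrCharacter G, (L.e l b χ : ℂ) * (χ : G → ℂ) z = 0 := by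
  have h := congrFun (classFunction_expansion (L.Ex_class l b)) z
  rw [L.Ex_of_sq l b hz, Finset.sum_apply] at h
  rw [h]
  exact Finset.sum_congr rfl fun χ _ => by rw [Pi.smul_apply, smul_eq_mul, L.e_spec]

theorem norm_e (hl : l ≠ 1) (b : Bool) :
    ∑ χ : IrrCharacter G, L.e l b χ ^ 2 = if b then 3 else 7 := by
  have h := L.inner_Ex l hl b b
  rw [if_pos rfl, L.sum_e_mul_classInner l b _ (L.Ex_class l b)] at h
  simp only [L.e_spec, map_intCast] at h
  have h2 : ((∑ χ : IrrCharacter G, L.e l b χ ^ 2 : ℤ) : ℂ) = ((if b then 3 else 7 : ℤ) : ℂ) := by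
    push_cast
    simp only [pow_two]
    rw [h]
  exact_mod_cast h2

theorem e_trivial (hl : l ≠ 1) (b : Bool) : L.e l b (trivialIrr G) = if b then 0 else -1 := by
  have h := L.inner_const l hl b (χ := fun _ => 1) (fun _ _ => rfl) (φ := 1) (fun _ _ _ => rfl)
  have h' := L.e_spec l b (trivialIrr G)
  simp only [trivialIrr, map_one, mul_one] at h h' ⊢
  rw [h'] at h
  rw [Finset.sum_sub_distrib, linear_sum l hl] at h
  have hr : (S.D.r : ℂ) ≠ 0 := Nat.cast_ne_zero.2 (by have := S.D.r3; omega)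
  have h2 : (L.e l b (trivialIrr G) : ℂ) = ((if b then 0 else -1 : ℤ) : ℂ) := by
    simp only [trivialIrr]
    rw [h, Finset.sum_const, Finset.card_univ, ← Nat.card_eq_fintype_card, S.D.card_Y, nsmul_eq_mul, mul_one]
    cases b <;> simp <;> field_simp <;> ring
  exact_mod_cast h2

theorem sum_e_v (hl : l ≠ 1) (i : Fin 3) :
    2 * ∑ χ : IrrCharacter G, L.e l true χ * S.v X i χ = ![1 + S.D.δ + 2 * S.D.cc * S.D.δ, 2 * S.D.δ, 2 * S.D.δ] i := by
  obtain ⟨y₀, hy₀, hy1⟩ := (Subgroup.bot_or_exists_ne_one S.D.Y).resolve_left (fun e => by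
    have := S.D.card_Y
    rw [e, Subgroup.card_bot] at this
    have := S.D.r3
    omega)
  have hval : ∀ y ∈ S.D.Y, y ≠ 1 → X.Phi i y = ((![1 + S.D.δ + 2 * S.D.cc * S.D.δ, 2 * S.D.δ, 2 * S.D.δ] i : ℤ) : ℂ) := by
    intro y hy hne
    obtain ⟨a, b, c⟩ := X.Phi_Y hy hne
    fin_cases i <;> simp [a, b, c]
  set c : ℤ := ![1 + S.D.δ + 2 * S.D.cc * S.D.δ, 2 * S.D.δ, 2 * S.D.δ] i
  have hφ : ∀ y ∈ S.D.Y, y ≠ 1 → S.Psi X i (S.t * S.ι y) = 2 * (c : ℂ) := by
    intro y hy hne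
    rw [Base.Psi, S.Ind_val (IsGenChar.classFun (X.Phi_gen i)) (fun a => X.Phi_supp)
      (S.D.pow_E_iff.2 (S.D.odd_Y hy)), hval y hy hne]
  have h0 : ∀ y : S.D.Y, S.Psi X i (S.ι y) = 0 := fun y =>
    S.Ind_odd (fun a => X.Phi_supp) S.D.r_odd (by rw [← map_pow, S.D.pow_r y.2, map_one])
  have hc : IsClassFunction G (S.Psi X i) := S.Ind_class _
  have h := L.inner_const l hl true hc hφ
  rw [L.sum_e_mul_classInner l true _ hc] at h
  simp only [S.v_spec, map_intCast, h0, map_zero, mul_zero, Finset.sum_const_zero, zero_add, if_true,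
    map_mul, map_ofNat] at h
  have hr : (S.D.r : ℂ) ≠ 0 := Nat.cast_ne_zero.2 (by have := S.D.r3; omega)
  have h2 : ((2 * ∑ χ : IrrCharacter G, L.e l true χ * S.v X i χ : ℤ) : ℂ) = (c : ℂ) := by
    push_cast
    rw [h]; field_simp; ring
  exact_mod_cast h2

theorem sum_e_wt (hl : l ≠ 1) (b : Bool) :
    ∑ χ : IrrCharacter G, (L.e l b χ : ℂ) * S.wt χ = if b then 0 else -4 * S.D.r * S.kap := by
  set F : G → ℂ := fun x => conj (∑ χ : IrrCharacter G, S.wt χ * conj ((χ : G → ℂ) x)) with hF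
  have hFc : IsClassFunction G F := fun a c => by
    simp only [F]
    congr 1
    exact Finset.sum_congr rfl fun χ _ => by rw [IsIrr.classFun χ.2 a c]
  have hval : ∀ y : P, y ∈ S.D.Y → y ≠ 1 → F (S.ι y) = conj (S.kap * (4 * S.D.r)) ∧
      F (S.t * S.ι y) = conj (S.kap * (4 * S.D.r)) := by
    intro y hy hy1
    simp only [F, S.sum_wt, L.nPairs_eq hy hy1 (Or.inl rfl), L.nPairs_eq hy hy1 (Or.inr rfl)]
    push_cast; exact ⟨rfl, rfl⟩
  have h1 : classInner (L.Ex l b) F = ∑ χ : IrrCharacter G, (L.e l b χ : ℂ) * S.wt χ := by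
    simp only [← L.e_spec l b, classInner, F, Complex.conj_conj, Finset.mul_sum, Finset.sum_mul]
    rw [Finset.sum_comm]
    exact Finset.sum_congr rfl fun χ _ => Finset.sum_congr rfl fun g _ => by ring
  rw [← h1, L.inner_const l hl b hFc fun y hy hy1 => (hval y hy hy1).2]
  have hsum : ∑ y : S.D.Y, ((l y : ℂ) - 1) * conj (F (S.ι y)) = -(S.D.r : ℂ) * (S.kap * (4 * S.D.r)) := by
    have : ∀ y : S.D.Y, ((l y : ℂ) - 1) * conj (F (S.ι y)) = ((l y : ℂ) - 1) * (S.kap * (4 * S.D.r)) := by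
      intro y
      by_cases hy : y = 1
      · simp [hy]
      · rw [(hval y y.2 fun e => hy (Subtype.ext e)).1, Complex.conj_conj]
    rw [Finset.sum_congr rfl fun y _ => this y, ← Finset.sum_mul, Finset.sum_sub_distrib, linear_sum l hl]
    simp [← Nat.card_eq_fintype_card, S.D.card_Y]
  rw [hsum, Complex.conj_conj]
  have hr : (S.D.r : ℂ) ≠ 0 := Nat.cast_ne_zero.2 (by have := S.D.r3; omega)
  cases b <;> simp <;> field_simp <;> ring

/-- On a character of the principal block the two coordinates differ by the value on `tY`. -/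
theorem e_false {M : Ideal AlgInt} (hM : IsPModular 2 M) (hl : l ≠ 1) {χ : IrrCharacter G}
    (hχ : χ ∈ principalBlock M G) :
    L.e l false χ = L.e l true χ - (S.v X 0 χ + (S.v X 1 χ + S.v X 2 χ) * (S.D.δ - S.D.cc)) := by
  have h := L.inner_sub l hl (IsIrr.classFun χ.2) fun y hy hy1 => S.value_Y X hM hχ hy hy1
  rw [L.e_spec, L.e_spec, map_intCast] at h
  exact_mod_cast h

theorem e_gal (b : Bool) {σ : ℂ ≃+* ℂ} (hσ : ∀ z : ℂ, z ^ S.D.r = 1 → σ z = z) (χ : IrrCharacter G) :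
    L.e l b (PrinCol.galIrr σ χ) = L.e l b χ := by
  have hmap : σ (classInner (L.Ex l b) (χ : G → ℂ)) =
      classInner (L.Ex l b) ((PrinCol.galIrr σ χ : IrrCharacter G) : G → ℂ) := by
    simp only [classInner, map_mul, map_inv₀, map_natCast, map_sum, L.Ex_map l b hσ]
    congr 1
    refine Finset.sum_congr rfl fun x _ => ?_
    rw [← IsIrr.apply_inv χ.2, ← IsIrr.apply_inv (PrinCol.galIrr σ χ).2]
    rfl
  rw [L.e_spec, L.e_spec, map_intCast] at hmap
  exact_mod_cast hmap.symm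

/-- The degree modulo `r` of a character whose coordinate does not depend on `l`. -/
theorem deg_mod {χ : IrrCharacter G} {φ E : ℤ} (hφ : ∀ y ∈ S.D.Y, y ≠ 1 → (χ : G → ℂ) (S.t * S.ι y) = φ)
    (hE : ∀ l : S.D.Y →* ℂˣ, l ≠ 1 → L.e l true χ = E) :
    (S.D.r : ℤ) ∣ (charDegree (χ : G → ℂ) : ℤ) - (φ - 4 * E) := by
  haveI := S.D.Y_cyclic
  obtain ⟨y₁, hy₁⟩ := IsCyclic.exists_generator (α := S.D.Y)
  set ζ : ℂ := (S.D.l0 y₁ : ℂ) with hζ
  have hor : orderOf y₁ = S.D.r := by rw [orderOf_eq_card_of_forall_mem_zpowers hy₁, S.D.card_Y]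
  have hpr : ∀ j : ℕ, j < S.D.r → j ≠ 0 → S.D.l0 ^ j ≠ 1 := fun j hj hj0 h => by
    have h1 : S.D.l0 (y₁ ^ j) = 1 := by
      rw [map_pow]; exact DFunLike.congr_fun h y₁
    exact pow_ne_one_of_lt_orderOf hj0 (hor ▸ hj) (S.D.l0_inj (h1.trans (map_one _).symm))
  have hsum : ∀ y : S.D.Y, y ≠ 1 → ∑ j ∈ Finset.range S.D.r, ((S.D.l0 ^ j) y : ℂ) = 0 := by
    intro y hy
    have hne : (S.D.l0 y : ℂ) ≠ 1 := fun h => hy (S.D.l0_inj ((Units.ext h).trans (map_one _).symm))
    simp only [MonoidHom.pow_apply, Units.val_pow_eq_pow_val]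
    rw [geom_sum_eq hne, ← Units.val_pow_eq_pow_val, ← map_pow,
      show y ^ S.D.r = 1 from Subtype.ext (S.D.pow_r y.2), map_one, Units.val_one, sub_self, zero_div]
  have hC : ∀ j ∈ Finset.range S.D.r, ∑ y : S.D.Y, (((S.D.l0 ^ j) y : ℂ) - 1) * conj ((χ : G → ℂ) (S.ι y)) =
      if j = 0 then 0 else 4 * (S.D.r : ℂ) * E - S.D.r * φ := by
    intro j hj
    split_ifs with h0
    · subst h0; simp
    · have h := L.inner_const _ (hpr j (Finset.mem_range.1 hj) h0) true (IsIrr.classFun χ.2) hφ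
      rw [L.e_spec, hE _ (hpr j (Finset.mem_range.1 hj) h0), if_pos rfl, map_intCast] at h
      have hr : (S.D.r : ℂ) ≠ 0 := Nat.cast_ne_zero.2 (by have := S.D.r3; omega)
      rw [h]; field_simp; ring
  have h1 := Finset.sum_congr rfl hC
  rw [Finset.sum_comm] at h1
  have hin : ∀ y : S.D.Y, ∑ j ∈ Finset.range S.D.r, (((S.D.l0 ^ j) y : ℂ) - 1) * conj ((χ : G → ℂ) (S.ι y)) =
      (if y = 1 then (S.D.r : ℂ) * conj ((χ : G → ℂ) 1) else 0) - S.D.r * conj ((χ : G → ℂ) (S.ι y)) := by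
    intro y
    rw [← Finset.sum_mul, Finset.sum_sub_distrib]
    split_ifs with hy
    · simp [hy]
    · rw [hsum y hy]; simp
  rw [Finset.sum_congr rfl fun y _ => hin y, Finset.sum_sub_distrib, Finset.sum_ite_eq', ← Finset.mul_sum] at h1
  simp only [Finset.mem_univ, if_true] at h1
  have hcnt : ∑ j ∈ Finset.range S.D.r, (if j = 0 then (0 : ℂ) else 4 * (S.D.r : ℂ) * E - S.D.r * φ) =
      ((S.D.r : ℂ) - 1) * (4 * (S.D.r : ℂ) * E - S.D.r * φ) := by
    obtain ⟨n, hn⟩ := Nat.exists_eq_succ_of_ne_zero (show S.D.r ≠ 0 by have := S.D.r3; omega)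
    rw [hn, Finset.sum_range_succ']
    simp; ring
  -- the multiplicity of the trivial character of `Y`
  set H := S.D.Y.map S.ι
  obtain ⟨n, hn⟩ := IsGenChar.classInner_int
    (IsGenChar.ind H (IsGenChar.of_isCharacter (IsIrr.isCharacter (isIrr_linear (1 : H →* ℂˣ)))))
    (IsGenChar.of_isCharacter (IsIrr.isCharacter χ.2))
  rw [classInner_indFun _ _ (IsIrr.classFun χ.2), classInner] at hn
  have hH : ∑ h : H, conj ((χ : G → ℂ) h) = ∑ y : S.D.Y, conj ((χ : G → ℂ) (S.ι y)) :=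
    (Fintype.sum_equiv (S.D.Y.equivMapOfInjective S.ι S.inj).toEquiv _ _ fun y => rfl).symm
  have hcard : Nat.card H = S.D.r := by
    rw [← Nat.card_congr (S.D.Y.equivMapOfInjective S.ι S.inj).toEquiv, S.D.card_Y]
  simp only [MonoidHom.one_apply, Units.val_one, one_mul, hcard, hH] at hn
  have hr : (S.D.r : ℂ) ≠ 0 := Nat.cast_ne_zero.2 (by have := S.D.r3; omega)
  have hd : conj ((χ : G → ℂ) 1) = (charDegree (χ : G → ℂ) : ℂ) := by rw [charDeg_spec', map_natCast]
  rw [hcnt, hd] at h1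
  have hS : ∑ y : S.D.Y, conj ((χ : G → ℂ) (S.ι y)) = (n : ℂ) * S.D.r := by
    rw [← hn]; field_simp
  rw [hS] at h1
  refine ⟨n + (4 * E - φ), ?_⟩
  have h2 : (((charDegree (χ : G → ℂ) : ℤ) - (φ - 4 * E) : ℤ) : ℂ) = (((S.D.r : ℤ) * (n + (4 * E - φ)) : ℤ) : ℂ) := by
    push_cast
    refine mul_left_cancel₀ hr ?_
    linear_combination h1
  exact_mod_cast h2

end Cfsg.Agent.Invol.JankoWard.Locals
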