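import Mathlib.Data.Real.Basic
import Mathlib.Tactic.LinearCombination
import Mathlib.Tactic.Linarith
import Mathlib.Tactic.Positivity
import Mathlib.Tactic.FieldSimp
import Mathlib.Tactic.NormNum
import Mathlib.Tactic.Ring

/-!
# The real inequalities of the twisted blocks

Signed degrees; `R` is the odd part of the torus, `Q = 4R - 1`, `M = 2R - 1`, `K0 = 2MRK`.
-/

set_option autoImplicit false

namespace Cfsg.Agent.Invol.JankoWard.ExtArith

theorem abs_div_le {a x c : ℝ} (ha : 0 ≤ a) (hc : 0 < c) (hx : c ≤ |x|) : |a / x| ≤ a / c := by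
  rw [abs_div, abs_of_nonneg ha]
  exact div_le_div_of_nonneg_left ha hc hx

/-- `a / x` is small when `x` is at least `c R²`. -/
theorem abs_sq_div_le {a x c R : ℝ} (hR : 0 < R) (ha : 0 ≤ a) (hc : 0 < c) (hx : c * R ^ 2 ≤ |x|) :
    |a * R ^ 2 / x| ≤ a / c := by
  refine (abs_div_le (by positivity) (by positivity) hx).trans (le_of_eq ?_)
  field_simp

theorem Q_sq_div {R x c : ℝ} (hR : 1000 ≤ R) (hc : 0 < c) (hx : c * R ^ 2 ≤ |x|) :
    |(4 * R - 1) ^ 2 / x| ≤ 16 / c := by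
  have h1 : (4 * R - 1) ^ 2 ≤ 16 * R ^ 2 := by nlinarith
  refine le_trans ?_ (abs_sq_div_le (a := 16) (x := x) (by linarith) (by norm_num) hc hx)
  rw [abs_div, abs_div, abs_of_nonneg (sq_nonneg _), abs_of_nonneg (show (0 : ℝ) ≤ 16 * R ^ 2 by positivity)]
  exact div_le_div_of_nonneg_right h1 (abs_nonneg x)

theorem M_sq_div {R x c : ℝ} (hR : 1000 ≤ R) (hc : 0 < c) (hx : c * R ^ 2 ≤ |x|) :
    |(2 * R - 1) ^ 2 / x| ≤ 4 / c := by
  have h1 : (2 * R - 1) ^ 2 ≤ 4 * R ^ 2 := by nlinarith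
  refine le_trans ?_ (abs_sq_div_le (a := 4) (x := x) (by linarith) (by norm_num) hc hx)
  rw [abs_div, abs_div, abs_of_nonneg (sq_nonneg _), abs_of_nonneg (show (0 : ℝ) ≤ 4 * R ^ 2 by positivity)]
  exact div_le_div_of_nonneg_right h1 (abs_nonneg x)

/-- The small side of a count equation. -/
theorem small {R K c : ℝ} (hR : 1000 ≤ R) (hK : 0 < K) (h : 2 * (2 * R - 1) * R * K ≤ c) :
    0 < (3 * R - 1) * K ∧ (3 * R - 1) * K ≤ c / 1000 := by
  refine ⟨mul_pos (by linarith) hK, ?_⟩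
  rw [le_div_iff₀ (by norm_num : (0 : ℝ) < 1000)]
  nlinarith [mul_le_mul_of_nonneg_left hR (mul_nonneg (show (0 : ℝ) ≤ 4 * R - 2 by linarith) hK.le)]

/-- Two degrees of the same sign against two of the other column. -/
theorem same_sign {R B B' C C' : ℝ} (hR : 1000 ≤ R) (hB : 26 * R ^ 2 ≤ B) (hB' : 26 * R ^ 2 ≤ B')
    (hC : 13 * R ^ 2 ≤ |C|) (hC' : 13 * R ^ 2 ≤ |C'|) (h1 : B + B' + C + C' = 0)
    (h2 : |(4 * R - 1) ^ 2 * (1 / B + 1 / B') + (2 * R - 1) ^ 2 * (1 / C + 1 / C')| ≤ 4 / 1000) :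
    |(4 * R - 1) ^ 2 * (1 / B + 1 / B')| ≤ 35 / 100 := by
  have hR2 : (0 : ℝ) < R ^ 2 := by positivity
  have hBp : 0 < B := by linarith
  have hBp' : 0 < B' := by linarith
  set β := (4 * R - 1) ^ 2 * (1 / B + 1 / B') with hβ
  set γ := (2 * R - 1) ^ 2 * (1 / C + 1 / C') with hγ
  have hβ0 : 0 ≤ β := by positivity
  rw [abs_of_nonneg hβ0]
  obtain ⟨h2a, h2b⟩ := abs_le.1 h2
  have hC0 : C ≠ 0 := fun e => by rw [e, abs_zero] at hC; linarith
  have hC0' : C' ≠ 0 := fun e => by rw [e, abs_zero] at hC'; linarith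
  have hsum : 1 / C + 1 / C' = (C + C') / (C * C') := by field_simp; ring
  by_cases hneg : C * C' < 0
  · have hγ0 : 0 ≤ γ := by
      rw [hγ, hsum]
      exact mul_nonneg (sq_nonneg _) (div_nonneg_of_nonpos (by linarith) hneg.le)
    linarith
  push Not at hneg
  have hpos : 0 < C * C' := lt_of_le_of_ne hneg (mul_ne_zero hC0 hC0').symm
  have hCn : C < 0 ∧ C' < 0 := by
    rcases mul_pos_iff.1 hpos with ⟨a, b⟩ | ⟨a, b⟩
    · linarith
    · exact ⟨a, b⟩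
  rw [abs_of_neg hCn.1] at hC
  rw [abs_of_neg hCn.2] at hC'
  set σ := B + B' with hσ
  have hσ52 : 52 * R ^ 2 ≤ σ := by linarith
  -- the two negative degrees
  have hγb : -γ ≤ 4 / 13 + 4 * R ^ 2 / (σ - 13 * R ^ 2) := by
    have hprod : 13 * R ^ 2 * (σ - 13 * R ^ 2) ≤ C * C' := by
      nlinarith [mul_nonneg (show 0 ≤ -C - 13 * R ^ 2 by linarith) (show 0 ≤ -C' - 13 * R ^ 2 by linarith)]
    have e1 : -γ = (2 * R - 1) ^ 2 * σ / (C * C') := by
      rw [hγ, hsum, show C + C' = -σ by linarith]; ring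
    have hd : 0 < 13 * R ^ 2 * (σ - 13 * R ^ 2) := by nlinarith
    have hne : σ - 13 * R ^ 2 ≠ 0 := ne_of_gt (by linarith)
    have e2 : 4 / 13 + 4 * R ^ 2 / (σ - 13 * R ^ 2) = 4 * R ^ 2 * σ / (13 * R ^ 2 * (σ - 13 * R ^ 2)) := by
      field_simp; ring
    rw [e1, e2]
    refine div_le_div₀ (by nlinarith) ?_ hd hprod
    exact mul_le_mul_of_nonneg_right (by nlinarith) (by linarith)
  -- the harmonic bound
  have hβb : 63.8 * R ^ 2 / σ ≤ β := by
    have e1 : β = (4 * R - 1) ^ 2 * σ / (B * B') := by rw [hβ, hσ]; field_simp; ring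
    have hb : 4 * (B * B') ≤ σ * σ := by nlinarith [sq_nonneg (B - B')]
    rw [e1, div_le_div_iff₀ (by linarith) (mul_pos hBp hBp')]
    have hq : 15.95 * R ^ 2 ≤ (4 * R - 1) ^ 2 := by
      nlinarith [mul_le_mul_of_nonneg_right hR (show (0 : ℝ) ≤ R by linarith)]
    calc 63.8 * R ^ 2 * (B * B') = 15.95 * R ^ 2 * (4 * (B * B')) := by ring
      _ ≤ (4 * R - 1) ^ 2 * (σ * σ) := mul_le_mul hq hb (by positivity) (sq_nonneg _)
      _ = (4 * R - 1) ^ 2 * σ * σ := by ring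
  have h39 : 4 * R ^ 2 / (σ - 13 * R ^ 2) ≤ 4 / 39 := by
    rw [div_le_div_iff₀ (by linarith) (by norm_num)]; linarith
  have hσ140 : 140 * R ^ 2 ≤ σ := by
    have h : 63.8 * R ^ 2 / σ ≤ 415 / 1000 := by linarith
    rw [div_le_iff₀ (by linarith)] at h
    linarith
  have h127 : 4 * R ^ 2 / (σ - 13 * R ^ 2) ≤ 4 / 127 := by
    rw [div_le_div_iff₀ (by linarith) (by norm_num)]; linarith
  linarith

/-- Two degrees of opposite signs. -/
theorem opp_sign {R B B' C C' : ℝ} (hR : 1000 ≤ R) (hB : 26 * R ^ 2 ≤ B) (hB' : B' ≤ -(26 * R ^ 2))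
    (hC : 13 * R ^ 2 ≤ |C|) (hC' : 13 * R ^ 2 ≤ |C'|) (h1 : B + B' + C + C' = 0)
    (h2 : |(4 * R - 1) ^ 2 * (1 / B + 1 / B') + (2 * R - 1) ^ 2 * (1 / C + 1 / C')| ≤ 4 / 1000) :
    |(4 * R - 1) ^ 2 * (1 / B + 1 / B')| ≤ 35 / 100 := by
  have hR2 : (0 : ℝ) < R ^ 2 := by positivity
  have hC0 : C ≠ 0 := fun e => by rw [e, abs_zero] at hC; linarith
  have hC0' : C' ≠ 0 := fun e => by rw [e, abs_zero] at hC'; linarith
  have eB : 1 / B + 1 / B' = (B + B') / (B * B') := by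
    have h1 : B ≠ 0 := by linarith
    have h2 : B' ≠ 0 := by linarith
    field_simp; ring
  have eC : 1 / C + 1 / C' = (C + C') / (C * C') := by field_simp; ring
  set β := (4 * R - 1) ^ 2 * (1 / B + 1 / B') with hβ
  set γ := (2 * R - 1) ^ 2 * (1 / C + 1 / C') with hγ
  obtain ⟨h2a, h2b⟩ := abs_le.1 h2
  have hBB : B * B' < 0 := mul_neg_of_pos_of_neg (by linarith) (by linarith)
  by_cases hneg : C * C' < 0
  · have hb : |γ| ≤ 4 / 13 := by
      have a1 := M_sq_div hR (by norm_num) hC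
      have a2 := M_sq_div hR (by norm_num) hC'
      have hM : 0 ≤ (2 * R - 1) ^ 2 := sq_nonneg _
      obtain ⟨a1a, a1b⟩ := abs_le.1 a1
      obtain ⟨a2a, a2b⟩ := abs_le.1 a2
      rw [hγ, mul_add, mul_one_div, mul_one_div, abs_le]
      rcases mul_neg_iff.1 hneg with ⟨a, b⟩ | ⟨a, b⟩
      · have := div_nonneg hM a.le
        have := div_nonpos_of_nonneg_of_nonpos hM b.le
        constructor <;> linarith
      · have := div_nonneg hM b.le
        have := div_nonpos_of_nonneg_of_nonpos hM a.le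
        constructor <;> linarith
    obtain ⟨ha, hb⟩ := abs_le.1 hb
    rw [abs_le]; constructor <;> linarith
  push Not at hneg
  have hpos : 0 < C * C' := lt_of_le_of_ne hneg (mul_ne_zero hC0 hC0').symm
  -- both summands have the sign of `C + C'`
  rcases le_total 0 (C + C') with hs | hs
  · have b0 : 0 ≤ β := by
      rw [hβ, eB]; exact mul_nonneg (sq_nonneg _) (div_nonneg_of_nonpos (by linarith) hBB.le)
    have c0 : 0 ≤ γ := by rw [hγ, eC]; exact mul_nonneg (sq_nonneg _) (div_nonneg hs hpos.le)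
    rw [abs_of_nonneg b0]; linarith
  · have b0 : β ≤ 0 := by
      rw [hβ, eB]
      exact mul_nonpos_of_nonneg_of_nonpos (sq_nonneg _) (div_nonpos_of_nonneg_of_nonpos (by linarith) hBB.le)
    have c0 : γ ≤ 0 := by
      rw [hγ, eC]; exact mul_nonpos_of_nonneg_of_nonpos (sq_nonneg _) (div_nonpos_of_nonpos_of_nonneg hs hpos.le)
    rw [abs_of_nonpos b0]; linarith

/-- The shape with eight rows: the count is that of the two rows `(1, 0, 0)` up to `.35`. -/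
theorem shapeS {R K Z A B B' C C' : ℝ} (hR : 1000 ≤ R) (hK : 0 < K) (hZ : 1 ≤ |Z|) (hA : 1 ≤ |A|)
    (hB : 26 * R ^ 2 ≤ |B|) (hB' : 26 * R ^ 2 ≤ |B'|) (hC : 13 * R ^ 2 ≤ |C|) (hC' : 13 * R ^ 2 ≤ |C'|)
    (h1 : B + B' + C + C' = 0)
    (e0 : 1 / Z + 1 / A + (4 * R - 1) ^ 2 * (1 / B + 1 / B') = 2 * (2 * R - 1) * R * K)
    (e1 : (4 * R - 1) ^ 2 * (1 / B + 1 / B') + (2 * R - 1) ^ 2 * (1 / C + 1 / C') = (3 * R - 1) * K) :
    |2 * (2 * R - 1) * R * K - (1 / Z + 1 / A)| ≤ 35 / 100 := by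
  rw [← e0, add_sub_cancel_left]
  have hle : 2 * (2 * R - 1) * R * K ≤ 4 := by
    have a1 : |1 / Z| ≤ 1 := by rw [abs_div, abs_one]; exact div_le_one_of_le₀ hZ (abs_nonneg _)
    have a2 : |1 / A| ≤ 1 := by rw [abs_div, abs_one]; exact div_le_one_of_le₀ hA (abs_nonneg _)
    have a3 := Q_sq_div hR (by norm_num) hB
    have a4 := Q_sq_div hR (by norm_num) hB'
    rw [← e0, mul_add, mul_one_div, mul_one_div]
    linarith [(abs_le.1 a1).2, (abs_le.1 a2).2, (abs_le.1 a3).2, (abs_le.1 a4).2]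
  obtain ⟨k0, k1⟩ := small hR hK hle
  have h2 : |(4 * R - 1) ^ 2 * (1 / B + 1 / B') + (2 * R - 1) ^ 2 * (1 / C + 1 / C')| ≤ 4 / 1000 := by
    rw [e1, abs_of_pos k0]; exact k1
  have neg : ∀ x y : ℝ, |(4 * R - 1) ^ 2 * (1 / -x + 1 / -y)| = |(4 * R - 1) ^ 2 * (1 / x + 1 / y)| := fun x y => by
    rw [← abs_neg]; congr 1; rw [div_neg, div_neg]; ring
  have h2n : |(4 * R - 1) ^ 2 * (1 / -B + 1 / -B') + (2 * R - 1) ^ 2 * (1 / -C + 1 / -C')| ≤ 4 / 1000 := by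
    rw [← abs_neg]; convert h2 using 2; rw [div_neg, div_neg, div_neg, div_neg]; ring
  rcases le_total 0 B with hs | hs
  · rw [abs_of_nonneg hs] at hB
    rcases le_total 0 B' with hs' | hs'
    · rw [abs_of_nonneg hs'] at hB'; exact same_sign hR hB hB' hC hC' h1 h2
    · rw [abs_of_nonpos hs'] at hB'; exact opp_sign hR hB (by linarith) hC hC' h1 h2
  · rw [abs_of_nonpos hs] at hB
    rw [← neg]
    rcases le_total 0 B' with hs' | hs'
    · rw [abs_of_nonneg hs'] at hB'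
      exact opp_sign hR hB (by linarith) (by rwa [abs_neg]) (by rwa [abs_neg]) (by linarith) h2n
    · rw [abs_of_nonpos hs'] at hB'
      exact same_sign hR hB hB' (by rwa [abs_neg]) (by rwa [abs_neg]) (by linarith) h2n

/-- The shape with seven rows in the trivial block. -/
theorem shapeT_one {R K P B : ℝ} (hR : 1000 ≤ R) (hP : 13 * R ^ 2 ≤ |P|) (hB : 26 * R ^ 2 ≤ |B|)
    (h0 : 1 + P + P + B = 0)
    (e0 : 1 + 4 * R ^ 2 / P + 4 * R ^ 2 / P + (4 * R - 1) ^ 2 / B = 2 * (2 * R - 1) * R * K) :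
    9 / 10 ≤ 2 * (2 * R - 1) * R * K := by
  have hR2 : (0 : ℝ) < R ^ 2 := by positivity
  have hP0 : P ≠ 0 := fun e => by rw [e, abs_zero] at hP; linarith
  have hB0 : B ≠ 0 := fun e => by rw [e, abs_zero] at hB; linarith
  have key : 4 * R ^ 2 / P + 4 * R ^ 2 / P + (4 * R - 1) ^ 2 / B = -(8 * R - 1) / B - 8 * R ^ 2 / (P * B) := by
    field_simp
    linear_combination (8 * R ^ 2) * h0
  have a1 : |-(8 * R - 1) / B| ≤ 1 / 100 := by
    rw [abs_div, abs_neg, abs_of_pos (by linarith : (0 : ℝ) < 8 * R - 1), div_le_iff₀ (by linarith)]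
    nlinarith
  have a2 : |8 * R ^ 2 / (P * B)| ≤ 1 / 100 := by
    rw [abs_div, abs_of_pos (by positivity : (0 : ℝ) < 8 * R ^ 2), abs_mul, div_le_iff₀ (by nlinarith)]
    nlinarith [mul_le_mul hP hB (by positivity) (abs_nonneg P)]
  linarith [(abs_le.1 a1).1, (abs_le.1 a2).2]

/-- A crude bound in the shape with seven rows. -/
theorem shapeT_crude {R K Z P P' B : ℝ} (hR : 1000 ≤ R) (hZ : 1000 ≤ |Z|) (hP : 13 * R ^ 2 ≤ |P|)
    (hP' : 13 * R ^ 2 ≤ |P'|) (hB : 26 * R ^ 2 ≤ |B|)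
    (e0 : 1 / Z + 4 * R ^ 2 / P + 4 * R ^ 2 / P' + (4 * R - 1) ^ 2 / B = 2 * (2 * R - 1) * R * K) :
    2 * (2 * R - 1) * R * K ≤ 13 / 10 := by
  have a0 := abs_div_le (a := (1 : ℝ)) (by norm_num) (by norm_num) hZ
  have a1 := abs_sq_div_le (a := (4 : ℝ)) (x := P) (by linarith : 0 < R) (by norm_num) (by norm_num) hP
  have a2 := abs_sq_div_le (a := (4 : ℝ)) (x := P') (by linarith : 0 < R) (by norm_num) (by norm_num) hP'
  have a3 := Q_sq_div hR (by norm_num) hB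
  linarith [(abs_le.1 a0).2, (abs_le.1 a1).2, (abs_le.1 a2).2, (abs_le.1 a3).2]

/-- The case `C = C'` with `C` determined by the exceptional functions. -/
theorem shapeT_cc {R K Z P P' B H C : ℝ} (hR : 1000 ≤ R) (hK : 0 < K) (hZ : 1000 ≤ |Z|) (hP : 13 * R ^ 2 ≤ |P|)
    (hP' : 13 * R ^ 2 ≤ |P'|) (hB : 26 * R ^ 2 ≤ |B|)
    (h1 : P + B + H + C = 0) (h2 : P' + B + H + C = 0)
    (hC : C * ((4 * R - 1) * K) = -(8 * (2 * R - 1) ^ 2))
    (e0 : 1 / Z + 4 * R ^ 2 / P + 4 * R ^ 2 / P' + (4 * R - 1) ^ 2 / B = 2 * (2 * R - 1) * R * K)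
    (e1 : 4 * R ^ 2 / P + (4 * R - 1) ^ 2 / B + 4 * (2 * R - 1) ^ 2 / H + (2 * R - 1) ^ 2 / C = (3 * R - 1) * K) :
    2 * (2 * R - 1) * R * K ≤ 64 / 100 := by
  have hR0 : (0 : ℝ) < R := by linarith
  have hK0 := shapeT_crude hR hZ hP hP' hB e0
  obtain rfl : P = P' := by linarith
  have hCb : 3000 * R ^ 2 ≤ |C| := by
    by_contra hc
    push Not at hc
    have hq : 0 < (4 * R - 1) * K := mul_pos (by linarith) hK
    have h3 : 8 * (2 * R - 1) ^ 2 = |C| * ((4 * R - 1) * K) := by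
      rw [← abs_of_pos hq, ← abs_mul, hC, abs_neg, abs_of_nonneg (by positivity)]
    have h4 : 8 * (2 * R - 1) ^ 2 ≤ 3000 * R ^ 2 * ((4 * R - 1) * K) :=
      h3 ▸ mul_le_mul_of_nonneg_right hc.le hq.le
    have h5 : 3000 * R ^ 2 * ((4 * R - 1) * K) * (2 * (2 * R - 1)) ≤ 3000 * R * (4 * R - 1) * (13 / 10) := by
      nlinarith [mul_le_mul_of_nonneg_left hK0 (show (0 : ℝ) ≤ 3000 * R * (4 * R - 1) by nlinarith)]
    have h6 := (mul_le_mul_of_nonneg_right h4 (show (0 : ℝ) ≤ 2 * (2 * R - 1) by linarith)).trans h5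
    nlinarith [mul_pos hR0 hR0]
  obtain ⟨k0, k1⟩ := small hR hK hK0
  have a0 := abs_le.1 (abs_div_le (a := (1 : ℝ)) (by norm_num) (by norm_num) hZ)
  have aP := abs_le.1 (abs_sq_div_le (a := (4 : ℝ)) (x := P) hR0 (by norm_num) (by norm_num) hP)
  have aB := abs_le.1 (Q_sq_div hR (by norm_num) hB)
  have aC := abs_le.1 (M_sq_div hR (by norm_num) hCb)
  have hbig : 1000 * R ^ 2 ≤ |P| ∨ 1000 * R ^ 2 ≤ |B| ∨ 1000 * R ^ 2 ≤ |H| := by
    by_contra hno
    push Not at hno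
    rw [show C = -(P + B + H) by linarith, abs_neg] at hCb
    linarith [abs_add_three P B H]
  rcases hbig with hb | hb | hb
  · linarith [(abs_le.1 (abs_sq_div_le (a := (4 : ℝ)) (x := P) hR0 (by norm_num) (by norm_num) hb)).2]
  · linarith [(abs_le.1 (Q_sq_div hR (by norm_num) hb)).2]
  · have aH := abs_le.1 (M_sq_div hR (by norm_num) hb)
    rw [show 4 * (2 * R - 1) ^ 2 / H = 4 * ((2 * R - 1) ^ 2 / H) by ring] at e1
    linarith

/-- The case `B = Q Z`. -/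
theorem shapeT_zb {R K Z P P' B : ℝ} (hR : 1000 ≤ R) (hK : 0 < K) (hZ : 1000 ≤ |Z|) (hP : 13 * R ^ 2 ≤ |P|)
    (hP' : 13 * R ^ 2 ≤ |P'|) (hB : 26 * R ^ 2 ≤ |B|)
    (h0 : Z + P + P' + B = 0) (hBZ : B = (4 * R - 1) * Z)
    (hZe : Z * ((4 * R - 1) * K) = -(8 * (2 * R - 1)))
    (e0 : 1 / Z + 4 * R ^ 2 / P + 4 * R ^ 2 / P' + (4 * R - 1) ^ 2 / B = 2 * (2 * R - 1) * R * K) :
    2 * (2 * R - 1) * R * K ≤ 64 / 100 := by
  have hR0 : (0 : ℝ) < R := by linarith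
  have hK0 := shapeT_crude hR hZ hP hP' hB e0
  have hZb : 1000 * R ≤ |Z| := by
    by_contra hc
    push Not at hc
    have hq : 0 < (4 * R - 1) * K := mul_pos (by linarith) hK
    have h3 : 8 * (2 * R - 1) = |Z| * ((4 * R - 1) * K) := by
      rw [← abs_of_pos hq, ← abs_mul, hZe, abs_neg, abs_of_nonneg (by linarith)]
    have h4 : 8 * (2 * R - 1) ≤ 1000 * R * ((4 * R - 1) * K) := h3 ▸ mul_le_mul_of_nonneg_right hc.le hq.le
    have h5 : 1000 * R * ((4 * R - 1) * K) * (2 * (2 * R - 1)) ≤ 1000 * (4 * R - 1) * (13 / 10) := by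
      nlinarith [mul_le_mul_of_nonneg_left hK0 (show (0 : ℝ) ≤ 1000 * (4 * R - 1) by linarith)]
    have h6 := (mul_le_mul_of_nonneg_right h4 (show (0 : ℝ) ≤ 2 * (2 * R - 1) by linarith)).trans h5
    nlinarith
  have a0 := abs_le.1 (abs_div_le (a := (1 : ℝ)) (by norm_num) (by norm_num) hZ)
  have aP := abs_le.1 (abs_sq_div_le (a := (4 : ℝ)) (x := P) hR0 (by norm_num) (by norm_num) hP)
  have aP' := abs_le.1 (abs_sq_div_le (a := (4 : ℝ)) (x := P') hR0 (by norm_num) (by norm_num) hP')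
  have hBb : 1000 * R ^ 2 ≤ |B| := by
    rw [hBZ, abs_mul, abs_of_pos (by linarith : (0 : ℝ) < 4 * R - 1)]
    nlinarith
  have aB := abs_le.1 (Q_sq_div hR (by norm_num) hBb)
  have hbig : 1000 * R ^ 2 ≤ |P| ∨ 1000 * R ^ 2 ≤ |P'| := by
    by_contra hno
    push Not at hno
    have h1 : |P + P'| = 4 * R * |Z| := by
      rw [show P + P' = -(4 * R * Z) by linarith [hBZ ▸ h0], abs_neg, abs_mul, abs_of_pos (by linarith : (0 : ℝ) < 4 * R)]
    nlinarith [abs_add_le P P']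
  rcases hbig with hb | hb
  · linarith [(abs_le.1 (abs_sq_div_le (a := (4 : ℝ)) (x := P) hR0 (by norm_num) (by norm_num) hb)).2]
  · linarith [(abs_le.1 (abs_sq_div_le (a := (4 : ℝ)) (x := P') hR0 (by norm_num) (by norm_num) hb)).2]

/-- The exceptional identities: `D` is the residual degree. -/
theorem residual {M Q K k D : ℝ} (hD : D ≠ 0) (h : 36 * M ^ 2 * k ^ 2 / D = 4 * M ^ 2 * k ^ 2 / D - 2 * Q * K * k) :
    D * (Q * K) * k = -(16 * M ^ 2 * k ^ 2) := by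
  field_simp at h
  linear_combination (1 / 2 : ℝ) * h

/-- The two equal degrees. -/
theorem eq_cc {C C' M k : ℝ} (hC : C ≠ 0) (hC' : C' ≠ 0) (hM : M ≠ 0) (hk : k ≠ 0) (hs : C + C' ≠ 0)
    (h : -(k * M ^ 2 * (1 / C + 1 / C')) + 4 * M ^ 2 * k ^ 2 / (k * (C + C')) = 0) : C = C' := by
  field_simp at h
  have h2 : (C - C') ^ 2 * (k * M ^ 2) = 0 := by linear_combination -h
  rcases mul_eq_zero.1 h2 with h3 | h3
  · exact sub_eq_zero.1 (pow_eq_zero_iff two_ne_zero |>.1 h3)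
  · exact absurd h3 (mul_ne_zero hk (pow_ne_zero 2 hM))

/-- The degree `Q` times the other one. -/
theorem eq_zb {Z B M Q k : ℝ} (hZ : Z ≠ 0) (hB : B ≠ 0) (hk : k ≠ 0) (hs : B - Z ≠ 0) (hQ : Q = 2 * M + 1)
    (h : k * (1 / Z - Q ^ 2 / B) + 4 * M ^ 2 * k ^ 2 / (k * (B - Z)) = 0) : B = Q * Z := by
  field_simp at h
  subst hQ
  have h2 : k * (B - (2 * M + 1) * Z) ^ 2 = 0 := by linear_combination h
  exact sub_eq_zero.1 (pow_eq_zero_iff two_ne_zero |>.1 ((mul_eq_zero.1 h2).resolve_left hk))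

end Cfsg.Agent.Invol.JankoWard.ExtArith
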