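import Cfsg.Agent.Lib.Invol.JankoWard.ExtInterface
import Cfsg.Agent.Lib.Invol.JankoWard.LocalBase
import Mathlib.Analysis.Complex.Basic

/-!
# The centraliser `⟨t⟩ × (P ⋊ Fld)`: elementary facts
-/

set_option autoImplicit false
set_option linter.unusedSectionVars false
set_option linter.style.haveILetI false

open scoped Classical

namespace Cfsg.Agent.Invol.JankoWard.ExtBase

open Subgroup

universe u v

variable {G : Type u} [Group G] {P : Type v} [Group P] (S : ExtBase G P)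

theorem tt : S.t * S.t = 1 := by rw [← pow_two, ← S.ht, pow_orderOf_eq_one]

theorem t_inv : S.t⁻¹ = S.t := inv_eq_of_mul_eq_one_right S.tt

theorem t_ne : S.t ≠ 1 := fun h => by
  have := S.ht; rw [h, orderOf_one] at this; norm_num at this

theorem F_ι {a : G} (ha : a ∈ S.Fld) (k : P) : ∃ k', a * S.ι k = S.ι k' * a :=
  (S.F_norm a ha k).imp fun k' h => by rw [← h]; group

/-- The second factor `P ⋊ Fld` of the centraliser. -/
def EG : Subgroup G where
  carrier := {x | ∃ k, ∃ a ∈ S.Fld, x = S.ι k * a}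
  one_mem' := ⟨1, 1, one_mem _, by rw [map_one, one_mul]⟩
  mul_mem' := by
    rintro x y ⟨k, a, ha, rfl⟩ ⟨l, b, hb, rfl⟩
    obtain ⟨l', e⟩ := S.F_ι ha l
    exact ⟨k * l', a * b, mul_mem ha hb, by rw [map_mul, mul_assoc, ← mul_assoc a, e]; group⟩
  inv_mem' := by
    rintro x ⟨k, a, ha, rfl⟩
    obtain ⟨k', e⟩ := S.F_ι (inv_mem ha) k⁻¹
    exact ⟨k', a⁻¹, inv_mem ha, by rw [mul_inv_rev, ← map_inv, e]⟩

theorem mem_EG {x : G} : x ∈ S.EG ↔ ∃ k, ∃ a ∈ S.Fld, x = S.ι k * a := Iff.rfl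

theorem ι_EG (k : P) : S.ι k ∈ S.EG := ⟨k, 1, one_mem _, (mul_one _).symm⟩

theorem F_EG {a : G} (ha : a ∈ S.Fld) : a ∈ S.EG := ⟨1, a, ha, by rw [map_one, one_mul]⟩

theorem decomp {k k' : P} {a a' : G} (ha : a ∈ S.Fld) (ha' : a' ∈ S.Fld)
    (h : S.ι k * a = S.ι k' * a') : k = k' ∧ a = a' := by
  have h1 : a * a'⁻¹ = S.ι (k⁻¹ * k') := by
    rw [map_mul, map_inv, eq_inv_mul_iff_mul_eq, ← mul_assoc, h, mul_inv_cancel_right]
  have h2 := S.F_disj _ (mul_mem ha (inv_mem ha')) _ h1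
  have h3 := mul_inv_eq_one.1 h2
  subst h3
  exact ⟨S.inj (mul_right_cancel h), rfl⟩

theorem EG_t (x : S.EG) : (x : G) * S.t = S.t * (x : G) := by
  obtain ⟨k, a, ha, e⟩ := x.2
  rw [e, mul_assoc, S.Ft a ha, ← mul_assoc, S.tc, mul_assoc]

theorem t_not_EG : S.t ∉ S.EG := by
  rintro ⟨k, a, ha, e⟩
  have h1 : a = S.t * S.ι k⁻¹ := by
    rw [← S.tc, map_inv, e, inv_mul_cancel_left]
  have h2 : a ^ Nat.card S.Fld = (S.t * S.ι k⁻¹) ^ Nat.card S.Fld := by rw [h1]
  rw [show a ^ Nat.card S.Fld = 1 from congrArg Subtype.val (pow_card_eq_one' (x := (⟨a, ha⟩ : S.Fld))),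
    (show Commute S.t (S.ι k⁻¹) from (S.tc _).symm).mul_pow, ← map_pow] at h2
  obtain ⟨j, hj⟩ := S.F_odd
  rw [show S.t ^ Nat.card S.Fld = S.t by rw [hj, pow_succ, pow_mul, pow_two, S.tt, one_pow, one_mul]] at h2
  refine S.t_not ((k⁻¹ ^ Nat.card S.Fld)⁻¹) ?_
  rw [map_inv, eq_comm, ← mul_eq_one_iff_eq_inv]
  exact h2.symm

theorem t_mul_notMem {x : G} (hx : x ∈ S.EG) : S.t * x ∉ S.EG := fun h =>
  S.t_not_EG (by simpa using mul_mem h (inv_mem hx))

/-- The centraliser of the involution. -/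
abbrev C : Subgroup G := Subgroup.centralizer ({S.t} : Set G)

theorem mem_C {c : G} : c ∈ S.C ↔ c * S.t = S.t * c := Subgroup.mem_centralizer_singleton_iff

theorem EG_C : S.EG ≤ S.C := fun x hx => S.mem_C.2 (S.EG_t ⟨x, hx⟩)

theorem t_mem : S.t ∈ S.C := S.mem_C.2 rfl

theorem C_cases {c : G} (hc : c * S.t = S.t * c) : c ∈ S.EG ∨ S.t * c ∈ S.EG := by
  obtain ⟨k, a, ha, e | e⟩ := S.cover c hc
  · exact Or.inl ⟨k, a, ha, e⟩
  · refine Or.inr ⟨k, a, ha, ?_⟩
    rw [e, ← mul_assoc, S.tt, one_mul]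

/-- The map `Bool × EG → C`. -/
def pairMap (p : Bool × S.EG) : S.C :=
  ⟨(bif p.1 then S.t else 1) * p.2, mul_mem (by cases p.1 <;> simp [S.t_mem, one_mem]) (S.EG_C p.2.2)⟩

theorem pairMap_coe (b : Bool) (x : S.EG) : (S.pairMap (b, x) : G) = (bif b then S.t else 1) * x := rfl

theorem pairMap_bijective : Function.Bijective S.pairMap := by
  refine ⟨?_, fun c => ?_⟩
  · rintro ⟨s, x⟩ ⟨s', x'⟩ h
    have h' := congrArg Subtype.val h
    cases s <;> cases s' <;> simp only [pairMap, cond_true, cond_false, one_mul] at h'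
    · rw [Subtype.ext h']
    · exact absurd (h' ▸ x.2) (S.t_mul_notMem x'.2)
    · exact absurd (h' ▸ x'.2 : S.t * (x : G) ∈ S.EG) (S.t_mul_notMem x.2)
    · rw [Subtype.ext (mul_left_cancel h')]
  · rcases S.C_cases (S.mem_C.1 c.2) with h | h
    · exact ⟨(false, ⟨_, h⟩), Subtype.ext (by simp [pairMap])⟩
    · exact ⟨(true, ⟨_, h⟩), Subtype.ext (by simp [pairMap, ← mul_assoc, S.tt])⟩

theorem pairMap_mul (b b' : Bool) (x x' : S.EG) :
    S.pairMap (b, x) * S.pairMap (b', x') = S.pairMap (xor b b', x * x') := by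
  refine Subtype.ext ?_
  have h := S.EG_t x
  cases b <;> cases b' <;> simp only [Subgroup.coe_mul, pairMap_coe, cond_true, cond_false, one_mul,
    Bool.xor_false, Bool.xor_true, Bool.not_true, Bool.not_false, Bool.false_xor, Bool.true_xor]
  · rw [← mul_assoc, h, mul_assoc]
  · rw [mul_assoc]
  · rw [mul_assoc, ← mul_assoc (x : G), h, mul_assoc, ← mul_assoc, S.tt, one_mul]

/-- The projection of the centraliser on `EG`. -/
noncomputable def κ : S.C →* S.EG :=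
  MonoidHom.mk' (fun c => ((Equiv.ofBijective _ S.pairMap_bijective).symm c).2) fun a b => by
    obtain ⟨⟨s, x⟩, rfl⟩ := S.pairMap_bijective.2 a
    obtain ⟨⟨s', x'⟩, rfl⟩ := S.pairMap_bijective.2 b
    simp [pairMap_mul, Equiv.ofBijective_symm_apply_apply]

theorem κ_pairMap (b : Bool) (x : S.EG) : S.κ (S.pairMap (b, x)) = x := by
  simp [κ, Equiv.ofBijective_symm_apply_apply]

/-- The sign character of the centraliser. -/
noncomputable def sgn : S.C →* ℂˣ :=
  MonoidHom.mk' (fun c => if ((Equiv.ofBijective _ S.pairMap_bijective).symm c).1 then -1 else 1) fun a b => by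
    obtain ⟨⟨s, x⟩, rfl⟩ := S.pairMap_bijective.2 a
    obtain ⟨⟨s', x'⟩, rfl⟩ := S.pairMap_bijective.2 b
    simp only [pairMap_mul, Equiv.ofBijective_symm_apply_apply]
    cases s <;> cases s' <;> simp

theorem sgn_pairMap (b : Bool) (x : S.EG) : (S.sgn (S.pairMap (b, x)) : ℂ) = if b then -1 else 1 := by
  cases b <;> simp [sgn, Equiv.ofBijective_symm_apply_apply]

/-- `P` as a subgroup of `EG`. -/
def ιE : P →* S.EG := S.ι.codRestrict S.EG S.ι_EG

theorem ιE_coe (k : P) : (S.ιE k : G) = S.ι k := rfl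

theorem ιE_inj : Function.Injective S.ιE := fun _ _ h => S.inj (congrArg Subtype.val h)

theorem EG_exists (x : S.EG) : ∃ k, ∃ a : S.Fld, (x : G) = S.ι k * a := by
  obtain ⟨k, a, ha, e⟩ := x.2
  exact ⟨k, ⟨a, ha⟩, e⟩

/-- The projection of `EG` on the field part. -/
noncomputable def fp : S.EG →* S.Fld :=
  MonoidHom.mk' (fun x => (S.EG_exists x).choose_spec.choose) fun x y => by
    set k := (S.EG_exists x).choose
    set a := (S.EG_exists x).choose_spec.choose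
    have hx : (x : G) = S.ι k * a := (S.EG_exists x).choose_spec.choose_spec
    set l := (S.EG_exists y).choose
    set b := (S.EG_exists y).choose_spec.choose
    have hy : (y : G) = S.ι l * b := (S.EG_exists y).choose_spec.choose_spec
    have hz := (S.EG_exists (x * y)).choose_spec.choose_spec
    obtain ⟨l', e⟩ := S.F_ι a.2 l
    refine Subtype.ext (S.decomp (k := (S.EG_exists (x * y)).choose) (k' := k * l')
      ((S.EG_exists (x * y)).choose_spec.choose).2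
      (mul_mem a.2 b.2) ?_).2
    rw [← hz, Subgroup.coe_mul, hx, hy, map_mul, mul_assoc, ← mul_assoc (a : G), e]
    group

theorem fp_spec (x : S.EG) : ∃ k, (x : G) = S.ι k * (S.fp x : G) :=
  ⟨_, (S.EG_exists x).choose_spec.choose_spec⟩

theorem fp_eq {x : S.EG} {k : P} {a : G} (ha : a ∈ S.Fld) (h : (x : G) = S.ι k * a) : (S.fp x : G) = a := by
  obtain ⟨l, hl⟩ := S.fp_spec x
  exact (S.decomp (S.fp x).2 ha (hl.symm.trans h)).2

theorem fp_ι (k : P) : S.fp (S.ιE k) = 1 := Subtype.ext (S.fp_eq (one_mem _) (mul_one _).symm)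

theorem fp_F {a : G} (ha : a ∈ S.Fld) : S.fp ⟨a, S.F_EG ha⟩ = ⟨a, ha⟩ :=
  Subtype.ext (S.fp_eq (k := 1) ha (by simp))

theorem fp_eq_one {x : S.EG} (h : S.fp x = 1) : ∃ k, x = S.ιE k := by
  obtain ⟨k, hk⟩ := S.fp_spec x
  exact ⟨k, Subtype.ext (by rw [hk, h, OneMemClass.coe_one, mul_one]; rfl)⟩

/-- A linear character of the field part, on `EG`. -/
noncomputable def lamE (lam : S.Fld →* ℂˣ) : S.EG →* ℂˣ := lam.comp S.fp

/-- The order of `EG` without its 2-part. -/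
noncomputable def EE : ℕ := S.D.E * Nat.card S.Fld

theorem EE_odd : Odd S.EE := S.D.E_odd.mul S.F_odd

theorem card_EG : Nat.card S.EG = Nat.card P * Nat.card S.Fld := by
  rw [← Nat.card_prod]
  refine (Nat.card_eq_of_bijective (fun p : P × S.Fld =>
    (⟨S.ι p.1 * p.2, p.1, p.2, p.2.2, rfl⟩ : S.EG)) ⟨?_, fun x => ?_⟩).symm
  · rintro ⟨k, a⟩ ⟨k', a'⟩ h
    obtain ⟨h1, h2⟩ := S.decomp a.2 a'.2 (congrArg Subtype.val h)
    exact Prod.ext h1 (Subtype.ext h2)
  · obtain ⟨k, a, e⟩ := S.EG_exists x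
    exact ⟨(k, a), Subtype.ext e.symm⟩

theorem card_EG' : Nat.card S.EG = 4 * S.EE := by
  rw [S.card_EG, S.D.card_eq, EE, mul_assoc]

theorem card_C : Nat.card S.C = 2 * Nat.card S.EG := by
  rw [← Nat.card_eq_of_bijective _ S.pairMap_bijective, Nat.card_prod, Nat.card_eq_fintype_card (α := Bool),
    Fintype.card_bool]

theorem pow_EE_iff [Finite G] (x : S.EG) : x ^ S.EE = 1 ↔ Odd (orderOf x) := by
  constructor
  · exact fun h => S.EE_odd.of_dvd_nat (orderOf_dvd_of_pow_eq_one h)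
  · intro h
    refine orderOf_dvd_iff_pow_eq_one.1 ?_
    have h4 : Nat.Coprime (orderOf x) 4 := by
      rw [show (4 : ℕ) = 2 ^ 2 by norm_num]
      exact ((Nat.prime_two.coprime_iff_not_dvd.2 (by
        rw [← even_iff_two_dvd]; exact Nat.not_even_iff_odd.2 h)).pow_left 2).symm
    exact h4.dvd_of_dvd_mul_left (S.card_EG' ▸ orderOf_dvd_natCard x)

theorem pow_EE_t {x : S.EG} (hx : x ^ S.EE = 1) : (S.t * (x : G)) ^ S.EE = S.t := by
  rw [(show Commute S.t (x : G) from (S.EG_t x).symm).mul_pow, ← Subgroup.coe_pow, hx, OneMemClass.coe_one, mul_one]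
  obtain ⟨j, hj⟩ := S.EE_odd
  rw [hj, pow_succ, pow_mul, pow_two, S.tt, one_pow, one_mul]

theorem two_mem_ι {x : S.EG} (h : x * x = 1) : ∃ k, k * k = 1 ∧ x = S.ιE k := by
  have h1 : S.fp x * S.fp x = 1 := by rw [← map_mul, h, map_one]
  have h2 : S.fp x = 1 := by
    refine Subtype.ext (eq_one_of_two_odd ⟨1, ?_⟩ S.F_odd ?_)
    · rw [pow_one, pow_two]; exact congrArg Subtype.val h1
    · exact congrArg Subtype.val (pow_card_eq_one' (x := S.fp x))
  obtain ⟨k, rfl⟩ := S.fp_eq_one h2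
  exact ⟨k, S.ιE_inj (by rw [map_mul, h, map_one]), rfl⟩

theorem F_Y {a : G} (ha : a ∈ S.Fld) {y : P} (hy : y ∈ S.D.Y) : ∃ y' ∈ S.D.Y, a * S.ι y * a⁻¹ = S.ι y' := by
  obtain ⟨k, hk⟩ := S.F_norm a ha y
  refine ⟨k, S.D.odd_mem_Y (S.inj ?_) S.D.r_odd (S.inj ?_), hk⟩
  · rw [map_mul, map_mul, ← hk]
    have hu : a * S.ι S.D.u * a⁻¹ = S.ι S.D.u := by rw [S.Fu a ha, mul_inv_cancel_right]
    conv_lhs => arg 2; rw [← hu]
    conv_rhs => arg 1; rw [← hu]
    rw [conj_mul, conj_mul, ← map_mul, ← map_mul, S.D.u_Y y hy]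
  · rw [map_pow, ← hk, conj_pow, ← map_pow, S.D.pow_r hy, map_one, mul_one, mul_inv_cancel]

theorem cent_u_EG {x : S.EG} (hx : x * S.ιE S.D.u = S.ιE S.D.u * x) :
    ∃ k, k * S.D.u = S.D.u * k ∧ ∃ a ∈ S.Fld, (x : G) = S.ι k * a := by
  obtain ⟨k, a, ha, e⟩ := x.2
  refine ⟨k, S.inj ?_, a, ha, e⟩
  have h := congrArg Subtype.val hx
  simp only [Subgroup.coe_mul, ιE_coe, e] at h
  rw [mul_assoc, S.Fu a ha, ← mul_assoc, ← mul_assoc] at h
  rw [map_mul, map_mul]
  exact mul_right_cancel h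

/-- An element of even order of `EG` is conjugate to `u` times a commuting element of odd order. -/
theorem exists_conj_u [Finite G] (A : Amb G) {x : S.EG} (hx : 2 ∣ orderOf x) :
    ∃ c k : S.EG, k * S.ιE S.D.u = S.ιE S.D.u * k ∧ Odd (orderOf k) ∧
      c * x * c⁻¹ = S.ιE S.D.u * k := by
  obtain ⟨n, o, ho, hn⟩ := Nat.exists_eq_two_pow_mul_odd (orderOf_pos x).ne'
  set i := x ^ o with hi
  have hi2 : i * i = 1 := Subtype.ext (A.sq2 (i : G) ⟨n, by
    rw [← Subgroup.coe_pow, hi, ← pow_mul, mul_comm, ← hn, pow_orderOf_eq_one, OneMemClass.coe_one]⟩)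
  have hi1 : i ≠ 1 := fun h => by
    have h2 := hx.trans (orderOf_dvd_of_pow_eq_one h)
    exact Nat.not_even_iff_odd.2 ho (even_iff_two_dvd.2 h2)
  obtain ⟨b, hb, hib⟩ := S.two_mem_ι hi2
  obtain ⟨d, hd⟩ := isConj_iff.1 (S.D.one_class b hb fun h => hi1 (by rw [hib, h, map_one]))
  set c := (S.ιE d)⁻¹ with hc
  have hci : c * i * c⁻¹ = S.ιE S.D.u := by
    rw [hib, hc, ← hd, map_mul, map_mul, map_inv]; group
  refine ⟨c, c * (i * x) * c⁻¹, ?_, ?_, ?_⟩
  · have h1 : i * x = x * i := by rw [hi, ← pow_succ, ← pow_succ']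
    rw [← hci, conj_mul, conj_mul]
    congr 2
    calc i * x * i = i * (x * i) := mul_assoc _ _ _
      _ = i * (i * x) := by rw [h1]
  · refine ho.of_dvd_nat (orderOf_dvd_of_pow_eq_one ?_)
    rw [conj_pow, (show Commute i x from ((Commute.refl x).pow_left o)).mul_pow, ← hi]
    have h3 : i ^ o = i := by
      obtain ⟨j, hj⟩ := ho
      rw [hj, pow_succ, pow_mul, pow_two, hi2, one_pow, one_mul]
    rw [h3, hi2, mul_one, mul_inv_cancel]
  · rw [← hci, conj_mul, ← mul_assoc i i, hi2, one_mul]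

end Cfsg.Agent.Invol.JankoWard.ExtBase
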