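import Cfsg.Agent.Lib.Invol.JankoWard.ExtExcFun

/-!
# Representatives fixing the element of order `s`

`eta_cases`: there is one, or `k = 3` and there are three; then `three_dvd_e`: a character fixed by the shift has a
coordinate in the second exceptional function divisible by three.
-/

open scoped ComplexConjugate

set_option autoImplicit false
set_option linter.unusedSectionVars false
set_option linter.style.haveILetI false

open scoped Classical

namespace Cfsg.Agent.Invol.JankoWard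

open Cfsg Cfsg.Agent.Char Cfsg.Agent.Block Subgroup

universe u v w

/-- A map of a set of three elements without fixed points permutes it transitively. -/
theorem three_cycle {α : Type w} {β : Type*} {s : Finset α} (h3 : s.card = 3) (f : α → α)
    (hf : ∀ a ∈ s, f a ∈ s) (hinj : ∀ a ∈ s, ∀ b ∈ s, f a = f b → a = b) (hne : ∀ a ∈ s, f a ≠ a)
    (F : α → β) (hF : ∀ a ∈ s, F (f a) = F a) : ∀ a ∈ s, ∀ b ∈ s, F a = F b := by
  intro a ha
  have hb := hf a ha
  have hc := hf _ hb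
  have h2 : f (f a) ≠ a := by
    intro e
    obtain ⟨c, hc, hca, hcb⟩ : ∃ c ∈ s, c ≠ a ∧ c ≠ f a := by
      by_contra hno
      push Not at hno
      have hsub : s ⊆ {a, f a} := fun c hc => by
        by_cases hca : c = a
        · simp [hca]
        · simp [hno c hc hca]
      have := Finset.card_le_card hsub
      have : ({a, f a} : Finset α).card ≤ 2 := Finset.card_le_two
      omega
    have hfc := hf c hc
    have hall : s = {a, f a, c} := by
      refine (Finset.eq_of_subset_of_card_le (by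
        intro x hx
        simp only [Finset.mem_insert, Finset.mem_singleton] at hx
        rcases hx with rfl | rfl | rfl
        exacts [ha, hb, hc]) ?_).symm
      rw [h3, Finset.card_insert_of_notMem (by simp [(hne a ha).symm, hca.symm]),
        Finset.card_insert_of_notMem (by simp [hcb.symm]), Finset.card_singleton]
    rw [hall] at hfc
    simp only [Finset.mem_insert, Finset.mem_singleton] at hfc
    rcases hfc with h | h | h
    · exact hcb (hinj c hc _ hb (h.trans e.symm))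
    · exact hca (hinj c hc a ha h)
    · exact hne c hc h
  have hall : s = {a, f a, f (f a)} := by
    refine (Finset.eq_of_subset_of_card_le (by
      intro x hx
      simp only [Finset.mem_insert, Finset.mem_singleton] at hx
      rcases hx with rfl | rfl | rfl
      exacts [ha, hb, hc]) ?_).symm
    rw [h3, Finset.card_insert_of_notMem (by simp [(hne a ha).symm, h2.symm]),
      Finset.card_insert_of_notMem (by simp [(hne _ hb).symm]), Finset.card_singleton]
  intro b hbs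
  rw [hall] at hbs
  simp only [Finset.mem_insert, Finset.mem_singleton] at hbs
  rcases hbs with rfl | rfl | rfl
  · rfl
  · exact (hF a ha).symm
  · rw [hF _ hb, hF a ha]

section

variable {G : Type u} [Group G] [Fintype G]

/-- A linear character of a subgroup fixed by an element of order three modulo it has three extensions; if they are
permuted without fixed points, its multiplicity in an invariant character is divisible by three. -/
theorem three_dvd_mult (H : Subgroup G) {n : G} (hn : ∀ h ∈ H, n * h * n⁻¹ ∈ H) (h3 : n ^ 3 ∈ H) (hnH : n ∉ H)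
    (a : H →* ℂˣ) (hinv : ∀ h : H, a ⟨n * h * n⁻¹, hn h h.2⟩ = a h) (σ : ℂ ≃+* ℂ)
    (hσa : ∀ h, σ (a h : ℂ) = a h) (hσc : ∀ c : ℂ, c ^ 3 = (a ⟨n ^ 3, h3⟩ : ℂ) → σ c ≠ c)
    (χ : IrrCharacter G) (hχ : ∀ x, σ ((χ : G → ℂ) x) = (χ : G → ℂ) x) :
    ∃ N : ℤ, classInner (fun h : H => (χ : G → ℂ) h) (fun h => (a h : ℂ)) = 3 * N := by
  have hpow : ∀ i : ℤ, ∃ hm : ∀ h ∈ H, n ^ i * h * (n ^ i)⁻¹ ∈ H, ∀ h : H, a ⟨n ^ i * h * (n ^ i)⁻¹, hm h h.2⟩ = a h := by
    intro i
    obtain ⟨m, hm⟩ : ∃ m : ℕ, n ^ i = n ^ m := by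
      have h : n ^ i ∈ Submonoid.powers n := mem_powers_iff_mem_zpowers.2 ⟨i, rfl⟩
      obtain ⟨m, hm⟩ := h
      exact ⟨m, hm.symm⟩
    have hmem : ∀ m : ℕ, ∀ h ∈ H, n ^ m * h * (n ^ m)⁻¹ ∈ H := by
      intro m
      induction m with
      | zero => intro h hh; simpa using hh
      | succ m ih =>
        intro h hh
        rw [show n ^ (m + 1) * h * (n ^ (m + 1))⁻¹ = n * (n ^ m * h * (n ^ m)⁻¹) * n⁻¹ by rw [pow_succ']; group]
        exact hn _ (ih h hh)
    refine ⟨fun h hh => hm ▸ hmem m h hh, fun h => ?_⟩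
    have key : ∀ m : ℕ, ∀ h : H, a ⟨n ^ m * h * (n ^ m)⁻¹, hmem m h h.2⟩ = a h := by
      intro m
      induction m with
      | zero => intro h; congr 1; exact Subtype.ext (by simp)
      | succ m ih =>
        intro h
        refine Eq.trans ?_ ((hinv ⟨_, hmem m h h.2⟩).trans (ih h))
        congr 1
        exact Subtype.ext (by simp only [pow_succ']; group)
    refine Eq.trans ?_ (key m h)
    congr 1
    exact Subtype.ext (by simp only [hm])
  have hdvd : ∀ i : ℤ, n ^ i ∈ H → 3 ∣ i := by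
    intro i hi
    obtain ⟨t, j, hj, hj3, rfl⟩ : ∃ t j : ℤ, 0 ≤ j ∧ j < 3 ∧ i = 3 * t + j :=
      ⟨i / 3, i % 3, Int.emod_nonneg _ (by norm_num), Int.emod_lt_of_pos _ (by norm_num), (Int.mul_ediv_add_emod i 3).symm⟩
    have hj' : n ^ j ∈ H := by
      have h' := mul_mem (inv_mem (zpow_mem h3 t)) hi
      rwa [zpow_add, zpow_mul, show ((n ^ 3) ^ t)⁻¹ * ((n ^ (3 : ℤ)) ^ t * n ^ j) = n ^ j by
        rw [show n ^ (3 : ℤ) = n ^ 3 from zpow_natCast n 3, inv_mul_cancel_left]] at h'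
    interval_cases j
    · simp
    · exact absurd (by simpa using hj') hnH
    · refine absurd ?_ hnH
      have h' := mul_mem h3 (inv_mem hj')
      rwa [show n ^ 3 * (n ^ (2 : ℤ))⁻¹ = n by group] at h'
  let K : Subgroup G :=
    { carrier := {x | ∃ i : ℤ, x * (n ^ i)⁻¹ ∈ H}
      one_mem' := ⟨0, by simp⟩
      mul_mem' := by
        rintro x y ⟨i, hi⟩ ⟨j, hj⟩
        refine ⟨i + j, ?_⟩
        rw [show x * y * (n ^ (i + j))⁻¹ = (x * (n ^ i)⁻¹) * (n ^ i * (y * (n ^ j)⁻¹) * (n ^ i)⁻¹) by group]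
        exact mul_mem hi ((hpow i).choose _ hj)
      inv_mem' := by
        rintro x ⟨i, hi⟩
        refine ⟨-i, ?_⟩
        rw [show x⁻¹ * (n ^ (-i))⁻¹ = n ^ (-i) * (x * (n ^ i)⁻¹)⁻¹ * (n ^ (-i))⁻¹ by group]
        exact (hpow (-i)).choose _ (inv_mem hi) }
  have hHK : ∀ h : H, (h : G) ∈ K := fun h => ⟨0, by simp⟩
  choose idx hidx using fun x : K => x.2
  set A : ℂˣ := a ⟨n ^ 3, h3⟩ with hA
  have hwd : ∀ (c : ℂˣ), c ^ 3 = A → ∀ (x : K) (i : ℤ) (hi : (x : G) * (n ^ i)⁻¹ ∈ H),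
      a ⟨_, hidx x⟩ * c ^ idx x = a ⟨_, hi⟩ * c ^ i := by
    intro c hc x i hi
    obtain ⟨t, ht⟩ := hdvd (i - idx x) (by
      have h' := mul_mem (inv_mem hi) (hidx x)
      rwa [show ((x : G) * (n ^ i)⁻¹)⁻¹ * ((x : G) * (n ^ idx x)⁻¹) = n ^ (i - idx x) by group] at h')
    have e : (⟨_, hidx x⟩ : H) = ⟨_, hi⟩ * ⟨n ^ 3, h3⟩ ^ t := Subtype.ext (by
      rw [Subgroup.coe_mul, SubgroupClass.coe_zpow]
      show (x : G) * (n ^ idx x)⁻¹ = (x : G) * (n ^ i)⁻¹ * (n ^ 3) ^ t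
      rw [← zpow_natCast n 3, ← zpow_mul, show ((3 : ℕ) : ℤ) * t = i - idx x by push_cast; linarith]
      group)
    rw [e, map_mul, map_zpow, ← hA, mul_assoc, ← hc, ← zpow_natCast c 3, ← zpow_mul, ← zpow_add]
    congr 2
    push_cast; linarith
  let ψ : ∀ c : ℂˣ, c ^ 3 = A → (K →* ℂˣ) := fun c hc => MonoidHom.mk' (fun x => a ⟨_, hidx x⟩ * c ^ idx x) fun x y => by
    have hm : ((x * y : K) : G) * (n ^ (idx x + idx y))⁻¹ ∈ H := by
      rw [Subgroup.coe_mul, show (x : G) * y * (n ^ (idx x + idx y))⁻¹ = ((x : G) * (n ^ idx x)⁻¹) *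
        (n ^ idx x * ((y : G) * (n ^ idx y)⁻¹) * (n ^ idx x)⁻¹) by group]
      exact mul_mem (hidx x) ((hpow _).choose _ (hidx y))
    rw [hwd c hc (x * y) _ hm, show (⟨_, hm⟩ : H) = (⟨_, hidx x⟩ : H) *
        ⟨n ^ idx x * ((y : G) * (n ^ idx y)⁻¹) * (n ^ idx x)⁻¹, (hpow _).choose _ (hidx y)⟩ from
      Subtype.ext (by simp only [Subgroup.coe_mul]; group), map_mul,
      (hpow (idx x)).choose_spec ⟨_, hidx y⟩, zpow_add]
    ac_rfl
  obtain ⟨c0, hc0⟩ := IsAlgClosed.exists_pow_nat_eq (A : ℂ) (n := 3) (by norm_num)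
  set s : Finset ℂ := (Polynomial.nthRoots 3 (A : ℂ)).toFinset with hs
  have hmem : ∀ c, c ∈ s ↔ c ^ 3 = (A : ℂ) := fun c => by
    rw [hs, Multiset.mem_toFinset, Polynomial.mem_nthRoots (by norm_num)]
  have hζ := Complex.isPrimitiveRoot_exp 3 (by norm_num)
  set ω := Complex.exp (2 * Real.pi * Complex.I / (3 : ℕ))
  have hc0ne : c0 ≠ 0 := fun e => by rw [e] at hc0; norm_num at hc0; exact A.ne_zero hc0.symm
  have hcard : s.card = 3 := by
    rw [hs, Multiset.toFinset_card_of_nodup]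
    · rw [hζ.card_nthRoots, if_pos ⟨c0, hc0⟩]
    · exact hζ.nthRoots_nodup A.ne_zero
  have hne0 : ∀ c ∈ s, c ≠ 0 := fun c hc e => by
    rw [hmem, e] at hc; norm_num at hc; exact A.ne_zero hc.symm
  let mult : ℂ → ℂ := fun c => if hc : c ^ 3 = (A : ℂ) ∧ c ≠ 0 then
    classInner (fun x : K => (χ : G → ℂ) x) (fun x => (ψ (Units.mk0 c hc.2) (Units.ext hc.1) x : ℂ)) else 0
  have hint : ∀ c, ∃ N : ℤ, mult c = N := by
    intro c
    simp only [mult]
    split_ifs with hc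
    · exact IsGenChar.classInner_int (IsGenChar.of_isCharacter (IsChar.comp K.subtype (IsIrr.isCharacter χ.2)))
        (IsGenChar.of_isCharacter (IsIrr.isCharacter (isIrr_linear _)))
    · exact ⟨0, by simp⟩
  have hσA : σ (A : ℂ) = A := hσa _
  have hσs : ∀ c ∈ s, σ c ∈ s := fun c hc => by
    rw [hmem] at hc ⊢; rw [← map_pow, hc, hσA]
  have hσm : ∀ c ∈ s, mult (σ c) = mult c := by
    intro c hc
    have h1 : c ^ 3 = (A : ℂ) ∧ c ≠ 0 := ⟨(hmem c).1 hc, hne0 c hc⟩
    have h2 : σ c ^ 3 = (A : ℂ) ∧ σ c ≠ 0 := ⟨(hmem _).1 (hσs c hc), hne0 _ (hσs c hc)⟩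
    have hσψ : ∀ x : K, σ (ψ (Units.mk0 c h1.2) (Units.ext h1.1) x : ℂ) =
        (ψ (Units.mk0 (σ c) h2.2) (Units.ext h2.1) x : ℂ) := by
      intro x
      simp only [ψ, MonoidHom.mk'_apply, Units.val_mul, Units.val_zpow_eq_zpow_val, map_mul, map_zpow₀, hσa,
        Units.val_mk0]
    obtain ⟨N, hN⟩ := hint c
    simp only [mult, dif_pos h1] at hN
    have h := congrArg σ hN
    simp only [classInner, map_mul, map_inv₀, map_natCast, map_sum, map_intCast, ← IsIrr.apply_inv (isIrr_linear _),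
      hσψ, hχ] at h
    simp only [mult, dif_pos h1, dif_pos h2]
    rw [hN, ← h]
    simp only [classInner, ← IsIrr.apply_inv (isIrr_linear _)]
  have hconst := three_cycle hcard σ hσs (fun a _ b _ e => σ.injective e) (fun c hc => hσc c ((hmem c).1 hc)) mult hσm
  have hcardK : Nat.card K = 3 * Nat.card H := by
    rw [show 3 = Nat.card (Fin 3) by simp, ← Nat.card_prod]
    refine (Nat.card_eq_of_bijective (fun p : Fin 3 × H =>
      (⟨(p.2 : G) * n ^ ((p.1 : ℕ) : ℤ), ((p.1 : ℕ) : ℤ), by simp⟩ : K)) ⟨?_, fun x => ?_⟩).symm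
    · rintro ⟨i, h⟩ ⟨i', h'⟩ e
      have e' : (h : G) * n ^ ((i : ℕ) : ℤ) = (h' : G) * n ^ ((i' : ℕ) : ℤ) := congrArg Subtype.val e
      obtain ⟨t, ht⟩ := hdvd ((i : ℕ) - (i' : ℕ) : ℤ) (by
        rw [show n ^ (((i : ℕ) : ℤ) - (i' : ℕ)) = (h : G)⁻¹ * (h' : G) by
          rw [zpow_sub, eq_inv_mul_iff_mul_eq, ← mul_assoc, e', mul_inv_cancel_right]]
        exact mul_mem (inv_mem h.2) h'.2)
      obtain rfl : i = i' := Fin.ext (by omega)
      exact Prod.ext rfl (Subtype.ext (mul_right_cancel e'))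
    · obtain ⟨t, j, hj, hj3, e⟩ : ∃ t j : ℤ, 0 ≤ j ∧ j < 3 ∧ idx x = 3 * t + j :=
        ⟨idx x / 3, idx x % 3, Int.emod_nonneg _ (by norm_num), Int.emod_lt_of_pos _ (by norm_num), (Int.mul_ediv_add_emod _ 3).symm⟩
      refine ⟨(⟨j.toNat, by omega⟩, ⟨(x : G) * (n ^ j)⁻¹, ?_⟩), Subtype.ext ?_⟩
      · rw [show (x : G) * (n ^ j)⁻¹ = (x : G) * (n ^ idx x)⁻¹ * (n ^ 3) ^ t by
          rw [e, ← zpow_natCast n 3, ← zpow_mul]; push_cast; group]
        exact mul_mem (hidx x) (zpow_mem h3 t)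
      · simp [Int.toNat_of_nonneg hj]
  have hω3 : ω ^ 3 = 1 := hζ.pow_eq_one
  have hω : 1 + ω + ω ^ 2 = 0 := by
    have := hζ.geom_sum_eq_zero (by norm_num)
    simpa [Finset.sum_range_succ] using this
  have hsω : s = {c0, c0 * ω, c0 * ω ^ 2} := by
    refine (Finset.eq_of_subset_of_card_le (fun c hc => ?_) ?_).symm
    · simp only [Finset.mem_insert, Finset.mem_singleton] at hc
      rw [hmem]
      rcases hc with rfl | rfl | rfl
      · exact hc0
      · rw [mul_pow, hc0, hω3, mul_one]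
      · rw [mul_pow, hc0, ← pow_mul, pow_mul', hω3, one_pow, mul_one]
    · rw [hcard, Finset.card_insert_of_notMem, Finset.card_insert_of_notMem, Finset.card_singleton]
      · simp only [Finset.mem_singleton]
        intro e
        exact hζ.ne_one (by norm_num) (by
          have := mul_left_cancel₀ hc0ne e
          field_simp [hζ.ne_zero (by norm_num)] at this
          linear_combination this.symm)
      · simp only [Finset.mem_insert, Finset.mem_singleton, left_eq_mul₀ hc0ne]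
        rintro (e | e)
        · exact hζ.ne_one (by norm_num) e
        · exact hζ.pow_ne_one_of_pos_of_lt (by norm_num) (by norm_num) e
  have hval : ∀ c (hc : c ^ 3 = (A : ℂ) ∧ c ≠ 0) (x : K),
      (ψ (Units.mk0 c hc.2) (Units.ext hc.1) x : ℂ) = (a ⟨_, hidx x⟩ : ℂ) * c ^ idx x := fun c hc x => by
    simp [ψ]
  have hsum : ∑ c ∈ s, mult c = classInner (fun h : H => (χ : G → ℂ) h) (fun h => (a h : ℂ)) := by
    simp only [classInner]
    rw [Finset.sum_congr rfl (g := fun c => (Nat.card K : ℂ)⁻¹ * ∑ x : K,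
      (χ : G → ℂ) x * conj ((a ⟨_, hidx x⟩ : ℂ) * c ^ idx x)) fun c hc => by
        simp only [mult, dif_pos (show c ^ 3 = (A : ℂ) ∧ c ≠ 0 from ⟨(hmem c).1 hc, hne0 c hc⟩), classInner]
        exact congrArg _ (Finset.sum_congr rfl fun x _ => by rw [hval c ⟨(hmem c).1 hc, hne0 c hc⟩]),
      ← Finset.mul_sum, Finset.sum_comm, hcardK]
    rw [← Finset.sum_filter_add_sum_filter_not Finset.univ (fun x : K => (x : G) ∈ H),
      Finset.sum_eq_zero (s := Finset.univ.filter fun x : K => (x : G) ∉ H) fun x hx => by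
        have hx' := (Finset.mem_filter.1 hx).2
        rw [← Finset.mul_sum, ← map_sum, ← Finset.mul_sum]
        have hi : ¬ (3 : ℤ) ∣ idx x := fun ⟨t, ht⟩ => hx' (by
          have h' := mul_mem (hidx x) (zpow_mem h3 t)
          rwa [← zpow_natCast n 3, ← zpow_mul, show ((3 : ℕ) : ℤ) * t = idx x by rw [ht]; rfl,
            inv_mul_cancel_right] at h')
        have hz : ω ^ idx x ≠ 1 := fun e => hi (by exact_mod_cast (hζ.zpow_eq_one_iff_dvd _).1 e)
        have h0 : ∑ c ∈ s, c ^ idx x = 0 := by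
          rw [hsω, Finset.sum_insert, Finset.sum_insert, Finset.sum_singleton]
          · have h13 : (ω ^ idx x) ^ 3 = 1 := by
              rw [← zpow_natCast, ← zpow_mul, mul_comm, zpow_mul, zpow_natCast, hω3, one_zpow]
            have h14 : 1 + ω ^ idx x + (ω ^ idx x) ^ 2 = 0 := by
              refine (mul_eq_zero.1 (show (ω ^ idx x - 1) * (1 + ω ^ idx x + (ω ^ idx x) ^ 2) = 0 by
                linear_combination h13)).resolve_left (sub_ne_zero.2 hz)
            rw [mul_zpow, mul_zpow, show (ω ^ 2) ^ idx x = (ω ^ idx x) ^ 2 by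
              rw [← zpow_natCast, ← zpow_mul, ← zpow_natCast, ← zpow_mul, mul_comm]]
            linear_combination (c0 ^ idx x) * h14
          all_goals
            simp only [Finset.mem_insert, Finset.mem_singleton, left_eq_mul₀ hc0ne]
            first
              | (rintro (e | e)
                 · exact hζ.ne_one (by norm_num) e
                 · exact hζ.pow_ne_one_of_pos_of_lt (by norm_num) (by norm_num) e)
              | (intro e
                 exact hζ.ne_one (by norm_num) (by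
                   have := mul_left_cancel₀ hc0ne e
                   field_simp [hζ.ne_zero (by norm_num)] at this
                   linear_combination this.symm))
        rw [h0, mul_zero, map_zero, mul_zero], add_zero]
    have hH : ∀ (c : ℂ) (_ : c ∈ s) (x : K) (hx : (x : G) ∈ H),
        (a ⟨_, hidx x⟩ : ℂ) * c ^ idx x = (a ⟨_, hx⟩ : ℂ) := by
      intro c hc x hx
      have h := congrArg (fun z : ℂˣ => (z : ℂ))
        (hwd (Units.mk0 c (hne0 c hc)) (Units.ext ((hmem c).1 hc)) x 0 (by simpa using hx))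
      simpa using h
    rw [Finset.sum_congr rfl (g := fun x : K => (3 : ℂ) * if hx : (x : G) ∈ H then
      (χ : G → ℂ) x * conj (a ⟨_, hx⟩ : ℂ) else 0) fun x hx => by
        have hx' := (Finset.mem_filter.1 hx).2
        rw [dif_pos hx', Finset.sum_congr rfl fun c hc => by rw [hH c hc x hx'], Finset.sum_const, hcard,
          nsmul_eq_mul]
        push_cast; rfl, ← Finset.mul_sum]
    rw [show (∑ x ∈ Finset.univ.filter (fun x : K => (x : G) ∈ H),
        if hx : (x : G) ∈ H then (χ : G → ℂ) x * conj (a ⟨_, hx⟩ : ℂ) else 0) =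
      ∑ h : H, (χ : G → ℂ) h * conj (a h : ℂ) from ?_]
    · have : (Nat.card H : ℂ) ≠ 0 := Nat.cast_ne_zero.2 Nat.card_pos.ne'
      push_cast; field_simp
    · symm
      refine Finset.sum_bij (fun h _ => (⟨(h : G), hHK h⟩ : K)) (fun h _ => by simp) (fun h _ h' _ e => ?_)
        (fun x hx => ⟨⟨_, (Finset.mem_filter.1 hx).2⟩, Finset.mem_univ _, rfl⟩) fun h _ => by rw [dif_pos h.2]
      exact Subtype.ext (congrArg (fun x : K => (x : G)) e)
  obtain ⟨N, hN⟩ := hint c0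
  refine ⟨N, ?_⟩
  rw [← hsum, Finset.sum_congr rfl fun c hc => hconst c hc c0 ((hmem c0).2 hc0), Finset.sum_const, hcard, nsmul_eq_mul, hN]
  push_cast; rfl

end

namespace Exc

variable {G : Type u} [Group G] [Fintype G] {P : Type v} [Group P] [Fintype P] {S : ExtBase G P}
  {L : ExtLocals S} (E : Exc L)

/-- The elements fixing `z`. -/
noncomputable def Cz : Subgroup G := Subgroup.centralizer ({S.ι E.z} : Set G)

theorem mem_Cz {x : G} : x ∈ E.Cz ↔ x * S.ι E.z = S.ι E.z * x := Subgroup.mem_centralizer_singleton_iff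

theorem φ_mem {a : S.Fld} (ha : a ∈ E.F₁) : (a : G) ∈ E.Cz := E.mem_Cz.2 ((E.stab a).2 ha)

theorem commute_gφ (m i : ℕ) : Commute ((E.φ : G) ^ m) (L.g ^ i) :=
  (show Commute L.g (E.φ : G) from L.gF _ E.φ.2).symm.pow_pow m i

variable (hf : L.Free)
include hf

theorem fix_shape {p : E.Reps} (h : E.rho p * S.ι E.z = S.ι E.z * E.rho p) :
    p.2.1 = false ∧ (p.1 ≠ 0 → E.k = 3 ∧ (p.2.2 : ℕ) ≠ 0) := by
  obtain ⟨i, b, m⟩ := p
  have hb : b = false := by
    by_contra hne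
    rw [Bool.not_eq_false] at hne
    subst hne
    set n := (E.φ : G) ^ (m : ℕ) * L.g ^ (i : ℕ) with hn
    obtain ⟨y1, hy1, e1⟩ := g_pow_Y (L := L) i E.hz
    obtain ⟨y2, hy2, e2⟩ := S.F_Y (pow_mem E.φ.2 (m : ℕ)) hy1
    have e3 : n * S.ι E.z * n⁻¹ = S.ι y2 := by rw [← e2, ← e1, hn]; group
    have h1 : S.ι S.D.w * S.ι y2 * (S.ι S.D.w)⁻¹ = S.ι E.z := by
      rw [← e3]
      simp only [rho, cond_true, ← hn] at h
      calc _ = (S.ι S.D.w * n) * S.ι E.z * (S.ι S.D.w * n)⁻¹ := by group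
        _ = _ := by rw [h, mul_inv_cancel_right]
    rw [← map_inv, ← map_mul, ← map_mul, S.D.w_Y y2 hy2] at h1
    have hz : y2 = E.z⁻¹ := by rw [← S.inj h1, inv_inv]
    refine S.not_inverts E.hz E.z_ne (n := n) (N := 3 * Nat.card S.Fld) ((by decide : Odd 3).mul S.F_odd) ?_
      (by rw [e3, hz])
    rw [hn, (E.commute_gφ m i).mul_pow, ← pow_mul, ← pow_mul,
      show (L.g ^ ((i : ℕ) * (3 * Nat.card S.Fld))) = 1 by
        rw [mul_comm (i : ℕ), mul_assoc, pow_mul, L.g3, one_pow], mul_one,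
      mul_comm, mul_comm 3, mul_assoc, pow_mul,
      show (E.φ : G) ^ Nat.card S.Fld = 1 from congrArg Subtype.val (pow_card_eq_one' (x := E.φ)), one_pow]
  refine ⟨hb, fun hi => ?_⟩
  subst hb
  simp only [rho, cond_false, one_mul] at h
  have hn : (E.φ : G) ^ (m : ℕ) * L.g ^ (i : ℕ) ∈ E.Cz := E.mem_Cz.2 h
  have key : ∀ j : ℕ, L.g ^ j ∈ E.Cz → 3 ∣ j := by
    intro j hj
    by_contra h3
    have hj2 : L.g ^ (j * j) = L.g := by
      have h1 : j * j % 3 = 1 := by
        rw [Nat.mul_mod]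
        have : j % 3 = 1 ∨ j % 3 = 2 := by omega
        rcases this with e | e <;> rw [e]
      conv_lhs => rw [← Nat.div_add_mod (j * j) 3, h1, pow_add, pow_mul, L.g3, one_pow, one_mul, pow_one]
    have hg : L.g ∈ E.Cz := by rw [← hj2, pow_mul]; exact pow_mem hj j
    refine E.z_ne (hf E.z E.hz ?_)
    rw [E.mem_Cz.1 hg, mul_inv_cancel_right]
  refine ⟨?_, fun hm => ?_⟩
  · by_contra h3
    have hk : ¬ 3 ∣ E.k := by
      rcases E.hk with e | ⟨e, -⟩
      · rw [e]; norm_num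
      · exact fun hd => h3 ((Nat.prime_dvd_prime_iff_eq Nat.prime_three e).1 hd).symm
    have h1 := pow_mem hn E.k
    rw [(E.commute_gφ m i).mul_pow, ← pow_mul, ← pow_mul, mul_comm (m : ℕ), pow_mul] at h1
    have h2 : ((E.φ : G) ^ E.k) ^ (m : ℕ) ∈ E.Cz := by
      refine pow_mem ?_ _
      simpa using E.φ_mem E.pow_k
    have h4 := key _ ((E.Cz.mul_mem_cancel_left h2).1 h1)
    rcases (Nat.Prime.dvd_mul Nat.prime_three).1 h4 with h5 | h5
    · exact hi (Fin.ext (by have := i.2; have : (i : ℕ) = 0 := by omega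
                            simpa using this))
    · exact hk h5
  · simp only at hm
    rw [hm, pow_zero, one_mul] at hn
    have := key _ hn
    exact hi (Fin.ext (by have := i.2; have : (i : ℕ) = 0 := by omega
                          simpa using this))

theorem eta_cases : E.eta = 1 ∨ (E.k = 3 ∧ E.eta = 3 ∧
    ∃ m : Fin E.k, (m : ℕ) ≠ 0 ∧ E.rho ((1 : Fin 3), false, m) * S.ι E.z = S.ι E.z * E.rho ((1 : Fin 3), false, m)) := by
  set Φ := Finset.univ.filter fun p : E.Reps => E.rho p * S.ι E.z = S.ι E.z * E.rho p with hΦ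
  have hmem : ∀ p, p ∈ Φ ↔ E.rho p * S.ι E.z = S.ι E.z * E.rho p := fun p => by simp [Φ]
  have h0 : ((0 : Fin 3), false, (⟨0, E.k_pos⟩ : Fin E.k)) ∈ Φ := (hmem _).2 ((E.fix_zero rfl).2 rfl)
  have hinj : Set.InjOn (fun p : E.Reps => p.1) Φ := fun p hp p' hp' e => by
    refine E.rep_eq e ?_
    rw [(hmem p).1 (Finset.mem_coe.1 hp), (hmem p').1 (Finset.mem_coe.1 hp'), mul_inv_cancel_right, mul_inv_cancel_right]
  have hη : E.eta = (Φ.image fun p => p.1).card := (Finset.card_image_of_injOn hinj).symm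
  by_cases hall : ∀ p ∈ Φ, p.1 = 0
  · left
    rw [hη, show (Φ.image fun p => p.1) = {0} by
      ext i; simp only [Finset.mem_image, Finset.mem_singleton]
      exact ⟨fun ⟨p, hp, e⟩ => e ▸ hall p hp, fun e => ⟨_, h0, e.symm⟩⟩, Finset.card_singleton]
  right
  push Not at hall
  obtain ⟨p, hp, hp1⟩ := hall
  obtain ⟨hk, hm⟩ := (E.fix_shape hf ((hmem p).1 hp)).2 hp1
  have hb := (E.fix_shape hf ((hmem p).1 hp)).1
  have hsq : ∃ p' ∈ Φ, p'.1 = p.1 + p.1 := by
    obtain ⟨i, b, m⟩ := p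
    simp only at hb; subst hb
    obtain ⟨m', hm', -⟩ := E.cover (E.φ ^ (2 * (m : ℕ)))
    refine ⟨(i + i, false, m'), (hmem _).2 (E.mem_Cz.1 ?_), rfl⟩
    have hn : (E.φ : G) ^ (m : ℕ) * L.g ^ (i : ℕ) ∈ E.Cz := E.mem_Cz.2 (by simpa [rho] using (hmem _).1 hp)
    have h2 := mul_mem (inv_mem (E.φ_mem hm')) (pow_mem hn 2)
    rw [(E.commute_gφ m i).mul_pow, ← pow_mul, ← pow_mul, ← mul_assoc] at h2
    simp only [rho, cond_false, one_mul]
    have hg2 : L.g ^ ((i + i : Fin 3) : ℕ) = L.g ^ ((i : ℕ) * 2) := by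
      rw [Fin.val_add, mul_two]
      conv_rhs => rw [← Nat.div_add_mod ((i : ℕ) + i) 3, pow_add, pow_mul, L.g3, one_pow, one_mul]
    rw [hg2]
    convert h2 using 2
    simp [mul_comm 2]; group
  obtain ⟨p', hp', hp'1⟩ := hsq
  have hfull : (Φ.image fun p => p.1) = Finset.univ := by
    refine Finset.eq_univ_of_forall fun j => ?_
    rw [Finset.mem_image]
    have h3 : ∀ i : Fin 3, i ≠ 0 → j = 0 ∨ j = i ∨ j = i + i := by revert j; decide
    rcases h3 p.1 hp1 with e | e | e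
    · exact ⟨_, h0, e.symm⟩
    · exact ⟨p, hp, e.symm⟩
    · exact ⟨p', hp', hp'1.trans e.symm⟩
  refine ⟨hk, by rw [hη, hfull]; rfl, ?_⟩
  obtain ⟨⟨i, b, m⟩, hq, e⟩ := Finset.mem_image.1 (hfull.symm ▸ Finset.mem_univ (1 : Fin 3))
  simp only at e; subst e
  obtain ⟨hb', hm'⟩ := E.fix_shape hf ((hmem _).1 hq)
  simp only at hb'; subst hb'
  exact ⟨m, (hm' (by simp)).2, (hmem _).1 hq⟩

omit hf in
theorem three_dvd_e (hk : E.k = 3) {m : Fin E.k} (hm : (m : ℕ) ≠ 0)
    (hfix : E.rho ((1 : Fin 3), false, m) * S.ι E.z = S.ι E.z * E.rho ((1 : Fin 3), false, m))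
    (σ : ℂ ≃+* ℂ) (hj : ∀ y, σ (E.j y : ℂ) = E.j y) (hl : ∀ a ∈ E.F₁, σ (E.l1 a : ℂ) = E.l1 a)
    (hω : ∀ ω : ℂ, ω ^ 3 = 1 → σ ω = ω) (hmove : ∀ a : S.Fld, a ∉ E.F₁ → σ (E.l1 a : ℂ) ≠ E.l1 a)
    (χ : IrrCharacter G) (hχ : PrinCol.galIrr σ χ = χ) : 3 ∣ E.e false χ := by
  set p : E.Reps := ((1 : Fin 3), false, m)
  set n := E.rho p with hn
  have hnH : n ∉ E.H := fun h => by
    have h1 := E.rho_v4 p 1
    rw [E.H_cent_V h, mul_inv_cancel_right] at h1
    exact absurd (S.v4_injective h1) (by simp [p, rot])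
  have hnorm : ∀ h ∈ E.H, n * h * n⁻¹ ∈ E.H := fun h hh => by
    obtain ⟨⟨q, y, a⟩, e⟩ := E.el_surjective ⟨h, hh⟩
    rw [show h = (E.el (q, y, a) : G) from (congrArg Subtype.val e).symm, hn, E.act_el]
    exact SetLike.coe_mem _
  have hn3 : n ^ 3 = ((E.φ : G) ^ E.k) ^ (m : ℕ) := by
    simp only [hn, rho, p, cond_false, one_mul]
    rw [(E.commute_gφ m _).mul_pow, ← pow_mul, ← pow_mul, ← pow_mul, Fin.val_one, one_mul, L.g3, mul_one,
      show (m : ℕ) * 3 = E.k * (m : ℕ) from (mul_comm _ _).trans (congrArg (· * (m : ℕ)) hk.symm)]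
  have h3 : n ^ 3 ∈ E.H := by
    rw [hn3]; exact pow_mem (by simpa using E.F_H E.pow_k) _
  have hχ' : ∀ x, σ ((χ : G → ℂ) x) = (χ : G → ℂ) x := fun x => congrFun (congrArg Subtype.val hχ) x
  have hc : (E.s : ℤ) ∣ E.cexp p - 1 := (E.rho_fix_iff p).1 hfix
  have hinvL : ∀ h : E.H, E.Lam ⟨n * h * n⁻¹, hnorm h h.2⟩ = E.Lam h ∧ E.J ⟨n * h * n⁻¹, hnorm h h.2⟩ = E.J h := by
    intro h
    obtain ⟨⟨q, y, a⟩, rfl⟩ := E.el_surjective h
    have e : (⟨n * (E.el (q, y, a) : G) * n⁻¹, hnorm _ (SetLike.coe_mem _)⟩ : E.H) =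
        E.el (rot p.1 q, y ^ E.cexp p, a) := Subtype.ext (E.act_el p q y a)
    rw [e, (E.values_el false _ _ _).2.1, (E.values_el false q y a).2.1, (E.values_el false _ _ _).2.2,
      (E.values_el false q y a).2.2, E.j_zpow hc]
    exact ⟨rfl, rfl⟩
  have hσL : ∀ h : E.H, σ (E.Lam h : ℂ) = E.Lam h := fun h => by
    obtain ⟨⟨q, y, a⟩, rfl⟩ := E.el_surjective h
    rw [(E.values_el false q y a).2.1]; exact hl _ a.2
  have hσJ : ∀ h : E.H, σ (E.J h : ℂ) = E.J h := fun h => by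
    obtain ⟨⟨q, y, a⟩, rfl⟩ := E.el_surjective h
    rw [(E.values_el false q y a).2.2]; exact hj y
  have hA : (E.Lam ⟨n ^ 3, h3⟩ : ℂ) = (E.l1 (E.φ ^ (m : ℕ)) : ℂ) ^ 3 ∧ E.J ⟨n ^ 3, h3⟩ = 1 := by
    have hmem : (E.φ ^ E.k) ^ (m : ℕ) ∈ E.F₁ := pow_mem E.pow_k _
    have e : (⟨n ^ 3, h3⟩ : E.H) = E.el (0, 1, ⟨_, hmem⟩) := Subtype.ext (by
      show n ^ 3 = _
      rw [el_coe, hn3]; simp [ExtBase.v4])
    rw [e, (E.values_el false _ _ _).2.1, (E.values_el false _ _ _).2.2, map_one]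
    refine ⟨?_, rfl⟩
    show (E.l1 ((E.φ ^ E.k) ^ (m : ℕ)) : ℂ) = _
    rw [← Units.val_pow_eq_pow_val, ← map_pow, ← pow_mul, ← pow_mul,
      show (m : ℕ) * 3 = E.k * (m : ℕ) from (mul_comm _ _).trans (congrArg (· * (m : ℕ)) hk.symm)]
  have hσc : ∀ c : ℂ, c ^ 3 = (E.Lam ⟨n ^ 3, h3⟩ : ℂ) → σ c ≠ c := by
    intro c hc e
    rw [hA.1] at hc
    set v := (E.l1 (E.φ ^ (m : ℕ)) : ℂ) with hv
    have hv0 : v ≠ 0 := Units.ne_zero _
    have hω' : (c / v) ^ 3 = 1 := by rw [div_pow, hc, div_self (pow_ne_zero 3 hv0)]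
    have h1 := hω _ hω'
    rw [map_div₀, e] at h1
    refine hmove (E.φ ^ (m : ℕ)) (fun hmem => hm ?_) ?_
    · exact (congrArg Fin.val (E.m_eq (m := ⟨0, E.k_pos⟩) (m' := m) (by simpa using hmem))).symm
    · have hc0 : c ≠ 0 := fun e0 => by
        rw [e0, zero_pow (by norm_num)] at hc
        exact pow_ne_zero 3 hv0 hc.symm
      have hσv : σ v ≠ 0 := by simpa using hv0
      rw [div_eq_div_iff hσv hv0] at h1
      exact (mul_left_cancel₀ hc0 h1).symm
  obtain ⟨N1, hN1⟩ := three_dvd_mult E.H hnorm h3 hnH (E.Lam * E.J) (fun h => by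
      rw [MonoidHom.mul_apply, MonoidHom.mul_apply, (hinvL h).1, (hinvL h).2]) σ
    (fun h => by rw [MonoidHom.mul_apply, Units.val_mul, map_mul, hσL, hσJ])
    (fun c hc => hσc c (by rw [hc, MonoidHom.mul_apply, hA.2, mul_one])) χ hχ'
  obtain ⟨N2, hN2⟩ := three_dvd_mult E.H hnorm h3 hnH E.Lam (fun h => (hinvL h).1) σ hσL hσc χ hχ'
  refine ⟨N1 - N2, ?_⟩
  have he : (E.e false χ : ℂ) = conj (3 * N1 - 3 * N2 : ℂ) := by
    rw [← E.e_spec false χ, Ex, classInner_indFun _ _ (IsIrr.classFun χ.2), map_sub, ← hN1, ← hN2,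
      classInner_conj_symm, classInner_conj_symm, classInner, classInner, classInner, ← mul_sub,
      ← Finset.sum_sub_distrib]
    refine congrArg _ (Finset.sum_congr rfl fun h _ => ?_)
    simp only [F, mu, Bool.false_eq_true, if_false, MonoidHom.one_apply, MonoidHom.mul_apply, Units.val_mul,
      Units.val_one, one_mul]
    ring
  rw [map_sub, map_mul, map_mul, map_intCast, map_intCast, Complex.conj_ofNat] at he
  have : ((E.e false χ : ℤ) : ℂ) = ((3 * (N1 - N2) : ℤ) : ℂ) := by rw [he]; push_cast; ring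
  exact_mod_cast this

end Exc

end Cfsg.Agent.Invol.JankoWard
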