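import Mathlib.Algebra.BigOperators.Fin
import Mathlib.Data.Fintype.BigOperators
import Mathlib.Algebra.Order.BigOperators.Group.Finset
import Mathlib.Algebra.Order.BigOperators.Ring.Finset
import Mathlib.Tactic.FinCases
import Mathlib.Tactic.IntervalCases
import Mathlib.Tactic.LinearCombination
import Mathlib.Tactic.Linarith

/-!
# The integer rows of the principal block

The rows of the non-trivial characters have the Gram matrix `[[3,2,2],[2,4,2],[2,2,4]]` and are permuted by an
exchange of the last two coordinates; there are two possibilities, `T2` (seven rows) and `T3` (six rows).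
Then the coordinates of the exceptional function are determined up to two cases each.
-/

set_option autoImplicit false
set_option linter.unusedSectionVars false

open scoped Classical

namespace Cfsg.Agent.Invol.JankoWard.Lattice

universe u

/-- The seven rows of the first shape. -/
def row2 : Fin 7 → Fin 3 → ℤ :=
  ![![1, 0, 0], ![1, 1, 1], ![1, 1, 1], ![0, 1, 0], ![0, 1, 0], ![0, 0, 1], ![0, 0, 1]]

/-- The six rows of the second shape. -/
def row3 : Fin 6 → Fin 3 → ℤ :=
  ![![1, 1, 0], ![1, 0, 1], ![1, 1, 1], ![0, 1, 1], ![0, 1, 0], ![0, 0, 1]]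

/-- The rows with their symmetry. -/
structure Sys (ι : Type u) [Fintype ι] where
  /-- the rows -/
  w : Fin 3 → ι → ℤ
  /-- the symmetry -/
  σ : ι ≃ ι
  w_σ0 : ∀ i, w 0 (σ i) = w 0 i
  w_σ1 : ∀ i, w 1 (σ i) = w 2 i
  w_σ2 : ∀ i, w 2 (σ i) = w 1 i
  h00 : ∑ i, w 0 i * w 0 i = 3
  h01 : ∑ i, w 0 i * w 1 i = 2
  h11 : ∑ i, w 1 i * w 1 i = 4
  h12 : ∑ i, w 1 i * w 2 i = 2

variable {ι : Type u} [Fintype ι]

namespace Sys

variable (L : Sys ι)

/-- The rows are the given pattern up to signs. -/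
def Shape {n : ℕ} (row : Fin n → Fin 3 → ℤ) (x : Fin n → ι) (s : Fin n → ℤ) : Prop :=
  Function.Injective x ∧ (∀ k, s k * s k = 1) ∧ (∀ k j, L.w j (x k) = s k * row k j) ∧
    ∀ i, i ∉ Set.range x → ∀ j, L.w j i = 0

/-- The first shape. -/
def T2 : Prop := ∃ x s, L.Shape row2 x s ∧ L.σ (x 3) = x 5 ∧ L.σ (x 4) = x 6 ∧ s 5 = s 3 ∧ s 6 = s 4

/-- The second shape. -/
def T3 : Prop := ∃ x s, L.Shape row3 x s ∧ L.σ (x 0) = x 1 ∧ L.σ (x 4) = x 5 ∧ s 1 = s 0 ∧ s 5 = s 4

theorem le_one_sq {a : ℤ} (h : a * a ≤ 1) : a = 0 ∨ a * a = 1 := by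
  have h1 : -1 ≤ a := by nlinarith
  have h2 : a ≤ 1 := by nlinarith
  interval_cases a <;> simp

theorem unit0 (i : ι) : L.w 0 i = 0 ∨ L.w 0 i * L.w 0 i = 1 := by
  refine le_one_sq ?_
  have h := Finset.single_le_sum (f := fun i => L.w 0 i * L.w 0 i) (fun j _ => mul_self_nonneg _)
    (Finset.mem_univ i)
  rw [L.h00] at h
  have h1 : -1 ≤ L.w 0 i := by nlinarith
  have h2 : L.w 0 i ≤ 1 := by nlinarith
  nlinarith

theorem unit1 (i : ι) : L.w 1 i = 0 ∨ L.w 1 i * L.w 1 i = 1 := by
  refine le_one_sq ?_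
  by_contra hgt
  have hs := Finset.add_sum_erase Finset.univ (fun i => L.w 1 i * L.w 1 i) (Finset.mem_univ i)
  rw [L.h11] at hs
  have hrest := Finset.sum_nonneg (s := Finset.univ.erase i) (f := fun j => L.w 1 j * L.w 1 j)
    fun j _ => mul_self_nonneg _
  have h1 : -2 ≤ L.w 1 i := by nlinarith
  have h2 : L.w 1 i ≤ 2 := by nlinarith
  have h4 : L.w 1 i * L.w 1 i = 4 := by
    interval_cases hv : L.w 1 i <;> simp_all <;> omega
  have hzero : ∀ j, j ≠ i → L.w 1 j = 0 := by
    intro j hj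
    have h := (Finset.sum_eq_zero_iff_of_nonneg fun j _ => mul_self_nonneg (L.w 1 j)).1
      (show ∑ j ∈ Finset.univ.erase i, L.w 1 j * L.w 1 j = 0 by omega) j
      (Finset.mem_erase.2 ⟨hj, Finset.mem_univ j⟩)
    exact mul_self_eq_zero.1 h
  have e12 : L.w 1 i * L.w 2 i = 2 := by
    rw [← L.h12]
    exact (Finset.sum_eq_single (f := fun j => L.w 1 j * L.w 2 j) i (fun j _ hj => by simp [hzero j hj]) fun h =>
      absurd (Finset.mem_univ i) h).symm
  have hw2 : L.w 2 i ≠ 0 := fun h => by rw [h, mul_zero] at e12; norm_num at e12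
  have hfix : L.σ i = i := by
    by_contra hne
    exact hw2 ((L.w_σ1 i).symm.trans (hzero _ hne))
  have := L.w_σ1 i
  rw [hfix] at this
  rw [← this] at e12
  omega

theorem unit2 (i : ι) : L.w 2 i = 0 ∨ L.w 2 i * L.w 2 i = 1 := by
  have h := L.unit1 (L.σ i)
  rwa [L.w_σ1] at h

theorem sum_three {a b c : ι} {A : Finset ι} (hA : A = {a, b, c}) (hab : a ≠ b) (hac : a ≠ c) (hbc : b ≠ c)
    (F : ι → ℤ) : ∑ i ∈ A, F i = F a + (F b + F c) := by
  rw [hA, Finset.sum_insert (by simp [hab, hac]), Finset.sum_pair hbc]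

theorem shapes : L.T2 ∨ L.T3 := by
  set A := Finset.univ.filter fun i => L.w 0 i ≠ 0 with hA
  have hAc : A.card = 3 := by
    have h := L.h00
    rw [← Finset.sum_filter_of_ne (p := fun i => L.w 0 i ≠ 0) (fun i _ hi h0 => hi (by rw [h0, zero_mul]))] at h
    rw [Finset.sum_congr rfl fun i hi => (L.unit0 i).resolve_left (Finset.mem_filter.1 hi).2] at h
    simp only [Finset.sum_const, nsmul_eq_mul, mul_one] at h
    exact_mod_cast h
  obtain ⟨a, ha, ha1⟩ : ∃ a ∈ A, L.w 1 a = 0 := by
    by_contra hno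
    push Not at hno
    obtain ⟨a, b, c, hab, hac, hbc, hA3⟩ := Finset.card_eq_three.1 hAc
    have h := L.h01
    rw [← Finset.sum_filter_of_ne (p := fun i => L.w 0 i ≠ 0) (fun i _ hi h0 => hi (by rw [h0, zero_mul])),
      sum_three hA3 hab hac hbc] at h
    have u : ∀ i ∈ A, L.w 0 i * L.w 1 i = 1 ∨ L.w 0 i * L.w 1 i = -1 := fun i hi => by
      rcases Int.eq_one_or_neg_one_of_mul_eq_one ((L.unit0 i).resolve_left (Finset.mem_filter.1 hi).2)
        with e | e <;> rcases Int.eq_one_or_neg_one_of_mul_eq_one ((L.unit1 i).resolve_left (hno i hi))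
        with e' | e' <;> simp [e, e']
    have ua := u a (by simp [hA3]); have ub := u b (by simp [hA3]); have uc := u c (by simp [hA3])
    omega
  obtain ⟨b, b', hbb, hAe⟩ := Finset.card_eq_two.1 (show (A.erase a).card = 2 by
    rw [Finset.card_erase_of_mem ha, hAc])
  have hA3 : A = {a, b, b'} := by rw [← Finset.insert_erase ha, hAe]
  have hab : a ≠ b := fun e => (Finset.mem_erase.1 (show b ∈ A.erase a by simp [hAe])).1 e.symm
  have hab' : a ≠ b' := fun e => (Finset.mem_erase.1 (show b' ∈ A.erase a by simp [hAe])).1 e.symm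
  have hbA : b ∈ A := by simp [hA3]
  have hbA' : b' ∈ A := by simp [hA3]
  have hu : ∀ i ∈ A, L.w 0 i * L.w 0 i = 1 := fun i hi => (L.unit0 i).resolve_left (Finset.mem_filter.1 hi).2
  have h01' : L.w 1 b = L.w 0 b ∧ L.w 1 b' = L.w 0 b' := by
    have h := L.h01
    rw [← Finset.sum_filter_of_ne (p := fun i => L.w 0 i ≠ 0) (fun i _ hi h0 => hi (by rw [h0, zero_mul])),
      sum_three hA3 hab hab' hbb, ha1, mul_zero, zero_add] at h
    have u : ∀ i ∈ A, L.w 0 i * L.w 1 i ≤ 1 ∧ (L.w 0 i * L.w 1 i = 1 → L.w 1 i = L.w 0 i) := fun i hi => by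
      rcases L.unit1 i with e' | e'
      · simp [e']
      · rcases Int.eq_one_or_neg_one_of_mul_eq_one (hu i hi) with e | e <;>
          rcases Int.eq_one_or_neg_one_of_mul_eq_one e' with e'' | e'' <;> simp [e, e'']
    obtain ⟨u1, u1'⟩ := u b hbA
    obtain ⟨u2, u2'⟩ := u b' hbA'
    exact ⟨u1' (by omega), u2' (by omega)⟩
  have hσA : ∀ i, L.σ i ∈ A ↔ i ∈ A := fun i => by simp [A, L.w_σ0]
  have ha0 : L.w 2 (L.σ a) = 0 := by rw [L.w_σ2, ha1]
  -- the four units of the second coordinate, two of them outside `A`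
  set B := Finset.univ.filter fun i => L.w 1 i ≠ 0 ∧ i ∉ A with hB
  have hBc : B.card = 2 := by
    have h := L.h11
    rw [← Finset.sum_filter_add_sum_filter_not Finset.univ (fun i => i ∈ A)] at h
    have h1 : ∑ i ∈ Finset.univ.filter (fun i => i ∈ A), L.w 1 i * L.w 1 i = 2 := by
      rw [sum_three (A := Finset.univ.filter fun i => i ∈ A) (by rw [← hA3]; ext; simp) hab hab' hbb, ha1,
        h01'.1, h01'.2, hu b hbA, hu b' hbA']
      norm_num
    rw [h1, ← Finset.sum_filter_of_ne (p := fun i => L.w 1 i ≠ 0) (fun i _ hi h0 => hi (by rw [h0, zero_mul])),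
      Finset.filter_filter] at h
    rw [show (Finset.univ.filter fun i => i ∉ A ∧ L.w 1 i ≠ 0) = B by ext; simp [B, and_comm],
      Finset.sum_congr rfl fun i hi => (L.unit1 i).resolve_left (Finset.mem_filter.1 hi).2.1] at h
    simp only [Finset.sum_const, nsmul_eq_mul, mul_one] at h
    omega
  obtain ⟨c, c', hcc, hBe⟩ := Finset.card_eq_two.1 hBc
  have hcB : c ∈ B := by simp [hBe]
  have hcB' : c' ∈ B := by simp [hBe]
  obtain ⟨hc1, hcA⟩ := (Finset.mem_filter.1 hcB).2
  obtain ⟨hc1', hcA'⟩ := (Finset.mem_filter.1 hcB').2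
  have hc0 : L.w 0 c = 0 := by simpa [A] using hcA
  have hc0' : L.w 0 c' = 0 := by simpa [A] using hcA'
  have hB0 : ∀ i, i ∉ A → L.w 1 i ≠ 0 → i = c ∨ i = c' := fun i h1 h2 => by
    have : i ∈ B := Finset.mem_filter.2 ⟨Finset.mem_univ i, h2, h1⟩
    simpa [hBe] using this
  -- an overlap outside `A`
  have hover : ∀ i, i = c ∨ i = c' → L.w 2 i ≠ 0 → L.σ i = c ∨ L.σ i = c' := fun i hi h2 =>
    hB0 _ (fun h => (show i ∉ A by rcases hi with rfl | rfl <;> assumption) ((hσA i).1 h))
      (by rwa [L.w_σ1])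
  have h12' : L.w 0 b * L.w 2 b + L.w 0 b' * L.w 2 b' + (L.w 1 c * L.w 2 c + L.w 1 c' * L.w 2 c') = 2 := by
    have h := L.h12
    rw [← Finset.sum_filter_add_sum_filter_not Finset.univ (fun i => i ∈ A),
      sum_three (A := Finset.univ.filter fun i => i ∈ A) (by rw [← hA3]; ext; simp) hab hab' hbb, ha1,
      zero_mul, zero_add, h01'.1, h01'.2,
      ← Finset.sum_filter_of_ne (s := Finset.univ.filter fun i => i ∉ A) (p := fun i => L.w 1 i ≠ 0)
        (fun i _ hi h0 => hi (by rw [h0, zero_mul])), Finset.filter_filter,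
      show (Finset.univ.filter fun i => i ∉ A ∧ L.w 1 i ≠ 0) = {c, c'} by
        rw [← hBe]; ext; simp [B, and_comm], Finset.sum_pair hcc] at h
    exact h
  have hz : ∀ i, L.w 2 i = 0 ↔ L.w 1 (L.σ i) = 0 := fun i => by rw [L.w_σ1]
  by_cases hfix : L.σ a = a
  · left
    have ha2 : L.w 2 a = 0 := by rw [← hfix]; exact ha0
    have hb2 : ∀ i, i = b ∨ i = b' → L.w 2 i = L.w 0 i := fun i hi => by
      have h1 : L.σ i = b ∨ L.σ i = b' := by
        have hiA : L.σ i ∈ A := (hσA i).2 (by rcases hi with rfl | rfl <;> assumption)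
        rw [hA3] at hiA
        simp only [Finset.mem_insert, Finset.mem_singleton] at hiA
        rcases hiA with e | e
        · have e1 : i = a := L.σ.injective (e.trans hfix.symm)
          rcases hi with rfl | rfl
          · exact absurd e1.symm hab
          · exact absurd e1.symm hab' 
        · exact e
      rw [← L.w_σ1, ← L.w_σ0 i]
      rcases h1 with e | e <;> rw [e]
      · exact h01'.1
      · exact h01'.2
    rw [hb2 b (Or.inl rfl), hb2 b' (Or.inr rfl), hu b hbA, hu b' hbA'] at h12'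
    -- no overlap
    have hsum : L.w 1 c * L.w 2 c + L.w 1 c' * L.w 2 c' = 0 := by omega
    have hc2 : L.w 2 c = 0 := by
      by_contra h2
      have hne : L.w 1 c * L.w 2 c ≠ 0 := mul_ne_zero hc1 h2
      have h2' : L.w 2 c' ≠ 0 := fun z => by rw [z, mul_zero] at hsum; omega
      rcases hover c (Or.inl rfl) h2 with e | e
      · have e' : L.σ c' = c' := by
          rcases hover c' (Or.inr rfl) h2' with e' | e'
          · exact absurd (L.σ.injective (e'.trans e.symm)) hcc.symm
          · exact e'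
        have f : L.w 2 c = L.w 1 c := by rw [← L.w_σ1, e]
        have f' : L.w 2 c' = L.w 1 c' := by rw [← L.w_σ1, e']
        rw [f, f', (L.unit1 c).resolve_left hc1, (L.unit1 c').resolve_left hc1'] at hsum
        norm_num at hsum
      · have f : L.w 1 c' * L.w 2 c' = L.w 1 c * L.w 2 c := by rw [← e, L.w_σ1, L.w_σ2, mul_comm]
        omega
    have hc2' : L.w 2 c' = 0 := by
      rw [hc2, mul_zero, zero_add] at hsum
      exact (mul_eq_zero.1 hsum).resolve_left hc1'
    refine ⟨![a, b, b', c, c', L.σ c, L.σ c'], ![L.w 0 a, L.w 0 b, L.w 0 b', L.w 1 c, L.w 1 c', L.w 1 c, L.w 1 c'],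
      ⟨?_, ?_, ?_, ?_⟩, rfl, rfl, rfl, rfl⟩
    · have d : ∀ i j, L.w 1 i ≠ 0 → L.w 1 (L.σ j) = 0 → i ≠ L.σ j := fun i j h1 h2 e => h1 (e ▸ h2)
      have e1 : L.w 1 (L.σ c) = 0 := by rw [L.w_σ1, hc2]
      have e2 : L.w 1 (L.σ c') = 0 := by rw [L.w_σ1, hc2']
      have na : ∀ i, i ∉ A → a ≠ i ∧ b ≠ i ∧ b' ≠ i := fun i hi =>
        ⟨fun e => hi (e ▸ ha), fun e => hi (e ▸ hbA), fun e => hi (e ▸ hbA')⟩
      obtain ⟨n1, n2, n3⟩ := na c hcA
      obtain ⟨n4, n5, n6⟩ := na c' hcA'
      obtain ⟨n7, n8, n9⟩ := na (L.σ c) fun h => hcA ((hσA c).1 h)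
      obtain ⟨m1, m2, m3⟩ := na (L.σ c') fun h => hcA' ((hσA c').1 h)
      have m4 := d c c hc1 e1; have m5 := d c c' hc1 e2; have m6 := d c' c hc1' e1; have m7 := d c' c' hc1' e2
      have m8 : L.σ c ≠ L.σ c' := fun e => hcc (L.σ.injective e)
      intro i j h
      fin_cases i <;> fin_cases j
      all_goals first
        | rfl
        | simp at h
      all_goals exfalso
      all_goals first
        | exact hab h
        | exact hab h.symm
        | exact hab' h
        | exact hab' h.symm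
        | exact hbb h
        | exact hbb h.symm
        | exact n1 h
        | exact n1 h.symm
        | exact n2 h
        | exact n2 h.symm
        | exact n3 h
        | exact n3 h.symm
        | exact n4 h
        | exact n4 h.symm
        | exact n5 h
        | exact n5 h.symm
        | exact n6 h
        | exact n6 h.symm
        | exact n7 h
        | exact n7 h.symm
        | exact n8 h
        | exact n8 h.symm
        | exact n9 h
        | exact n9 h.symm
        | exact m1 h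
        | exact m1 h.symm
        | exact m2 h
        | exact m2 h.symm
        | exact m3 h
        | exact m3 h.symm
        | exact m4 h
        | exact m4 h.symm
        | exact m5 h
        | exact m5 h.symm
        | exact m6 h
        | exact m6 h.symm
        | exact m7 h
        | exact m7 h.symm
        | exact m8 h
        | exact m8 h.symm
        | exact hcc h
        | exact hcc h.symm
    · intro k
      fin_cases k
      all_goals simp
      all_goals first
        | exact hu _ ha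
        | exact hu _ hbA
        | exact hu _ hbA'
        | exact (L.unit1 _).resolve_left hc1
        | exact (L.unit1 _).resolve_left hc1'
    · intro k j
      fin_cases k <;> fin_cases j <;>
        simp [row2, ha1, ha2, h01'.1, h01'.2, hb2, hc0, hc0', hc2, hc2', L.w_σ0, L.w_σ1, L.w_σ2]
    · intro i hi
      have n : ∀ k, ![a, b, b', c, c', L.σ c, L.σ c'] k ≠ i := fun k e => hi ⟨k, e⟩
      have hiA : i ∉ A := by
        rw [hA3]; simp only [Finset.mem_insert, Finset.mem_singleton]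
        rintro (e | e | e)
        · exact n 0 e.symm
        · exact n 1 e.symm
        · exact n 2 e.symm
      intro j
      fin_cases j
      · simpa [A] using hiA
      · by_contra h
        rcases hB0 i hiA h with e | e
        · exact n 3 e.symm
        · exact n 4 e.symm
      · by_contra h
        rcases hB0 (L.σ.symm i) (fun h => hiA (by simpa using (hσA _).2 h)) (fun h' => h (by
          rw [← L.σ.apply_symm_apply i]; exact (L.w_σ2 _).trans h')) with e | e
        · exact n 5 (show L.σ c = i by rw [← e, Equiv.apply_symm_apply])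
        · exact n 6 (show L.σ c' = i by rw [← e, Equiv.apply_symm_apply])
  · right
    have key : ∀ p b₀, ((p = b ∧ b₀ = b') ∨ (p = b' ∧ b₀ = b)) → L.σ a = p → L.T3 := by
      intro p b₀ hpb hap
      have hpA : p ∈ A := by rcases hpb with ⟨rfl, -⟩ | ⟨rfl, -⟩ <;> assumption
      have hb₀A : b₀ ∈ A := by rcases hpb with ⟨-, rfl⟩ | ⟨-, rfl⟩ <;> assumption
      have hp1 : L.w 1 p = L.w 0 p := by rcases hpb with ⟨rfl, -⟩ | ⟨rfl, -⟩; exacts [h01'.1, h01'.2]
      have hq1 : L.w 1 b₀ = L.w 0 b₀ := by rcases hpb with ⟨-, rfl⟩ | ⟨-, rfl⟩; exacts [h01'.2, h01'.1]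
      have hp2 : L.w 2 p = 0 := by rw [← hap]; exact ha0
      have ha2 : L.w 2 a = L.w 0 a := by rw [← L.w_σ1, hap, hp1, ← hap, L.w_σ0]
      have hσp : L.σ p = a := by
        have hp0 : L.σ p ∈ A := (hσA p).2 hpA
        rw [hA3] at hp0
        simp only [Finset.mem_insert, Finset.mem_singleton] at hp0
        by_contra hne
        have n2 : L.σ p ≠ p := fun z => by
          have e1 := L.σ.injective (z.trans hap.symm)
          rcases hpb with ⟨rfl, rfl⟩ | ⟨rfl, rfl⟩
          · exact hab e1.symm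
          · exact hab' e1.symm
        have n3 : L.σ p = b₀ := by rcases hpb with ⟨rfl, rfl⟩ | ⟨rfl, rfl⟩ <;> tauto
        have h3 : L.w 2 p = L.w 1 b₀ := by rw [← n3, L.w_σ1]
        rw [hp2, hq1] at h3
        exact (Finset.mem_filter.1 hb₀A).2 h3.symm
      have hσb : L.σ b₀ = b₀ := by
        have hm := (hσA b₀).2 hb₀A
        rw [hA3] at hm
        simp only [Finset.mem_insert, Finset.mem_singleton] at hm
        have n1 : L.σ b₀ ≠ a := fun z => by
          have e1 := L.σ.injective (z.trans hσp.symm)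
          rcases hpb with ⟨rfl, rfl⟩ | ⟨rfl, rfl⟩
          · exact hbb e1.symm
          · exact hbb e1
        have n2 : L.σ b₀ ≠ p := fun z => by
          have e1 := L.σ.injective (z.trans hap.symm)
          rcases hpb with ⟨-, rfl⟩ | ⟨-, rfl⟩
          · exact hab' e1.symm
          · exact hab e1.symm
        rcases hpb with ⟨rfl, rfl⟩ | ⟨rfl, rfl⟩ <;> tauto
      have hb₀2 : L.w 2 b₀ = L.w 0 b₀ := by rw [← L.w_σ1, hσb, hq1]
      have hsum : L.w 1 c * L.w 2 c + L.w 1 c' * L.w 2 c' = 1 := by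
        rcases hpb with ⟨rfl, rfl⟩ | ⟨rfl, rfl⟩ <;>
          (rw [hp2, hb₀2, hu _ hb₀A, mul_zero] at h12'; linarith)
      have hfin : ∀ h c₀, ((h = c ∧ c₀ = c') ∨ (h = c' ∧ c₀ = c)) → L.w 2 c₀ = 0 → L.T3 := by
        intro h c₀ hhc hc2
        have hh1 : L.w 1 h ≠ 0 := by rcases hhc with ⟨rfl, -⟩ | ⟨rfl, -⟩ <;> assumption
        have hc₀1 : L.w 1 c₀ ≠ 0 := by rcases hhc with ⟨-, rfl⟩ | ⟨-, rfl⟩ <;> assumption
        have hhA : h ∉ A := by rcases hhc with ⟨rfl, -⟩ | ⟨rfl, -⟩ <;> assumption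
        have hc₀A : c₀ ∉ A := by rcases hhc with ⟨-, rfl⟩ | ⟨-, rfl⟩ <;> assumption
        have hh0 : L.w 0 h = 0 := by simpa [A] using hhA
        have hc₀0 : L.w 0 c₀ = 0 := by simpa [A] using hc₀A
        have hprod : L.w 1 h * L.w 2 h = 1 := by
          rcases hhc with ⟨rfl, rfl⟩ | ⟨rfl, rfl⟩ <;> (rw [hc2, mul_zero] at hsum; linarith)
        have hh2 : L.w 2 h = L.w 1 h := by
          rcases Int.eq_one_or_neg_one_of_mul_eq_one' hprod with ⟨e, e'⟩ | ⟨e, e'⟩ <;> rw [e, e']
        refine ⟨![p, a, b₀, h, c₀, L.σ c₀], ![L.w 0 p, L.w 0 a, L.w 0 b₀, L.w 1 h, L.w 1 c₀, L.w 1 c₀],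
          ⟨?_, ?_, ?_, ?_⟩, ?_, rfl, ?_, rfl⟩
        · have m1 : a ≠ p := fun z => hfix (z ▸ hap)
          have m2 : b₀ ≠ p ∧ b₀ ≠ a := by
            rcases hpb with ⟨rfl, rfl⟩ | ⟨rfl, rfl⟩
            exacts [⟨hbb.symm, hab'.symm⟩, ⟨hbb, hab.symm⟩]
          have na : ∀ i, i ∉ A → p ≠ i ∧ a ≠ i ∧ b₀ ≠ i := fun i hi =>
            ⟨fun e => hi (e ▸ hpA), fun e => hi (e ▸ ha), fun e => hi (e ▸ hb₀A)⟩
          obtain ⟨n1, n2, n3⟩ := na h hhA
          obtain ⟨n4, n5, n6⟩ := na c₀ hc₀A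
          obtain ⟨n7, n8, n9⟩ := na (L.σ c₀) fun z => hc₀A ((hσA c₀).1 z)
          have e0 : L.w 1 (L.σ c₀) = 0 := by rw [L.w_σ1, hc2]
          have m3 : h ≠ c₀ := by rcases hhc with ⟨rfl, rfl⟩ | ⟨rfl, rfl⟩; exacts [hcc, hcc.symm]
          have m4 : h ≠ L.σ c₀ := fun z => hh1 (z ▸ e0)
          have m5 : c₀ ≠ L.σ c₀ := fun z => hc₀1 (z.symm ▸ e0)
          intro i j z
          fin_cases i <;> fin_cases j
          all_goals first
            | rfl
            | simp at z
          all_goals exfalso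
          all_goals first
            | exact m1 z
            | exact m1 z.symm
            | exact m2.1 z
            | exact m2.1 z.symm
            | exact m2.2 z
            | exact m2.2 z.symm
            | exact n1 z
            | exact n1 z.symm
            | exact n2 z
            | exact n2 z.symm
            | exact n3 z
            | exact n3 z.symm
            | exact n4 z
            | exact n4 z.symm
            | exact n5 z
            | exact n5 z.symm
            | exact n6 z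
            | exact n6 z.symm
            | exact n7 z
            | exact n7 z.symm
            | exact n8 z
            | exact n8 z.symm
            | exact n9 z
            | exact n9 z.symm
            | exact m3 z
            | exact m3 z.symm
            | exact m4 z
            | exact m4 z.symm
            | exact m5 z
            | exact m5 z.symm
        · intro k
          fin_cases k
          all_goals simp
          all_goals first
            | exact hu _ hpA
            | exact hu _ ha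
            | exact hu _ hb₀A
            | exact (L.unit1 _).resolve_left hh1
            | exact (L.unit1 _).resolve_left hc₀1
        · intro k j
          fin_cases k <;> fin_cases j <;>
            simp [row3, hp1, hp2, ha1, ha2, hq1, hb₀2, hh0, hh2, hc₀0, hc2, L.w_σ0, L.w_σ1, L.w_σ2]
        · intro i hi
          have n : ∀ k, ![p, a, b₀, h, c₀, L.σ c₀] k ≠ i := fun k e => hi ⟨k, e⟩
          have hiA : i ∉ A := by
            rw [hA3]; simp only [Finset.mem_insert, Finset.mem_singleton]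
            rintro (e | e | e)
            · exact n 1 e.symm
            · rcases hpb with ⟨rfl, rfl⟩ | ⟨rfl, rfl⟩
              exacts [n 0 e.symm, n 2 e.symm]
            · rcases hpb with ⟨rfl, rfl⟩ | ⟨rfl, rfl⟩
              exacts [n 2 e.symm, n 0 e.symm]
          have hB1 : ∀ z, z ∉ A → L.w 1 z ≠ 0 → z = h ∨ z = c₀ := fun z z1 z2 => by
            rcases hhc with ⟨rfl, rfl⟩ | ⟨rfl, rfl⟩
            exacts [hB0 z z1 z2, (hB0 z z1 z2).symm]
          intro j
          fin_cases j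
          · simpa [A] using hiA
          · by_contra z
            rcases hB1 i hiA z with e | e
            · exact n 3 e.symm
            · exact n 4 e.symm
          · by_contra z
            have z1 : L.w 1 (L.σ.symm i) ≠ 0 := fun z' => z (by
              rw [← L.σ.apply_symm_apply i]; exact (L.w_σ2 _).trans z')
            rcases hB1 (L.σ.symm i) (fun z' => hiA (by simpa using (hσA _).2 z')) z1 with e | e
            · -- the overlap is fixed
              have hσh : L.σ h = h := by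
                rcases hB1 (L.σ h) (fun z' => hhA ((hσA h).1 z')) (by rw [L.w_σ1, hh2]; exact hh1) with e' | e'
                · exact e'
                · have : L.w 2 c₀ = L.w 1 h := by rw [← e', L.w_σ2]
                  rw [hc2] at this
                  exact absurd this.symm hh1
              exact n 3 (show h = i by rw [← hσh, ← e, Equiv.apply_symm_apply])
            · exact n 5 (show L.σ c₀ = i by rw [← e, Equiv.apply_symm_apply])
        · exact hσp
        · show L.w 0 a = L.w 0 p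
          rw [← hap, L.w_σ0]
      have hu12 : ∀ i, L.w 1 i ≠ 0 → L.w 2 i ≠ 0 → L.w 1 i * L.w 2 i = 1 ∨ L.w 1 i * L.w 2 i = -1 := fun k k1 k2 => by
        rcases Int.eq_one_or_neg_one_of_mul_eq_one ((L.unit1 k).resolve_left k1) with e | e <;>
          rcases Int.eq_one_or_neg_one_of_mul_eq_one ((L.unit2 k).resolve_left k2) with e' | e' <;> simp [e, e']
      by_cases hc2 : L.w 2 c = 0
      · exact hfin c' c (Or.inr ⟨rfl, rfl⟩) hc2
      · by_cases hc2' : L.w 2 c' = 0
        · exact hfin c c' (Or.inl ⟨rfl, rfl⟩) hc2'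
        · exfalso
          rcases hu12 c hc1 hc2 with e | e <;> rcases hu12 c' hc1' hc2' with e' | e' <;> omega
    have hm := (hσA a).2 ha
    rw [hA3] at hm
    simp only [Finset.mem_insert, Finset.mem_singleton] at hm
    rcases hm with e | e | e
    · exact absurd e hfix
    · exact key b b' (Or.inl ⟨rfl, rfl⟩) e
    · exact key b' b (Or.inr ⟨rfl, rfl⟩) e

end Sys

/-- A sum over a list of rows and a remainder. -/
theorem sum_split {R : Type*} [AddCommMonoid R] {n : ℕ} {x : Fin n → ι} (hx : Function.Injective x) (F : ι → R) :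
    ∑ i, F i = ∑ k, F (x k) + ∑ i ∈ Finset.univ.filter (fun i => i ∉ Set.range x), F i := by
  rw [← Finset.sum_image (f := F) fun a _ b _ h => hx h,
    ← Finset.sum_filter_add_sum_filter_not Finset.univ (fun i => i ∈ Set.range x) F]
  refine congrArg₂ (· + ·) (Finset.sum_congr ?_ fun _ _ => rfl) rfl
  ext i
  simp

/-- The remainder is a single unit. -/
theorem exists_unit {n : ℕ} {x : Fin n → ι} (hx : Function.Injective x) (e : ι → ℤ)
    (h : ∑ i, e i * e i = ∑ k, e (x k) * e (x k) + 1) :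
    ∃ X, X ∉ Set.range x ∧ e X * e X = 1 ∧ ∀ i, i ∉ Set.range x → i ≠ X → e i = 0 := by
  rw [sum_split hx] at h
  have h1 : ∑ i ∈ Finset.univ.filter (fun i => i ∉ Set.range x), e i * e i = 1 := by linarith
  obtain ⟨X, hX, hne⟩ := Finset.exists_ne_zero_of_sum_ne_zero (by rw [h1]; exact one_ne_zero)
  have hpos : 1 ≤ e X * e X := by
    rcases lt_or_gt_of_ne (fun z => hne (by rw [z, zero_mul]) : e X ≠ 0) with z | z <;> nlinarith
  rw [← Finset.add_sum_erase _ _ hX] at h1
  have hrest := Finset.sum_nonneg (s := (Finset.univ.filter fun i => i ∉ Set.range x).erase X)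
    (f := fun i => e i * e i) fun i _ => mul_self_nonneg _
  refine ⟨X, (Finset.mem_filter.1 hX).2, by linarith, fun i hi hiX => ?_⟩
  exact mul_self_eq_zero.1 ((Finset.sum_eq_zero_iff_of_nonneg fun i _ => mul_self_nonneg (e i)).1
    (by linarith) i (Finset.mem_erase.2 ⟨hiX, Finset.mem_filter.2 ⟨Finset.mem_univ i, hi⟩⟩))

/-- A sum that is supported on the rows and one more point. -/
theorem sum_unit {R : Type*} [AddCommMonoid R] {n : ℕ} {x : Fin n → ι} (hx : Function.Injective x) {X : ι}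
    (hX : X ∉ Set.range x) (F : ι → R) (h : ∀ i, i ∉ Set.range x → i ≠ X → F i = 0) :
    ∑ i, F i = ∑ k, F (x k) + F X := by
  rw [sum_split hx]
  congr 1
  exact Finset.sum_eq_single X (fun i hi hne => h i (Finset.mem_filter.1 hi).2 hne)
    fun hn => absurd (Finset.mem_filter.2 ⟨Finset.mem_univ X, hX⟩) hn

/-- A sum that is supported on the rows. -/
theorem sum_rows {R : Type*} [AddCommMonoid R] {n : ℕ} {x : Fin n → ι} (hx : Function.Injective x) (F : ι → R)
    (h : ∀ i, i ∉ Set.range x → F i = 0) : ∑ i, F i = ∑ k, F (x k) := by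
  rw [sum_split hx, Finset.sum_eq_zero (fun i hi => h i (Finset.mem_filter.1 hi).2), add_zero]

namespace Sys

variable (L : Sys ι) (e : ι → ℤ)

/-- The two possibilities for the first shape. -/
theorem coord2 (hT : L.T2) (he : ∀ i, e (L.σ i) = e i) (hn : ∑ i, e i * e i = 3)
    (hw : ∀ j, ∑ i, e i * L.w j i = ![0, -1, -1] j) :
    ∃ x s, L.Shape row2 x s ∧ L.σ (x 3) = x 5 ∧ L.σ (x 4) = x 6 ∧ s 5 = s 3 ∧ s 6 = s 4 ∧
      ((∀ k, e (x k) = s k * ![1, 0, -1, 0, 0, 0, 0] k) ∨ ∀ k, e (x k) = s k * ![0, 0, 0, -1, 0, -1, 0] k) := by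
  obtain ⟨x, s, ⟨hinj, hs, hrow, hout⟩, h5, h6, s5, s6⟩ := hT
  set E : Fin 7 → ℤ := fun k => s k * e (x k) with hE
  have heE : ∀ k, e (x k) = s k * E k := fun k => by simp only [E]; rw [← mul_assoc, hs, one_mul]
  have hE5 : E 5 = E 3 := by simp only [E]; rw [s5, ← h5, he]
  have hE6 : E 6 = E 4 := by simp only [E]; rw [s6, ← h6, he]
  have hj : ∀ j, ∑ k, E k * row2 k j = ![0, -1, -1] j := by
    intro j
    rw [← hw j, sum_rows hinj (fun i => e i * L.w j i) fun i hi => by rw [hout i hi j, mul_zero]]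
    refine Finset.sum_congr rfl fun k _ => ?_
    rw [hrow k j]; simp only [E]; ring
  have hsq : ∑ k, E k * E k ≤ 3 := by
    rw [sum_split hinj] at hn
    have h0 := Finset.sum_nonneg (s := Finset.univ.filter fun i => i ∉ Set.range x) (f := fun i => e i * e i)
      fun i _ => mul_self_nonneg _
    have h1 : ∑ k, E k * E k = ∑ k, e (x k) * e (x k) := Finset.sum_congr rfl fun k _ => by
      simp only [E]; linear_combination (e (x k) * e (x k)) * hs k
    linarith
  have j0 := hj 0
  have j1 := hj 1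
  simp [Fin.sum_univ_seven, row2] at j0 j1
  simp only [Fin.sum_univ_seven, hE5, hE6] at hsq
  have hb : ∀ k : Fin 7, k = 1 ∨ k = 2 ∨ k = 3 ∨ k = 4 → -1 ≤ E k ∧ E k ≤ 1 := by
    intro k hk
    rcases hk with rfl | rfl | rfl | rfl <;>
      constructor <;> nlinarith [mul_self_nonneg (E 0), mul_self_nonneg (E 1), mul_self_nonneg (E 2),
        mul_self_nonneg (E 3), mul_self_nonneg (E 4)]
  have hpat : (E 0 = 1 ∧ E 3 = 0 ∧ E 4 = 0 ∧ (E 1 = 0 ∧ E 2 = -1 ∨ E 1 = -1 ∧ E 2 = 0)) ∨
      (E 0 = 0 ∧ E 1 = 0 ∧ E 2 = 0 ∧ (E 3 = -1 ∧ E 4 = 0 ∨ E 3 = 0 ∧ E 4 = -1)) := by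
    obtain ⟨a1, a2⟩ := hb 1 (Or.inl rfl)
    obtain ⟨b1, b2⟩ := hb 2 (Or.inr (Or.inl rfl))
    obtain ⟨c1, c2⟩ := hb 3 (Or.inr (Or.inr (Or.inl rfl)))
    obtain ⟨d1, d2⟩ := hb 4 (Or.inr (Or.inr (Or.inr rfl)))
    have e0 : E 0 = -(E 1 + E 2) := by omega
    rw [e0] at hsq ⊢
    interval_cases h1 : E 1 <;> interval_cases h2 : E 2 <;> interval_cases h3 : E 3 <;>
      interval_cases h4 : E 4 <;> omega
  have perm : ∀ π : Fin 7 → Fin 7, Function.Injective π → (∀ k j, row2 (π k) j = row2 k j) →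
      L.Shape row2 (x ∘ π) (s ∘ π) := by
    intro π hπ hr
    refine ⟨hinj.comp hπ, fun k => hs _, fun k j => by rw [Function.comp_apply, hrow, hr]; rfl, fun i hi => ?_⟩
    refine hout i fun ⟨k, hk⟩ => hi ?_
    obtain ⟨k', rfl⟩ := Finite.surjective_of_injective hπ k
    exact ⟨k', hk⟩
  rcases hpat with ⟨p0, p3, p4, ⟨p1, p2⟩ | ⟨p1, p2⟩⟩ | ⟨p0, p1, p2, ⟨p3, p4⟩ | ⟨p3, p4⟩⟩
  · refine ⟨x, s, ⟨hinj, hs, hrow, hout⟩, h5, h6, s5, s6, Or.inl fun k => ?_⟩
    rw [heE]; fin_cases k <;> simp [p0, p1, p2, p3, p4, hE5, hE6]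
  · refine ⟨_, _, perm ![0, 2, 1, 3, 4, 5, 6] (by decide) (by decide), h5, h6, s5, s6, Or.inl fun k => ?_⟩
    rw [Function.comp_apply, heE]; fin_cases k <;> simp [p0, p1, p2, p3, p4, hE5, hE6]
  · refine ⟨x, s, ⟨hinj, hs, hrow, hout⟩, h5, h6, s5, s6, Or.inr fun k => ?_⟩
    rw [heE]; fin_cases k <;> simp [p0, p1, p2, p3, p4, hE5, hE6]
  · refine ⟨_, _, perm ![0, 1, 2, 4, 3, 6, 5] (by decide) (by decide), h6, h5, s6, s5, Or.inr fun k => ?_⟩
    rw [Function.comp_apply, heE]; fin_cases k <;> simp [p0, p1, p2, p3, p4, hE5, hE6]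

/-- The two possibilities for the second shape. -/
theorem coord3 {x : Fin 6 → ι} {s : Fin 6 → ℤ} (hS : L.Shape row3 x s) (h1 : L.σ (x 0) = x 1)
    (h5 : L.σ (x 4) = x 5) (s1 : s 1 = s 0) (s5 : s 5 = s 4) (he : ∀ i, e (L.σ i) = e i)
    (hn : ∑ i, e i * e i = 3) (hw : ∀ j, ∑ i, e i * L.w j i = ![0, -1, -1] j) :
    (∀ k, e (x k) = s k * ![0, 0, 0, -1, 0, 0] k) ∨ ∀ k, e (x k) = s k * ![0, 0, 0, 0, -1, -1] k := by
  obtain ⟨hinj, hs, hrow, hout⟩ := hS
  set E : Fin 6 → ℤ := fun k => s k * e (x k) with hE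
  have heE : ∀ k, e (x k) = s k * E k := fun k => by simp only [E]; rw [← mul_assoc, hs, one_mul]
  have hE1 : E 1 = E 0 := by simp only [E]; rw [s1, ← h1, he]
  have hE5 : E 5 = E 4 := by simp only [E]; rw [s5, ← h5, he]
  have hj : ∀ j, ∑ k, E k * row3 k j = ![0, -1, -1] j := by
    intro j
    rw [← hw j, sum_rows hinj (fun i => e i * L.w j i) fun i hi => by rw [hout i hi j, mul_zero]]
    refine Finset.sum_congr rfl fun k _ => ?_
    rw [hrow k j]; simp only [E]; ring
  have hsq : ∑ k, E k * E k ≤ 3 := by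
    rw [sum_split hinj] at hn
    have h0 := Finset.sum_nonneg (s := Finset.univ.filter fun i => i ∉ Set.range x) (f := fun i => e i * e i)
      fun i _ => mul_self_nonneg _
    have h1 : ∑ k, E k * E k = ∑ k, e (x k) * e (x k) := Finset.sum_congr rfl fun k _ => by
      simp only [E]; linear_combination (e (x k) * e (x k)) * hs k
    linarith
  have j0 := hj 0
  have j1 := hj 1
  simp [Fin.sum_univ_six, row3] at j0 j1
  simp only [Fin.sum_univ_six, hE1, hE5] at hsq
  have hb : (-1 ≤ E 0 ∧ E 0 ≤ 1) ∧ (-1 ≤ E 3 ∧ E 3 ≤ 1) ∧ -1 ≤ E 4 ∧ E 4 ≤ 1 := by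
    refine ⟨⟨?_, ?_⟩, ⟨?_, ?_⟩, ?_, ?_⟩ <;> nlinarith [mul_self_nonneg (E 0), mul_self_nonneg (E 2),
        mul_self_nonneg (E 3), mul_self_nonneg (E 4)]
  obtain ⟨⟨a1, a2⟩, ⟨c1, c2⟩, d1, d2⟩ := hb
  have e2 : E 2 = -(E 0 + E 0) := by omega
  have hpat : (E 0 = 0 ∧ E 3 = -1 ∧ E 4 = 0) ∨ (E 0 = 0 ∧ E 3 = 0 ∧ E 4 = -1) := by
    rw [e2] at hsq
    interval_cases h0 : E 0 <;> interval_cases h3 : E 3 <;> interval_cases h4 : E 4 <;> omega
  rcases hpat with ⟨p0, p3, p4⟩ | ⟨p0, p3, p4⟩
  · refine Or.inl fun k => ?_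
    rw [heE]; fin_cases k <;> simp [p0, e2, p3, p4, hE1, hE5]
  · refine Or.inr fun k => ?_
    rw [heE]; fin_cases k <;> simp [p0, e2, p3, p4, hE1, hE5]

end Sys

end Cfsg.Agent.Invol.JankoWard.Lattice
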