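import Cfsg.Agent.Lib.Invol.JankoWard.ExcCount
import Cfsg.Agent.Lib.Invol.JankoWard.Lattice
import Cfsg.Agent.Lib.Block.OrderPrimeBase
import Cfsg.Agent.Lib.Block.Dihedral.Main

/-!
# The rows of the principal block in signed parameters

`qQ = -δ q`, `qR = -δ r`, `qM = 2 qR - 1`: in the coordinates `w` both signs have the same rows, values and counts.
-/

open scoped ComplexConjugate

set_option autoImplicit false
set_option linter.unusedSectionVars false
set_option linter.style.haveILetI false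

open scoped Classical

namespace Cfsg.Agent.Invol.JankoWard

open Cfsg Cfsg.Agent.Char Cfsg.Agent.Block

universe u v

namespace LData

variable {P : Type v} [Group P] (D : LData P)

/-- The signed odd part of the torus. -/
def qR : ℤ := -D.δ * (D.r : ℤ)

/-- The signed field size. -/
def qQ : ℤ := 4 * D.qR - 1

/-- The signed half order of the other torus. -/
def qM : ℤ := 2 * D.qR - 1

theorem qQ_eq : D.qQ = -D.δ * (D.q : ℤ) := by
  have h := D.hq
  rcases D.hδ with e | e <;> simp only [qQ, qR, e] at h ⊢ <;> linarith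

theorem qQ_natAbs : D.qQ.natAbs = D.q := by
  rw [D.qQ_eq]; rcases D.hδ with e | e <;> simp [e]

theorem qM_eq : D.qM = -D.δ * D.m := by
  rcases D.hδ with e | e <;> simp only [qM, qR, m, e] <;> ring

theorem qR_odd : Odd D.qR := by
  rcases D.hδ with e | e <;> simp [qR, e, D.r_odd]

theorem qR_abs : |D.qR| = (D.r : ℤ) := by
  rcases D.hδ with e | e <;> simp [qR, e]

theorem qQM : D.qQ * D.qM = (D.q : ℤ) * D.m := by
  rw [D.qQ_eq, D.qM_eq]; rcases D.hδ with e | e <;> rw [e] <;> ring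

theorem qM_ne : D.qM ≠ 0 := by
  have := D.qR_odd; simp only [qM]; omega

theorem qQ_ne : D.qQ ≠ 0 := by simp only [qQ]; omega

end LData

namespace Base

variable {G : Type u} [Group G] [Fintype G] {P : Type v} [Group P] [Fintype P] (S : Base G P) (X : LChars S.D)

/-- The coordinates in which both signs look the same. -/
noncomputable def w (j : Fin 3) (χ : IrrCharacter G) : ℤ :=
  ![S.v X 0 χ - S.D.cc * (S.v X 1 χ + S.v X 2 χ), -S.D.δ * S.v X 1 χ, -S.D.δ * S.v X 2 χ] j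

theorem w_trivial (j : Fin 3) : S.w X j (trivialIrr G) = ![1, 0, 0] j := by
  fin_cases j <;> simp [w, S.trivial_v, LChars.coef]

/-- `κ / r`. -/
noncomputable def K : ℂ := S.kap / (S.D.r : ℂ)

theorem sum_w_one (j : Fin 3) : ∑ χ : IrrCharacter G, (S.w X j χ : ℂ) * (χ : G → ℂ) 1 = 0 := by
  fin_cases j <;> simp [w, sub_mul, mul_add, add_mul, mul_assoc, Finset.sum_sub_distrib, Finset.sum_add_distrib,
    ← Finset.mul_sum, S.sum_v_one]

theorem int_value (χ : IrrCharacter G) :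
    ∃ n : ℤ, (χ : G → ℂ) S.t = n ∧ 2 ∣ (charDegree (χ : G → ℂ) : ℤ) - n :=
  Dih.char_involution_parity χ S.tt

/-- The value at `t` as an integer. -/
noncomputable def tv (χ : IrrCharacter G) : ℤ := (S.int_value χ).choose

theorem tv_spec (χ : IrrCharacter G) : (χ : G → ℂ) S.t = S.tv χ := (S.int_value χ).choose_spec.1

theorem tv_parity (χ : IrrCharacter G) : 2 ∣ (charDegree (χ : G → ℂ) : ℤ) - S.tv χ :=
  (S.int_value χ).choose_spec.2

theorem wt_eq (χ : IrrCharacter G) :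
    S.wt χ = (S.tv χ : ℂ) ^ 2 / (charDegree (χ : G → ℂ) : ℂ) := by
  rw [wt, S.tv_spec, charDeg_spec']

theorem gal_deg (σ : ℂ ≃+* ℂ) (χ : IrrCharacter G) :
    charDegree ((PrinCol.galIrr σ χ : IrrCharacter G) : G → ℂ) = charDegree (χ : G → ℂ) := by
  have h : ((PrinCol.galIrr σ χ : IrrCharacter G) : G → ℂ) 1 = (charDegree (χ : G → ℂ) : ℂ) := by
    show σ ((χ : G → ℂ) 1) = _
    rw [charDeg_spec', map_natCast]
  rw [charDeg_spec'] at h
  exact_mod_cast h

theorem gal_wt (σ : ℂ ≃+* ℂ) (χ : IrrCharacter G) : S.wt (PrinCol.galIrr σ χ) = S.wt χ := by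
  have h : (S.tv (PrinCol.galIrr σ χ) : ℂ) = (S.tv χ : ℂ) := by
    rw [← S.tv_spec]
    show σ ((χ : G → ℂ) S.t) = _
    rw [S.tv_spec, map_intCast]
  rw [S.wt_eq, S.wt_eq, gal_deg, h]

theorem gal_bijective (σ : ℂ ≃+* ℂ) :
    Function.Bijective (PrinCol.galIrr σ : IrrCharacter G → IrrCharacter G) := by
  refine ⟨fun a b h => Subtype.ext (funext fun g => σ.injective ?_), fun a => ⟨PrinCol.galIrr σ.symm a, ?_⟩⟩
  · exact congrFun (congrArg Subtype.val h) g
  · exact Subtype.ext (funext fun g => σ.apply_symm_apply _)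

/-- The exchange of the characters. -/
noncomputable def swapIrr (S : Base G P) (X : LChars S.D) : IrrCharacter G ≃ IrrCharacter G :=
  Equiv.ofBijective (PrinCol.galIrr X.swap.choose) (gal_bijective X.swap.choose)

theorem swap_w (χ : IrrCharacter G) :
    S.w X 0 (S.swapIrr X χ) = S.w X 0 χ ∧ S.w X 1 (S.swapIrr X χ) = S.w X 2 χ ∧
      S.w X 2 (S.swapIrr X χ) = S.w X 1 χ := by
  obtain ⟨-, h1, h2⟩ := X.swap.choose_spec
  have a := S.v_swap X h1 h2 0 χ
  have b := S.v_swap X h1 h2 1 χ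
  have c := S.v_swap X h1 h2 2 χ
  simp only [sw, Matrix.cons_val_zero, Matrix.cons_val_one, Matrix.cons_val] at a b c
  simp [w, swapIrr, a, b, c, add_comm]

theorem swap_trivial : S.swapIrr X (trivialIrr G) = trivialIrr G :=
  Subtype.ext (funext fun _ => map_one _)

/-- The non-trivial characters with their rows. -/
noncomputable def sys : Lattice.Sys {χ : IrrCharacter G // χ ≠ trivialIrr G} where
  w j χ := S.w X j χ.1
  σ := (S.swapIrr X).subtypeEquiv fun χ => by
    constructor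
    · intro h e; exact h ((S.swapIrr X).injective (e.trans (S.swap_trivial X).symm))
    · intro h e; exact h (e ▸ S.swap_trivial X)
  w_σ0 χ := (S.swap_w X χ.1).1
  w_σ1 χ := (S.swap_w X χ.1).2.1
  w_σ2 χ := (S.swap_w X χ.1).2.2
  h00 := by
    have h : ∑ χ : IrrCharacter G, S.w X 0 χ * S.w X 0 χ = 4 := by
      simp only [w, Matrix.cons_val_zero, sub_mul, mul_sub, mul_add, add_mul, Finset.sum_sub_distrib,
        Finset.sum_add_distrib, mul_left_comm _ S.D.cc, mul_assoc, ← Finset.mul_sum, S.sum_v_mul]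
      rcases S.D.hδ with e | e <;> simp [LChars.coef, LData.cc, e, Fin.sum_univ_four]
    rw [← Finset.add_sum_erase _ _ (Finset.mem_univ (trivialIrr G)), S.w_trivial] at h
    rw [← Finset.sum_subtype (Finset.univ.erase (trivialIrr G)) (fun χ => by simp)
      fun χ => S.w X 0 χ * S.w X 0 χ]
    simpa using eq_sub_of_add_eq' h
  h01 := by
    have h : ∑ χ : IrrCharacter G, S.w X 0 χ * S.w X 1 χ = 2 := by
      simp only [w, Matrix.cons_val_zero, Matrix.cons_val_one, sub_mul, mul_add, add_mul,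
        Finset.sum_sub_distrib, Finset.sum_add_distrib, mul_left_comm _ (-S.D.δ), mul_left_comm _ S.D.cc,
        mul_assoc, ← Finset.mul_sum, S.sum_v_mul]
      rcases S.D.hδ with e | e <;> simp [LChars.coef, LData.cc, e, Fin.sum_univ_four]
    rw [← Finset.add_sum_erase _ _ (Finset.mem_univ (trivialIrr G)), S.w_trivial, S.w_trivial] at h
    rw [← Finset.sum_subtype (Finset.univ.erase (trivialIrr G)) (fun χ => by simp)
      fun χ => S.w X 0 χ * S.w X 1 χ]
    simpa using h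
  h11 := by
    have h : ∑ χ : IrrCharacter G, S.w X 1 χ * S.w X 1 χ = 4 := by
      simp only [w, Matrix.cons_val_one, Matrix.cons_val_zero, mul_left_comm _ (-S.D.δ), mul_assoc,
        ← Finset.mul_sum, S.sum_v_mul]
      rcases S.D.hδ with e | e <;> simp [LChars.coef, e, Fin.sum_univ_four]
    rw [← Finset.add_sum_erase _ _ (Finset.mem_univ (trivialIrr G)), S.w_trivial] at h
    rw [← Finset.sum_subtype (Finset.univ.erase (trivialIrr G)) (fun χ => by simp)
      fun χ => S.w X 1 χ * S.w X 1 χ]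
    simpa using h
  h12 := by
    have h : ∑ χ : IrrCharacter G, S.w X 1 χ * S.w X 2 χ = 2 := by
      simp only [w, Matrix.cons_val_one, Matrix.cons_val_zero, Matrix.cons_val, mul_left_comm _ (-S.D.δ),
        mul_assoc, ← Finset.mul_sum, S.sum_v_mul]
      rcases S.D.hδ with e | e <;> simp [LChars.coef, e, Fin.sum_univ_four]
    rw [← Finset.add_sum_erase _ _ (Finset.mem_univ (trivialIrr G)), S.w_trivial, S.w_trivial] at h
    rw [← Finset.sum_subtype (Finset.univ.erase (trivialIrr G)) (fun χ => by simp)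
      fun χ => S.w X 1 χ * S.w X 2 χ]
    simpa using h

theorem v_of_w {χ : IrrCharacter G} (h : ∃ j, S.w X j χ ≠ 0) : ∃ i, S.v X i χ ≠ 0 := by
  by_contra hno
  push Not at hno
  obtain ⟨j, hj⟩ := h
  exact hj (by fin_cases j <;> simp [w, hno])

theorem value_w {M : Ideal AlgInt} (hM : IsPModular 2 M) {χ : IrrCharacter G} (h : ∃ j, S.w X j χ ≠ 0) :
    S.tv χ = S.w X 0 χ + (S.w X 1 χ + S.w X 2 χ) * S.D.qM ∧
    S.v X 0 χ + (S.v X 1 χ + S.v X 2 χ) * (S.D.δ - S.D.cc) = S.w X 0 χ - S.w X 1 χ - S.w X 2 χ := by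
  obtain ⟨i, hi⟩ := S.v_of_w X h
  have hχ := S.mem_of_v X hM hi
  refine ⟨?_, ?_⟩
  · have h1 := S.value_one X hM hχ
    rw [S.tv_spec] at h1
    have hq : (S.D.q : ℂ) = 4 * (S.D.r : ℂ) + S.D.δ := by exact_mod_cast congrArg (Int.cast : ℤ → ℂ) S.D.hq
    have h2 : ((S.tv χ : ℤ) : ℂ) = ((S.w X 0 χ + (S.w X 1 χ + S.w X 2 χ) * S.D.qM : ℤ) : ℂ) := by
      rw [h1, hq]
      rcases S.D.hδ with e | e <;> simp only [w, LData.qM, LData.qR, LData.cc, e, if_true, Matrix.cons_val_zero,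
        Matrix.cons_val_one, Matrix.cons_val, show ((-1 : ℤ) = 1) = False by simp, if_false] <;> push_cast <;> ring
    exact_mod_cast h2
  · rcases S.D.hδ with e | e <;> simp [w, LData.cc, e] <;> ring

variable (hone : ∀ x : G, orderOf x = 2 → IsConj S.t x)
include hone

theorem sum_w_wt :
    ∑ χ : IrrCharacter G, (S.w X 0 χ : ℂ) * S.wt χ = 2 * S.D.qM * S.D.qR * S.K ∧
    ∑ χ : IrrCharacter G, (S.w X 1 χ : ℂ) * S.wt χ = (3 * (S.D.qR : ℂ) - 1) * S.K := by
  have h21 : ∑ χ : IrrCharacter G, (S.v X 2 χ : ℂ) * S.wt χ = ∑ χ : IrrCharacter G, (S.v X 1 χ : ℂ) * S.wt χ := by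
    obtain ⟨-, h1, h2⟩ := X.swap.choose_spec
    rw [← Equiv.sum_comp (S.swapIrr X) fun χ => (S.v X 2 χ : ℂ) * S.wt χ]
    refine Finset.sum_congr rfl fun χ _ => ?_
    have b := S.v_swap X h1 h2 1 χ
    simp only [sw, Matrix.cons_val_one, Matrix.cons_val_zero] at b
    simp only [swapIrr, Equiv.ofBijective_apply, S.gal_wt]
    rw [b]
  have hr : (S.D.r : ℂ) ≠ 0 := Nat.cast_ne_zero.2 (by have := S.D.r3; omega)
  rcases S.D.hδ with e | e
  · obtain ⟨h0, h1⟩ := S.count_pos X hone e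
    simp only [w, LData.cc, e, LData.qM, LData.qR, K, if_true, Matrix.cons_val_zero, Matrix.cons_val_one]
    push_cast
    simp only [one_mul, sub_mul, add_mul, neg_mul, Finset.sum_sub_distrib, Finset.sum_add_distrib,
      Finset.sum_neg_distrib, h21]
    constructor <;> refine mul_left_cancel₀ hr ?_
    · linear_combination h0 - 2 * h1 - 2 * (2 * -(S.D.r : ℂ) - 1) * -(S.D.r : ℂ) * mul_div_cancel₀ S.kap hr
    · linear_combination -h1 - (3 * -(S.D.r : ℂ) - 1) * mul_div_cancel₀ S.kap hr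
  · obtain ⟨h0, h1⟩ := S.count_neg X hone e
    have hm : (S.D.m : ℂ) = 2 * (S.D.r : ℂ) - 1 := by
      exact_mod_cast congrArg (Int.cast : ℤ → ℂ)
        (show S.D.m = 2 * (S.D.r : ℤ) - 1 by simp only [LData.m, e]; ring)
    rw [hm] at h0
    simp only [w, LData.cc, e, LData.qM, LData.qR, K, Matrix.cons_val_zero, Matrix.cons_val_one,
      show ((-1 : ℤ) = 1) = False by simp, if_false]
    push_cast
    simp only [zero_mul, sub_zero, neg_neg, one_mul]
    constructor <;> refine mul_left_cancel₀ hr ?_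
    · linear_combination (S.D.r : ℂ) * h0 - 2 * (2 * (S.D.r : ℂ) - 1) * (S.D.r : ℂ) * mul_div_cancel₀ S.kap hr
    · linear_combination h1 - (3 * (S.D.r : ℂ) - 1) * mul_div_cancel₀ S.kap hr

theorem omega_dvd (χ : IrrCharacter G) :
    ∃ z : ℤ, (z : ℂ) * (charDegree (χ : G → ℂ) : ℂ) * S.K = 8 * S.D.qQ * S.D.qM * S.tv χ := by
  have hd : (charDegree (χ : G → ℂ) : ℂ) ≠ 0 := Nat.cast_ne_zero.2 (charDeg_pos χ).ne'
  set i : ℕ := (Subgroup.centralizer ({S.t} : Set G)).index
  obtain ⟨z, hz⟩ := int_of_isIntegral_rat (q := (i : ℚ) * (S.tv χ : ℚ) / (charDegree (χ : G → ℂ) : ℚ)) (by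
    convert centralChar_isIntegral χ S.t using 1
    rw [centralChar, S.tv_spec, charDeg_spec']
    push_cast; rfl)
  refine ⟨z, ?_⟩
  push_cast at hz
  have hG : (Nat.card G : ℂ) = (Nat.card S.C : ℂ) * (i : ℂ) := by
    rw [← Nat.cast_mul, ← Subgroup.card_mul_index S.C]
  have hC0 : (Nat.card S.C : ℂ) ≠ 0 := Nat.cast_ne_zero.2 Nat.card_pos.ne'
  have hi0 : (i : ℂ) ≠ 0 := Nat.cast_ne_zero.2 Subgroup.index_ne_zero_of_finite
  have hC : (Nat.card S.C : ℂ) = 8 * ((S.D.r : ℂ) * ((S.D.q : ℂ) * S.D.m)) := by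
    have h1 : (Nat.card S.C : ℤ) = 8 * ((S.D.r : ℤ) * ((S.D.q : ℤ) * S.D.m)) := by
      rw [S.card_C, S.D.card_eq, LData.E]; push_cast [S.D.natAbs_m]; ring
    exact_mod_cast congrArg (Int.cast : ℤ → ℂ) h1
  have hQM : (S.D.qQ : ℂ) * S.D.qM = (S.D.q : ℂ) * S.D.m := by
    exact_mod_cast congrArg (Int.cast : ℤ → ℂ) S.D.qQM
  have hr : (S.D.r : ℂ) ≠ 0 := Nat.cast_ne_zero.2 (by have := S.D.r3; omega)
  rw [← hz, K, kap, hG]
  field_simp
  linear_combination (S.tv χ : ℂ) * hC - 8 * (S.tv χ : ℂ) * (S.D.r : ℂ) * hQM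

end Base

namespace Locals

variable {G : Type u} [Group G] [Fintype G] {P : Type v} [Group P] [Fintype P] {S : Base G P} (L : Locals S)
  (X : LChars S.D) (l : S.D.Y →* ℂˣ)
include L

theorem sum_e_w (hl : l ≠ 1) (j : Fin 3) :
    ∑ χ : IrrCharacter G, L.e l true χ * S.w X j χ = ![0, -1, -1] j := by
  have h0 := L.sum_e_v l X hl 0
  have h1 := L.sum_e_v l X hl 1
  have h2 := L.sum_e_v l X hl 2
  simp only [Matrix.cons_val_zero, Matrix.cons_val_one, Matrix.cons_val] at h0 h1 h2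
  fin_cases j <;> simp only [Base.w, Fin.zero_eta, Fin.mk_one, Fin.reduceFinMk, Matrix.cons_val_zero,
    Matrix.cons_val_one, Matrix.cons_val, mul_sub, mul_add, mul_left_comm _ S.D.cc, mul_left_comm _ (-S.D.δ),
    Finset.sum_sub_distrib, Finset.sum_add_distrib, ← Finset.mul_sum] <;>
    rcases S.D.hδ with e | e <;> simp [LData.cc, e] at h0 h1 h2 ⊢ <;> omega

theorem e_swap (X : LChars S.D) (b : Bool) (χ : IrrCharacter G) : L.e l b (S.swapIrr X χ) = L.e l b χ :=
  L.e_gal l b X.swap.choose_spec.1 χ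

theorem e_false_w {M : Ideal AlgInt} (hM : IsPModular 2 M) (hl : l ≠ 1) {χ : IrrCharacter G}
    (h : ∃ j, S.w X j χ ≠ 0) :
    L.e l false χ = L.e l true χ - (S.w X 0 χ - S.w X 1 χ - S.w X 2 χ) := by
  obtain ⟨i, hi⟩ := S.v_of_w X h
  rw [L.e_false l X hM hl (S.mem_of_v X hM hi), (S.value_w X hM h).2]

/-- The torus part is `1` modulo three. -/
theorem r_mod_three : S.D.r % 3 = 1 := by
  haveI : Fact (Nat.Prime 3) := ⟨Nat.prime_three⟩
  choose f hf1 hf2 using L.gY
  let F : Function.End S.D.Y := fun y => ⟨f y y.2, hf1 y y.2⟩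
  have hF : ∀ y : S.D.Y, S.ι (F y : P) = L.g * S.ι y * L.g⁻¹ := fun y => (hf2 y y.2).symm
  have h3 : F ^ 3 ^ 1 = 1 := by
    funext y
    refine Subtype.ext (S.inj ?_)
    rw [pow_one, pow_three]
    show S.ι (F (F (F y)) : P) = S.ι y
    rw [hF, hF, hF]
    calc _ = L.g ^ 3 * S.ι y * (L.g ^ 3)⁻¹ := by rw [pow_three]; group
      _ = _ := by rw [L.g3]; group
  have h := Equiv.Perm.card_fixedPoints_modEq h3
  have hfix : Fintype.card (Function.fixedPoints F) = 1 := by
    refine Fintype.card_eq_one_iff.2 ⟨⟨1, ?_⟩, fun y => ?_⟩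
    · refine Subtype.ext (S.inj ?_)
      rw [hF]; simp
    · refine Subtype.ext (Subtype.ext (L.g_free _ y.1.2 ?_))
      rw [← hF, y.2]
  rw [hfix, ← Nat.card_eq_fintype_card, S.D.card_Y] at h
  exact h

theorem r_ge : 7 ≤ S.D.r := by
  have := L.r_mod_three
  have := S.D.r3
  obtain ⟨k, hk⟩ := S.D.r_odd
  omega

end Locals

end Cfsg.Agent.Invol.JankoWard
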