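import Cfsg.Agent.Lib.Invol.JankoWard.ExtRows
import Cfsg.Agent.Lib.Invol.JankoWard.ExtEta
import Cfsg.Agent.Lib.Invol.JankoWard.ExtArith
import Cfsg.Agent.Lib.Invol.JankoWard.Rows

/-!
# The seven rows against the exceptional functions

`fibre_T`: if a twisted block of the fibre has seven rows then either `C = C'` or `B = Q Z`, and the degree in
question is fixed by the product counts.
-/

open scoped ComplexConjugate

set_option autoImplicit false
set_option linter.unusedSectionVars false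
set_option linter.style.haveILetI false

open scoped Classical

namespace Cfsg.Agent.Invol.JankoWard

open Cfsg Cfsg.Agent.Char Cfsg.Agent.Block

universe u v

namespace Exc

variable {G : Type u} [Group G] [Fintype G] {P : Type v} [Group P] [Fintype P] {S : ExtBase G P}
  {L : ExtLocals S} (E : Exc L)

/-- `row 0 - row 1 - row 2` for the seven rows. -/
def epsT : Fin 7 → ℤ := ![1, 0, 0, -1, -2, -1, -1]

theorem epsT_eq (a : Fin 7) :
    epsT a = ExtShape.rowT a 0 - (ExtShape.rowT a 1 + ExtShape.rowT a 2) := by fin_cases a <;> decide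

theorem tau_T (R : ℝ) (hR : (S.D.r : ℝ) = R) :
    S.tau ExtShape.rowT 0 = 1 ∧ S.tau ExtShape.rowT 1 = 2 * R ∧ S.tau ExtShape.rowT 2 = 2 * R ∧
      S.tau ExtShape.rowT 3 = 4 * R - 1 ∧ S.tau ExtShape.rowT 4 = 2 * (2 * R - 1) ∧
      S.tau ExtShape.rowT 5 = 2 * R - 1 ∧ S.tau ExtShape.rowT 6 = 2 * R - 1 := by
  subst hR
  refine ⟨?_, ?_, ?_, ?_, ?_, ?_, ?_⟩ <;> simp only [ExtBase.tau, ExtShape.rowT, Matrix.cons_val, Fin.isValue] <;>
    norm_num <;> ring

variable (T : ExtTable S.D) (hf : L.Free) (hp : S.D.p = 3) (hδ : S.D.δ = -1) (X : LChars S.D) {M : Ideal AlgInt}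
  (hM : IsPModular 2 M) (A : Amb G)
include T hf hp hδ X hM A

set_option maxHeartbeats 4000000 in
theorem fibre_T
    (hsec : ∀ χ : IrrCharacter G, (∀ (q : Fin 4) (y : S.D.Y) (a : E.F₁), E.j y ≠ 1 →
        (χ : G → ℂ) (E.el (q, y, a) : G) = (χ : G → ℂ) (E.el (0, y, a) : G)) ∨
      (∀ (y : S.D.Y) (a : E.F₁), E.j y ≠ 1 → ∑ q : Fin 4, (χ : G → ℂ) (E.el (q, y, a) : G) = 0))
    (σ : ℂ ≃+* ℂ) (ν : S.Fld →* ℂˣ) (hν : orderOf ν = E.k)
    (hshift : ∀ (i : ℕ) (j : Fin 3) (χ : IrrCharacter G),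
      S.vE X hM (E.l1 * ν ^ (i + 1)) j (PrinCol.galIrr σ χ) = S.vE X hM (E.l1 * ν ^ i) j χ)
    (hσj : ∀ y, σ (E.j y : ℂ) = E.j y) (hσl : ∀ a ∈ E.F₁, σ (E.l1 a : ℂ) = E.l1 a)
    (h3 : E.k = 3 → (∀ ω : ℂ, ω ^ 3 = 1 → σ ω = ω) ∧ ∀ a : S.Fld, a ∉ E.F₁ → σ (E.l1 a : ℂ) ≠ E.l1 a)
    {x : Fin 7 → IrrCharacter G} {s : Fin 7 → ℤ}
    (hS : (S.sysE X hM A hδ E.l1).Shape ExtShape.rowT x s) :
    let D : Fin 7 → ℝ := fun a => (s a : ℝ) * (charDegree ((x a : IrrCharacter G) : G → ℂ) : ℝ)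
    (D 5 = D 6 ∧ D 5 * ((4 * (S.D.r : ℝ) - 1) * S.Kr) = -(8 * (2 * (S.D.r : ℝ) - 1) ^ 2)) ∨
      (D 3 = (4 * (S.D.r : ℝ) - 1) * D 0 ∧
        D 0 * ((4 * (S.D.r : ℝ) - 1) * S.Kr) = -(8 * (2 * (S.D.r : ℝ) - 1))) := by
  intro D
  obtain ⟨hfacts, horth, e0, e1, e2⟩ := S.row_facts L X hM A hδ
    (fun k => by fin_cases k <;> first | exact ⟨0, by decide⟩ | exact ⟨1, by decide⟩ | exact ⟨2, by decide⟩) hS
  obtain ⟨hinj, hs, hw, hout⟩ := hS
  set row := ExtShape.rowT with hrow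
  have hw' : ∀ a j, S.vE X hM E.l1 j (x a) = s a * row a j := fun a j => hw a j
  have hne : ∀ a, ∃ j, row a j ≠ 0 := fun a => by
    fin_cases a <;> first | exact ⟨0, by decide⟩ | exact ⟨1, by decide⟩ | exact ⟨2, by decide⟩
  have hs0 : ∀ a, s a ≠ 0 := fun a e => by have := hs a; rw [e] at this; norm_num at this
  have hk := E.k_pos
  set f : IrrCharacter G → IrrCharacter G := PrinCol.galIrr σ with hfdef
  have hfinj : Function.Injective f := (Base.gal_bijective σ).1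
  -- the rows of the fibre
  let y : Fin E.k × Fin 7 → IrrCharacter G := fun p => f^[(p.1 : ℕ)] (x p.2)
  have hl0 : E.l1 * ν ^ 0 = E.l1 := MonoidHom.ext fun a => by show E.l1 a * ν a ^ 0 = _; simp
  have hvy : ∀ (i : ℕ) a j, S.vE X hM (E.l1 * ν ^ i) j (f^[i] (x a)) = s a * row a j := by
    intro i a j
    induction i with
    | zero => rw [hl0]; exact hw' a j
    | succ i ih => rw [Function.iterate_succ_apply', hshift, ih]
  have hmem : ∀ (i : ℕ) a, f^[i] (x a) ∈ S.gb X hM (E.l1 * ν ^ i) := fun i a => by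
    obtain ⟨j, hj⟩ := hne a
    exact S.mem_of_vE X hM A L (i := j) (by rw [hvy]; exact mul_ne_zero (hs0 a) hj)
  have hyinj : Function.Injective y := by
    rintro ⟨i, a⟩ ⟨i', a'⟩ h
    simp only [y] at h
    have h1 := hmem i a
    have h2 := hmem i' a'
    rw [h] at h1
    have hl : E.l1 * ν ^ (i : ℕ) = E.l1 * ν ^ (i' : ℕ) := S.gb_injective X hM A L (by
      rw [pblock_eq_blockOf hM (S.gb_isBlock X hM _) h1, pblock_eq_blockOf hM (S.gb_isBlock X hM _) h2])
    obtain rfl : i = i' := Fin.ext (pow_injOn_Iio_orderOf (by rw [hν]; exact i.2) (by rw [hν]; exact i'.2)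
      (mul_left_cancel hl))
    exact Prod.ext rfl (hinj (hfinj.iterate _ h))
  set 𝒳 : Finset (IrrCharacter G) := Finset.univ.image y with h𝒳
  set rest : Finset (IrrCharacter G) := Finset.univ.filter fun χ => χ ∉ 𝒳 with hrestdef
  have hclosed : ∀ χ ∈ 𝒳, f χ ∈ 𝒳 := by
    intro χ hχ
    obtain ⟨⟨i, a⟩, -, rfl⟩ := Finset.mem_image.1 hχ
    simp only [y, ← Function.iterate_succ_apply' f]
    by_cases hi : (i : ℕ) + 1 < E.k
    · exact Finset.mem_image.2 ⟨(⟨_, hi⟩, a), Finset.mem_univ _, rfl⟩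
    · have hik : (i : ℕ) + 1 = E.k := by have := i.2; omega
      obtain ⟨a', ha'⟩ : (f^[(i : ℕ) + 1] (x a)) ∈ Set.range x := by
        by_contra hno
        obtain ⟨j, hj⟩ := hne a
        have h1 := hvy ((i : ℕ) + 1) a j
        rw [hik, ← hν, pow_orderOf_eq_one, mul_one, hν, ← hik] at h1
        exact mul_ne_zero (hs0 a) hj (h1.symm.trans (hout _ hno j))
      exact Finset.mem_image.2 ⟨(⟨0, hk⟩, a'), Finset.mem_univ _, ha'⟩
  have hback : ∀ χ ∈ rest, f χ ∈ rest := by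
    intro χ hχ
    refine Finset.mem_filter.2 ⟨Finset.mem_univ _, fun hfχ => (Finset.mem_filter.1 hχ).2 ?_⟩
    have himg : 𝒳.image f = 𝒳 := Finset.eq_of_subset_of_card_le (fun z hz => by
      obtain ⟨w, hw, rfl⟩ := Finset.mem_image.1 hz
      exact hclosed w hw) (Finset.card_image_of_injective _ hfinj).ge
    rw [← himg] at hfχ
    obtain ⟨w, hw, e⟩ := Finset.mem_image.1 hfχ
    exact hfinj e ▸ hw
  -- the invariant functions
  have hdeg : ∀ χ, charDegree ((f χ : IrrCharacter G) : G → ℂ) = charDegree (χ : G → ℂ) := Base.gal_deg σ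
  have hdegi : ∀ (i : ℕ) a, charDegree ((f^[i] (x a) : IrrCharacter G) : G → ℂ) = charDegree ((x a : IrrCharacter G) : G → ℂ) := by
    intro i a
    induction i with
    | zero => rfl
    | succ i ih => rw [Function.iterate_succ_apply', hdeg, ih]
  have hq : (S.D.q : ℂ) = 4 * (S.D.r : ℂ) - 1 := by
    have h : (S.D.q : ℂ) = 4 * (S.D.r : ℂ) + S.D.δ := by exact_mod_cast congrArg (Int.cast : ℤ → ℂ) S.D.hq
    rw [h, hδ]; push_cast; ring
  have hvali : ∀ (i : ℕ) a, ((f^[i] (x a) : IrrCharacter G) : G → ℂ) S.t = (((s a : ℝ) * S.tau row a : ℝ) : ℂ) := by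
    intro i a
    rw [S.value_one X hM A L (hmem i a), hvy, hvy, hvy, hq, ExtBase.tau]
    push_cast; ring
  have hei : ∀ b (i : ℕ) a, E.e b (f^[i] (x a)) = E.e b (x a) := by
    intro b i a
    induction i with
    | zero => rfl
    | succ i ih => rw [Function.iterate_succ_apply', E.e_gal σ hσj hσl b, ih]
  have hwti : ∀ (i : ℕ) a, S.wt (f^[i] (x a)) = ((S.tau row a ^ 2 * (s a : ℝ) / D a : ℝ) : ℂ) := by
    intro i a
    rw [ExtBase.wt, hvali, charDeg_spec', hdegi]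
    simp only [D]
    push_cast
    have h1 : (s a : ℂ) ≠ 0 := Int.cast_ne_zero.2 (hs0 a)
    have h2 : (charDegree ((x a : IrrCharacter G) : G → ℂ) : ℂ) ≠ 0 := Nat.cast_ne_zero.2 (charDeg_pos _).ne'
    field_simp
    have hs2 : (s a : ℂ) ^ 2 = 1 := by rw [pow_two]; exact_mod_cast hs a
    linear_combination ((S.tau row a : ℂ) ^ 2) * hs2
  have hsplit : ∀ {α : Type} [AddCommMonoid α] (F : IrrCharacter G → α),
      ∑ χ, F χ = (∑ p : Fin E.k × Fin 7, F (y p)) + ∑ χ ∈ rest, F χ := by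
    intro α _ F
    rw [← Finset.sum_filter_add_sum_filter_not Finset.univ (fun χ => χ ∈ 𝒳) F]
    congr 1
    rw [show Finset.univ.filter (fun χ => χ ∈ 𝒳) = 𝒳 by ext z; simp, h𝒳,
      Finset.sum_image fun a _ b _ e => hyinj e]
  -- the selection
  have hgb0 : ∀ a, x a ∈ S.gb X hM E.l1 := fun a => by
    have h := hmem 0 a
    rwa [hl0] at h
  have hsel : ∀ a, ∃ S' : ℤ, (S' = 0 ∨ S' = 1) ∧ E.e true (x a) = s a * epsT a * S' ∧
      E.e false (x a) = -(s a * epsT a * (1 - S')) := by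
    intro a
    have hε : S.vE X hM E.l1 0 (x a) - (S.vE X hM E.l1 1 (x a) + S.vE X hM E.l1 2 (x a)) = s a * epsT a := by
      rw [hw', hw', hw', epsT_eq]; ring
    rcases E.e_of_gb T hp hδ X hM A (fun _ _ => rfl) (hgb0 a) (hsec (x a)) with ⟨h1, h2⟩ | ⟨h1, h2⟩
    · exact ⟨0, Or.inl rfl, by rw [h1]; ring, by rw [h2, hε]; ring⟩
    · exact ⟨1, Or.inr rfl, by rw [h1, hε]; ring, by rw [h2]; ring⟩
  choose sel hsel01 hselT hselF using hsel
  have hinner : ∀ j, ∑ a, sel a * epsT a * row a j = if j = 0 then 0 else -1 := by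
    intro j
    rw [← E.sum_e_vE T hp hδ X hM A (fun _ _ => rfl) j,
      ← Finset.sum_subset (Finset.subset_univ (Finset.univ.image x)) fun χ _ hχ => by
        rw [show S.vE X hM E.l1 j χ = 0 from
          hout χ (fun ⟨k, hk⟩ => hχ (Finset.mem_image.2 ⟨k, Finset.mem_univ _, hk⟩)) j, mul_zero],
      Finset.sum_image fun a _ b _ e => hinj e]
    refine Finset.sum_congr rfl fun a _ => ?_
    rw [hselT, hw']
    linear_combination (-(sel a * epsT a * row a j)) * hs a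
  have i0 := hinner 0
  have i1 := hinner 1
  have i2 := hinner 2
  simp only [Fin.sum_univ_seven, hrow, ExtShape.rowT, epsT] at i0 i1 i2
  simp at i0 i1 i2
  have htype : (sel 0 = 0 ∧ sel 3 = 0 ∧ sel 4 = 0 ∧ sel 5 = 1 ∧ sel 6 = 1) ∨
      (sel 0 = 1 ∧ sel 3 = 1 ∧ sel 4 = 0 ∧ sel 5 = 0 ∧ sel 6 = 0) := by
    rcases hsel01 0 with h | h <;> rcases hsel01 3 with h' | h' <;> rcases hsel01 4 with h'' | h'' <;>
      rcases hsel01 5 with g | g <;> rcases hsel01 6 with g' | g' <;> omega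
  obtain ⟨t0, t1, t2, t3, t4, t5, t6⟩ := tau_T (S := S) (S.D.r : ℝ) rfl
  set R : ℝ := (S.D.r : ℝ) with hR
  set Sd : ℝ := ∑ a, (sel a : ℝ) * epsT a * D a with hSd
  set Sw : ℝ := ∑ a, (sel a : ℝ) * epsT a * (S.tau row a ^ 2 / D a) with hSw
  have hSt : ∑ a, (sel a : ℝ) * epsT a * S.tau row a = -(2 * (2 * R - 1)) := by
    rw [Fin.sum_univ_seven, t0, t3, t4, t5, t6]
    rcases htype with ⟨h0, h3', h4, h5, h6⟩ | ⟨h0, h3', h4, h5, h6⟩ <;>
      simp [epsT, h0, h3', h4, h5, h6] <;> ring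
  have hT2 : ∑ a, sel a * (epsT a) ^ 2 = 2 := by
    rcases htype with ⟨h0, h3', h4, h5, h6⟩ | ⟨h0, h3', h4, h5, h6⟩ <;>
      simp [Fin.sum_univ_seven, epsT, h0, h3', h4, h5, h6]
  have hF2 : ∑ a, (1 - sel a) * (epsT a) ^ 2 = 6 := by
    rw [Finset.sum_congr rfl fun a _ => sub_mul (1 : ℤ) (sel a) _, Finset.sum_sub_distrib, hT2]
    simp [Fin.sum_univ_seven, epsT]
  have hEd : ∑ a, (epsT a : ℝ) * D a = 0 := by
    have h0' := horth 0
    have h1' := horth 1
    have h2' := horth 2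
    simp only [epsT_eq]
    push_cast
    simp only [sub_mul, add_mul, Finset.sum_sub_distrib, Finset.sum_add_distrib]
    rw [h0', h1', h2']; ring
  have hEw : ∑ a, (epsT a : ℝ) * (S.tau row a ^ 2 / D a) =
      2 * (2 * R - 1) * R * S.Kr - 2 * ((3 * R - 1) * S.Kr) := by
    simp only [epsT_eq]
    push_cast
    simp only [mul_div_assoc] at e0 e1 e2
    simp only [sub_mul, add_mul, Finset.sum_sub_distrib, Finset.sum_add_distrib]
    rw [e0, e1, e2]; ring
  have hEt : ∑ a, (epsT a : ℝ) * S.tau row a = -(8 * (2 * R - 1)) := by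
    rw [Fin.sum_univ_seven, t0, t3, t4, t5, t6]
    simp [epsT]; ring
  have hD0 : ∀ a, D a ≠ 0 := fun a => (hfacts a).2.1
  have hsC : ∀ a, (s a : ℂ) * s a = 1 := fun a => by exact_mod_cast hs a
  have hyval : ∀ b (p : Fin E.k × Fin 7), E.e b (y p) = E.e b (x p.2) := fun b p => hei b p.1 p.2
  -- the true function
  have hrestT : ∑ χ ∈ rest, E.e true χ ^ 2 = 1 := by
    have h := E.sq_true
    rw [hsplit] at h
    simp only [hyval] at h
    rw [Fintype.sum_prod_type, Finset.sum_congr rfl (g := fun _ => ∑ a, E.e true (x a) ^ 2) (fun _ _ => rfl), Finset.sum_const, Finset.card_univ, Fintype.card_fin, nsmul_eq_mul,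
      Finset.sum_congr rfl fun a _ => show E.e true (x a) ^ 2 = sel a * epsT a ^ 2 by
        rw [hselT]
        rcases hsel01 a with e | e <;> rw [e]
        · ring
        · linear_combination (epsT a ^ 2) * hs a, hT2] at h
    linarith
  obtain ⟨χ0, hχ0, he0, hrest0⟩ : ∃ χ0 ∈ rest, E.e true χ0 ^ 2 = 1 ∧ ∀ χ ∈ rest, χ ≠ χ0 → E.e true χ = 0 := by
    obtain ⟨χ0, hχ0, hne0⟩ := Finset.exists_ne_zero_of_sum_ne_zero (by rw [hrestT]; exact one_ne_zero)
    rw [← Finset.add_sum_erase _ _ hχ0] at hrestT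
    have hnn : 0 ≤ ∑ χ ∈ rest.erase χ0, E.e true χ ^ 2 := Finset.sum_nonneg fun χ _ => sq_nonneg _
    have h1 : 1 ≤ E.e true χ0 ^ 2 := lt_of_le_of_ne (sq_nonneg _) hne0.symm
    refine ⟨χ0, hχ0, by linarith, fun χ hχ hne => pow_eq_zero_iff two_ne_zero |>.1 ?_⟩
    exact (Finset.sum_eq_zero_iff_of_nonneg fun χ _ => sq_nonneg (E.e true χ)).1 (by linarith) χ
      (Finset.mem_erase.2 ⟨hne, hχ⟩)
  have hres : ∀ (b : Bool) (F : IrrCharacter G → ℂ) (c : Fin 7 → ℝ) (tot : ℂ),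
      (∀ (i : ℕ) a, (E.e b (x a) : ℂ) * F (f^[i] (x a)) = (c a : ℂ)) →
      ∑ χ, (E.e b χ : ℂ) * F χ = tot →
      ∑ χ ∈ rest, (E.e b χ : ℂ) * F χ = tot - (((E.k : ℝ) * ∑ a, c a : ℝ) : ℂ) := by
    intro b F c tot hc htot
    rw [hsplit, Fintype.sum_prod_type] at htot
    rw [← htot]
    simp only [y, hei, hc, Finset.sum_const, Finset.card_univ, Fintype.card_fin, nsmul_eq_mul]
    push_cast; ring
  have hdC : ∀ (i : ℕ) a, (s a : ℂ) * ((f^[i] (x a) : IrrCharacter G) : G → ℂ) 1 = ((D a : ℝ) : ℂ) := fun i a => by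
    rw [charDeg_spec', hdegi]; simp [D]
  have htC : ∀ (i : ℕ) a, (s a : ℂ) * ((f^[i] (x a) : IrrCharacter G) : G → ℂ) S.t = ((S.tau row a : ℝ) : ℂ) := fun i a => by
    rw [hvali]; push_cast; linear_combination (S.tau row a : ℂ) * hsC a
  have hwC : ∀ (i : ℕ) a, (s a : ℂ) * S.wt (f^[i] (x a)) = ((S.tau row a ^ 2 / D a : ℝ) : ℂ) := fun i a => by
    rw [hwti]; push_cast; linear_combination ((S.tau row a : ℂ) ^ 2 / (D a : ℂ)) * hsC a
  have trueT : ∀ (F : IrrCharacter G → ℂ) (v : Fin 7 → ℝ), (∀ (i : ℕ) a, (s a : ℂ) * F (f^[i] (x a)) = (v a : ℂ)) →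
      ∑ χ, (E.e true χ : ℂ) * F χ = 0 →
      (E.e true χ0 : ℂ) * F χ0 = ((-((E.k : ℝ) * ∑ a, (sel a : ℝ) * epsT a * v a) : ℝ) : ℂ) := by
    intro F v hv htot
    have h := hres true F (fun a => (sel a : ℝ) * epsT a * v a) 0 (fun i a => by
      rw [hselT]; push_cast; linear_combination ((sel a : ℂ) * (epsT a : ℂ)) * hv i a) htot
    rw [Finset.sum_eq_single χ0 (fun χ hχ hne => by rw [hrest0 χ hχ hne, Int.cast_zero, zero_mul])
      (fun hn => absurd hχ0 hn)] at h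
    rw [h]; push_cast; ring
  have hTd := trueT (fun χ => (χ : G → ℂ) 1) D hdC (E.sum_e_chi true (one_mul 1))
  have hTt := trueT (fun χ => (χ : G → ℂ) S.t) (S.tau row) htC (E.sum_e_chi true S.tt)
  have hTw := trueT S.wt (fun a => S.tau row a ^ 2 / D a) hwC (by rw [E.sum_e_wt true L.one_class]; rfl)
  set Dd : ℝ := -((E.k : ℝ) * Sd) with hDd
  have hDd0 : Dd ≠ 0 := by
    intro e
    rw [e, Complex.ofReal_zero, mul_eq_zero] at hTd
    rcases hTd with h | h
    · rw [Int.cast_eq_zero] at h; rw [h] at he0; norm_num at he0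
    · exact IsIrr.one_ne_zero χ0.2 h
  rw [hSt] at hTt
  have hsq0 : (E.e true χ0 : ℂ) ^ 2 = 1 := by exact_mod_cast he0
  have hone : ((χ0 : G → ℂ) 1) ≠ 0 := IsIrr.one_ne_zero χ0.2
  have hTrue : (((-((E.k : ℝ) * Sw)) * Dd : ℝ) : ℂ) = ((4 * (2 * R - 1) ^ 2 * (E.k : ℝ) ^ 2 : ℝ) : ℂ) := by
    rw [Complex.ofReal_mul, ← hTw, ← hTd]
    have hsqt : ((4 * (2 * R - 1) ^ 2 * (E.k : ℝ) ^ 2 : ℝ) : ℂ) = ((E.e true χ0 : ℂ) * (χ0 : G → ℂ) S.t) ^ 2 := by
      rw [hTt]; push_cast; ring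
    rw [hsqt, ExtBase.wt]
    field_simp
  have hTrue' : -((E.k : ℝ) * Sw) = 4 * (2 * R - 1) ^ 2 * (E.k : ℝ) ^ 2 / Dd := by
    rw [eq_div_iff hDd0]; exact_mod_cast hTrue
  -- the false function
  have hrestF : ∑ χ ∈ rest, E.e false χ ^ 2 = (E.eta : ℤ) := by
    have h := E.sq_false
    rw [hsplit] at h
    simp only [hyval] at h
    rw [Fintype.sum_prod_type, Finset.sum_congr rfl (g := fun _ => ∑ a, E.e false (x a) ^ 2) (fun _ _ => rfl), Finset.sum_const, Finset.card_univ, Fintype.card_fin, nsmul_eq_mul,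
      Finset.sum_congr rfl fun a _ => show E.e false (x a) ^ 2 = (1 - sel a) * epsT a ^ 2 by
        rw [hselF]
        rcases hsel01 a with e | e <;> rw [e]
        · linear_combination (epsT a ^ 2) * hs a
        · ring, hF2] at h
    linarith
  have falseT : ∀ (F : IrrCharacter G → ℂ) (v : Fin 7 → ℝ) (tot : ℂ),
      (∀ (i : ℕ) a, (s a : ℂ) * F (f^[i] (x a)) = (v a : ℂ)) →
      ∑ χ, (E.e false χ : ℂ) * F χ = tot →
      ∑ χ ∈ rest, (E.e false χ : ℂ) * F χ =
        tot + (((E.k : ℝ) * (∑ a, (epsT a : ℝ) * v a - ∑ a, (sel a : ℝ) * epsT a * v a) : ℝ) : ℂ) := by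
    intro F v tot hv htot
    rw [hres false F (fun a => -((1 - sel a : ℝ) * epsT a * v a)) tot (fun i a => by
      rw [hselF]; push_cast; linear_combination (-((1 - (sel a : ℂ)) * (epsT a : ℂ))) * hv i a) htot]
    rw [show ∑ a, -((1 - sel a : ℝ) * epsT a * v a) = -(∑ a, (epsT a : ℝ) * v a - ∑ a, (sel a : ℝ) * epsT a * v a) by
      rw [← Finset.sum_sub_distrib, ← Finset.sum_neg_distrib]
      exact Finset.sum_congr rfl fun a _ => by ring]
    push_cast; ring
  have hFd := falseT (fun χ => (χ : G → ℂ) 1) D 0 hdC (E.sum_e_chi false (one_mul 1))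
  have hFt := falseT (fun χ => (χ : G → ℂ) S.t) (S.tau row) 0 htC (E.sum_e_chi false S.tt)
  have hFw := falseT S.wt (fun a => S.tau row a ^ 2 / D a) _ hwC (E.sum_e_wt false L.one_class)
  rw [hEd, show ((E.k : ℝ) * (0 - ∑ a, (sel a : ℝ) * epsT a * D a)) = Dd by rw [hDd, hSd]; ring, zero_add] at hFd
  rw [hEt, hSt, show ((E.k : ℝ) * (-(8 * (2 * R - 1)) - -(2 * (2 * R - 1)))) =
    -(6 * (2 * R - 1) * (E.k : ℝ)) by ring, zero_add] at hFt
  have hcard : (Nat.card S.Fld : ℂ) = (E.k : ℂ) * (Nat.card E.F₁ : ℂ) := by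
    rw [← Nat.cast_mul, E.card_F₁]
  have hFne : (Nat.card E.F₁ : ℂ) ≠ 0 := Nat.cast_ne_zero.2 Nat.card_pos.ne'
  rw [if_neg (Bool.false_ne_true), hEw, ← hSw] at hFw
  have hrhs : -(4 * (S.D.r : ℂ)) * S.kap / (Nat.card E.F₁ : ℂ) +
      (((E.k : ℝ) * (2 * (2 * R - 1) * R * S.Kr - 2 * ((3 * R - 1) * S.Kr) - Sw) : ℝ) : ℂ) =
      ((4 * (2 * R - 1) ^ 2 * (E.k : ℝ) ^ 2 / Dd - 2 * (4 * R - 1) * S.Kr * (E.k : ℝ) : ℝ) : ℂ) := by
    rw [← hTrue', S.kap_eq, hcard, hR]
    push_cast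
    field_simp
    ring
  rw [hrhs] at hFw
  have hFres : (36 * (2 * R - 1) ^ 2 * (E.k : ℝ) ^ 2 / Dd : ℝ) =
      4 * (2 * R - 1) ^ 2 * (E.k : ℝ) ^ 2 / Dd - 2 * (4 * R - 1) * S.Kr * (E.k : ℝ) := by
    have key : ∑ χ ∈ rest, (E.e false χ : ℂ) * S.wt χ = ((36 * (2 * R - 1) ^ 2 * (E.k : ℝ) ^ 2 / Dd : ℝ) : ℂ) := by
      rcases E.eta_cases hf with hη | ⟨hk3, hη, m, hm, hfix⟩
      · rw [hη] at hrestF
        obtain ⟨χ1, hχ1, hne1⟩ := Finset.exists_ne_zero_of_sum_ne_zero (by rw [hrestF]; exact one_ne_zero)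
        have hz : ∀ χ ∈ rest, χ ≠ χ1 → E.e false χ = 0 := by
          intro χ hχ hne
          by_contra hc
          have h2 : 2 ≤ ∑ χ ∈ rest, E.e false χ ^ 2 := by
            refine le_trans ?_ (Finset.sum_le_sum_of_subset_of_nonneg (s := {χ1, χ}) (by
              intro z hz
              simp only [Finset.mem_insert, Finset.mem_singleton] at hz
              rcases hz with rfl | rfl <;> assumption) fun _ _ _ => sq_nonneg _)
            rw [Finset.sum_pair hne.symm]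
            have a1 : 0 < E.e false χ1 ^ 2 := lt_of_le_of_ne (sq_nonneg _) (Ne.symm hne1)
            have a2 : 0 < E.e false χ ^ 2 := lt_of_le_of_ne (sq_nonneg _) (Ne.symm (pow_ne_zero 2 hc))
            omega
          omega
        have single : ∀ F : IrrCharacter G → ℂ, ∑ χ ∈ rest, (E.e false χ : ℂ) * F χ = (E.e false χ1 : ℂ) * F χ1 :=
          fun F => Finset.sum_eq_single χ1 (fun χ hχ hne => by rw [hz χ hχ hne, Int.cast_zero, zero_mul])
            fun hn => absurd hχ1 hn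
        rw [single] at hFd hFt ⊢
        have he1 : (E.e false χ1 : ℂ) ^ 2 = 1 := by
          rw [Finset.sum_eq_single χ1 (fun χ hχ hne => by rw [hz χ hχ hne]; ring) fun hn => absurd hχ1 hn] at hrestF
          exact_mod_cast hrestF
        have h1 : ((χ1 : G → ℂ) 1) ≠ 0 := IsIrr.one_ne_zero χ1.2
        have he1' : (E.e false χ1 : ℂ) ≠ 0 := fun e => by rw [e] at he1; norm_num at he1
        rw [Complex.ofReal_div, show ((36 * (2 * R - 1) ^ 2 * (E.k : ℝ) ^ 2 : ℝ) : ℂ) =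
          ((E.e false χ1 : ℂ) * (χ1 : G → ℂ) S.t) ^ 2 by rw [hFt]; push_cast; ring, ← hFd, ExtBase.wt]
        field_simp
      · rw [hη] at hrestF
        obtain ⟨hω, hmove⟩ := h3 hk3
        set U := rest.filter fun χ => E.e false χ ≠ 0 with hU
        have hfix' : ∀ χ ∈ U, f χ ≠ χ := by
          intro χ hχ e
          have hd := E.three_dvd_e hk3 hm hfix σ hσj hσl hω hmove χ e
          have hne : E.e false χ ≠ 0 := (Finset.mem_filter.1 hχ).2
          have hle : E.e false χ ^ 2 ≤ 3 := (Finset.single_le_sum (f := fun z => E.e false z ^ 2)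
            (fun z _ => sq_nonneg _) (Finset.mem_filter.1 hχ).1).trans (by rw [hrestF]; norm_num)
          obtain ⟨c, hc⟩ := hd
          rw [hc] at hne hle
          have : c ≠ 0 := fun e => hne (by rw [e, mul_zero])
          rcases lt_or_gt_of_ne this with h | h <;> nlinarith
        have hUc : ∀ χ ∈ U, f χ ∈ U := fun χ hχ => Finset.mem_filter.2
          ⟨hback χ (Finset.mem_filter.1 hχ).1, by rw [E.e_gal σ hσj hσl false]; exact (Finset.mem_filter.1 hχ).2⟩
        have hsum : ∀ F : IrrCharacter G → ℂ,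
            ∑ χ ∈ rest, (E.e false χ : ℂ) * F χ = ∑ χ ∈ U, (E.e false χ : ℂ) * F χ := fun F =>
          (Finset.sum_subset (Finset.filter_subset _ _) fun χ hχ hn => by
            rw [show E.e false χ = 0 from by by_contra hc; exact hn (Finset.mem_filter.2 ⟨hχ, hc⟩),
              Int.cast_zero, zero_mul]).symm
        have hUsq : ∑ χ ∈ U, E.e false χ ^ 2 = 3 := by
          rw [Finset.sum_subset (Finset.filter_subset _ _) fun χ hχ hn => by
            rw [show E.e false χ = 0 from by by_contra hc; exact hn (Finset.mem_filter.2 ⟨hχ, hc⟩)]; ring, hrestF]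
          norm_num
        have hU3 : U.card = 3 := by
          have h1 : ∀ χ ∈ U, 1 ≤ E.e false χ ^ 2 := fun χ hχ =>
            lt_of_le_of_ne (sq_nonneg _) (Ne.symm (pow_ne_zero 2 (Finset.mem_filter.1 hχ).2))
          have hle : (U.card : ℤ) ≤ 3 := by
            rw [← hUsq]; simpa using Finset.sum_le_sum h1
          have hge : 2 < U.card := by
            by_contra hlt
            push Not at hlt
            obtain ⟨χ, hχ⟩ := Finset.nonempty_of_sum_ne_zero (show (∑ χ ∈ U, E.e false χ ^ 2) ≠ 0 by rw [hUsq]; norm_num)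
            have hU2 : U = {χ, f χ} := (Finset.eq_of_subset_of_card_le (by
              intro z hz
              simp only [Finset.mem_insert, Finset.mem_singleton] at hz
              rcases hz with rfl | rfl
              exacts [hχ, hUc χ hχ]) (by rw [Finset.card_pair (hfix' χ hχ).symm]; exact hlt)).symm
            rw [hU2, Finset.sum_pair (hfix' χ hχ).symm, E.e_gal σ hσj hσl false] at hUsq
            omega
          omega
        obtain ⟨χ1, hχ1⟩ := Finset.card_pos.1 (by rw [hU3]; norm_num : 0 < U.card)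
        have three : ∀ F : IrrCharacter G → ℂ, (∀ χ, F (f χ) = F χ) →
            ∑ χ ∈ rest, (E.e false χ : ℂ) * F χ = 3 * ((E.e false χ1 : ℂ) * F χ1) := by
          intro F hF
          have hc := three_cycle hU3 f hUc (fun a _ b _ e => hfinj e) hfix' (fun χ => (E.e false χ : ℂ) * F χ)
            fun χ _ => by rw [E.e_gal σ hσj hσl false, hF]
          rw [hsum, Finset.sum_congr rfl fun χ hχ => hc χ hχ χ1 hχ1, Finset.sum_const, hU3, nsmul_eq_mul]
          norm_num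
        have hF1 : ∀ χ, ((f χ : IrrCharacter G) : G → ℂ) 1 = (χ : G → ℂ) 1 := fun χ => by
          rw [charDeg_spec', charDeg_spec', hdeg]
        have hFT : ∀ χ, ((f χ : IrrCharacter G) : G → ℂ) S.t = (χ : G → ℂ) S.t := fun χ => by
          obtain ⟨n, hn, -⟩ := Dih.char_involution_parity χ S.tt
          show σ ((χ : G → ℂ) S.t) = _
          rw [hn, map_intCast]
        rw [three _ hF1] at hFd
        rw [three _ hFT] at hFt
        rw [three _ fun χ => by rw [ExtBase.wt, hF1, hFT]; rfl]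
        have he1 : (E.e false χ1 : ℂ) ^ 2 = 1 := by
          have h1 : ∀ χ ∈ U, E.e false χ ^ 2 = E.e false χ1 ^ 2 := fun χ hχ =>
            three_cycle hU3 f hUc (fun a _ b _ e => hfinj e) hfix' (fun χ => E.e false χ ^ 2)
              (fun χ _ => by rw [E.e_gal σ hσj hσl false]) χ hχ χ1 hχ1
          rw [Finset.sum_congr rfl h1, Finset.sum_const, hU3, nsmul_eq_mul] at hUsq
          have : E.e false χ1 ^ 2 = 1 := by push_cast at hUsq; omega
          exact_mod_cast this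
        have h1 : ((χ1 : G → ℂ) 1) ≠ 0 := IsIrr.one_ne_zero χ1.2
        have he1' : (E.e false χ1 : ℂ) ≠ 0 := fun e => by rw [e] at he1; norm_num at he1
        rw [Complex.ofReal_div, show ((36 * (2 * R - 1) ^ 2 * (E.k : ℝ) ^ 2 : ℝ) : ℂ) =
          (3 * ((E.e false χ1 : ℂ) * (χ1 : G → ℂ) S.t)) ^ 2 by rw [hFt]; push_cast; ring, ← hFd, ExtBase.wt]
        field_simp
    rw [key] at hFw
    exact Complex.ofReal_inj.1 hFw
  have hres2 := ExtArith.residual hDd0 hFres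
  have hkR : (E.k : ℝ) ≠ 0 := Nat.cast_ne_zero.2 hk.ne'
  have hM0 : (2 * R - 1) ≠ 0 := by
    have h3r : (3 : ℝ) ≤ R := by rw [hR]; exact_mod_cast S.D.r3
    linarith
  rcases htype with ⟨h0, h3', h4, h5, h6⟩ | ⟨h0, h3', h4, h5, h6⟩
  · have hSd' : Sd = -(D 5 + D 6) := by
      simp [hSd, Fin.sum_univ_seven, epsT, h0, h3', h4, h5, h6]; ring
    have hSw' : Sw = -((2 * R - 1) ^ 2 * (1 / D 5 + 1 / D 6)) := by
      rw [hSw, Fin.sum_univ_seven, t5, t6]
      simp [epsT, h0, h3', h4, h5, h6]; ring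
    have hsum : D 5 + D 6 ≠ 0 := by
      intro e; apply hDd0; rw [hDd, hSd', e]; ring
    have hCC : D 5 = D 6 := ExtArith.eq_cc (hD0 5) (hD0 6) hM0 hkR hsum (by
      rw [hSw', show Dd = (E.k : ℝ) * (D 5 + D 6) by rw [hDd, hSd']; ring] at hTrue'
      linear_combination -hTrue')
    refine Or.inl ⟨hCC, ?_⟩
    rw [hDd, hSd', ← hCC] at hres2
    refine mul_left_cancel₀ (show 2 * (E.k : ℝ) ^ 2 ≠ 0 from mul_ne_zero two_ne_zero (pow_ne_zero 2 hkR)) ?_
    linear_combination hres2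
  · have hSd' : Sd = D 0 - D 3 := by
      simp [hSd, Fin.sum_univ_seven, epsT, h0, h3', h4, h5, h6]; ring
    have hSw' : Sw = 1 / D 0 - (4 * R - 1) ^ 2 / D 3 := by
      rw [hSw, Fin.sum_univ_seven, t0, t3]
      simp [epsT, h0, h3', h4, h5, h6]; ring
    have hsub : D 3 - D 0 ≠ 0 := by
      intro e; apply hDd0; rw [hDd, hSd', show D 0 - D 3 = 0 by linarith]; ring
    have hBZ : D 3 = (4 * R - 1) * D 0 := ExtArith.eq_zb (M := 2 * R - 1) (hD0 0) (hD0 3) hkR hsub (by ring) (by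
      rw [hSw', show Dd = (E.k : ℝ) * (D 3 - D 0) by rw [hDd, hSd']; ring] at hTrue'
      linear_combination -hTrue')
    refine Or.inr ⟨hBZ, ?_⟩
    rw [hDd, hSd', hBZ] at hres2
    refine mul_left_cancel₀ (show 2 * (2 * R - 1) * (E.k : ℝ) ^ 2 ≠ 0 from
      mul_ne_zero (mul_ne_zero two_ne_zero hM0) (pow_ne_zero 2 hkR)) ?_
    linear_combination hres2

end Exc

end Cfsg.Agent.Invol.JankoWard
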