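import Cfsg.Agent.Lib.Invol.JankoWard.ExtProj
import Cfsg.Agent.Lib.Invol.JankoWard.Swap
import Cfsg.Agent.Lib.Char.FieldAut

/-!
# Galois automorphisms on the twisted 2-blocks

`vE_gal`: the coordinates follow the projectives; `swap_one`: the exchange of the two halves;
`exists_shift`: for `ℓ ^ 2 ∣ |Fld|` the extensions of one character of the subgroup of index `ℓ` are conjugate.
-/

open scoped ComplexConjugate

set_option autoImplicit false
set_option linter.unusedSectionVars false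
set_option linter.style.haveILetI false

open scoped Classical

namespace Cfsg.Agent.Invol.JankoWard.ExtBase

open Cfsg Cfsg.Agent.Char Cfsg.Agent.Block

universe u v

variable {G : Type u} [Group G] [Fintype G] {P : Type v} [Group P] [Fintype P] (S : ExtBase G P)
variable (X : LChars S.D) {M : Ideal AlgInt} (hM : IsPModular 2 M)
include hM

theorem galIrr_hat (σ : ℂ ≃+* ℂ) (i : Fin 4) :
    ∃ j, ∀ x, σ ((S.hat X hM i : S.EG → ℂ) x) = (S.hat X hM j : S.EG → ℂ) x := by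
  haveI : Fact (Nat.Prime 2) := ⟨Nat.prime_two⟩
  obtain ⟨j, hj⟩ := (S.principal_EG X hM _).1 (PrinCol.galIrr_mem hM σ (S.hat_mem X hM i))
  exact ⟨j, fun x => congrFun (congrArg Subtype.val hj) x⟩

theorem PhiE_inv (l : S.Fld →* ℂˣ) (i : Fin 3) (x : S.EG) :
    conj (S.PhiE X hM l i x) = S.PhiE X hM l i x⁻¹ := by
  simp only [PhiE, map_sum, map_mul, map_intCast]
  exact Finset.sum_congr rfl fun j _ => by rw [IsIrr.apply_inv (S.tw X hM l j).2]

theorem vE_gal {σ : ℂ ≃+* ℂ} {l l' : S.Fld →* ℂˣ} {i i' : Fin 3}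
    (h : ∀ x, σ (S.PhiE X hM l i x) = S.PhiE X hM l' i' x) (χ : IrrCharacter G) :
    S.vE X hM l' i' (PrinCol.galIrr σ χ) = S.vE X hM l i χ := by
  have e : σ (S.vE X hM l i χ : ℂ) = (S.vE X hM l' i' (PrinCol.galIrr σ χ) : ℂ) := by
    rw [S.vE_eq X hM l i χ, S.vE_eq X hM l' i' _]
    simp only [classInner, map_mul, map_sum, map_inv₀, map_natCast, S.PhiE_inv X hM]
    congr 1
    refine Finset.sum_congr rfl fun k _ => ?_
    rw [h]
    rfl
  rw [map_intCast] at e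
  exact_mod_cast e.symm

/-- An automorphism exchanging the two halves. -/
theorem swap_one : ∃ σ : ℂ ≃+* ℂ, ∀ (i : Fin 3) (χ : IrrCharacter G),
    S.vE X hM 1 (sw i) (PrinCol.galIrr σ χ) = S.vE X hM 1 i χ := by
  obtain ⟨σ, -, h1, h2⟩ := X.swap
  let p : Fin 4 → Fin 4 := ![0, 1, 3, 2]
  have hS : ∀ k, σ ((X.St : P → ℂ) k) = (X.St : P → ℂ) k := fun k => by
    by_cases hk : 2 ∣ orderOf k
    · rw [X.St_even k hk, map_intCast]
    · rw [X.relation k hk, map_sub, map_add, h1, h2, map_intCast]; ring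
  have hp : ∀ (i : Fin 4) k, σ ((X.four i : P → ℂ) k) = (X.four (p i) : P → ℂ) k := by
    intro i k; fin_cases i <;> simp [p, LChars.four, trivialIrr, hS, h1, h2]
  have hh : ∀ (i : Fin 4) x, σ ((S.hat X hM i : S.EG → ℂ) x) = (S.hat X hM (p i) : S.EG → ℂ) x := by
    intro i
    obtain ⟨j, hj⟩ := S.galIrr_hat X hM σ i
    suffices e : j = p i by rwa [e] at hj
    refine X.four_injective (Subtype.ext (funext fun k => ?_))
    have := hj (S.ιE k)
    rw [S.hat_ι, S.hat_ι, hp] at this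
    exact this.symm
  refine ⟨σ, fun i χ => S.vE_gal X hM (fun x => ?_) χ⟩
  simp only [PhiE, S.tw_apply, MonoidHom.one_apply, Units.val_one, one_mul, map_sum, map_mul, map_intCast, hh]
  simp only [Fin.sum_univ_four]
  fin_cases i <;> simp [p, sw, LChars.coef] <;> ring

theorem hat_fixed {σ : ℂ ≃+* ℂ} {c N : ℕ}
    (hpow : ∀ (i : Fin 4) (x : S.EG), σ ((S.hat X hM i : S.EG → ℂ) x) = (S.hat X hM i : S.EG → ℂ) (x ^ c))
    (hodd : Odd N) (hN : ∀ x : S.EG, x ^ (c ^ N) = x) :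
    ∀ (i : Fin 4) x, σ ((S.hat X hM i : S.EG → ℂ) x) = (S.hat X hM i : S.EG → ℂ) x := by
  choose π hπ using S.galIrr_hat X hM σ
  have hrec : ∀ (n : ℕ) (i : Fin 4) x,
      (S.hat X hM i : S.EG → ℂ) (x ^ (c ^ n)) = (S.hat X hM (π^[n] i) : S.EG → ℂ) x := by
    intro n
    induction n with
    | zero => intro i x; simp
    | succ n ih =>
      intro i x
      rw [pow_succ', pow_mul', ← hpow, hπ, Function.iterate_succ_apply, ← ih]
  have hfin : ∀ i, π^[N] i = i := fun i => S.hat_injective X hM (Subtype.ext (funext fun x => by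
    rw [← hrec, hN]))
  have hdeg : ∀ n : Fin 4, (S.hat X hM n : S.EG → ℂ) 1 =
      (![1, (S.D.q : ℂ), ((S.D.q : ℂ) + S.D.δ) / 2, ((S.D.q : ℂ) + S.D.δ) / 2] n) := fun n => by
    rw [S.hat_one]
    fin_cases n <;> simp [LChars.four, trivialIrr, X.St_one, X.e1_one, X.e2_one]
  have hd : ∀ i, (S.hat X hM (π i) : S.EG → ℂ) 1 = (S.hat X hM i : S.EG → ℂ) 1 := fun i => by
    rw [← hπ, hpow, one_pow]
  intro i x
  suffices e : π i = i by rw [hπ, e]
  by_contra hne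
  -- a moved point is moved to its only companion, and back
  have hq := S.D.q_ge
  have c1 : ((S.D.q : ℂ) + S.D.δ) / 2 ≠ 1 := fun e => by
    have h' : ((S.D.q : ℤ) + S.D.δ : ℂ) = ((2 : ℤ) : ℂ) := by
      rw [div_eq_iff two_ne_zero] at e; push_cast; rw [e]; ring
    have h'' : (S.D.q : ℤ) + S.D.δ = 2 := by exact_mod_cast h'
    rcases S.D.hδ with d | d <;> omega
  have c2 : ((S.D.q : ℂ) + S.D.δ) / 2 ≠ (S.D.q : ℂ) := fun e => by
    have h' : ((S.D.q : ℤ) + S.D.δ : ℂ) = ((2 * (S.D.q : ℤ) : ℤ) : ℂ) := by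
      rw [div_eq_iff two_ne_zero] at e; push_cast; rw [e]; ring
    have h'' : (S.D.q : ℤ) + S.D.δ = 2 * (S.D.q : ℤ) := by exact_mod_cast h'
    rcases S.D.hδ with d | d <;> omega
  have c3 : (S.D.q : ℂ) ≠ 1 := fun e => by
    have : (S.D.q : ℕ) = 1 := by exact_mod_cast e
    omega
  have hone : ∀ j, π j = j ∨ (j = 2 ∧ π j = 3) ∨ (j = 3 ∧ π j = 2) := by
    intro j
    have h1 := hd j
    rw [hdeg, hdeg] at h1
    revert h1
    generalize π j = m
    intro h1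
    fin_cases j <;> fin_cases m <;> simp_all [c1, c2, c3, c1.symm, c2.symm, c3.symm]
  have hback : π (π i) = i := by
    rcases hone i with h | ⟨rfl, h⟩ | ⟨rfl, h⟩
    · exact absurd h hne
    · rcases hone 3 with h' | ⟨h', -⟩ | ⟨-, h'⟩
      · exfalso
        have h4 : ∀ n, π^[n + 1] 2 = 3 := fun n => by
          rw [Function.iterate_succ_apply, h]; exact Function.iterate_fixed h' n
        have h5 := hfin 2
        obtain ⟨n, hn⟩ := Nat.exists_eq_succ_of_ne_zero hodd.pos.ne'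
        rw [hn, h4] at h5
        exact absurd h5 (by decide)
      · exact absurd h' (by decide)
      · rw [h]; exact h'
    · rcases hone 2 with h' | ⟨-, h'⟩ | ⟨h', -⟩
      · exfalso
        have h4 : ∀ n, π^[n + 1] 3 = 2 := fun n => by
          rw [Function.iterate_succ_apply, h]; exact Function.iterate_fixed h' n
        have h5 := hfin 3
        obtain ⟨n, hn⟩ := Nat.exists_eq_succ_of_ne_zero hodd.pos.ne'
        rw [hn, h4] at h5
        exact absurd h5 (by decide)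
      · rw [h]; exact h'
      · exact absurd h' (by decide)
  obtain ⟨n, hn⟩ := hodd
  have h6 := hfin i
  rw [hn, show 2 * n + 1 = (2 * n).succ from rfl, Function.iterate_succ_apply', Function.iterate_mul,
    Function.iterate_fixed (f := π^[2]) (x := i) hback n] at h6
  exact hne h6

theorem exists_shift {ℓ : ℕ} (hℓ : ℓ.Prime) (hodd : ℓ ≠ 2) (h2 : ℓ ^ 2 ∣ Nat.card S.Fld)
    {l : S.Fld →* ℂˣ} (hl : Function.Injective l) :
    ∃ (σ : ℂ ≃+* ℂ) (ν : S.Fld →* ℂˣ), ν ≠ 1 ∧ ν ^ ℓ = 1 ∧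
      (∀ ζ : ℂ, ∀ n : ℕ, n ∣ Nat.card G → ¬ ℓ ∣ n → ζ ^ n = 1 → σ ζ = ζ) ∧
      (∀ ζ : ℂ, ζ ^ (Nat.card S.Fld / ℓ) = 1 → σ ζ = ζ) ∧
      (∀ a : S.Fld, ∀ i : ℕ, σ (((l * ν ^ i) a : ℂˣ) : ℂ) = (((l * ν ^ (i + 1)) a : ℂˣ) : ℂ)) ∧
      (∀ (i : ℕ) (j : Fin 3) (χ : IrrCharacter G),
        S.vE X hM (l * ν ^ (i + 1)) j (PrinCol.galIrr σ χ) = S.vE X hM (l * ν ^ i) j χ) := by
  haveI := S.F_cyclic
  set g := Nat.card G with hg
  set e := Nat.card S.Fld with he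
  have hge : e ∣ g := Subgroup.card_subgroup_dvd_card _
  have hg0 : g ≠ 0 := Nat.card_pos.ne'
  have he0 : e ≠ 0 := Nat.card_pos.ne'
  obtain ⟨A, n', hn', hgA⟩ := Nat.exists_eq_pow_mul_and_not_dvd hg0 ℓ hℓ.ne_one
  obtain ⟨a, e', he', hea⟩ := Nat.exists_eq_pow_mul_and_not_dvd he0 ℓ hℓ.ne_one
  have hco : ∀ {n : ℕ}, ¬ ℓ ∣ n → n.Coprime ℓ := fun h => (hℓ.coprime_iff_not_dvd.2 h).symm
  have ha : 2 ≤ a := by
    rw [hea] at h2
    have h3 : ℓ ^ 2 ∣ ℓ ^ a := ((hco he').pow_right 2).symm.dvd_of_dvd_mul_right h2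
    exact (Nat.pow_dvd_pow_iff_le_right hℓ.one_lt).1 h3
  have hdn : ∀ {n : ℕ}, n ∣ g → ¬ ℓ ∣ n → n ∣ n' := fun {n} h h' =>
    ((hco h').pow_right A).dvd_of_dvd_mul_left (hgA ▸ h)
  have he'n : e' ∣ n' := hdn (Dvd.dvd.trans ⟨ℓ ^ a, by rw [hea]; ring⟩ hge) he'
  set k := n' * ℓ ^ (a - 1) with hk
  set c := 1 + k with hc
  have hla : ℓ ∣ ℓ ^ (a - 1) := dvd_pow_self _ (by omega)
  have hkℓ : ℓ ∣ k := hla.mul_left _
  have hcℓ : ¬ ℓ ∣ c := fun h => hℓ.not_dvd_one ((Nat.dvd_add_left hkℓ).1 h)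
  have hcg : c.Coprime g := by
    rw [hgA]
    refine Nat.Coprime.mul_right ((hco hcℓ).pow_right A) ?_
    exact Nat.coprime_of_dvd' fun d _ hdc hdn' => (Nat.dvd_add_left (hdn'.mul_right _)).1 hdc
  obtain ⟨σ, hσ⟩ := exists_ringAut_pow g c (Nat.pos_of_ne_zero hg0) hcg
  -- roots fixed by `σ`
  have hfix : ∀ {ζ : ℂ} {n : ℕ}, n ∣ g → n ∣ k → ζ ^ n = 1 → σ ζ = ζ := by
    intro ζ n hng hnk hz
    obtain ⟨m, hm⟩ := hng
    obtain ⟨r, hr⟩ := hnk
    rw [hσ ζ (by rw [hm, pow_mul, hz, one_pow]), hc, pow_add, pow_one, hr, pow_mul, hz, one_pow, mul_one]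
  have hval : ∀ (m : S.Fld →* ℂˣ) (x : S.Fld), ((m x : ℂˣ) : ℂ) ^ e = 1 := fun m x => by
    rw [← Units.val_pow_eq_pow_val, ← map_pow, he, pow_card_eq_one', map_one, Units.val_one]
  let ν : S.Fld →* ℂˣ := l ^ k
  have hek : e ∣ k * ℓ := by
    obtain ⟨r, hr⟩ := he'n
    refine ⟨r, ?_⟩
    rw [hk, hea, hr, mul_assoc, ← pow_succ, show a - 1 + 1 = a by omega]
    ring
  have hnotek : ¬ e ∣ k := fun h => by
    have h3 : ℓ ^ a ∣ k := Dvd.dvd.trans ⟨e', hea⟩ h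
    have h4 : ℓ ^ a ∣ ℓ ^ (a - 1) := ((hco hn').pow_right a).symm.dvd_of_dvd_mul_left h3
    have := (Nat.pow_dvd_pow_iff_le_right hℓ.one_lt).1 h4
    omega
  have hν1 : ν ≠ 1 := fun h => by
    obtain ⟨x, hx⟩ := IsCyclic.exists_generator (α := S.Fld)
    have hx1 : x ^ k = 1 := hl (by rw [map_pow, map_one]; exact DFunLike.congr_fun h x)
    exact hnotek (by rw [he, ← orderOf_eq_card_of_forall_mem_zpowers hx]; exact orderOf_dvd_of_pow_eq_one hx1)
  have hνℓ : ν ^ ℓ = 1 := MonoidHom.ext fun x => by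
    obtain ⟨r, hr⟩ := hek
    show ((l x) ^ k) ^ ℓ = 1
    rw [← pow_mul, hr, pow_mul, ← map_pow, he, pow_card_eq_one', map_one, one_pow]
  have hνv : ∀ x, ((ν x : ℂˣ) : ℂ) ^ ℓ = 1 := fun x => by
    rw [← Units.val_pow_eq_pow_val, ← MonoidHom.pow_apply, hνℓ, MonoidHom.one_apply, Units.val_one]
  have hℓg : ℓ ∣ g := Dvd.dvd.trans (Dvd.dvd.trans (dvd_pow_self ℓ two_ne_zero) h2) hge
  have hshift : ∀ x : S.Fld, ∀ i : ℕ,
      σ (((l * ν ^ i) x : ℂˣ) : ℂ) = (((l * ν ^ (i + 1)) x : ℂˣ) : ℂ) := by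
    intro x i
    have h1 : σ ((l x : ℂˣ) : ℂ) = ((l x : ℂˣ) : ℂ) * ((ν x : ℂˣ) : ℂ) := by
      obtain ⟨r, hr⟩ := hge
      rw [hσ _ (by rw [hr, pow_mul, hval, one_pow]), hc, pow_add, pow_one]
      rfl
    have h3 : σ ((ν x : ℂˣ) : ℂ) = ((ν x : ℂˣ) : ℂ) := hfix hℓg hkℓ (hνv x)
    simp only [MonoidHom.mul_apply, MonoidHom.pow_apply, Units.val_mul, Units.val_pow_eq_pow_val, map_mul,
      map_pow, h1, h3, pow_succ]
    ring
  -- `σ` fixes the four extensions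
  have hpow : ∀ {H : Subgroup G} (χ : IrrCharacter H) (x : H),
      σ ((χ : H → ℂ) x) = (χ : H → ℂ) (x ^ c) := fun {H} χ x =>
    ringAut_character_eq_pow (irr_isChar χ) σ hσ ((Subgroup.orderOf_coe x).symm ▸ orderOf_dvd_natCard (x : G))
  have hN : ∀ x : S.EG, x ^ (c ^ ℓ ^ A) = x := by
    intro x
    have h1 : (ℓ ^ A : ℕ) * n' ∣ c ^ ℓ ^ A - 1 := by
      refine Nat.Coprime.mul_dvd_of_dvd_of_dvd (((hco hn').pow_right A).symm) ?_ ?_
      · have h := dvd_sub_pow_of_dvd_sub (R := ℤ) (p := ℓ) (a := (c : ℤ)) (b := 1)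
          (by rw [hc]; push_cast; simpa using Int.natCast_dvd_natCast.2 hkℓ) A
        rw [one_pow] at h
        have h' : ((ℓ ^ A : ℕ) : ℤ) ∣ ((c ^ ℓ ^ A - 1 : ℕ) : ℤ) := by
          rw [Nat.cast_sub (Nat.one_le_pow _ _ (by omega))]
          push_cast
          exact Dvd.dvd.trans (pow_dvd_pow _ (Nat.le_succ A)) h
        exact Int.natCast_dvd_natCast.1 h'
      · have h := Nat.sub_dvd_pow_sub_pow c 1 (ℓ ^ A)
        rw [one_pow, hc, Nat.add_sub_cancel_left] at h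
        exact Dvd.dvd.trans (Dvd.intro _ rfl) h
    rw [← hgA] at h1
    have h2' : orderOf x ∣ c ^ ℓ ^ A - 1 := by
      rw [← Subgroup.orderOf_coe]
      exact (orderOf_dvd_natCard _).trans h1
    calc x ^ (c ^ ℓ ^ A) = x ^ (c ^ ℓ ^ A - 1 + 1) := by
          rw [Nat.sub_add_cancel (Nat.one_le_pow _ _ (by omega))]
      _ = x := by rw [pow_succ, orderOf_dvd_iff_pow_eq_one.1 h2', one_mul]
  have hhat : ∀ (i : Fin 4) x, σ ((S.hat X hM i : S.EG → ℂ) x) = (S.hat X hM i : S.EG → ℂ) x :=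
    S.hat_fixed X hM (fun i x => hpow (S.hat X hM i) x) ((hℓ.odd_of_ne_two hodd).pow (n := A)) hN
  refine ⟨σ, ν, hν1, hνℓ, fun ζ n hn hn2 => hfix hn (Dvd.dvd.mul_right (hdn hn hn2) _), fun ζ hζ => ?_,
    hshift, fun i j χ => S.vE_gal X hM (fun x => ?_) χ⟩
  · have h3 : e / ℓ = e' * ℓ ^ (a - 1) := by
      rw [hea, show ℓ ^ a = ℓ ^ (a - 1) * ℓ by rw [← pow_succ, show a - 1 + 1 = a by omega],
        mul_right_comm, Nat.mul_div_cancel _ hℓ.pos, mul_comm]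
    exact hfix (Dvd.dvd.trans (Nat.div_dvd_of_dvd (Dvd.dvd.trans (dvd_pow_self ℓ two_ne_zero) h2)) hge)
      (h3 ▸ Nat.mul_dvd_mul_right he'n _) hζ
  · simp only [PhiE, S.tw_apply, map_sum, map_mul, map_intCast, hhat, hshift]

end Cfsg.Agent.Invol.JankoWard.ExtBase
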