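import Cfsg.Agent.Lib.Invol.JankoWard.ExtFreeCore
import Cfsg.Agent.Lib.Invol.JankoWard.ExtLocalsEx
import Cfsg.Agent.Lib.Invol.JankoWard.ExtTablePSL
import Cfsg.Agent.Lib.Classical.DicksonCentral

/-!
# The element of order three is free on the torus

In the field configuration with `q = 3^f` the element `g` of `ExtLocals` fixes only the identity of `Y`.
-/

set_option autoImplicit false
set_option linter.unusedSectionVars false
set_option linter.style.haveILetI false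

namespace Cfsg.Agent.Invol.JankoWard

open Subgroup

universe u v

/-- The centraliser of an element of order three of `L2(3^n)`. -/
theorem psl_three {Q : Type v} [Group Q] [Finite Q] {K : Type} [Field K] [Fintype K] {n : ℕ}
    (hK : Fintype.card K = 3 ^ n) (e : Q ≃* Matrix.ProjectiveSpecialLinearGroup (Fin 2) K) {d : Q}
    (hd3 : d ^ 3 = 1) (hd1 : d ≠ 1) :
    Nat.card ↥(centralizer ({d} : Set Q)) = 3 ^ n ∧ (∀ z, z * d = d * z → z ^ 3 = 1) ∧
      (∀ y z, y * d = d * y → z * d = d * z → y * z = z * y) ∧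
      Nat.card Q ∣ 3 ^ n * ((3 ^ n - 1) * (3 ^ n + 1)) := by
  classical
  haveI : Fact (Nat.Prime 3) := ⟨Nat.prime_three⟩
  haveI : CharP K 3 := PSL.char_three hK Nat.prime_three
  set D := Dickson.pslData (F := K) 3
  have he1 : e d ≠ 1 := fun h => hd1 (e.map_eq_one_iff.1 h)
  have he3 : e d ^ 3 = 1 := by rw [← map_pow, hd3, map_one]
  have hC := Dickson.centralizer_eq_tor 3 he1 (Or.inl he3)
  have hz : ∀ z, z * d = d * z → e z ∈ Dickson.tor (e d) := fun z h => by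
    rw [← hC, mem_centralizer_singleton_iff, ← map_mul, h, map_mul]
  refine ⟨?_, fun z h => ?_, fun y z hy h => ?_, ?_⟩
  · rw [← hK, ← Dickson.card_tor_uni 3 he1 he3, ← hC]
    refine Nat.card_congr (e.toEquiv.subtypeEquiv fun z => ?_)
    simp [mem_centralizer_singleton_iff, ← map_mul]
  · have h1 := D.uni_exp he1 he3 (hz z h)
    rwa [← map_pow, e.map_eq_one_iff] at h1
  · have h1 : Commute (e y) (e z) := D.comm he1 (hz y hy) (hz z h)
    exact e.injective (by rw [map_mul, map_mul]; exact h1.eq)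
  · rw [← hK, Nat.card_congr e.toEquiv, ← Dickson.card_psl (F := K)]
    exact dvd_mul_right _ _

variable {G : Type u} [Group G] {P : Type v} [Group P]

/-- The normalised configuration of a fixed element of `Y`. -/
structure FixCfg (S : ExtBase G P) where
  /-- the prime -/
  l : ℕ
  /-- the fixed element -/
  t0 : P
  /-- the element of order three -/
  g : G
  /-- the element moving `t` -/
  c : G
  /-- the preimage of `g` -/
  d : P
  /-- the involution with `c t c⁻¹ = t w'` -/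
  w' : P
  hl : l.Prime
  ht0 : t0 ∈ S.D.Y
  hord : orderOf t0 = l
  gT : Commute g (S.ι t0)
  g3 : g ^ 3 = 1
  gt : g * S.t * g⁻¹ = S.ι S.D.u
  gu : g * S.ι S.D.u * g⁻¹ = S.t * S.ι S.D.u
  gx : g * (c * S.t * c⁻¹) = c * S.t * c⁻¹ * g
  gF : ∀ a ∈ S.Fld, g * a = a * g
  gY : ∀ y ∈ S.D.Y, ∃ y' ∈ S.D.Y, g * S.ι y * g⁻¹ = S.ι y'
  ct : c * S.t * c⁻¹ = S.t * S.ι w'
  hw' : w' = S.D.w ∨ w' = S.D.u * S.D.w
  gd : g = c * S.ι d * c⁻¹
  d3 : d ^ 3 = 1
  dF : ∀ a ∈ S.Fld, Commute a (S.ι d)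
  cF : ∀ a ∈ S.Fld, c * a * c⁻¹ ∈ S.Fld
  cF' : ∀ a ∈ S.Fld, c⁻¹ * a * c ∈ S.Fld

/-- The four-group `⟨t, u⟩`. -/
def ExtBase.tuGroup (S : ExtBase G P) : Subgroup G :=
  fourSub S.t (S.ι S.D.u) S.tt (by rw [← map_mul, S.D.u2, map_one]) (S.tc _).symm

namespace FixCfg

variable {S : ExtBase G P} (C : FixCfg S)
include C

/-- The fixed element in `G`. -/
abbrev T : G := S.ι C.t0

/-- The conjugate involution. -/
abbrev x : G := C.c * S.t * C.c⁻¹

/-- The embedding of `P` in the centraliser of `x`. -/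
def j : P →* G := (MulAut.conj C.c).toMonoidHom.comp S.ι

theorem j_apply (k : P) : C.j k = C.c * S.ι k * C.c⁻¹ := rfl

theorem g_eq : C.g = C.j C.d := C.gd

theorem j_inj : Function.Injective C.j := fun a b h => by
  rw [C.j_apply, C.j_apply] at h
  exact S.inj (mul_left_cancel (mul_right_cancel h))

theorem j_x (k : P) : Commute (C.j k) C.x := by
  show C.c * S.ι k * C.c⁻¹ * (C.c * S.t * C.c⁻¹) = C.c * S.t * C.c⁻¹ * (C.c * S.ι k * C.c⁻¹)
  rw [conj_mul, conj_mul, S.tc]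

theorem w'_sq : C.w' * C.w' = 1 := by
  rcases C.hw' with e | e <;> rw [e]
  · exact S.D.w2
  · rw [mul_assoc, ← mul_assoc S.D.w, ← S.D.comm, mul_assoc, S.D.w2, mul_one, S.D.u2]

theorem w'_Y {y : P} (hy : y ∈ S.D.Y) : C.w' * y * C.w'⁻¹ = y⁻¹ := by
  rcases C.hw' with e | e <;> rw [e]
  · exact S.D.w_Y y hy
  · rw [show S.D.u * S.D.w * y * (S.D.u * S.D.w)⁻¹ = S.D.u * (S.D.w * y * S.D.w⁻¹) * S.D.u⁻¹ by group,
      S.D.w_Y y hy, S.D.u_Y _ (inv_mem hy), mul_inv_cancel_right]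

theorem x_eq : C.x = S.t * S.ι C.w' := C.ct

theorem x_sq : C.x * C.x = 1 := by
  show C.c * S.t * C.c⁻¹ * (C.c * S.t * C.c⁻¹) = 1
  rw [conj_mul, S.tt, mul_one, mul_inv_cancel]

theorem x_Y {y : P} (hy : y ∈ S.D.Y) : C.x * S.ι y * C.x⁻¹ = (S.ι y)⁻¹ := by
  rw [C.x_eq, show S.t * S.ι C.w' * S.ι y * (S.t * S.ι C.w')⁻¹ =
      S.t * (S.ι C.w' * S.ι y * (S.ι C.w')⁻¹) * S.t⁻¹ by group, ← map_inv, ← map_mul, ← map_mul, C.w'_Y hy,
    ← S.tc, mul_inv_cancel_right, map_inv]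

theorem F_x {a : G} (ha : a ∈ S.Fld) : Commute a C.x := by
  rw [C.x_eq]
  refine (show Commute a S.t from S.Ft a ha).mul_right ?_
  rcases C.hw' with e | e <;> rw [e]
  · exact S.Fw a ha
  · rw [map_mul]; exact (show Commute a _ from S.Fu a ha).mul_right (S.Fw a ha)

theorem F_j {a : G} (ha : a ∈ S.Fld) (k : P) : ∃ k', a * C.j k * a⁻¹ = C.j k' := by
  obtain ⟨k', hk'⟩ := S.F_norm _ (C.cF' a ha) k
  refine ⟨k', ?_⟩
  rw [C.j_apply, C.j_apply, ← hk']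
  group

theorem j_disj {a : G} (ha : a ∈ S.Fld) {k : P} (e : C.j k = a) : a = 1 := by
  have h := S.F_disj _ (C.cF' a ha) k (by rw [← e, C.j_apply]; group)
  rwa [show C.c⁻¹ * a * C.c = C.c⁻¹ * a * C.c⁻¹⁻¹ by group, conj_eq_one_iff] at h

theorem x_cover {m : G} (h : m * C.x = C.x * m) :
    ∃ k, ∃ a ∈ S.Fld, m = C.j k * a ∨ m = C.x * (C.j k * a) := by
  obtain ⟨k, a, ha, e⟩ := S.cover (C.c⁻¹ * m * C.c) (by
    calc C.c⁻¹ * m * C.c * S.t = C.c⁻¹ * (m * (C.c * S.t * C.c⁻¹)) * C.c := by group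
      _ = C.c⁻¹ * (C.c * S.t * C.c⁻¹ * m) * C.c := by rw [h]
      _ = S.t * (C.c⁻¹ * m * C.c) := by group)
  refine ⟨k, _, C.cF a ha, ?_⟩
  have hm : m = C.c * (C.c⁻¹ * m * C.c) * C.c⁻¹ := by group
  rcases e with e | e <;> rw [e] at hm
  · left; rw [hm, C.j_apply]; group
  · right; rw [hm, C.j_apply]; simp only [x]; group

theorem l_dvd : C.l ∣ S.D.r := C.hord ▸ orderOf_dvd_of_pow_eq_one (S.D.pow_r C.ht0)

theorem t0_ne : C.t0 ≠ 1 := fun e => C.hl.ne_one (by rw [← C.hord, e, orderOf_one])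

theorem l_odd : Odd C.l := S.D.r_odd.of_dvd_nat C.l_dvd

theorem T_ord : orderOf C.T = C.l := by rw [T, orderOf_injective S.ι S.inj, C.hord]

theorem T_pow : C.T ^ C.l = 1 := (congrArg (C.T ^ ·) C.T_ord).symm.trans (pow_orderOf_eq_one C.T)

/-- The field elements fixing the point. -/
def F1 : Subgroup G := S.Fld ⊓ centralizer ({C.T} : Set G)

theorem mem_F1 {a : G} : a ∈ C.F1 ↔ a ∈ S.Fld ∧ a * C.T = C.T * a := by
  rw [F1, mem_inf, mem_centralizer_singleton_iff]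

section

variable [Finite P]

theorem F_T {a : G} (ha : a ∈ S.Fld) :
    ∃ t1 ∈ S.D.Y, a * C.T * a⁻¹ = S.ι t1 ∧ t1 ∈ zpowers C.t0 := by
  obtain ⟨t1, ht1, e⟩ := S.F_Y ha C.ht0
  haveI := S.D.Y_cyclic
  refine ⟨t1, ht1, e, mem_zpowers_of_cyclic C.hl C.ht0 ht1 C.hord (S.inj ?_)⟩
  rw [map_pow, ← e, conj_pow, C.T_pow, mul_one, mul_inv_cancel, map_one]

theorem no_invert [Finite G] {a : G} (ha : a ∈ S.Fld) : a * C.T * a⁻¹ ≠ C.T⁻¹ := by
  intro h
  have h2 : a ^ 2 * C.T * (a ^ 2)⁻¹ = C.T := by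
    rw [pow_two, show a * a * C.T * (a * a)⁻¹ = a * (a * C.T * a⁻¹) * a⁻¹ by group, h, ← conj_inv, h, inv_inv]
  have hc : Commute a C.T := commute_of_sq (by rw [← pow_two]; exact mul_inv_eq_iff_eq_mul.1 h2)
    (S.F_odd_order ha) (pow_orderOf_eq_one a)
  rw [hc.eq, mul_inv_cancel_right] at h
  refine C.t0_ne (S.inj ?_)
  rw [map_one]
  refine eq_one_of_two_odd ⟨1, ?_⟩ C.l_odd C.T_pow
  rw [pow_one, pow_two]
  nth_rewrite 1 [show S.ι C.t0 = (S.ι C.t0)⁻¹ from h]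
  exact inv_mul_cancel _

/-- The torus of the fixed point configuration. -/
def W : Subgroup G where
  carrier := {z | ∃ y ∈ S.D.Y, S.ι y ∈ centralizer (C.F1 : Set G) ∧ ∃ a ∈ C.F1, z = S.ι y * a}
  one_mem' := ⟨1, one_mem _, by rw [map_one]; exact one_mem _, 1, one_mem _, by rw [map_one, one_mul]⟩
  mul_mem' := by
    rintro z z' ⟨y, hy, hyc, a, ha, rfl⟩ ⟨y', hy', hyc', a', ha', rfl⟩
    refine ⟨y * y', mul_mem hy hy', by rw [map_mul]; exact mul_mem hyc hyc', a * a', mul_mem ha ha', ?_⟩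
    rw [map_mul, mul_assoc, ← mul_assoc a, mem_centralizer_iff.1 hyc' a ha]
    group
  inv_mem' := by
    rintro z ⟨y, hy, hyc, a, ha, rfl⟩
    refine ⟨y⁻¹, inv_mem hy, by rw [map_inv]; exact inv_mem hyc, a⁻¹, inv_mem ha, ?_⟩
    rw [mul_inv_rev, map_inv, mem_centralizer_iff.1 (inv_mem hyc) a⁻¹ (inv_mem ha)]

theorem F1_le_cent : C.F1 ≤ centralizer (C.F1 : Set G) := fun a ha => mem_centralizer_iff.2 fun b hb => by
  haveI := S.F_cyclic
  exact congrArg Subtype.val (mul_comm' (⟨b, (C.mem_F1.1 hb).1⟩ : ↥S.Fld) ⟨a, (C.mem_F1.1 ha).1⟩)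

theorem W_comm {z z' : G} (hz : z ∈ C.W) (hz' : z' ∈ C.W) : z * z' = z' * z := by
  obtain ⟨y, hy, hyc, a, ha, rfl⟩ := hz
  obtain ⟨y', hy', hyc', a', ha', rfl⟩ := hz'
  haveI := S.D.Y_cyclic
  have c1 : Commute (S.ι y) (S.ι y') :=
    (show Commute y y' from congrArg Subtype.val (mul_comm' (⟨y, hy⟩ : ↥S.D.Y) ⟨y', hy'⟩)).map S.ι
  have c2 : Commute (S.ι y) a' := (mem_centralizer_iff.1 hyc a' ha').symm
  have c3 : Commute (S.ι y') a := (mem_centralizer_iff.1 hyc' a ha).symm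
  have c4 : Commute a a' := (mem_centralizer_iff.1 (C.F1_le_cent ha) a' ha').symm
  exact ((c1.mul_right c2).mul_left (c3.symm.mul_right c4)).eq

/-- The centraliser of the fixed point and of its field stabiliser. -/
def X : Subgroup G := centralizer ({C.T} : Set G) ⊓ centralizer (C.F1 : Set G)

theorem mem_X {m : G} : m ∈ C.X ↔ m * C.T = C.T * m ∧ ∀ a ∈ C.F1, a * m = m * a := by
  rw [X, mem_inf, mem_centralizer_singleton_iff, mem_centralizer_iff]
  rfl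

theorem g_X : C.g ∈ C.X := C.mem_X.2 ⟨C.gT.eq, fun a ha => (C.gF a (C.mem_F1.1 ha).1).symm⟩

theorem V_X : S.tuGroup ≤ C.X := by
  have ht : S.t ∈ C.X := C.mem_X.2 ⟨(S.tc _).symm, fun a ha => S.Ft a (C.mem_F1.1 ha).1⟩
  have hu : S.ι S.D.u ∈ C.X := C.mem_X.2 ⟨by rw [T, ← map_mul, ← map_mul, S.D.u_Y _ C.ht0],
    fun a ha => S.Fu a (C.mem_F1.1 ha).1⟩
  rintro v (rfl | rfl | rfl | rfl)
  exacts [one_mem _, ht, hu, mul_mem ht hu]

theorem W_X : C.W ≤ C.X := by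
  rintro z ⟨y, hy, hyc, a, ha, rfl⟩
  refine mul_mem (C.mem_X.2 ⟨?_, fun b hb => mem_centralizer_iff.1 hyc b hb⟩)
    (C.mem_X.2 ⟨(C.mem_F1.1 ha).2, fun b hb => mem_centralizer_iff.1 (C.F1_le_cent ha) b hb⟩)
  haveI := S.D.Y_cyclic
  rw [T, ← map_mul, ← map_mul,
    show y * C.t0 = C.t0 * y from congrArg Subtype.val (mul_comm' (⟨y, hy⟩ : ↥S.D.Y) ⟨C.t0, C.ht0⟩)]

theorem g_V {v : G} (hv : v ∈ S.tuGroup) : C.g * v * C.g⁻¹ ∈ S.tuGroup := by
  have htu : C.g * (S.t * S.ι S.D.u) * C.g⁻¹ = S.t := by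
    rw [← conj_mul, C.gt, C.gu, ← mul_assoc, S.tc, mul_assoc, ← map_mul, S.D.u2, map_one, mul_one]
  rcases hv with rfl | rfl | rfl | rfl
  · left; group
  · rw [C.gt]; exact Or.inr (Or.inr (Or.inl rfl))
  · rw [C.gu]; exact Or.inr (Or.inr (Or.inr rfl))
  · rw [htu]; exact Or.inr (Or.inl rfl)

theorem g_move {v : G} (hv : v ∈ S.tuGroup) (hv1 : v ≠ 1) : C.g * v * C.g⁻¹ ≠ v := by
  have htu : C.g * (S.t * S.ι S.D.u) * C.g⁻¹ = S.t := by
    rw [← conj_mul, C.gt, C.gu, ← mul_assoc, S.tc, mul_assoc, ← map_mul, S.D.u2, map_one, mul_one]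
  rcases hv with rfl | rfl | rfl | rfl
  · exact absurd rfl hv1
  · rw [C.gt]; exact S.t_not _
  · rw [C.gu]; exact fun e => S.t_ne (mul_eq_right.1 e)
  · rw [htu]; exact fun e => S.D.u1 (S.inj ((left_eq_mul.1 e).trans (map_one _).symm))

theorem g_W {z : G} (hz : z ∈ C.W) : C.g * z * C.g⁻¹ ∈ C.W := by
  obtain ⟨y, hy, hyc, a, ha, rfl⟩ := hz
  obtain ⟨y', hy', e⟩ := C.gY y hy
  have hgc : C.g ∈ centralizer (C.F1 : Set G) := (C.mem_X.1 C.g_X).2 |> fun h => mem_centralizer_iff.2 h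
  refine ⟨y', hy', e ▸ mul_mem (mul_mem hgc hyc) (inv_mem hgc), a, ha, ?_⟩
  rw [← conj_mul, e, C.gF a (C.mem_F1.1 ha).1, mul_inv_cancel_right]

theorem cent_t [Finite G] {m : G} (hm : m ∈ C.X) (ht : m * S.t = S.t * m) :
    ∃ z ∈ C.W, ∃ v ∈ S.tuGroup, m = v * z := by
  obtain ⟨k, a, ha, e⟩ := S.cover m ht
  obtain ⟨hmT, hmF⟩ := C.mem_X.1 hm
  obtain ⟨t1, ht1, hat, ht1z⟩ := C.F_T ha
  have hkT : k * t1 * k⁻¹ = C.t0 := by
    refine S.inj ?_
    have h1 : m * C.T * m⁻¹ = C.T := by rw [hmT, mul_inv_cancel_right]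
    rcases e with e | e <;> rw [e] at h1
    · rw [map_mul, map_mul, map_inv, ← hat]
      refine Eq.trans ?_ h1
      group
    · rw [show S.t * (S.ι k * a) * C.T * (S.t * (S.ι k * a))⁻¹ =
        S.t * (S.ι k * (a * C.T * a⁻¹) * (S.ι k)⁻¹) * S.t⁻¹ by group, hat, ← map_inv, ← map_mul, ← map_mul,
        ← S.tc, mul_inv_cancel_right] at h1
      exact h1
  have hku : k * S.D.u = S.D.u * k := by
    refine mul_inv_eq_iff_eq_mul.1 ?_
    obtain ⟨y, hy, e'⟩ := S.D.cent_Y C.t0 C.ht0 C.t0_ne (k * S.D.u * k⁻¹) (by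
      rw [← hkT, conj_mul, conj_mul, S.D.u_Y _ ht1])
    have hsq : k * S.D.u * k⁻¹ * (k * S.D.u * k⁻¹) = 1 := by rw [conj_mul, S.D.u2, mul_one, mul_inv_cancel]
    rcases e' with e' | e' <;> rw [e'] at hsq
    · exfalso
      rw [eq_one_of_two_odd ⟨1, by rw [pow_one, pow_two, hsq]⟩ S.D.r_odd (S.D.pow_r hy), conj_eq_one_iff] at e'
      exact S.D.u1 e'
    · rw [mul_assoc, ← mul_assoc y, ← S.D.u_Y y hy, mul_assoc, ← mul_assoc, S.D.u2, one_mul] at hsq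
      rw [e', eq_one_of_two_odd ⟨1, by rw [pow_one, pow_two, hsq]⟩ S.D.r_odd (S.D.pow_r hy), mul_one]
  obtain ⟨y, hy, hk⟩ := S.D.cent_u k hku
  haveI := S.D.Y_cyclic
  have hy1 : y * t1 * y⁻¹ = t1 := by
    rw [show y * t1 = t1 * y from congrArg Subtype.val (mul_comm' (⟨y, hy⟩ : ↥S.D.Y) ⟨t1, ht1⟩),
      mul_inv_cancel_right]
  have hu1 : S.D.u * t1 * S.D.u⁻¹ = t1 := by rw [S.D.u_Y _ ht1, mul_inv_cancel_right]
  have hbad : t1 ≠ C.t0⁻¹ := fun h => C.no_invert ha (by rw [hat, h, map_inv])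
  obtain ⟨hat0, u', hu', hk'⟩ : t1 = C.t0 ∧ ∃ u', (u' = 1 ∨ u' = S.D.u) ∧ k = u' * y := by
    rcases hk with rfl | rfl | rfl | rfl
    · exact ⟨hy1.symm.trans hkT, 1, Or.inl rfl, (one_mul _).symm⟩
    · refine ⟨?_, S.D.u, Or.inr rfl, rfl⟩
      rw [← hkT, show S.D.u * y * t1 * (S.D.u * y)⁻¹ = S.D.u * (y * t1 * y⁻¹) * S.D.u⁻¹ by group, hy1, hu1]
    · exfalso
      refine hbad ?_
      rw [← hkT, show S.D.w * y * t1 * (S.D.w * y)⁻¹ = S.D.w * (y * t1 * y⁻¹) * S.D.w⁻¹ by group, hy1,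
        S.D.w_Y _ ht1, inv_inv]
    · exfalso
      refine hbad ?_
      rw [← hkT, show S.D.u * S.D.w * y * t1 * (S.D.u * S.D.w * y)⁻¹ =
        S.D.u * (S.D.w * (y * t1 * y⁻¹) * S.D.w⁻¹) * S.D.u⁻¹ by group, hy1, S.D.w_Y _ ht1,
        ← conj_inv, hu1, inv_inv]
  have haT : a * C.T = C.T * a := mul_inv_eq_iff_eq_mul.1 (by rw [hat, hat0])
  have haF : a ∈ C.F1 := C.mem_F1.2 ⟨ha, haT⟩
  obtain ⟨v, hv, hmv⟩ : ∃ v ∈ S.tuGroup, m = v * (S.ι y * a) := by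
    rcases e with e | e <;> rcases hu' with rfl | rfl <;> rw [hk'] at e
    · exact ⟨1, one_mem _, by rw [e]; simp⟩
    · exact ⟨_, Or.inr (Or.inr (Or.inl rfl)), by rw [e, map_mul, mul_assoc]⟩
    · exact ⟨_, Or.inr (Or.inl rfl), by rw [e]; simp⟩
    · exact ⟨_, Or.inr (Or.inr (Or.inr rfl)), by rw [e, map_mul]; group⟩
  refine ⟨_, ⟨y, hy, ?_, a, haF, rfl⟩, v, hv, hmv⟩
  have h1 : S.ι y = v⁻¹ * m * a⁻¹ := by rw [hmv]; group
  rw [h1]
  exact mul_mem (mul_mem (inv_mem (C.V_X hv).2) (mem_centralizer_iff.2 hmF)) (inv_mem (C.F1_le_cent haF))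

/-- The four-group configuration in the centraliser of the fixed point. -/
def cfg [Finite G] : FourCfg ↥C.X where
  V := S.tuGroup.subgroupOf C.X
  Y := C.W.subgroupOf C.X
  g := ⟨C.g, C.g_X⟩
  hV := by
    haveI : IsKleinFour ↥S.tuGroup :=
      fourSub_klein S.t_ne (fun e => S.D.u1 (S.inj (e.trans (map_one _).symm))) (fun e => S.t_not _ e.symm)
    have e := subgroupOfEquivOfLe C.V_X
    exact ⟨by rw [Nat.card_congr e.toEquiv, IsKleinFour.card_four],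
      by rw [Monoid.exponent_eq_of_mulEquiv e]; exact IsKleinFour.exponent_two⟩
  hY := by
    rw [Nat.card_congr (subgroupOfEquivOfLe C.W_X).toEquiv]
    refine Nat.odd_iff.2 (Nat.two_dvd_ne_zero.1 fun h2 => ?_)
    obtain ⟨⟨z, hzW⟩, hz⟩ := exists_prime_orderOf_dvd_card' 2 h2
    rw [orderOf_mk] at hz
    obtain ⟨y, hy, hyc, a, ha, e⟩ := hzW
    subst e
    have hodd : Odd (orderOf (S.ι y * a)) := by
      refine ((S.D.r_odd.mul S.F_odd)).of_dvd_nat (orderOf_dvd_of_pow_eq_one ?_)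
      rw [(show Commute (S.ι y) a from (mem_centralizer_iff.1 hyc a ha).symm).mul_pow, ← map_pow, pow_mul,
        S.D.pow_r hy, one_pow, map_one, one_mul, mul_comm, pow_mul,
        show a ^ Nat.card S.Fld = 1 from
          congrArg Subtype.val (pow_card_eq_one' (x := (⟨a, (C.mem_F1.1 ha).1⟩ : S.Fld))), one_pow]
    rw [hz] at hodd
    exact Nat.not_odd_iff_even.2 even_two hodd
  Ycomm := fun z hz z' hz' => Subtype.ext (C.W_comm hz hz')
  comm := by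
    intro v hv z hz
    refine Subtype.ext ?_
    show (v : G) * z = z * v
    obtain ⟨y, hy, -, a, ha, e⟩ := (show (z : G) ∈ C.W from hz)
    have ha' := (C.mem_F1.1 ha).1
    have c1 : Commute S.t (z : G) := by
      rw [e]; exact (show Commute S.t (S.ι y) from (S.tc y).symm).mul_right (S.Ft a ha').symm
    have c2 : Commute (S.ι S.D.u) (z : G) := by
      rw [e]; exact ((show Commute S.D.u y from S.D.u_Y y hy).map S.ι).mul_right (S.Fu a ha').symm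
    rcases (show (v : G) ∈ S.tuGroup from hv) with e' | e' | e' | e' <;> rw [e']
    exacts [by rw [one_mul, mul_one], c1.eq, c2.eq, (c1.mul_left c2).eq]
  g3 := Subtype.ext C.g3
  gV := fun v hv => C.g_V hv
  gmove := fun v hv hv1 e => C.g_move hv (fun h => hv1 (Subtype.ext h)) (congrArg Subtype.val e)
  cent := by
    intro v hv hv1 x hx
    have hx' : (x : G) * v = v * x := congrArg Subtype.val hx
    suffices ∃ z ∈ C.W, ∃ w ∈ S.tuGroup, (x : G) = w * z by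
      obtain ⟨z, hz, w, hw, e⟩ := this
      exact ⟨⟨z, C.W_X hz⟩, hz, ⟨w, C.V_X hw⟩, hw, Subtype.ext e⟩
    have step : ∀ (s : G) (x' : G), x' ∈ C.X → x' * (C.g * s * C.g⁻¹) = C.g * s * C.g⁻¹ * x' →
        (∀ x'' ∈ C.X, x'' * s = s * x'' → ∃ z ∈ C.W, ∃ w ∈ S.tuGroup, x'' = w * z) →
        ∃ z ∈ C.W, ∃ w ∈ S.tuGroup, x' = w * z := by
      intro s x' hx' hc ih
      obtain ⟨z, hz, w, hw, e⟩ := ih (C.g⁻¹ * x' * C.g) (mul_mem (mul_mem (inv_mem C.g_X) hx') C.g_X) (by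
        calc C.g⁻¹ * x' * C.g * s = C.g⁻¹ * (x' * (C.g * s * C.g⁻¹)) * C.g := by group
          _ = C.g⁻¹ * (C.g * s * C.g⁻¹ * x') * C.g := by rw [hc]
          _ = s * (C.g⁻¹ * x' * C.g) := by group)
      refine ⟨_, C.g_W hz, _, C.g_V hw, ?_⟩
      rw [conj_mul, ← e]; group
    have hU : ∀ x' ∈ C.X, x' * S.ι S.D.u = S.ι S.D.u * x' → ∃ z ∈ C.W, ∃ w ∈ S.tuGroup, x' = w * z := fun x' hX hc =>
      step S.t x' hX (by rw [C.gt]; exact hc) fun x'' hX' hc' => C.cent_t hX' hc'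
    rcases (show (v : G) ∈ S.tuGroup from hv) with e | e | e | e <;> rw [e] at hx'
    · exact absurd (Subtype.ext e) hv1
    · exact C.cent_t x.2 hx'
    · exact hU _ x.2 hx'
    · exact step (S.ι S.D.u) _ x.2 (by rw [C.gu]; exact hx') hU

theorem cent_g [Finite G] {m : G} (hm : m ∈ C.X) (hg : m * C.g = C.g * m) :
    ∃ y ∈ S.D.Y, S.ι y ∈ centralizer (C.F1 : Set G) ∧ ∃ a ∈ C.F1, ∃ i : ℕ, m = S.ι y * a * C.g ^ i := by
  obtain ⟨z, hz, i, e⟩ := C.cfg.structure_quotient.2.1 ⟨m, hm⟩ (Subtype.ext hg)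
  obtain ⟨y, hy, hyc, a, ha, ez⟩ := (show (z : G) ∈ C.W from hz)
  exact ⟨y, hy, hyc, a, ha, i, by rw [← ez]; exact congrArg Subtype.val e⟩

theorem d_ne : C.d ≠ 1 := fun e => S.t_not S.D.u (by
  have := C.gt
  rw [C.gd, e, map_one] at this
  rw [← this]; group)

/-- The fixed point does not exist. -/
theorem false [Finite G] (hp : S.D.p = 3) : False := by
  classical
  haveI : Fact C.l.Prime := ⟨C.hl⟩
  set D := S.D
  -- arithmetic
  have hq : D.q = 3 ^ D.f := by rw [D.hf, hp]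
  have h8 : D.f % 2 = 1 ∧ D.q + 1 = 4 * D.r := by
    have h1 := D.hq
    obtain ⟨j, hj⟩ := D.r_odd
    obtain ⟨i, hi | hi⟩ := Nat.even_or_odd' D.f
    · have h9 : D.q % 8 = 1 := by
        rw [hq, hi, pow_mul, Nat.pow_mod]; norm_num
      rcases D.hδ with e | e <;> rw [e] at h1 <;> omega
    · have h9 : D.q % 8 = 3 := by
        rw [hq, hi, pow_succ, pow_mul, Nat.mul_mod, Nat.pow_mod]; norm_num
      rcases D.hδ with e | e <;> rw [e] at h1 <;> omega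
  have hlq : C.l ∣ D.q + 1 := h8.2 ▸ C.l_dvd.mul_left 4
  have hl2 : C.l ≠ 2 := fun e => by
    have := C.l_odd
    rw [e] at this
    exact Nat.not_odd_iff_even.2 even_two this
  have hf0 : D.f ≠ 0 := by omega
  have hl3 : C.l ≠ 3 := fun e => by
    rw [e, hq, Nat.dvd_add_right (dvd_pow_self 3 hf0)] at hlq
    norm_num at hlq
  have hl5 : C.l ≠ 5 := fun e => by
    obtain ⟨i, hi⟩ : ∃ i, D.f = 2 * i + 1 := ⟨D.f / 2, by omega⟩
    rw [e, hq, hi, pow_succ, pow_mul, Nat.dvd_iff_mod_eq_zero, Nat.add_mod, Nat.mul_mod, Nat.pow_mod] at hlq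
    rcases Nat.even_or_odd i with ⟨n, rfl⟩ | ⟨n, rfl⟩
    · rw [← two_mul, pow_mul] at hlq; norm_num [Nat.pow_mod] at hlq
    · rw [pow_succ, pow_mul] at hlq; norm_num [Nat.mul_mod, Nat.pow_mod] at hlq
  -- the field elements fixing the point
  haveI := S.F_cyclic
  have hFcomm : ∀ a ∈ S.Fld, ∀ b ∈ S.Fld, Commute a b := fun a ha b hb =>
    congrArg Subtype.val (mul_comm' (⟨a, ha⟩ : ↥S.Fld) ⟨b, hb⟩)
  obtain ⟨a1, ha1, hgen⟩ : ∃ a1 ∈ C.F1, ∀ a ∈ C.F1, a ∈ zpowers a1 := by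
    haveI : IsCyclic ↥C.F1 :=
      isCyclic_of_injective (inclusion (inf_le_left : C.F1 ≤ S.Fld)) (inclusion_injective _)
    obtain ⟨a1, h⟩ := IsCyclic.exists_generator (α := ↥C.F1)
    refine ⟨a1, a1.2, fun a ha => ?_⟩
    obtain ⟨i, hi⟩ := mem_zpowers_iff.1 (h ⟨a, ha⟩)
    exact mem_zpowers_iff.2 ⟨i, congrArg Subtype.val hi⟩
  have ha1F := (C.mem_F1.1 ha1).1
  set b1 := C.c⁻¹ * a1 * C.c with hb1
  have hb1F : b1 ∈ S.Fld := C.cF' a1 ha1F
  have hb1o : orderOf b1 = orderOf a1 := by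
    rw [hb1, show C.c⁻¹ * a1 * C.c = (MulAut.conj C.c⁻¹).toMonoidHom a1 by simp [MulAut.conj_apply],
      orderOf_injective _ (MulAut.conj C.c⁻¹).injective]
  -- the elements of `P` commuting with `d`
  obtain ⟨K0, _, _, hK0, ⟨e0⟩⟩ := S.fix_iso 1 (one_mem _)
  rw [hp] at hK0
  have hmem0 : ∀ k : P, k ∈ (centralizer ({1} : Set G)).comap S.ι := fun k => by
    rw [mem_comap, mem_centralizer_singleton_iff, one_mul, mul_one]
  obtain ⟨-, hU3', hUc', -⟩ := psl_three hK0 e0 (d := ⟨C.d, hmem0 _⟩) (Subtype.ext C.d3)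
    (fun h => C.d_ne (congrArg Subtype.val h))
  have hU3 : ∀ z, z * C.d = C.d * z → z ^ 3 = 1 := fun z h =>
    congrArg Subtype.val (hU3' ⟨z, hmem0 z⟩ (Subtype.ext h))
  have hUc : ∀ y z, y * C.d = C.d * y → z * C.d = C.d * z → y * z = z * y := fun y z hy h =>
    congrArg Subtype.val (hUc' ⟨y, hmem0 y⟩ ⟨z, hmem0 z⟩ (Subtype.ext hy) (Subtype.ext h))
  -- those fixing the field part
  obtain ⟨K1, _, _, hK1, ⟨e1⟩⟩ := S.fix_iso b1 hb1F
  rw [hp, hb1o] at hK1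
  obtain ⟨K2, _, _, hK2, ⟨e2⟩⟩ := S.fix_iso a1 ha1F
  rw [hp] at hK2
  set n := D.f / orderOf a1 with hn
  set Q1 := (centralizer ({b1} : Set G)).comap S.ι
  have hdQ1 : C.d ∈ Q1 := by
    rw [mem_comap, mem_centralizer_singleton_iff]; exact (C.dF b1 hb1F).symm.eq
  obtain ⟨hcard1, -, -, -⟩ := psl_three hK1 e1 (d := ⟨C.d, hdQ1⟩) (Subtype.ext C.d3)
    (fun h => C.d_ne (congrArg Subtype.val h))
  set U1 : Subgroup P := centralizer ({C.d} : Set P) ⊓ Q1 with hU1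
  have hU1card : Nat.card ↥U1 = 3 ^ n := by
    rw [← hcard1]
    refine Nat.card_congr
      { toFun := fun z => ⟨⟨z, z.2.2⟩, mem_centralizer_singleton_iff.2 (Subtype.ext ?_)⟩
        invFun := fun z => ⟨((z : ↥Q1) : P), mem_centralizer_singleton_iff.2 ?_, (z : ↥Q1).2⟩
        left_inv := fun z => rfl
        right_inv := fun z => rfl }
    · exact mem_centralizer_singleton_iff.1 z.2.1
    · exact congrArg Subtype.val (mem_centralizer_singleton_iff.1 z.2)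
  have hQ1iff : ∀ k, k ∈ Q1 ↔ C.j k * a1 = a1 * C.j k := fun k => by
    rw [mem_comap, mem_centralizer_singleton_iff, C.j_apply, hb1]
    constructor <;> intro h
    · calc C.c * S.ι k * C.c⁻¹ * a1 = C.c * (S.ι k * (C.c⁻¹ * a1 * C.c)) * C.c⁻¹ := by group
        _ = a1 * (C.c * S.ι k * C.c⁻¹) := by rw [h]; group
    · calc S.ι k * (C.c⁻¹ * a1 * C.c) = C.c⁻¹ * (C.c * S.ι k * C.c⁻¹ * a1) * C.c := by group
        _ = C.c⁻¹ * a1 * C.c * S.ι k := by rw [h]; group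
  have hU1mem : ∀ k, k ∈ U1 ↔ k * C.d = C.d * k ∧ ∀ a ∈ C.F1, a * C.j k = C.j k * a := fun k => by
    rw [hU1, mem_inf, mem_centralizer_singleton_iff, hQ1iff]
    refine and_congr_right fun _ => ⟨fun h a ha => ?_, fun h => (h a1 ha1).symm⟩
    obtain ⟨i, rfl⟩ := mem_zpowers_iff.1 (hgen a ha)
    exact ((show Commute (C.j k) a1 from h).zpow_right i).eq.symm
  -- `l` divides `3^(2n) - 1`
  have hlK : ((3 ^ n : ℕ) : ZMod C.l) ^ 2 = 1 := by
    have ht0 : C.t0 ∈ (centralizer ({a1} : Set G)).comap S.ι := by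
      rw [mem_comap, mem_centralizer_singleton_iff]; exact (C.mem_F1.1 ha1).2.symm
    obtain ⟨-, -, -, hdvd⟩ := psl_three hK2 e2 (d := ⟨C.d, by
      rw [mem_comap, mem_centralizer_singleton_iff]; exact (C.dF a1 ha1F).symm.eq⟩) (Subtype.ext C.d3)
      (fun h => C.d_ne (congrArg Subtype.val h))
    have hl : C.l ∣ 3 ^ n * ((3 ^ n - 1) * (3 ^ n + 1)) := by
      refine (Dvd.dvd.trans ?_ (orderOf_dvd_natCard (⟨C.t0, ht0⟩ : ↥((centralizer ({a1} : Set G)).comap S.ι)))).trans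
        hdvd
      rw [orderOf_mk, C.hord]
    have h3 : ((3 ^ n : ℕ) : ZMod C.l) ≠ 0 := fun h => hl3 ((Nat.prime_dvd_prime_iff_eq C.hl Nat.prime_three).1
      (C.hl.dvd_of_dvd_pow ((ZMod.natCast_eq_zero_iff _ _).1 h)))
    have h4 := (ZMod.natCast_eq_zero_iff _ _).2 hl
    rw [Nat.cast_mul, Nat.cast_mul, Nat.cast_sub (Nat.one_le_pow _ _ three_pos), Nat.cast_add, Nat.cast_one] at h4
    have h5 := (mul_eq_zero.1 h4).resolve_left h3
    linear_combination h5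
  -- the centraliser of `g` and the field elements fixing the point
  set X1 : Subgroup G := centralizer ({C.g} : Set G) ⊓ centralizer (C.F1 : Set G) with hX1
  have hmem1 : ∀ m, m ∈ X1 ↔ m * C.g = C.g * m ∧ ∀ a ∈ C.F1, a * m = m * a := fun m => by
    rw [hX1, mem_inf, mem_centralizer_singleton_iff, mem_centralizer_iff]
    rfl
  have hxX : C.x ∈ X1 := (hmem1 _).2 ⟨C.gx.symm, fun a ha => (C.F_x (C.mem_F1.1 ha).1).eq⟩
  have hTX : C.T ∈ X1 := (hmem1 _).2 ⟨C.gT.eq.symm, fun a ha => (C.mem_F1.1 ha).2⟩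
  have hgX : C.g ∈ X1 := (hmem1 _).2 ⟨rfl, fun a ha => (C.gF a (C.mem_F1.1 ha).1).symm⟩
  have hFX : S.Fld ≤ X1 := fun a ha =>
    (hmem1 a).2 ⟨(C.gF a ha).symm, fun b hb => (hFcomm b (C.mem_F1.1 hb).1 a ha).eq⟩
  have hjd : ∀ k, C.j k * C.g = C.g * C.j k ↔ k * C.d = C.d * k := fun k => by
    rw [C.g_eq, ← map_mul, ← map_mul, C.j_inj.eq_iff]
  set UG := U1.map C.j with hUG
  have hUX : UG ≤ X1 := by
    rintro _ ⟨k, hk, rfl⟩
    obtain ⟨h1, h2⟩ := (hU1mem k).1 hk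
    exact (hmem1 _).2 ⟨(hjd k).2 h1, h2⟩
  have hUcard : Nat.card ↥(UG.subgroupOf X1) = 3 ^ n := by
    rw [Nat.card_congr (subgroupOfEquivOfLe hUX).toEquiv, hUG, card_map_of_injective C.j_inj, hU1card]
  have hgU : C.g ∈ UG := ⟨C.d, (hU1mem _).2 ⟨rfl, fun a ha => C.g_eq ▸ (C.gF a (C.mem_F1.1 ha).1).symm⟩,
    C.g_eq.symm⟩
  have hjF : ∀ a ∈ S.Fld, ∀ z ∈ UG, a * z * a⁻¹ ∈ UG := by
    rintro a ha _ ⟨k, hk, rfl⟩
    obtain ⟨k', hk'⟩ := C.F_j ha k
    obtain ⟨h1, h2⟩ := (hU1mem k).1 hk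
    refine ⟨k', (hU1mem k').2 ⟨(hjd k').1 ?_, fun b hb => ?_⟩, hk'.symm⟩
    · have hag : a * C.g * a⁻¹ = C.g := by rw [← C.gF a ha, mul_inv_cancel_right]
      rw [← hk', ← hag, conj_mul, conj_mul, (hjd k).2 h1]
    · have hab : a * b * a⁻¹ = b := by rw [(hFcomm a ha b (C.mem_F1.1 hb).1).eq, mul_inv_cancel_right]
      rw [← hk', ← hab, conj_mul, conj_mul, h2 b hb]
  have hYeq : ∀ y ∈ D.Y, S.ι y * C.g = C.g * S.ι y → S.ι y ∈ centralizer (C.F1 : Set G) → S.ι y ∈ X1 :=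
    fun y _ h1 h2 => (hmem1 _).2 ⟨h1, fun a ha => mem_centralizer_iff.1 h2 a ha⟩
  set YG := D.Y.map S.ι ⊓ X1 with hYG
  have hco : ∀ (H : Subgroup G), H ≤ X1 → IsCyclic ↥H → IsCyclic ↥(H.subgroupOf X1) := fun H hle hc => by
    haveI := hc
    exact isCyclic_of_surjective (subgroupOfEquivOfLe hle).symm.toMonoidHom
      (subgroupOfEquivOfLe hle).symm.surjective
  haveI := D.Y_cyclic
  have hYGcyc : IsCyclic ↥YG := by
    haveI : IsCyclic ↥(D.Y.map S.ι) := isCyclic_of_surjective (S.ι.subgroupMap D.Y) (S.ι.subgroupMap_surjective D.Y)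
    exact isCyclic_of_injective (inclusion (inf_le_left : YG ≤ D.Y.map S.ι)) (inclusion_injective _)
  let CC : FreeCore ↥X1 C.l :=
    { x := ⟨C.x, hxX⟩
      T := ⟨C.T, hTX⟩
      g := ⟨C.g, hgX⟩
      F := S.Fld.subgroupOf X1
      U := UG.subgroupOf X1
      Y := YG.subgroupOf X1
      hl := C.hl
      l2 := hl2
      l3 := hl3
      hx := by
        rw [orderOf_mk, show C.x = (MulAut.conj C.c).toMonoidHom S.t from rfl,
          orderOf_injective _ (MulAut.conj C.c).injective, S.ht]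
      hTl := by rw [orderOf_mk, C.T_ord]
      xT := Subtype.ext (C.x_Y C.ht0)
      gc := fun m => Subtype.ext ((hmem1 m).1 m.2).1.symm
      g3 := Subtype.ext C.g3
      g1 := fun e => C.d_ne (C.j_inj (by rw [← C.g_eq, map_one]; exact congrArg Subtype.val e))
      gU := hgU
      Fcyc := hco _ hFX S.F_cyclic
      Fodd := by rw [Nat.card_congr (subgroupOfEquivOfLe hFX).toEquiv]; exact S.F_odd
      xF := fun a ha => Subtype.ext (C.F_x ha).eq
      Fcent := fun a ha haT m => Subtype.ext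
        (((hmem1 m).1 m.2).2 a (C.mem_F1.2 ⟨ha, congrArg Subtype.val haT⟩))
      Fl := fun a ha ⟨k, hk⟩ => by
        refine Subtype.ext ?_
        show (a : G) * C.T = C.T * a
        obtain ⟨t1, ht1, hat, ht1z⟩ := C.F_T (show (a : G) ∈ S.Fld from ha)
        obtain ⟨i, hi⟩ := mem_zpowers_iff.1 ht1z
        have hpw : (a : G) * C.T * (a : G)⁻¹ = C.T ^ i := by rw [hat, ← hi, map_zpow]
        have hN : ∀ N : ℕ, (a : G) ^ N * C.T * ((a : G) ^ N)⁻¹ = C.T ^ (i ^ N) := by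
          intro N
          induction N with
          | zero => simp
          | succ N ih =>
            rw [show (a : G) ^ (N + 1) * C.T * ((a : G) ^ (N + 1))⁻¹ =
              (a : G) * ((a : G) ^ N * C.T * ((a : G) ^ N)⁻¹) * (a : G)⁻¹ by rw [pow_succ']; group, ih,
              ← conj_zpow, hpw, ← zpow_mul, ← pow_succ']
        have h1 := hN (C.l ^ k)
        rw [show (a : G) ^ C.l ^ k = 1 from congrArg Subtype.val hk, one_mul, inv_one, mul_one] at h1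
        have h2 : ((C.l : ℤ) ∣ i ^ C.l ^ k - 1) := by
          have e : C.T ^ (i ^ C.l ^ k - 1) = 1 := by rw [zpow_sub_one, ← h1, mul_inv_cancel]
          have h5 := orderOf_dvd_iff_zpow_eq_one.2 e
          rwa [C.T_ord] at h5
        rw [← ZMod.intCast_zmod_eq_zero_iff_dvd, Int.cast_sub, Int.cast_pow, ZMod.pow_card_pow, Int.cast_one] at h2
        have h3 : C.T ^ i = C.T := by
          have h4 : (C.l : ℤ) ∣ i - 1 := by
            rw [← ZMod.intCast_zmod_eq_zero_iff_dvd, Int.cast_sub, Int.cast_one]; exact h2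
          rw [← C.T_ord, orderOf_dvd_iff_zpow_eq_one, zpow_sub_one, mul_inv_eq_one] at h4
          exact h4
        rw [h3] at hpw
        exact mul_inv_eq_iff_eq_mul.1 hpw
      Fpow := fun a ha => by
        obtain ⟨t1, -, hat, ht1z⟩ := C.F_T (show (a : G) ∈ S.Fld from ha)
        obtain ⟨i, hi⟩ := mem_zpowers_iff.1 ht1z
        exact mem_zpowers_iff.2 ⟨i, Subtype.ext (show C.T ^ i = (a : G) * C.T * (a : G)⁻¹ by
          rw [hat, ← hi, map_zpow])⟩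
      Fnorm := fun a ha z hz => hjF a ha z hz
      UF := fun z hz hzF => by
        obtain ⟨k, -, hk⟩ := (show (z : G) ∈ UG from hz)
        exact Subtype.ext (C.j_disj hzF hk)
      xU := fun z hz => by
        obtain ⟨k, -, hk⟩ := (show (z : G) ∈ UG from hz)
        refine Subtype.ext ?_
        show (z : G) * C.x = C.x * z
        rw [← hk]; exact (C.j_x k).eq
      Ucomm := fun z hz z' hz' => by
        obtain ⟨k, hk, e⟩ := (show (z : G) ∈ UG from hz)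
        obtain ⟨k', hk', e'⟩ := (show (z' : G) ∈ UG from hz')
        refine Subtype.ext ?_
        show (z : G) * z' = z' * z
        rw [← e, ← e', ← map_mul, ← map_mul, hUc k k' ((hU1mem k).1 hk).1 ((hU1mem k').1 hk').1]
      U3 := fun z hz => by
        obtain ⟨k, hk, e⟩ := (show (z : G) ∈ UG from hz)
        refine Subtype.ext ?_
        rw [Subgroup.coe_pow, ← e, ← map_pow, hU3 k ((hU1mem k).1 hk).1, map_one, Subgroup.coe_one]
      Ycyc := hco _ inf_le_right hYGcyc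
      Yodd := by
        rw [Nat.card_congr (subgroupOfEquivOfLe (inf_le_right : YG ≤ X1)).toEquiv]
        refine D.r_odd.of_dvd_nat ?_
        have := card_dvd_of_le (inf_le_left : YG ≤ D.Y.map S.ι)
        rwa [card_map_of_injective S.inj, D.card_Y] at this
      TY := ⟨mem_map_of_mem S.ι C.ht0, hTX⟩
      xY := fun y hy => by
        obtain ⟨k, hk, e⟩ := (show (y : G) ∈ D.Y.map S.ι from hy.1)
        refine Subtype.ext ?_
        show C.x * (y : G) * C.x⁻¹ = (y : G)⁻¹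
        rw [← e]
        exact C.x_Y hk
      cent_x := fun m hm => by
        obtain ⟨k, a, ha, e⟩ := C.x_cover (congrArg Subtype.val hm)
        have hjX : C.j k ∈ X1 := by
          rcases e with e | e
          · rw [show C.j k = (m : G) * a⁻¹ by rw [e, mul_inv_cancel_right]]
            exact mul_mem m.2 (inv_mem (hFX ha))
          · rw [show C.j k = C.x⁻¹ * (m : G) * a⁻¹ by rw [e]; group]
            exact mul_mem (mul_mem (inv_mem hxX) m.2) (inv_mem (hFX ha))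
        obtain ⟨h1, h2⟩ := (hmem1 _).1 hjX
        refine ⟨⟨C.j k, hjX⟩, ⟨k, (hU1mem k).2 ⟨(hjd k).1 h1, h2⟩, rfl⟩, ⟨a, hFX ha⟩, ha, ?_⟩
        rcases e with e | e
        · exact Or.inl (Subtype.ext e)
        · exact Or.inr (Subtype.ext e)
      cent_T := fun m hm => by
        obtain ⟨hg', hF'⟩ := (hmem1 _).1 m.2
        obtain ⟨y, hy, hyc, a, ha, i, e⟩ := C.cent_g (C.mem_X.2 ⟨congrArg Subtype.val hm, hF'⟩) hg'
        have haF := (C.mem_F1.1 ha).1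
        have hyX : S.ι y ∈ X1 := by
          rw [show S.ι y = (m : G) * (C.g ^ i)⁻¹ * a⁻¹ by rw [e]; group]
          exact mul_mem (mul_mem m.2 (inv_mem (pow_mem hgX i))) (inv_mem (hFX haF))
        exact ⟨⟨S.ι y, hyX⟩, ⟨mem_map_of_mem S.ι hy, hyX⟩, ⟨a, hFX haF⟩, haF,
          Subtype.ext (C.mem_F1.1 ha).2, i, Subtype.ext e⟩ }
  obtain ⟨k, hk, hcong⟩ := CC.congruence
  rw [show Nat.card ↥CC.U = 3 ^ n from hUcard, hlK] at hcong
  have key : ∀ m : ℕ, ((m : ℕ) : ZMod C.l) = 0 → ∀ p q : ℕ, p.Prime → q.Prime → (∃ i j, m = p ^ i * q ^ j) →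
      C.l = p ∨ C.l = q := by
    intro m hm p q hp' hq' ⟨i, j, e⟩
    rw [ZMod.natCast_eq_zero_iff, e] at hm
    rcases C.hl.dvd_mul.1 hm with h | h
    · exact Or.inl ((Nat.prime_dvd_prime_iff_eq C.hl hp').1 (C.hl.dvd_of_dvd_pow h))
    · exact Or.inr ((Nat.prime_dvd_prime_iff_eq C.hl hq').1 (C.hl.dvd_of_dvd_pow h))
  rcases hk with rfl | rfl
  · rcases key 8 (by push_cast at hcong ⊢; linear_combination -hcong) 2 5 Nat.prime_two (by norm_num)
      ⟨3, 0, by norm_num⟩ with h | h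
    exacts [hl2 h, hl5 h]
  · rcases key 80 (by push_cast at hcong ⊢; linear_combination -hcong) 2 5 Nat.prime_two (by norm_num)
      ⟨4, 1, by norm_num⟩ with h | h
    exacts [hl2 h, hl5 h]

end

end FixCfg

/-- The element of order three fixes only the identity of `Y`. -/
theorem ExtLocals.free [Finite G] [Finite P] {S : ExtBase G P} (L : ExtLocals S) (A : Amb G) (hp : S.D.p = 3) :
    L.Free := by
  classical
  intro y hy hfix
  by_contra hy1
  -- an element of prime order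
  obtain ⟨l, hl, hdvd⟩ := Nat.exists_prime_and_dvd (fun h : orderOf y = 1 => hy1 (orderOf_eq_one_iff.1 h))
  set t0 := y ^ (orderOf y / l) with ht0
  have hord : orderOf t0 = l := orderOf_pow_orderOf_div (orderOf_pos y).ne' hdvd
  have hgT : Commute L.g (S.ι t0) := by
    rw [ht0, map_pow]
    exact (show Commute L.g (S.ι y) from mul_inv_eq_iff_eq_mul.1 hfix).pow_right _
  set D := S.D
  -- the signs
  set τ1 := L.c⁻¹ * S.t * L.c with hτ1
  set τ2 := L.c⁻¹ * S.ι D.u * L.c with hτ2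
  obtain ⟨w', hw', hct⟩ : ∃ w', (w' = D.w ∨ w' = D.u * D.w) ∧ L.c * S.t * L.c⁻¹ = S.t * S.ι w' := by
    rcases L.ct with e | e
    exacts [⟨_, Or.inl rfl, e⟩, ⟨_, Or.inr rfl, e⟩]
  have htx : Commute S.t (L.c * S.t * L.c⁻¹) := by
    rw [hct]; exact (Commute.refl _).mul_right (S.tc _).symm
  have hux : Commute (S.ι D.u) (L.c * S.t * L.c⁻¹) := by
    rw [hct]
    refine (show Commute (S.ι D.u) S.t from S.tc _).mul_right ((show Commute D.u w' from ?_).map S.ι)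
    rcases hw' with e | e <;> rw [e]
    · exact D.comm
    · exact (Commute.refl _).mul_right D.comm
  have hC : ∀ m : G, Commute m (L.c * S.t * L.c⁻¹) → (L.c⁻¹ * m * L.c) * S.t = S.t * (L.c⁻¹ * m * L.c) := by
    intro m hm
    calc L.c⁻¹ * m * L.c * S.t = L.c⁻¹ * (m * (L.c * S.t * L.c⁻¹)) * L.c := by group
      _ = L.c⁻¹ * (L.c * S.t * L.c⁻¹ * m) * L.c := by rw [hm.eq]
      _ = S.t * (L.c⁻¹ * m * L.c) := by group
  have h12 : S.ι L.d * τ1 * (S.ι L.d)⁻¹ = τ2 := by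
    rw [hτ1, hτ2, ← L.gt, L.gd]; group
  have h23 : S.ι L.d * τ2 * (S.ι L.d)⁻¹ = τ1 * τ2 := by
    rw [hτ1, hτ2]
    calc S.ι L.d * (L.c⁻¹ * S.ι D.u * L.c) * (S.ι L.d)⁻¹ = L.c⁻¹ * (L.g * S.ι D.u * L.g⁻¹) * L.c := by
          rw [L.gd]; group
      _ = _ := by rw [L.gu]; group; rfl
  have hdE : ∀ m ∈ S.EG, S.ι L.d * m * (S.ι L.d)⁻¹ ∈ S.EG := fun m hm =>
    mul_mem (mul_mem (S.ι_EG _) hm) (inv_mem (S.ι_EG _))
  have hE1 : τ1 ∈ S.EG := by
    refine (S.C_cases (hC _ htx)).resolve_right fun h1 => ?_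
    have ht1 : ∀ m, S.t * m ∈ S.EG → S.t * (S.ι L.d * m * (S.ι L.d)⁻¹) ∈ S.EG := fun m hm => by
      have h := hdE _ hm
      rwa [← conj_mul, S.tc, mul_inv_cancel_right] at h
    have h2 : S.t * τ2 ∈ S.EG := h12 ▸ ht1 _ h1
    have h3 : S.t * (τ1 * τ2) ∈ S.EG := h23 ▸ ht1 _ h2
    refine S.t_not_EG ?_
    have h4 := mul_mem (mul_mem h1 h2) (inv_mem h3)
    have htτ : Commute τ1 S.t := hC _ htx
    rwa [show S.t * τ1 * (S.t * τ2) * (S.t * (τ1 * τ2))⁻¹ = S.t * (τ1 * S.t) * τ1⁻¹ * S.t⁻¹ by group, htτ.eq,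
      show S.t * (S.t * τ1) * τ1⁻¹ * S.t⁻¹ = S.t * (S.t * (τ1 * τ1⁻¹)) * S.t⁻¹ by group, mul_inv_cancel, mul_one,
      S.tt, one_mul, S.t_inv] at h4
  have hE2 : τ2 ∈ S.EG := h12 ▸ hdE _ hE1
  have hsq : ∀ v : G, v * v = 1 → L.c⁻¹ * v * L.c * (L.c⁻¹ * v * L.c) = 1 := fun v hv => by
    rw [show L.c⁻¹ * v * L.c * (L.c⁻¹ * v * L.c) = L.c⁻¹ * (v * v) * L.c by group, hv]; group
  obtain ⟨k1, hk1, e1⟩ := S.two_mem_ι (x := ⟨τ1, hE1⟩) (Subtype.ext (hsq _ S.tt))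
  obtain ⟨k2, hk2, e2⟩ := S.two_mem_ι (x := ⟨τ2, hE2⟩) (Subtype.ext (hsq _ (by rw [← map_mul, D.u2, map_one])))
  have e1' : τ1 = S.ι k1 := congrArg Subtype.val e1
  have e2' : τ2 = S.ι k2 := congrArg Subtype.val e2
  have hk1ne : k1 ≠ 1 := fun e => S.t_ne (by
    have : τ1 = 1 := by rw [e1', e, map_one]
    rwa [hτ1, show L.c⁻¹ * S.t * L.c = L.c⁻¹ * S.t * L.c⁻¹⁻¹ by group, conj_eq_one_iff] at this)
  have hkne : k1 ≠ k2 := fun e => by
    have h : τ1 = τ2 := by rw [e1', e2', e]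
    rw [hτ1, hτ2] at h
    exact S.t_not D.u (mul_left_cancel (mul_right_cancel h)).symm
  have hk2ne : k2 ≠ 1 := fun e => D.u1 (S.inj (by
    have : τ2 = 1 := by rw [e2', e, map_one]
    rw [hτ2, show L.c⁻¹ * S.ι D.u * L.c = L.c⁻¹ * S.ι D.u * L.c⁻¹⁻¹ by group, conj_eq_one_iff] at this
    rw [this, map_one]))
  have hk12 : Commute k1 k2 := by
    refine S.inj ?_
    rw [map_mul, map_mul, ← e1', ← e2', hτ1, hτ2]
    calc L.c⁻¹ * S.t * L.c * (L.c⁻¹ * S.ι D.u * L.c) = L.c⁻¹ * (S.t * S.ι D.u) * L.c := by group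
      _ = _ := by rw [← S.tc]; group
  -- move the four-group to `⟨u, w⟩`
  obtain ⟨π0, hπ0⟩ := isConj_iff.1 (D.one_class k1 hk1 hk1ne)
  set k := π0⁻¹ * k2 * π0 with hk
  have hku : k * D.u = D.u * k := by
    rw [hk]
    calc π0⁻¹ * k2 * π0 * D.u = π0⁻¹ * (k2 * (π0 * D.u * π0⁻¹)) * π0 := by group
      _ = π0⁻¹ * (π0 * D.u * π0⁻¹ * k2) * π0 := by rw [hπ0, hk12.eq]
      _ = D.u * (π0⁻¹ * k2 * π0) := by group
  have hkk : k * k = 1 := by
    rw [hk, show π0⁻¹ * k2 * π0 * (π0⁻¹ * k2 * π0) = π0⁻¹ * (k2 * k2) * π0 by group, hk2]; group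
  obtain ⟨y, hy', hkc⟩ := D.cent_u k hku
  obtain ⟨w2, hw2, hkw⟩ : ∃ w2, (w2 = D.w ∨ w2 = D.u * D.w) ∧ k = w2 * y := by
    rcases hkc with e | e | e | e
    · exfalso
      rw [e] at hkk
      refine hk2ne ?_
      rw [eq_one_of_two_odd ⟨1, by rw [pow_one, pow_two, hkk]⟩ D.r_odd (D.pow_r hy'), hk] at e
      rwa [show π0⁻¹ * k2 * π0 = π0⁻¹ * k2 * π0⁻¹⁻¹ by group, conj_eq_one_iff] at e
    · exfalso
      rw [e, mul_assoc, ← mul_assoc y, ← D.u_Y y hy', mul_assoc, ← mul_assoc, D.u2, one_mul] at hkk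
      refine hkne ?_
      rw [eq_one_of_two_odd ⟨1, by rw [pow_one, pow_two, hkk]⟩ D.r_odd (D.pow_r hy'), mul_one, hk] at e
      rw [← hπ0, ← e]
      group
    exacts [⟨_, Or.inl rfl, e⟩, ⟨_, Or.inr rfl, e⟩]
  obtain ⟨j, hj⟩ := D.r_odd
  set y0 := y ^ (j + 1) with hy0
  have hy0y : y0 * y0 = y := by
    rw [hy0, ← pow_add, show j + 1 + (j + 1) = D.r + 1 by omega, pow_succ, D.pow_r hy', one_mul]
  have hwy : ∀ z ∈ D.Y, w2 * z * w2⁻¹ = z⁻¹ := by
    intro z hz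
    rcases hw2 with e | e <;> rw [e]
    · exact D.w_Y z hz
    · rw [show D.u * D.w * z * (D.u * D.w)⁻¹ = D.u * (D.w * z * D.w⁻¹) * D.u⁻¹ by group, D.w_Y z hz,
        D.u_Y _ (inv_mem hz), mul_inv_cancel_right]
  set π := π0 * y0⁻¹ with hπ
  have hy0Y : y0 ∈ D.Y := pow_mem hy' _
  have hπu : π * D.u * π⁻¹ = k1 := by
    rw [hπ, show π0 * y0⁻¹ * D.u * (π0 * y0⁻¹)⁻¹ = π0 * (y0⁻¹ * (D.u * y0)) * π0⁻¹ by group, D.u_Y _ hy0Y,
      inv_mul_cancel_left, hπ0]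
  have hπw : π * w2 * π⁻¹ = k2 := by
    have h1 : y0⁻¹ * w2 * y0 = w2 * y := by
      have h := hwy _ hy0Y
      calc y0⁻¹ * w2 * y0 = (w2 * y0 * w2⁻¹) * w2 * y0 := by rw [h]
        _ = w2 * (y0 * y0) := by group
        _ = w2 * y := by rw [hy0y]
    rw [hπ, show π0 * y0⁻¹ * w2 * (π0 * y0⁻¹)⁻¹ = π0 * (y0⁻¹ * w2 * y0) * π0⁻¹ by group, h1, ← hkw, hk]
    group
  set c := L.c * S.ι π with hc
  set d := π⁻¹ * L.d * π with hd
  have hct' : c * S.t * c⁻¹ = L.c * S.t * L.c⁻¹ := by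
    rw [hc, show L.c * S.ι π * S.t * (L.c * S.ι π)⁻¹ = L.c * (S.ι π * S.t * (S.ι π)⁻¹) * L.c⁻¹ by group, S.tc,
      mul_inv_cancel_right]
  have hgd : L.g = c * S.ι d * c⁻¹ := by
    rw [hc, hd, map_mul S.ι (π⁻¹ * L.d) π, map_mul S.ι π⁻¹ L.d, map_inv S.ι π, L.gd]; group
  have hcu : c⁻¹ * S.t * c = S.ι D.u := by
    rw [hc, show (L.c * S.ι π)⁻¹ * S.t * (L.c * S.ι π) = (S.ι π)⁻¹ * τ1 * S.ι π by rw [hτ1]; group, e1',
      ← map_inv, ← map_mul, ← map_mul, ← hπu]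
    congr 1
    group
  have hcw : c⁻¹ * S.ι D.u * c = S.ι w2 := by
    rw [hc, show (L.c * S.ι π)⁻¹ * S.ι D.u * (L.c * S.ι π) = (S.ι π)⁻¹ * τ2 * S.ι π by rw [hτ2]; group, e2',
      ← map_inv, ← map_mul, ← map_mul, ← hπw]
    congr 1
    group
  have hxF : ∀ a ∈ S.Fld, Commute a (L.c * S.t * L.c⁻¹) := fun a ha => by
    rw [hct]
    refine (show Commute a S.t from S.Ft a ha).mul_right ?_
    rcases hw' with e | e <;> rw [e]
    · exact S.Fw a ha
    · rw [map_mul]; exact (show Commute a _ from S.Fu a ha).mul_right (S.Fw a ha)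
  have hcF' : ∀ a ∈ S.Fld, c⁻¹ * a * c ∈ S.Fld := by
    intro a ha
    set φ := (MulAut.conj c⁻¹).toMonoidHom
    have hφ : ∀ m, φ m = c⁻¹ * m * c := fun m => by simp [φ, MulAut.conj_apply]
    have hmap : ∀ m, Commute a m → Commute (c⁻¹ * a * c) (c⁻¹ * m * c) := fun m h => by
      rw [← hφ, ← hφ]; exact h.map φ
    have h1 : Commute (c⁻¹ * a * c) (S.ι D.u) := hcu ▸ hmap _ (S.Ft a ha)
    have h2 : Commute (c⁻¹ * a * c) (S.ι w2) := hcw ▸ hmap _ (S.Fu a ha)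
    refine S.Fld_of_odd ?_ h1.eq ?_ ?_
    · have h3 := hmap _ (hxF a ha)
      rw [← hct', show c⁻¹ * (c * S.t * c⁻¹) * c = S.t by group] at h3
      exact h3.eq
    · rcases hw2 with e | e
      · exact e ▸ h2.eq
      · have h3 := h1.mul_right h2
        rw [e, map_mul, ← mul_assoc (S.ι D.u), ← map_mul S.ι D.u D.u, D.u2, map_one, one_mul] at h3
        exact h3.eq
    · rw [← hφ, orderOf_injective φ (MulAut.conj c⁻¹).injective]
      exact S.F_odd_order ha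
  have hcF : ∀ a ∈ S.Fld, c * a * c⁻¹ ∈ S.Fld := by
    intro a ha
    have h : c ∈ normalizer (S.Fld : Set G) := by
      have h' : c⁻¹ ∈ normalizer (S.Fld : Set G) := mem_normalizer_fintype fun m hm => by
        rw [inv_inv]; exact hcF' m hm
      simpa using inv_mem h'
    exact (mem_normalizer_iff.1 h a).1 ha
  have hdF : ∀ a ∈ S.Fld, Commute a (S.ι d) := by
    intro a ha
    have h : Commute L.g (c * a * c⁻¹) := L.gF _ (hcF a ha)
    have h' := h.map (MulAut.conj c⁻¹).toMonoidHom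
    simp only [MulEquiv.coe_toMonoidHom, MulAut.conj_apply, inv_inv] at h'
    rw [hgd, show c⁻¹ * (c * S.ι d * c⁻¹) * c = S.ι d by group,
      show c⁻¹ * (c * a * c⁻¹) * c = a by group] at h'
    exact h'.symm
  have hd3 : d ^ 3 = 1 := by
    rw [hd, show π⁻¹ * L.d * π = π⁻¹ * L.d * π⁻¹⁻¹ by group, conj_pow, L.d3]; group
  exact FixCfg.false (S := S)
    { l := l, t0 := t0, g := L.g, c := c, d := d, w' := w', hl := hl, ht0 := pow_mem hy _, hord := hord, gT := hgT,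
      g3 := L.g3, gt := L.gt, gu := L.gu, gx := by rw [hct']; exact L.gx, gF := L.gF, gY := L.gY,
      ct := hct'.trans hct, hw' := hw', gd := hgd, d3 := hd3, dF := hdF, cF := hcF, cF' := hcF' } hp

end Cfsg.Agent.Invol.JankoWard
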