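import Cfsg.Agent.Lib.Invol.JankoWard.ExtMain
import Cfsg.Agent.Lib.Invol.JankoWard.ExtFree
import Cfsg.Agent.Lib.Invol.JankoWard.ExtTablePSL

/-!
# Data for the block configuration

With `p = 3` and `f` odd the sign is `-1`, the table hypotheses hold and `g` is free on the torus.
-/

set_option autoImplicit false
set_option linter.unusedSectionVars false
set_option linter.style.haveILetI false

open scoped Classical

namespace Cfsg.Agent.Invol.JankoWard.ExtMain

universe u

variable {G : Type u} [Group G] [Finite G] {F : Type} [Field F] [Fintype F]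

/-- `q = 3^f = 3` mod 8, so the sign is `-1`. -/
theorem delta_eq (S : ExtBase G (Matrix.ProjectiveSpecialLinearGroup (Fin 2) F)) (hp : S.D.p = 3)
    (hf : Odd S.D.f) : S.D.δ = -1 := by
  obtain ⟨j, hj⟩ := hf
  have h8 : S.D.q % 8 = 3 := by
    rw [S.D.hf, hp, hj, pow_succ, pow_mul, Nat.mul_mod, Nat.pow_mod]
    norm_num
  obtain ⟨k, hk⟩ := S.D.r_odd
  have hq := S.D.hq
  rcases S.D.hδ with h | h
  · omega
  · exact h

/-- The table and the freeness. -/
theorem block_data (S : ExtBase G (Matrix.ProjectiveSpecialLinearGroup (Fin 2) F)) (A : Amb G) (L : ExtLocals S)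
    (hq : S.D.q = Fintype.card F) (hp : S.D.p = 3) (hf : Odd S.D.f) :
    S.D.δ = -1 ∧ Nonempty (@ExtTable _ _ (Fintype.ofFinite _) S.D) ∧ L.Free := by
  refine ⟨delta_eq S hp hf, ?_, L.free A hp⟩
  letI : Fintype (Matrix.ProjectiveSpecialLinearGroup (Fin 2) F) := Fintype.ofFinite _
  exact ⟨by convert PSL.exists_extTable S.D hq hp (delta_eq S hp hf)⟩

end Cfsg.Agent.Invol.JankoWard.ExtMain
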