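import Cfsg.Agent.Lib.Invol.JankoWard.ExtShapes
import Cfsg.Agent.Lib.Invol.JankoWard.ExtFibre
import Cfsg.Agent.Lib.Invol.JankoWard.ExtGal
import Cfsg.Agent.Lib.Invol.JankoWard.ExtGlue
import Cfsg.Agent.Lib.Invol.JankoWard.LCharsPSL
import Cfsg.Agent.Lib.Invol.GW.Consumers.Dihedral
import Cfsg.Agent.Lib.Char.ModP

/-!
# The block configurations

`exists_fix_z`: an element of prime order of `Y` fixed by a given element of the field part;
`false_of_exc`: the contradiction from the data of the exceptional functions;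
`false_of_blocks_of`: the two configurations, given the facts on the centralisers of the elements of `Y`.
-/

open scoped ComplexConjugate

set_option autoImplicit false
set_option linter.unusedSectionVars false
set_option linter.style.haveILetI false

open scoped Classical

namespace Cfsg.Agent.Invol.JankoWard.ExtBase

open Cfsg Cfsg.Agent.Char Cfsg.Agent.Block Subgroup

universe u v

variable {G : Type u} [Group G] {P : Type v} [Group P] (S : ExtBase G P)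

/-- An element of prime order of `Y` fixed by an element of the field part. -/
theorem exists_fix_z (hp : S.D.p = 3) {ρ : G} (hρ : ρ ∈ S.Fld) (ho : Odd (S.D.f / orderOf ρ))
    (h3 : 3 ≤ S.D.f / orderOf ρ) :
    ∃ s : ℕ, s.Prime ∧ s ≠ 2 ∧ s ≠ 3 ∧ s ∣ 3 ^ (S.D.f / orderOf ρ) + 1 ∧
      ∃ z ∈ S.D.Y, orderOf z = s ∧ ρ * S.ι z = S.ι z * ρ := by
  obtain ⟨K, i1, i2, hK, ⟨e⟩⟩ := S.fix_iso ρ hρ
  rw [hp] at hK
  generalize S.D.f / orderOf ρ = n at ho h3 hK ⊢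
  obtain ⟨j, rfl⟩ := ho
  have h8 : 3 ^ (2 * j + 1) % 8 = 3 := by rw [pow_succ, pow_mul, Nat.mul_mod, Nat.pow_mod]; norm_num
  have h5 : 5 < Fintype.card K := by
    rw [hK]
    calc 5 < 3 ^ 3 := by norm_num
      _ ≤ 3 ^ (2 * j + 1) := Nat.pow_le_pow_right (by norm_num) h3
  obtain ⟨D', -, hq'⟩ := PSL.exists_lData_lChars K (Or.inl (hK ▸ h8)) h5
  have hr' := D'.hq
  rw [hq', hK] at hr'
  obtain ⟨i, hi⟩ := D'.r_odd
  have h4 : 4 * D'.r = 3 ^ (2 * j + 1) + 1 := by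
    generalize 3 ^ (2 * j + 1) = N at h8 hr'
    rcases D'.hδ with h | h <;> omega
  have hrne : D'.r ≠ 1 := by have := D'.r3; omega
  obtain ⟨s, hs, hsr⟩ := Nat.exists_prime_and_dvd hrne
  have hs2 : s ≠ 2 := fun e => by
    have := D'.r_odd.of_dvd_nat (e ▸ hsr)
    exact absurd this (by decide)
  have hdvd : s ∣ 3 ^ (2 * j + 1) + 1 := h4 ▸ hsr.trans (dvd_mul_left _ _)
  have hs3 : s ≠ 3 := fun e => by
    subst e
    have : 3 ∣ 3 ^ (2 * j + 1) := dvd_pow_self 3 (by omega)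
    omega
  haveI := Fact.mk hs
  haveI : Finite ↥D'.Y := Nat.finite_of_card_ne_zero (by rw [D'.card_Y]; have := D'.r3; omega)
  obtain ⟨z', hz'⟩ := exists_prime_orderOf_dvd_card' s (D'.card_Y.symm ▸ hsr)
  set Q := (centralizer ({ρ} : Set G)).comap S.ι
  let uQ : Q := ⟨S.D.u, mem_centralizer_singleton_iff.2 (S.Fu ρ hρ).symm⟩
  have hu2 : e uQ * e uQ = 1 := by
    rw [← map_mul, show uQ * uQ = 1 from Subtype.ext S.D.u2, map_one]
  have hu1 : e uQ ≠ 1 := fun h => S.D.u1 (congrArg Subtype.val (e.injective (h.trans (map_one e).symm)))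
  obtain ⟨c, hc⟩ := isConj_iff.1 (D'.one_class _ hu2 hu1)
  set x := e.symm (c * (z' : Matrix.ProjectiveSpecialLinearGroup (Fin 2) K) * c⁻¹) with hx
  have hxo : orderOf x = s := by
    rw [hx, MulEquiv.orderOf_eq, ← hz', ← Subgroup.orderOf_coe z']
    exact orderOf_injective (MulAut.conj c).toMonoidHom (MulAut.conj c).injective _
  have hxu : x * uQ = uQ * x := e.injective (by
    rw [map_mul, map_mul, hx, e.apply_symm_apply, ← hc, conj_mul, conj_mul, D'.u_Y _ z'.2])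
  have hzo : orderOf (x : P) = s := by rw [Subgroup.orderOf_coe, hxo]
  refine ⟨s, hs, hs2, hs3, hdvd, (x : P), ?_, hzo, (mem_centralizer_singleton_iff.1 x.2).symm⟩
  exact S.D.odd_mem_Y (congrArg Subtype.val hxu) (hs.odd_of_ne_two hs2) (hzo ▸ pow_orderOf_eq_one _)

/-- The prime does not divide the order of the field part. -/
theorem not_dvd_fld (hfo : Odd S.D.f)
    (H3 : ∀ l : ℕ, l.Prime → l ∣ Nat.card S.Fld → l = 3 ∨ l ∣ (3 ^ (S.D.f / l)) ^ 2 - 3 ^ (S.D.f / l) + 1)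
    {n s : ℕ} (hn : n ∣ S.D.f) (hs : s.Prime) (hs3 : s ≠ 3) (hd : s ∣ 3 ^ n + 1) : ¬ s ∣ Nat.card S.Fld := by
  intro hse
  haveI := Fact.mk hs
  have hl := (H3 s hs hse).resolve_left hs3
  have hn1 : (3 : ZMod s) ^ n = -1 := by
    rw [← ZMod.natCast_eq_zero_iff] at hd
    push_cast at hd
    exact eq_neg_of_add_eq_zero_left hd
  have hf : (3 : ZMod s) ^ S.D.f = -1 := by
    obtain ⟨k, hk⟩ := hn
    have hko : Odd k := (hk ▸ hfo).of_dvd_nat ⟨n, mul_comm _ _⟩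
    rw [hk, pow_mul, hn1, hko.neg_one_pow]
  set x := S.D.f / s
  have hx : (3 : ZMod s) ^ x = -1 := by
    rw [← ZMod.pow_card ((3 : ZMod s) ^ x), ← pow_mul, Nat.div_mul_cancel (hse.trans S.F_dvd), hf]
  have hle : 3 ^ x ≤ (3 ^ x) ^ 2 := Nat.le_self_pow two_ne_zero _
  rw [← ZMod.natCast_eq_zero_iff] at hl
  rw [Nat.cast_add, Nat.cast_sub hle] at hl
  push_cast at hl
  rw [hx] at hl
  norm_num at hl
  have h3 : ((3 : ℕ) : ZMod s) = 0 := by exact_mod_cast hl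
  rw [ZMod.natCast_eq_zero_iff] at h3
  exact hs3 ((Nat.prime_dvd_prime_iff_eq hs Nat.prime_three).1 h3)

/-- A generator of the field part of a group over `GF(3)` fixes no element of order prime to `6`. -/
theorem fix_gen_false (hp : S.D.p = 3) {φ : G} (hφ : φ ∈ S.Fld) (ho : S.D.f / orderOf φ = 1) {z : P} {s : ℕ}
    (hs : s.Prime) (hs2 : s ≠ 2) (hs3 : s ≠ 3) (hz : orderOf z = s) (hc : φ * S.ι z = S.ι z * φ) : False := by
  obtain ⟨K, i1, i2, hK, ⟨e⟩⟩ := S.fix_iso φ hφ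
  rw [hp, ho, pow_one] at hK
  have h12 := GW.card_PSLTwo (F := K) (by rw [hK]; decide)
  rw [hK, ← Nat.card_congr e.toEquiv] at h12
  norm_num at h12
  have hd : s ∣ Nat.card ↥((centralizer ({φ} : Set G)).comap S.ι) := by
    rw [← hz]
    exact Subgroup.orderOf_dvd_natCard _
      (show z ∈ (centralizer ({φ} : Set G)).comap S.ι from mem_centralizer_singleton_iff.2 hc.symm)
  have h : s ∣ 2 ^ 2 * 3 := by
    rw [show (2 : ℕ) ^ 2 * 3 = Nat.card ↥((centralizer ({φ} : Set G)).comap S.ι) by norm_num; omega]; exact hd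
  rcases hs.dvd_mul.1 h with h | h
  · exact hs2 ((Nat.prime_dvd_prime_iff_eq hs Nat.prime_two).1 (hs.dvd_of_dvd_pow h))
  · exact hs3 ((Nat.prime_dvd_prime_iff_eq hs Nat.prime_three).1 h)

/-- The field part has a faithful linear character. -/
theorem exists_faithful [Finite G] : ∃ l : S.Fld →* ℂˣ, Function.Injective l := by
  haveI := S.F_cyclic
  haveI : NeZero (Nat.card S.Fld) := ⟨Nat.card_pos.ne'⟩
  let e : S.Fld ≃* rootsOfUnity (Nat.card S.Fld) ℂ := mulEquivOfCyclicCardEq (Complex.card_rootsOfUnity _).symm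
  exact ⟨(rootsOfUnity (Nat.card S.Fld) ℂ).subtype.comp e.toMonoidHom, Subtype.val_injective.comp e.injective⟩

section Main

variable [Fintype G] [Fintype P] [IsSimpleGroup G]

omit [IsSimpleGroup G] in
/-- The dichotomy on the sections, in the form used by the exceptional functions. -/
theorem sec_el {L : ExtLocals S} (E : Exc L) (χ : IrrCharacter G)
    (hsecS : ∀ h : G,
      h * S.t = S.t * h → h * S.ι S.D.u = S.ι S.D.u * h →
      (∃ z ∈ S.D.Y, z ≠ 1 ∧ (∃ j, z ^ E.s ^ j = 1) ∧ S.ι z * h = h * S.ι z ∧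
        ¬ E.s ∣ orderOf ((S.ι z)⁻¹ * h)) →
      ((χ : G → ℂ) (S.t * h) = (χ : G → ℂ) h ∧ (χ : G → ℂ) (S.ι S.D.u * h) = (χ : G → ℂ) h ∧
        (χ : G → ℂ) (S.t * S.ι S.D.u * h) = (χ : G → ℂ) h)) :
    ∀ (q : Fin 4) (y : S.D.Y) (a : E.F₁), E.j y ≠ 1 →
      (χ : G → ℂ) (E.el (q, y, a) : G) = (χ : G → ℂ) (E.el (0, y, a) : G) := by
  intro q y a hj
  obtain ⟨z, m, hz, hz1, hzs, hm, hd⟩ := E.exists_zpart (h := E.el (0, y, a))
    (by rw [(E.values_el false 0 y a).2.2]; exact hj)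
  have hV := E.H_cent_V (E.el (0, y, a)).2
  obtain ⟨h1, h2, h3⟩ := hsecS _ (hV 1) (hV 2) ⟨z, hz, hz1, hzs, by rw [← hm, ← pow_succ, ← pow_succ'], hd⟩
  have he : (E.el (q, y, a) : G) = S.v4 q * (E.el (0, y, a) : G) := by
    simp [E.el_coe, ExtBase.v4, mul_assoc]
  rw [he]
  fin_cases q
  · simp [ExtBase.v4]
  · simpa [ExtBase.v4] using h1
  · simpa [ExtBase.v4] using h2
  · simpa [ExtBase.v4] using h3

omit [IsSimpleGroup G] in
/-- The second case of the dichotomy. -/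
theorem sum_el {L : ExtLocals S} (E : Exc L) (χ : IrrCharacter G)
    (hsecS : ∀ h : G,
      h * S.t = S.t * h → h * S.ι S.D.u = S.ι S.D.u * h →
      (∃ z ∈ S.D.Y, z ≠ 1 ∧ (∃ j, z ^ E.s ^ j = 1) ∧ S.ι z * h = h * S.ι z ∧
        ¬ E.s ∣ orderOf ((S.ι z)⁻¹ * h)) →
      (χ : G → ℂ) h + (χ : G → ℂ) (S.t * h) + (χ : G → ℂ) (S.ι S.D.u * h) +
        (χ : G → ℂ) (S.t * S.ι S.D.u * h) = 0) :
    ∀ (y : S.D.Y) (a : E.F₁), E.j y ≠ 1 → ∑ q : Fin 4, (χ : G → ℂ) (E.el (q, y, a) : G) = 0 := by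
  intro y a hj
  obtain ⟨z, m, hz, hz1, hzs, hm, hd⟩ := E.exists_zpart (h := E.el (0, y, a))
    (by rw [(E.values_el false 0 y a).2.2]; exact hj)
  have hV := E.H_cent_V (E.el (0, y, a)).2
  have h0 := hsecS _ (hV 1) (hV 2) ⟨z, hz, hz1, hzs, by rw [← hm, ← pow_succ, ← pow_succ'], hd⟩
  have he : ∀ q : Fin 4, (E.el (q, y, a) : G) = S.v4 q * (E.el (0, y, a) : G) := fun q => by
    simp [E.el_coe, ExtBase.v4, mul_assoc]
  rw [Fin.sum_univ_four, he 1, he 2, he 3]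
  simpa [ExtBase.v4] using h0

/-- The facts used about the elements with a non-trivial `s`-part in `Y`. -/
def SecFacts : Prop :=
  (∀ s : ℕ, s.Prime → s ≠ 2 → ∀ y ∈ S.D.Y, y ≠ 1 → (∃ j, y ^ s ^ j = 1) → ∀ i : G, i * i = 1 →
    i * S.ι y = S.ι y * i → ∃ q, i = S.v4 q) ∧
  ∀ (s : ℕ), s.Prime → s ≠ 2 → ∀ χ : IrrCharacter G,
    (∀ h : G, h * S.t = S.t * h → h * S.ι S.D.u = S.ι S.D.u * h →
      (∃ z ∈ S.D.Y, z ≠ 1 ∧ (∃ j, z ^ s ^ j = 1) ∧ S.ι z * h = h * S.ι z ∧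
        ¬ s ∣ orderOf ((S.ι z)⁻¹ * h)) →
      ((χ : G → ℂ) (S.t * h) = (χ : G → ℂ) h ∧ (χ : G → ℂ) (S.ι S.D.u * h) = (χ : G → ℂ) h ∧
        (χ : G → ℂ) (S.t * S.ι S.D.u * h) = (χ : G → ℂ) h)) ∨
    (∀ h : G, h * S.t = S.t * h → h * S.ι S.D.u = S.ι S.D.u * h →
      (∃ z ∈ S.D.Y, z ≠ 1 ∧ (∃ j, z ^ s ^ j = 1) ∧ S.ι z * h = h * S.ι z ∧
        ¬ s ∣ orderOf ((S.ι z)⁻¹ * h)) →
      (χ : G → ℂ) h + (χ : G → ℂ) (S.t * h) + (χ : G → ℂ) (S.ι S.D.u * h) +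
        (χ : G → ℂ) (S.t * S.ι S.D.u * h) = 0)

variable (L : ExtLocals S) (X : LChars S.D) (A : Amb G) (hδ : S.D.δ = -1) (T : ExtTable S.D) (hf : L.Free)
  (hp : S.D.p = 3) (hF : S.SecFacts)
include X A hδ T hf hp hF

omit hδ in
theorem r_big (hδ : S.D.δ = -1) (h9 : 9 ≤ S.D.f) : 1000 ≤ (S.D.r : ℝ) := by
  have h1 : 3 ^ 9 ≤ S.D.q := by rw [S.D.hf, hp]; exact Nat.pow_le_pow_right (by norm_num) h9
  have hq := S.D.hq
  rw [hδ] at hq
  have h2 : 1000 ≤ S.D.r := by norm_num at h1; omega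
  exact_mod_cast h2

/-- The trivial twist against a faithful one. -/
theorem false_of_exc (hR : 1000 ≤ (S.D.r : ℝ)) (E : Exc L) {M : Ideal AlgInt} (hM : IsPModular 2 M)
    (hl : E.l1 ≠ 1) (σ : ℂ ≃+* ℂ) (ν : S.Fld →* ℂˣ) (hν : orderOf ν = E.k)
    (hshift : ∀ (i : ℕ) (j : Fin 3) (χ : IrrCharacter G),
      S.vE X hM (E.l1 * ν ^ (i + 1)) j (PrinCol.galIrr σ χ) = S.vE X hM (E.l1 * ν ^ i) j χ)
    (hσj : ∀ y, σ (E.j y : ℂ) = E.j y) (hσl : ∀ a ∈ E.F₁, σ (E.l1 a : ℂ) = E.l1 a)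
    (h3 : E.k = 3 → (∀ ω : ℂ, ω ^ 3 = 1 → σ ω = ω) ∧ ∀ a : S.Fld, a ∉ E.F₁ → σ (E.l1 a : ℂ) ≠ E.l1 a) :
    False := by
  have hsec : ∀ χ : IrrCharacter G, (∀ (q : Fin 4) (y : S.D.Y) (a : E.F₁), E.j y ≠ 1 →
        (χ : G → ℂ) (E.el (q, y, a) : G) = (χ : G → ℂ) (E.el (0, y, a) : G)) ∨
      (∀ (y : S.D.Y) (a : E.F₁), E.j y ≠ 1 → ∑ q : Fin 4, (χ : G → ℂ) (E.el (q, y, a) : G) = 0) :=
    fun χ => (hF.2 E.s E.hs E.hs2 χ).imp (sec_el S E χ) (sum_el S E χ)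
  have h1 := S.block_one L X hM A hδ T hf hp hR
  have h2 := S.block_twist L X hM A hδ T hf hp hR hl fun x s hS =>
    E.fibre_T T hf hp hδ X hM A hsec σ ν hν hshift hσj hσl h3 hS
  linarith

/-- The two configurations. -/
theorem false_of_blocks_of (hfo : Odd S.D.f) (he : 1 < Nat.card S.Fld)
    (H3 : ∀ l : ℕ, l.Prime → l ∣ Nat.card S.Fld → l = 3 ∨ l ∣ (3 ^ (S.D.f / l)) ^ 2 - 3 ^ (S.D.f / l) + 1)
    (hcase : 3 ≤ S.D.f / Nat.card S.Fld ∨ (S.D.f = Nat.card S.Fld ∧ ∃ l : ℕ, l.Prime ∧ l * l ∣ Nat.card S.Fld)) :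
    False := by
  haveI := S.F_cyclic
  obtain ⟨M, hM⟩ := exists_isPModular 2 Nat.prime_two
  obtain ⟨l, hlinj⟩ := S.exists_faithful
  obtain ⟨φ0, hφ0⟩ := IsCyclic.exists_generator (α := S.Fld)
  have hoφ : orderOf φ0 = Nat.card S.Fld := orderOf_eq_card_of_forall_mem_zpowers hφ0
  have hoφ' : orderOf (φ0 : G) = Nat.card S.Fld := by rw [Subgroup.orderOf_coe, hoφ]
  have hl1 : l ≠ 1 := fun e => by
    have : Subsingleton S.Fld := ⟨fun a b => hlinj (by rw [e]; rfl)⟩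
    exact absurd (Nat.card_eq_one_iff_unique.2 ⟨this, ⟨1⟩⟩) (by omega)
  obtain ⟨e0, he0⟩ := S.F_dvd
  have he0o : Odd e0 := (he0 ▸ hfo).of_dvd_nat (dvd_mul_left _ _)
  rcases hcase with hK1 | ⟨hfe, ℓ, hℓ, hℓ2⟩
  · obtain ⟨s, hs, hs2, hs3, hsd, z, hz, hzo, hzc⟩ := S.exists_fix_z hp φ0.2
      (by rw [hoφ', he0, Nat.mul_div_cancel_left _ (by omega)]; exact he0o) (by rw [hoφ']; exact hK1)
    have hzr : s ∣ S.D.r := by rw [← hzo, ← S.D.card_Y]; exact Subgroup.orderOf_dvd_natCard _ hz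
    let E : Exc L :=
      { s := s, hs := hs, hs2 := hs2, hsr := hzr
        hsF := S.not_dvd_fld hfo H3 (Nat.div_dvd_of_dvd (hoφ' ▸ S.F_dvd)) hs hs3 hsd
        k := 1, hk := Or.inl rfl, F₁ := ⊤, φ := 1
        cover := fun a => ⟨0, trivial, fun m _ => Subsingleton.elim _ _⟩
        pow_k := trivial
        z := z, hz := hz, hzo := hzo
        stab := fun a => iff_of_true (by
          obtain ⟨i, rfl⟩ := hφ0 a
          rw [Subgroup.coe_zpow]
          exact (show Commute (φ0 : G) (S.ι z) from hzc).zpow_left i) trivial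
        l1 := l, invol := hF.1 s hs hs2 }
    refine S.false_of_exc L X A hδ T hf hp hF (S.r_big L X A T hf hp hF hδ ?_) E hM hl1 (RingEquiv.refl ℂ) 1 orderOf_one
      (fun i j χ => ?_) (fun _ => rfl) (fun _ _ => rfl) (fun h => absurd h (by decide : ¬ (1 : ℕ) = 3))
    · have h3e : 3 ≤ Nat.card S.Fld := by obtain ⟨k, hk⟩ := S.F_odd; omega
      rw [he0, Nat.mul_div_cancel_left _ (by omega)] at hK1
      rw [he0]
      calc 9 = 3 * 3 := rfl
        _ ≤ Nat.card S.Fld * e0 := Nat.mul_le_mul h3e hK1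
    · rw [show PrinCol.galIrr (RingEquiv.refl ℂ) χ = χ from Subtype.ext rfl]
      congr 1
      ext a
      simp [MonoidHom.pow_apply]
  · have hℓd : ℓ ∣ Nat.card S.Fld := (dvd_mul_right ℓ ℓ).trans hℓ2
    have hℓodd : Odd ℓ := S.F_odd.of_dvd_nat hℓd
    have hℓ3 : 3 ≤ ℓ := by have := hℓ.two_le; obtain ⟨k, hk⟩ := hℓodd; omega
    obtain ⟨σ, ν, hν1, hνℓ, hσn, hσe, hσs, hshift⟩ := S.exists_shift X hM hℓ (by omega)
      (by rwa [pow_two]) hlinj
    set F₁ : Subgroup S.Fld := Subgroup.zpowers (φ0 ^ ℓ)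
    have hmem : ∀ i : ℤ, φ0 ^ i ∈ F₁ ↔ (ℓ : ℤ) ∣ i := fun i => by
      rw [Subgroup.mem_zpowers_iff]
      constructor
      · rintro ⟨j, hj⟩
        rw [← zpow_natCast, ← zpow_mul, zpow_eq_zpow_iff_modEq, hoφ] at hj
        have h := (hj.of_dvd (Int.natCast_dvd_natCast.2 hℓd)).symm.dvd
        exact (dvd_sub_right (dvd_mul_right _ _)).1 h
      · rintro ⟨j, rfl⟩
        exact ⟨j, by rw [← zpow_natCast, ← zpow_mul]⟩
    have hoρ : orderOf ((φ0 ^ ℓ : S.Fld) : G) = Nat.card S.Fld / ℓ := by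
      rw [Subgroup.orderOf_coe, orderOf_pow' φ0 (by omega), hoφ, Nat.gcd_eq_right hℓd]
    have hdiv : S.D.f / orderOf ((φ0 ^ ℓ : S.Fld) : G) = ℓ := by
      rw [hoρ, hfe, Nat.div_div_self hℓd (by omega)]
    obtain ⟨s, hs, hs2, hs3, hsd, z, hz, hzo, hzc⟩ := S.exists_fix_z hp (φ0 ^ ℓ).2
      (by rw [hdiv]; exact hℓodd) (by rw [hdiv]; exact hℓ3)
    have hzr : s ∣ S.D.r := by rw [← hzo, ← S.D.card_Y]; exact Subgroup.orderOf_dvd_natCard _ hz
    have hsF : ¬ s ∣ Nat.card S.Fld :=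
      S.not_dvd_fld hfo H3 (by rw [hdiv, hfe]; exact hℓd) hs hs3 hsd
    have hstab : ∀ a : S.Fld, (a : G) * S.ι z = S.ι z * (a : G) ↔ a ∈ F₁ := by
      intro a
      constructor
      · intro ha
        obtain ⟨i, rfl⟩ := hφ0 a
        show φ0 ^ i ∈ F₁
        rw [hmem]
        by_contra hi
        refine S.fix_gen_false hp φ0.2 (by rw [hoφ', hfe, Nat.div_self (by omega)]) hs hs2 hs3 hzo ?_
        have hb := Int.gcd_eq_gcd_ab (ℓ : ℤ) i
        have hg : Int.gcd (ℓ : ℤ) i = 1 := by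
          rw [Int.gcd_def, Int.natAbs_natCast]
          exact (hℓ.coprime_iff_not_dvd.2 fun h => hi (Int.natCast_dvd.2 h))
        rw [hg, Nat.cast_one] at hb
        rw [Subgroup.coe_zpow] at ha
        rw [Subgroup.coe_pow] at hzc
        have h1 : Commute ((φ0 : G) ^ (1 : ℤ)) (S.ι z) := by
          rw [hb, zpow_add, zpow_mul, zpow_mul, zpow_natCast]
          exact ((show Commute ((φ0 : G) ^ ℓ) _ from hzc).zpow_left _).mul_left
            ((show Commute ((φ0 : G) ^ i) _ from ha).zpow_left _)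
        rwa [zpow_one] at h1
      · rintro ⟨j, rfl⟩
        rw [Subgroup.coe_zpow]
        exact (show Commute ((φ0 ^ ℓ : S.Fld) : G) (S.ι z) from hzc).zpow_left j
    let E : Exc L :=
      { s := s, hs := hs, hs2 := hs2, hsr := hzr, hsF := hsF
        k := ℓ, hk := Or.inr ⟨hℓ, hℓodd⟩, F₁ := F₁, φ := φ0
        cover := fun a => by
          obtain ⟨i, rfl⟩ := hφ0 a
          have key : ∀ m : ℕ, (φ0 ^ m)⁻¹ * φ0 ^ i ∈ F₁ ↔ (ℓ : ℤ) ∣ i - m := fun m => by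
            rw [← zpow_natCast, ← zpow_neg, ← zpow_add, hmem, neg_add_eq_sub]
          have h0 : (0 : ℤ) < ℓ := by exact_mod_cast hℓ.pos
          refine ⟨⟨(i % ℓ).toNat, by have := Int.emod_lt_of_pos i h0; omega⟩, ?_, fun m hm => ?_⟩
          · refine (key _).2 ?_
            rw [Int.toNat_of_nonneg (Int.emod_nonneg i h0.ne')]
            exact Int.dvd_self_sub_emod
          · have h := (key m).1 hm
            refine Fin.ext ?_
            have h2 : i % ℓ = (m : ℤ) := by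
              rw [Int.emod_eq_emod_iff_emod_sub_eq_zero.2 (Int.emod_eq_zero_of_dvd h)]
              exact Int.emod_eq_of_lt (by omega) (by exact_mod_cast m.2)
            simp [h2]
        pow_k := Subgroup.mem_zpowers _
        z := z, hz := hz, hzo := hzo, stab := hstab
        l1 := l, invol := hF.1 s hs hs2 }
    have hEs : ∀ y, (E.j y : ℂ) ^ s = 1 := fun y => by
      have h := congrArg (fun χ : S.D.Y →* ℂˣ => χ y) (pow_orderOf_eq_one E.j)
      rw [E.j_order] at h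
      simp only [MonoidHom.pow_apply, MonoidHom.one_apply] at h
      rw [← Units.val_pow_eq_pow_val, h, Units.val_one]
    haveI : Fact (Nat.Prime E.k) := ⟨hℓ⟩
    refine S.false_of_exc L X A hδ T hf hp hF (S.r_big L X A T hf hp hF hδ ?_) E hM hl1 σ ν
      (orderOf_eq_prime hνℓ hν1) hshift (fun y => ?_) (fun a ha => ?_) (fun h => ⟨fun ω hω => ?_, fun a ha => ?_⟩)
    · rw [hfe]
      calc 9 = 3 * 3 := rfl
        _ ≤ ℓ * ℓ := Nat.mul_le_mul hℓ3 hℓ3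
        _ ≤ _ := Nat.le_of_dvd (by omega) hℓ2
    · refine hσn _ s ?_ (fun hd => hsF ?_) (hEs y)
      · rw [← hzo, ← orderOf_injective S.ι S.inj]; exact orderOf_dvd_natCard _
      · rwa [(Nat.prime_dvd_prime_iff_eq hℓ hs).1 hd] at hℓd
    · obtain ⟨j, rfl⟩ := ha
      refine hσe _ ?_
      rw [← Units.val_pow_eq_pow_val, ← map_pow, ← zpow_natCast (_ ^ j), ← zpow_natCast φ0, ← zpow_mul, ← zpow_mul,
        show (ℓ : ℤ) * (j * ((Nat.card S.Fld / ℓ : ℕ) : ℤ)) = ((ℓ * (Nat.card S.Fld / ℓ) : ℕ) : ℤ) * j by push_cast; ring,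
        Nat.mul_div_cancel' hℓd, zpow_mul, zpow_natCast, pow_card_eq_one', one_zpow, map_one, Units.val_one]
    · refine hσe _ ?_
      have h3l : ℓ = 3 := h
      subst h3l
      obtain ⟨j, hj⟩ : 3 ∣ Nat.card S.Fld / 3 := Nat.dvd_div_of_mul_dvd hℓ2
      rw [hj, pow_mul, hω, one_pow]
    · obtain ⟨i, rfl⟩ := hφ0 a
      have hi : ¬ (ℓ : ℤ) ∣ i := fun hd => ha ((hmem i).2 hd)
      intro hfix
      have hs0 := hσs (φ0 ^ i) 0
      simp only [MonoidHom.mul_apply, MonoidHom.pow_apply, pow_zero, mul_one, zero_add, pow_one, Units.val_mul] at hs0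
      rw [show σ (l (φ0 ^ i) : ℂ) = (l (φ0 ^ i) : ℂ) from hfix] at hs0
      have hν0 : ν (φ0 ^ i) = 1 := Units.ext (mul_left_cancel₀ (Units.ne_zero (l (φ0 ^ i)))
        (by rw [Units.val_one, mul_one]; exact hs0.symm))
      rw [map_zpow] at hν0
      have hne : ν φ0 ≠ 1 := fun e => hν1 (MonoidHom.ext fun b => by
        obtain ⟨j, rfl⟩ := hφ0 b
        rw [map_zpow, e, one_zpow, MonoidHom.one_apply])
      have ho : orderOf (ν φ0) = ℓ := by
        haveI := Fact.mk hℓ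
        refine orderOf_eq_prime ?_ hne
        have := congrArg (fun χ : S.Fld →* ℂˣ => χ φ0) hνℓ
        simpa using this
      exact hi (ho ▸ orderOf_dvd_iff_zpow_eq_one.2 hν0)

end Main

end Cfsg.Agent.Invol.JankoWard.ExtBase
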