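import Cfsg.Agent.Lib.Invol.JankoWard.ExtHyp
import Cfsg.Agent.Lib.Invol.JankoWard.LocalBase
import Cfsg.Agent.Lib.Char.Basic
import Cfsg.Agent.Lib.Block.Central
import Cfsg.Agent.Lib.Block.ClassMul
import Cfsg.Agent.Lib.Char.Constituent
import Cfsg.Agent.Lib.Char.Integral
import Mathlib.Tactic.LinearCombination

/-!
# The Sylow 3-subgroups of `L2(q)` from the table hypotheses, and a lower bound for the degrees

Elements of order three have self-centralising elementary abelian Sylow subgroups; so the degree of a character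
that does not have such an element in its kernel is at least `q / 4`.
-/

open scoped ComplexConjugate

set_option autoImplicit false
set_option linter.unusedSectionVars false
set_option linter.style.haveILetI false

open scoped Classical

namespace Cfsg.Agent.Invol.JankoWard

open Cfsg Cfsg.Agent.Char Cfsg.Agent.Block Subgroup

universe u v

namespace ExtTable

variable {P : Type v} [Group P] [Fintype P] {D : LData P} (T : ExtTable D) (hp : D.p = 3)
include T hp

omit T in
theorem q_eq : D.q = 3 ^ D.f := hp ▸ D.hf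

omit T in
theorem f_pos : 0 < D.f := by
  rcases Nat.eq_zero_or_pos D.f with h | h
  · have h1 := D.hq
    have := D.r3
    rw [D.hf, h, pow_zero] at h1
    rcases D.hδ with e | e <;> omega
  · exact h

omit T in
theorem three_q : 3 ∣ D.q := by
  rw [q_eq hp]; exact dvd_pow_self 3 (f_pos hp).ne'

omit T in
theorem two_card : 2 * Nat.card P = D.q * ((D.q - 1) * (D.q + 1)) := by rw [mul_comm]; exact D.card_P

theorem card_U (U : Sylow 3 P) : Nat.card (U : Subgroup P) = D.q := by
  haveI : Fact (Nat.Prime 3) := ⟨Nat.prime_three⟩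
  have h1 := Sylow.card_eq_multiplicity U
  rw [h1]
  have hq := D.q_ge
  obtain ⟨j, hj⟩ := three_q hp
  have hP : Nat.card P ≠ 0 := Nat.card_pos.ne'
  have e : (2 * Nat.card P).factorization 3 = D.f := by
    rw [two_card hp, Nat.factorization_mul (by omega) (Nat.mul_ne_zero (by omega) (by omega)), Finsupp.add_apply,
      Nat.factorization_mul (by omega) (by omega), Finsupp.add_apply, q_eq hp,
      Nat.Prime.factorization_pow Nat.prime_three, Finsupp.single_eq_same,
      Nat.factorization_eq_zero_of_not_dvd (n := 3 ^ D.f - 1) (by rw [← q_eq hp]; omega),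
      Nat.factorization_eq_zero_of_not_dvd (n := 3 ^ D.f + 1) (by rw [← q_eq hp]; omega), add_zero, add_zero]
  rw [Nat.factorization_mul two_ne_zero hP, Finsupp.add_apply,
    Nat.factorization_eq_zero_of_not_dvd (n := 2) (by norm_num), zero_add] at e
  rw [e, q_eq hp]

omit T in
theorem card_P' (hδ : D.δ = -1) : Nat.card P = D.q * (2 * D.r - 1) * (4 * D.r) := by
  have h := two_card (D := D) hp
  have hq := D.hq
  have := D.r3
  have h1 : D.q + 1 = 4 * D.r := by omega
  have h2 : D.q - 1 = 2 * (2 * D.r - 1) := by omega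
  rw [h1, h2] at h
  refine Nat.eq_of_mul_eq_mul_left two_pos ?_
  rw [h]; ring

omit T in
theorem not_three_r (hδ : D.δ = -1) : ¬ 3 ∣ D.r ∧ ¬ 3 ∣ 2 * D.r - 1 := by
  have hq := D.hq
  obtain ⟨j, hj⟩ := three_q hp
  have := D.r3
  constructor <;> omega

/-- The centraliser of an element of order three is a Sylow subgroup. -/
theorem cent_three (hδ : D.δ = -1) {h : P} (hh : orderOf h = 3) (U : Sylow 3 P) (hU : h ∈ (U : Subgroup P)) :
    centralizer ({h} : Set P) = (U : Subgroup P) := by
  haveI : Fact (Nat.Prime 3) := ⟨Nat.prime_three⟩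
  obtain ⟨hr, hm⟩ := not_three_r hp hδ
  have h1 : h ≠ 1 := fun e => by simp [e] at hh
  set C := centralizer ({h} : Set P)
  have hodd : Odd (Nat.card C) := by
    by_contra he
    rw [Nat.not_odd_iff_even, even_iff_two_dvd] at he
    haveI : Fact (Nat.Prime 2) := ⟨Nat.prime_two⟩
    obtain ⟨i, hi⟩ := exists_prime_orderOf_dvd_card' 2 he
    rw [← Subgroup.orderOf_coe] at hi
    obtain ⟨c, hc⟩ := isConj_iff.1 (D.one_class (i : P) (by rw [← pow_two, ← hi, pow_orderOf_eq_one])
      (fun e => by simp [e] at hi))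
    have hcomm : (c⁻¹ * h * c) * D.u = D.u * (c⁻¹ * h * c) := by
      have e := mem_centralizer_singleton_iff.1 i.2
      rw [show D.u = c⁻¹ * (i : P) * c by rw [← hc]; group]
      calc c⁻¹ * h * c * (c⁻¹ * i * c) = c⁻¹ * (h * i) * c := by group
        _ = c⁻¹ * ((i : P) * h) * c := by rw [← e]
        _ = _ := by group
    have hY := D.odd_mem_Y hcomm (o := 3) (by decide) (by
      rw [show c⁻¹ * h * c = c⁻¹ * h * c⁻¹⁻¹ by rw [inv_inv], conj_pow, ← hh, pow_orderOf_eq_one]; group)
    have h3 : orderOf (c⁻¹ * h * c) ∣ D.r := orderOf_dvd_of_pow_eq_one (D.pow_r hY)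
    rw [show c⁻¹ * h * c = MulAut.conj c⁻¹ h by simp [MulAut.conj_apply], MulEquiv.orderOf_eq, hh] at h3
    exact hr h3
  have hcard : Nat.card C = D.q := by
    have h3 : 3 ∣ Nat.card C := by
      rw [← hh]
      exact Subgroup.orderOf_dvd_natCard _ (mem_centralizer_singleton_iff.2 rfl)
    rcases D.cent_odd h h1 hodd with e | e
    · exfalso
      rw [hδ] at e
      have := D.r3
      change (Nat.card C : ℤ) = _ at e
      have e' : Nat.card C = 2 * D.r - 1 := by omega
      exact hm (e' ▸ h3)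
    · exact e
  have hpC : IsPGroup 3 C := IsPGroup.of_card (n := D.f) (by rw [hcard, q_eq hp])
  obtain ⟨U', hU'⟩ := hpC.exists_le_sylow
  have e : U' = U := by
    by_contra hne
    have : h ∈ (U' : Subgroup P) ⊓ (U : Subgroup P) := ⟨hU' (mem_centralizer_singleton_iff.2 rfl), hU⟩
    rw [T.syl_ti U' U hne] at this
    exact h1 (Subgroup.mem_bot.1 this)
  subst e
  exact Subgroup.eq_of_le_of_card_ge hU' (by rw [hcard, T.card_U hp])

theorem not_conj_inv (hδ : D.δ = -1) {h : P} (hh : orderOf h = 3) : ¬ IsConj h h⁻¹ := by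
  intro hc
  haveI : Fact (Nat.Prime 3) := ⟨Nat.prime_three⟩
  obtain ⟨x, hx⟩ := isConj_iff.1 hc
  have hz : IsPGroup 3 (zpowers h) := IsPGroup.of_card (n := 1) (by rw [Nat.card_zpowers, hh, pow_one])
  obtain ⟨U, hU⟩ := hz.exists_le_sylow
  have hC := T.cent_three hp hδ hh U (hU (mem_zpowers h))
  have hxN : x ∈ normalizer ((U : Subgroup P) : Set P) := by
    refine Subgroup.mem_normalizer_iff.2 fun y => ?_
    rw [← hC, mem_centralizer_singleton_iff, mem_centralizer_singleton_iff]
    have e2 : x * h * x⁻¹ = h⁻¹ := hx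
    constructor
    · intro e
      have : Commute (x * y * x⁻¹) h⁻¹ := by
        rw [← e2]
        show x * y * x⁻¹ * (x * h * x⁻¹) = x * h * x⁻¹ * (x * y * x⁻¹)
        calc x * y * x⁻¹ * (x * h * x⁻¹) = x * (y * h) * x⁻¹ := by group
          _ = x * (h * y) * x⁻¹ := by rw [e]
          _ = _ := by group
      exact (Commute.inv_right_iff.1 this).eq
    · intro e
      have e3 : Commute (x * y * x⁻¹) (x * h * x⁻¹) := by rw [e2]; exact (show Commute (x * y * x⁻¹) h from e).inv_right
      calc y * h = x⁻¹ * (x * y * x⁻¹ * (x * h * x⁻¹)) * x := by group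
        _ = x⁻¹ * (x * h * x⁻¹ * (x * y * x⁻¹)) * x := by rw [e3.eq]
        _ = h * y := by group
  have hxodd : Odd (orderOf x) :=
    (T.syl_odd U).of_dvd_nat (Subgroup.orderOf_dvd_natCard _ hxN)
  have h2 : (x * x) * h = h * (x * x) := by
    have e2 : x * h * x⁻¹ = h⁻¹ := hx
    have e3 : x * h⁻¹ * x⁻¹ = h := by rw [← conj_inv, e2, inv_inv]
    calc x * x * h = x * (x * h * x⁻¹) * x⁻¹ * (x * x) := by group
      _ = h * (x * x) := by rw [e2, e3]
  have hxh : x * h = h * x := by
    obtain ⟨j, hj⟩ := hxodd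
    have hx' : x = ((x * x) ^ (j + 1)) := by
      rw [← pow_two, ← pow_mul, show 2 * (j + 1) = orderOf x + 1 by omega, pow_succ, pow_orderOf_eq_one, one_mul]
    rw [hx']
    exact ((show Commute (x * x) h from h2).pow_left _).eq
  have h4 : h = h⁻¹ := by
    calc h = h * (x * x⁻¹) := by group
      _ = x * h * x⁻¹ := by rw [← mul_assoc, ← hxh]
      _ = h⁻¹ := hx
  have h5 : orderOf h ∣ 2 := orderOf_dvd_of_pow_eq_one (by rw [pow_two]; nth_rewrite 2 [h4]; rw [mul_inv_cancel])
  rw [hh] at h5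
  norm_num at h5

/-- The size of a class of elements of order three. -/
theorem class_card (hδ : D.δ = -1) {k : P} (hk : orderOf k = 3) :
    (Finset.univ.filter fun g : P => IsConj k g).card = (2 * D.r - 1) * (4 * D.r) := by
  haveI : Fact (Nat.Prime 3) := ⟨Nat.prime_three⟩
  have hz : IsPGroup 3 (zpowers k) := IsPGroup.of_card (n := 1) (by rw [Nat.card_zpowers, hk, pow_one])
  obtain ⟨V, hV⟩ := hz.exists_le_sylow
  have hC := T.cent_three hp hδ hk V (hV (mem_zpowers k))
  have hi := (centralizer ({k} : Set P)).card_mul_index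
  rw [hC, T.card_U hp, card_P' hp hδ, mul_assoc] at hi
  have hi' := Nat.eq_of_mul_eq_mul_left (by have := D.q_ge; omega) hi
  rw [← hC] at hi'
  rw [← hi', ← card_conjClass k, Nat.card_eq_fintype_card, Fintype.card_subtype]

/-- All non-trivial 3-elements have order three. -/
theorem order_three (hδ : D.δ = -1) {U : Sylow 3 P} {a : P} (ha : a ∈ (U : Subgroup P)) (ha1 : a ≠ 1) :
    orderOf a = 3 := by
  haveI : Fact (Nat.Prime 3) := ⟨Nat.prime_three⟩
  obtain ⟨h, hh⟩ := exists_prime_orderOf_dvd_card' (G := P) 3 (by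
    rw [card_P' hp hδ, mul_assoc]; exact (three_q hp).mul_right _)
  have hinv : orderOf h⁻¹ = 3 := by rw [orderOf_inv, hh]
  have hclass : ∀ k : P, orderOf k = 3 →
      (Finset.univ.filter fun g : P => IsConj k g).card = (2 * D.r - 1) * (4 * D.r) :=
    fun k hk => T.class_card hp hδ hk
  set O := Finset.univ.filter fun g : P => orderOf g = 3
  set W := Finset.univ.biUnion fun V : Sylow 3 P => (Finset.univ.filter fun g : P => g ∈ (V : Subgroup P)).erase 1
  have hO : 2 * ((2 * D.r - 1) * (4 * D.r)) ≤ O.card := by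
    rw [two_mul]
    conv_lhs => arg 1; rw [← hclass h hh]
    conv_lhs => arg 2; rw [← hclass h⁻¹ hinv]
    rw [← Finset.card_union_of_disjoint (Finset.disjoint_left.2 fun g hg hg' =>
      T.not_conj_inv hp hδ hh ((Finset.mem_filter.1 hg).2.trans (Finset.mem_filter.1 hg').2.symm))]
    refine Finset.card_le_card fun g hg => ?_
    simp only [Finset.mem_union, Finset.mem_filter, Finset.mem_univ, true_and] at hg
    refine Finset.mem_filter.2 ⟨Finset.mem_univ _, ?_⟩
    rcases hg with e | e <;> obtain ⟨c, rfl⟩ := isConj_iff.1 e <;>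
      rw [show ∀ z : P, c * z * c⁻¹ = MulAut.conj c z from fun z => rfl, MulEquiv.orderOf_eq] <;> assumption
  have hW : W.card ≤ (D.q + 1) * (D.q - 1) := by
    refine Finset.card_biUnion_le.trans (le_of_eq ?_)
    rw [Finset.sum_congr rfl (g := fun _ => D.q - 1) fun V _ => ?_, Finset.sum_const, Finset.card_univ,
      ← Nat.card_eq_fintype_card, T.card_syl, smul_eq_mul]
    rw [Finset.card_erase_of_mem (by simp [one_mem]), ← Fintype.card_subtype, ← Nat.card_eq_fintype_card]
    exact congrArg (· - 1) (T.card_U hp V)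
  have hsub : O ⊆ W := by
    intro g hg
    have hg3 := (Finset.mem_filter.1 hg).2
    have hz : IsPGroup 3 (zpowers g) := IsPGroup.of_card (n := 1) (by rw [Nat.card_zpowers, hg3, pow_one])
    obtain ⟨V, hV⟩ := hz.exists_le_sylow
    refine Finset.mem_biUnion.2 ⟨V, Finset.mem_univ _, Finset.mem_erase.2 ⟨fun e => by simp [e] at hg3, ?_⟩⟩
    exact Finset.mem_filter.2 ⟨Finset.mem_univ _, hV (mem_zpowers g)⟩
  have hqr : (D.q + 1) * (D.q - 1) = 2 * ((2 * D.r - 1) * (4 * D.r)) := by
    have hq := D.hq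
    have := D.r3
    have h1 : D.q + 1 = 4 * D.r := by omega
    have h2 : D.q - 1 = 2 * (2 * D.r - 1) := by omega
    rw [h1, h2]; ring
  have e := Finset.eq_of_subset_of_card_le hsub (by omega)
  have hmem : a ∈ W := Finset.mem_biUnion.2 ⟨U, Finset.mem_univ _,
    Finset.mem_erase.2 ⟨ha1, Finset.mem_filter.2 ⟨Finset.mem_univ _, ha⟩⟩⟩
  rw [← e] at hmem
  exact (Finset.mem_filter.1 hmem).2

/-- Twice the real part of a value at an element of order three is an integer congruent to twice the degree. -/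
theorem two_re (hδ : D.δ = -1) {θ : P → ℂ} (hθ : IsCharacter P θ) {d : ℕ} (hd : θ 1 = d)
    {h : P} (hh : orderOf h = 3) :
    ∃ a : ℤ, 2 * (θ h).re = a ∧ (D.q : ℤ) ∣ 2 * (d : ℤ) - a ∧ -(2 * (d : ℤ)) ≤ a ∧ a ≤ 2 * (d : ℤ) ∧
      (a = 2 * (d : ℤ) → θ h = d) := by
  haveI : Fact (Nat.Prime 3) := ⟨Nat.prime_three⟩
  have hz : IsPGroup 3 (zpowers h) := IsPGroup.of_card (n := 1) (by rw [Nat.card_zpowers, hh, pow_one])
  obtain ⟨U, hU⟩ := hz.exists_le_sylow
  set U' := (U : Subgroup P)
  obtain ⟨n, hn⟩ := IsGenChar.classInner_int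
    (IsGenChar.of_isCharacter (IsChar.comp U'.subtype hθ))
    (IsGenChar.of_isCharacter (IsIrr.isCharacter (isIrr_linear (1 : U' →* ℂˣ))))
  simp only [classInner, MonoidHom.one_apply, Units.val_one, map_one, mul_one, U', T.card_U hp] at hn
  have hre : ∀ x : U', x ≠ 1 → (θ (x : P)).re = (θ h).re := by
    intro x hx
    have hx3 := T.order_three hp hδ x.2 (fun e => hx (Subtype.ext e))
    have hclass : ∀ a b : P, IsConj a b → θ b = θ a := fun a b e => by
      obtain ⟨c, rfl⟩ := isConj_iff.1 e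
      exact IsGenChar.classFun (IsGenChar.of_isCharacter hθ) a c
    rcases T.three_class h x hh hx3 with e | e
    · rw [hclass _ _ e]
    · have h1 := hclass _ _ e
      rw [IsChar.apply_inv hθ] at h1
      rw [← h1, Complex.conj_re]
  have hre2 := congrArg Complex.re hn
  have hq0 : (D.q : ℝ) ≠ 0 := by have := D.q_ge; positivity
  rw [show ((D.q : ℂ))⁻¹ = (((D.q : ℝ)⁻¹ : ℝ) : ℂ) by push_cast; rfl, Complex.re_ofReal_mul, Complex.intCast_re,
    Complex.re_sum] at hre2
  simp only [Subgroup.coe_subtype] at hre2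
  rw [← Finset.add_sum_erase _ _ (Finset.mem_univ (1 : U')),
    Finset.sum_congr rfl (fun x hx => hre x (Finset.ne_of_mem_erase hx)), Finset.sum_const,
    Finset.card_erase_of_mem (Finset.mem_univ _), Finset.card_univ, ← Nat.card_eq_fintype_card, T.card_U hp,
    nsmul_eq_mul, OneMemClass.coe_one, hd, Complex.natCast_re,
    Nat.cast_sub (by have := D.q_ge; omega : 1 ≤ D.q), Nat.cast_one] at hre2
  -- twice the real part is an integer
  have hq1 : ((D.q : ℝ) - 1) ≠ 0 := by
    have h11 := D.q_ge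
    have : (11 : ℝ) ≤ (D.q : ℝ) := by exact_mod_cast h11
    linarith
  have hα : 2 * (θ h).re = ((2 * ((n : ℚ) * D.q - d) / ((D.q : ℚ) - 1) : ℚ) : ℝ) := by
    push_cast
    rw [eq_div_iff hq1]
    field_simp at hre2
    linear_combination 2 * hre2
  obtain ⟨a, ha⟩ := int_of_isIntegral_rat (q := 2 * ((n : ℚ) * D.q - d) / ((D.q : ℚ) - 1)) (by
    rw [show ((2 * ((n : ℚ) * D.q - d) / ((D.q : ℚ) - 1) : ℚ) : ℂ) = θ h + conj (θ h) by
      rw [Complex.add_conj, ← Complex.ofReal_ratCast, ← hα]]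
    refine IsIntegral.add (IsChar.isIntegral hθ h) ?_
    rw [← IsChar.apply_inv hθ]
    exact IsChar.isIntegral hθ h⁻¹)
  have hα' : 2 * (θ h).re = (a : ℝ) := by
    rw [hα]
    have h' : ((2 * ((n : ℚ) * D.q - d) / ((D.q : ℚ) - 1) : ℚ) : ℂ) = ((a : ℤ) : ℂ) := ha
    exact_mod_cast h'
  have hnorm : ‖θ h‖ ≤ d := by
    have := IsChar.norm_le hθ h
    rwa [hd, Complex.norm_natCast] at this
  have hb : |(θ h).re| ≤ d := (Complex.abs_re_le_norm _).trans hnorm
  obtain ⟨hb1, hb2⟩ := abs_le.1 hb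
  have ha1 : -(2 * (d : ℤ)) ≤ a := by
    have : ((-(2 * (d : ℤ)) : ℤ) : ℝ) ≤ ((a : ℤ) : ℝ) := by push_cast; linarith
    exact_mod_cast this
  have ha2 : a ≤ 2 * (d : ℤ) := by
    have : ((a : ℤ) : ℝ) ≤ ((2 * (d : ℤ) : ℤ) : ℝ) := by push_cast; linarith
    exact_mod_cast this
  have heq : 2 * (d : ℤ) + ((D.q : ℤ) - 1) * a = 2 * (D.q : ℤ) * n := by
    have : ((2 * (d : ℤ) + ((D.q : ℤ) - 1) * a : ℤ) : ℝ) = ((2 * (D.q : ℤ) * n : ℤ) : ℝ) := by
      push_cast
      rw [← hα']
      field_simp at hre2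
      linear_combination 2 * hre2
    exact_mod_cast this
  refine ⟨a, hα', ⟨2 * n - a, by linarith⟩, ha1, ha2, fun h0 => ?_⟩
  have hd' : (θ h).re = d := by
    have : ((a : ℤ) : ℝ) = ((2 * (d : ℤ) : ℤ) : ℝ) := by exact_mod_cast h0
    push_cast at this
    linarith
  have him : (θ h).im = 0 := by
    have h1 := Complex.normSq_apply (θ h)
    rw [← Complex.sq_norm, hd'] at h1
    nlinarith [norm_nonneg (θ h)]
  exact Complex.ext (by rw [hd', Complex.natCast_re]) (by rw [him, Complex.natCast_im])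

/-- A character of small degree has the elements of order three in its kernel. -/
theorem ker_of_small (hδ : D.δ = -1) {θ : P → ℂ} (hθ : IsCharacter P θ) {d : ℕ} (hd : θ 1 = d)
    (hsmall : 4 * d < D.q) {h : P} (hh : orderOf h = 3) : θ h = d := by
  obtain ⟨a, -, hdvd, ha1, ha2, heq⟩ := T.two_re hp hδ hθ hd hh
  refine heq ?_
  have := Int.eq_zero_of_abs_lt_dvd hdvd (by rw [abs_of_nonneg (by omega)]; omega)
  omega

/-- The real part of a value of an irreducible character of degree `(q - 1) / 2`. -/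
theorem re_half (hδ : D.δ = -1) (θ : IrrCharacter P) (hd : (θ : P → ℂ) 1 = ((2 * D.r - 1 : ℕ) : ℂ))
    {h : P} (hh : orderOf h = 3) : ((θ : P → ℂ) h).re = -1 / 2 := by
  obtain ⟨a, ha, hdvd, ha1, ha2, heq⟩ := T.two_re hp hδ (IsIrr.isCharacter θ.2) hd hh
  have hq := D.hq
  have hr := D.r3
  set d := 2 * D.r - 1 with hd'
  have hne : a ≠ 2 * (d : ℤ) := by
    intro e
    have hv := heq e
    have hn := classInner_self_irr θ.2
    rw [classInner] at hn
    have hpos : ∀ x : P, ((θ : P → ℂ) x * conj ((θ : P → ℂ) x)).re = ‖(θ : P → ℂ) x‖ ^ 2 := fun x => by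
      rw [Complex.mul_conj, Complex.ofReal_re, Complex.sq_norm]
    have hN : ∑ x : P, ‖(θ : P → ℂ) x‖ ^ 2 = (Nat.card P : ℝ) := by
      rw [← Finset.sum_congr rfl fun x _ => hpos x, ← Complex.re_sum]
      have hP : (Nat.card P : ℂ) ≠ 0 := Nat.cast_ne_zero.2 Nat.card_pos.ne'
      rw [(inv_mul_eq_one₀ hP).1 hn |>.symm, Complex.natCast_re]
    have hle : ∑ x ∈ Finset.univ.filter (fun g : P => IsConj h g), ‖(θ : P → ℂ) x‖ ^ 2 ≤ (Nat.card P : ℝ) :=
      hN ▸ Finset.sum_le_sum_of_subset_of_nonneg (Finset.subset_univ _) fun x _ _ => by positivity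
    rw [Finset.sum_congr rfl (g := fun _ => (d : ℝ) ^ 2) fun x hx => by
      obtain ⟨c, rfl⟩ := isConj_iff.1 (Finset.mem_filter.1 hx).2
      rw [IsIrr.classFun θ.2 h c, hv, Complex.norm_natCast], Finset.sum_const, nsmul_eq_mul,
      T.class_card hp hδ hh] at hle
    have hle' : (2 * D.r - 1) * (4 * D.r) * d ^ 2 ≤ Nat.card P := by exact_mod_cast hle
    rw [card_P' hp hδ] at hle'
    have hle2 : d ^ 2 ≤ D.q := by
      refine Nat.le_of_mul_le_mul_right (c := (2 * D.r - 1) * (4 * D.r)) ?_ (Nat.mul_pos (by omega) (by omega))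
      calc d ^ 2 * ((2 * D.r - 1) * (4 * D.r)) = (2 * D.r - 1) * (4 * D.r) * d ^ 2 := by ring
        _ ≤ D.q * (2 * D.r - 1) * (4 * D.r) := hle'
        _ = D.q * ((2 * D.r - 1) * (4 * D.r)) := by ring
    have : 5 ≤ d := by omega
    have : D.q = 2 * d + 1 := by omega
    nlinarith
  obtain ⟨j, hj⟩ := hdvd
  have ha' : a = -1 := by
    have h1 : (D.q : ℤ) = 2 * (d : ℤ) + 1 := by omega
    have hj1 : j = 1 := by
      rcases lt_trichotomy j 1 with hl | hl | hl
      · exfalso
        have : (D.q : ℤ) * j ≤ 0 := mul_nonpos_of_nonneg_of_nonpos (by positivity) (by omega)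
        omega
      · exact hl
      · exfalso
        have : (D.q : ℤ) * 2 ≤ (D.q : ℤ) * j := mul_le_mul_of_nonneg_left (by omega) (by positivity)
        omega
    subst hj1
    omega
  rw [ha'] at ha
  push_cast at ha
  linarith

end ExtTable

namespace ExtBase

variable {G : Type u} [Group G] [Fintype G] {P : Type v} [Group P] [Fintype P] (S : ExtBase G P)

/-- A non-trivial irreducible character of a simple group has degree at least `q / 4`. -/
theorem deg_ge [IsSimpleGroup G] (T : ExtTable S.D) (hp : S.D.p = 3) (hδ : S.D.δ = -1) (χ : IrrCharacter G)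
    (hne : χ ≠ trivialIrr G) : S.D.q ≤ 4 * charDegree (χ : G → ℂ) := by
  by_contra hlt
  push Not at hlt
  haveI : Fact (Nat.Prime 3) := ⟨Nat.prime_three⟩
  obtain ⟨h, hh⟩ := exists_prime_orderOf_dvd_card' (G := P) 3 (by
    rw [ExtTable.card_P' hp hδ, mul_assoc]; exact (ExtTable.three_q hp).mul_right _)
  have hc := IsIrr.isCharacter χ.2
  have h1 := T.ker_of_small hp hδ (IsChar.comp S.ι hc) (d := charDegree (χ : G → ℂ))
    (by show (χ : G → ℂ) (S.ι 1) = _; rw [map_one, charDeg_spec']) hlt hh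
  have hk : S.ι h ∈ charKer hc := (mem_charKer hc).2 (by rw [charDeg_spec']; exact h1)
  rcases (charKer_normal hc).eq_bot_or_eq_top with e | e
  · rw [e, Subgroup.mem_bot] at hk
    have h2 : h = 1 := S.inj (hk.trans (map_one _).symm)
    rw [h2, orderOf_one] at hh
    norm_num at hh
  · exact hne (Subtype.ext (irr_const_eq_one χ.2 fun g => (mem_charKer hc).1 (e ▸ Subgroup.mem_top g)))

end ExtBase

end Cfsg.Agent.Invol.JankoWard
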