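import Cfsg.Agent.Lib.Invol.JankoWard.Ind
import Cfsg.Agent.Lib.Char.Constituent
import Mathlib.RingTheory.RootsOfUnity.Complex

/-!
# The abelian group `A = ⟨t, u⟩ × Y` and induction from it
-/

open scoped ComplexConjugate

set_option autoImplicit false
set_option linter.unusedSectionVars false
set_option linter.style.haveILetI false

open scoped Classical

namespace Cfsg.Agent.Invol.JankoWard

open Cfsg Cfsg.Agent.Char

universe u v

namespace LData

variable {P : Type v} [Group P] (D : LData P)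
include D

theorem Y_comm {a b : P} (ha : a ∈ D.Y) (hb : b ∈ D.Y) : a * b = b * a := by
  haveI := D.Y_cyclic
  exact congrArg Subtype.val ((IsCyclic.commGroup (α := D.Y)).mul_comm ⟨a, ha⟩ ⟨b, hb⟩)

theorem u_not_Y : D.u ∉ D.Y := fun h => by
  have h1 := D.odd_Y h
  rw [D.orderOf_u] at h1
  exact absurd h1 (by decide)

theorem uu_cancel (a : P) : D.u * (D.u * a) = a := by rw [← mul_assoc, D.u2, one_mul]

theorem Y_sq {y : P} (hy : y ∈ D.Y) (h : y * y = 1) : y = 1 := by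
  have h1 := D.odd_Y hy
  have h2 : orderOf y ∣ 2 := orderOf_dvd_of_pow_eq_one (by rw [pow_two, h])
  rcases (Nat.dvd_prime Nat.prime_two).1 h2 with e | e
  · exact orderOf_eq_one_iff.1 e
  · rw [e] at h1; exact absurd h1 (by decide)

/-- The torus `⟨u⟩ × Y`. -/
def T : Subgroup P where
  carrier := {k | k ∈ D.Y ∨ D.u * k ∈ D.Y}
  one_mem' := Or.inl (one_mem _)
  mul_mem' := by
    rintro a b (ha | ha) (hb | hb)
    · exact Or.inl (mul_mem ha hb)
    · refine Or.inr ?_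
      rw [show D.u * (a * b) = a * (D.u * b) by rw [← mul_assoc, ← mul_assoc, D.u_Y a ha]]
      exact mul_mem ha hb
    · refine Or.inr ?_
      rw [← mul_assoc]; exact mul_mem ha hb
    · refine Or.inl ?_
      rw [show a * b = D.u * a * (D.u * b) by
        rw [mul_assoc D.u a, ← mul_assoc a D.u b, ← mul_assoc D.u (a * D.u) b]
        have h : D.u * a * D.u = a := by
          have := D.u_Y _ ha
          rw [D.uu_cancel] at this
          rw [← this]
        rw [← mul_assoc D.u a D.u, h]]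
      exact mul_mem ha hb
  inv_mem' := by
    rintro a (ha | ha)
    · exact Or.inl (inv_mem ha)
    · refine Or.inr ?_
      have h : a * D.u = D.u * a := by
        have := D.u_Y _ ha
        rw [D.uu_cancel] at this
        calc a * D.u = (D.u * a * D.u) * D.u := by rw [← this]
          _ = D.u * a := by rw [mul_assoc, D.u2, mul_one]
      rw [show D.u * a⁻¹ = (D.u * a)⁻¹ by
        rw [mul_inv_rev, inv_eq_of_mul_eq_one_right D.u2]
        calc D.u * a⁻¹ = a⁻¹ * (a * D.u) * a⁻¹ := by group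
          _ = a⁻¹ * (D.u * a) * a⁻¹ := by rw [h]
          _ = a⁻¹ * D.u := by group]
      exact inv_mem ha

theorem T_Y {k : P} (hk : k ∈ D.T) : (k ∈ D.Y ∧ D.u * k ∉ D.Y) ∨ (D.u * k ∈ D.Y ∧ k ∉ D.Y) := by
  have key : k ∈ D.Y → D.u * k ∈ D.Y → False := fun h1 h2 => D.u_not_Y (by
    have := mul_mem h2 (inv_mem h1)
    rwa [mul_inv_cancel_right] at this)
  rcases hk with h | h
  · exact Or.inl ⟨h, key h⟩
  · exact Or.inr ⟨h, fun h' => key h' h⟩

theorem T_comm {a b : P} (ha : a ∈ D.T) (hb : b ∈ D.T) : a * b = b * a := by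
  have hY : ∀ y ∈ D.Y, ∀ c ∈ D.T, y * c = c * y := by
    intro y hy c hc
    rcases hc with hc | hc
    · exact D.Y_comm hy hc
    · have h := D.Y_comm hy hc
      calc y * c = D.u * (D.u * (y * c)) := (D.uu_cancel _).symm
        _ = D.u * (y * (D.u * c)) := by rw [← mul_assoc D.u y, D.u_Y y hy, mul_assoc]
        _ = c * y := by rw [h, mul_assoc D.u c, D.uu_cancel]
  rcases ha with ha | ha
  · exact hY a ha b hb
  · have hbu : D.u * b = b * D.u := by
      rcases hb with hb | hb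
      · exact D.u_Y b hb
      · have := D.u_Y _ hb
        rw [D.uu_cancel] at this
        calc D.u * b = D.u * b * D.u * D.u := by rw [mul_assoc _ D.u D.u, D.u2, mul_one]
          _ = b * D.u := by rw [← this]
    calc a * b = D.u * (D.u * a * b) := by rw [mul_assoc D.u a b, D.uu_cancel]
      _ = D.u * b * (D.u * a) := by rw [hY _ ha b hb, mul_assoc D.u b]
      _ = b * a := by rw [hbu, mul_assoc b, D.uu_cancel]

/-- The sign of the torus. -/
noncomputable def eps : D.T →* ℂˣ :=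
  MonoidHom.mk' (fun k => if (k : P) ∈ D.Y then 1 else -1) fun a b => by
    rcases D.T_Y a.2 with ⟨ha, -⟩ | ⟨ha, ha'⟩ <;> rcases D.T_Y b.2 with ⟨hb, -⟩ | ⟨hb, hb'⟩
    · rw [if_pos ha, if_pos hb, if_pos (by rw [Subgroup.coe_mul]; exact mul_mem ha hb), one_mul]
    · rw [if_pos ha, if_neg hb', if_neg (fun h => hb' (by
        rw [Subgroup.coe_mul] at h
        have := mul_mem (inv_mem ha) h
        rwa [inv_mul_cancel_left] at this)), one_mul]
    · rw [if_neg ha', if_pos hb, if_neg (fun h => ha' (by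
        rw [Subgroup.coe_mul] at h
        have := mul_mem h (inv_mem hb)
        rwa [mul_inv_cancel_right] at this)), mul_one]
    · rw [if_neg ha', if_neg hb', if_pos (by
        have h := mul_mem ha hb
        rw [show D.u * (a : P) = (a : P) * D.u from D.T_comm (Or.inr (by rw [D.u2]; exact one_mem _)) a.2,
          mul_assoc, D.uu_cancel] at h
        rwa [Subgroup.coe_mul]), neg_mul_neg, one_mul]

theorem eps_Y {y : P} (hy : y ∈ D.Y) : D.eps ⟨y, Or.inl hy⟩ = 1 := if_pos hy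

theorem u_T : D.u ∈ D.T := Or.inr (by rw [D.u2]; exact one_mem _)

theorem eps_u : D.eps ⟨D.u, D.u_T⟩ = -1 := if_neg D.u_not_Y

/-- The `Y`-part in the torus. -/
noncomputable def partY : D.T →* D.Y :=
  MonoidHom.mk' (fun k => if h : (k : P) ∈ D.Y then ⟨k, h⟩ else ⟨D.u * k, k.2.resolve_left h⟩) fun a b => by
    have hu : ∀ c : D.T, D.u * (c : P) = (c : P) * D.u := fun c => D.T_comm D.u_T c.2
    rcases D.T_Y a.2 with ⟨ha, -⟩ | ⟨ha, ha'⟩ <;> rcases D.T_Y b.2 with ⟨hb, -⟩ | ⟨hb, hb'⟩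
    · rw [dif_pos ha, dif_pos hb, dif_pos (by rw [Subgroup.coe_mul]; exact mul_mem ha hb)]
      exact Subtype.ext rfl
    · rw [dif_pos ha, dif_neg hb', dif_neg (fun h => hb' (by
        rw [Subgroup.coe_mul] at h
        have := mul_mem (inv_mem ha) h
        rwa [inv_mul_cancel_left] at this))]
      refine Subtype.ext ?_
      simp only [Subgroup.coe_mul]
      rw [← mul_assoc, hu a, mul_assoc]
    · rw [dif_neg ha', dif_pos hb, dif_neg (fun h => ha' (by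
        rw [Subgroup.coe_mul] at h
        have := mul_mem h (inv_mem hb)
        rwa [mul_inv_cancel_right] at this))]
      refine Subtype.ext ?_
      simp only [Subgroup.coe_mul]
      rw [mul_assoc]
    · have h2 : D.u * (a : P) * (D.u * b) = a * b := by
        rw [hu a, mul_assoc, D.uu_cancel]
      rw [dif_neg ha', dif_neg hb', dif_pos (by rw [Subgroup.coe_mul, ← h2]; exact mul_mem ha hb)]
      refine Subtype.ext ?_
      simp only [Subgroup.coe_mul]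
      exact h2.symm

theorem partY_Y {y : P} (hy : y ∈ D.Y) : D.partY ⟨y, Or.inl hy⟩ = ⟨y, hy⟩ := dif_pos hy

theorem partY_u : D.partY ⟨D.u, D.u_T⟩ = 1 := by
  refine (dif_neg D.u_not_Y).trans (Subtype.ext ?_)
  exact D.u2

theorem exists_l0 : ∃ l : D.Y →* ℂˣ, Function.Injective l := by
  haveI := D.Y_cyclic
  haveI := D.finite
  haveI : NeZero D.r := ⟨by have := D.r3; omega⟩
  let e : D.Y ≃* rootsOfUnity D.r ℂ := mulEquivOfCyclicCardEq (by
    rw [D.card_Y, Complex.card_rootsOfUnity])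
  exact ⟨(rootsOfUnity D.r ℂ).subtype.comp e.toMonoidHom, Subtype.val_injective.comp e.injective⟩

/-- A faithful linear character of `Y`. -/
noncomputable def l0 : D.Y →* ℂˣ := D.exists_l0.choose

theorem l0_inj : Function.Injective D.l0 := D.exists_l0.choose_spec

end LData

namespace Locals

variable {G : Type u} [Group G] {P : Type v} [Group P] {S : Base G P} (L : Locals S)
include L

/-- `A = ⟨t, u⟩ × Y`. -/
def A (_L : Locals S) : Subgroup G where
  carrier := {a | ∃ k ∈ S.D.T, a = S.ι k ∨ a = S.t * S.ι k}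
  one_mem' := ⟨1, one_mem _, Or.inl (map_one _).symm⟩
  mul_mem' := by
    rintro a b ⟨k, hk, ha⟩ ⟨l, hl, hb⟩
    exact ⟨k * l, mul_mem hk hl, S.mul_spec ha hb⟩
  inv_mem' := by
    rintro a ⟨k, hk, ha⟩
    refine ⟨k⁻¹, inv_mem hk, ?_⟩
    rcases ha with rfl | rfl
    · exact Or.inl (map_inv _ _).symm
    · exact Or.inr (by rw [mul_inv_rev, S.t_inv, map_inv, ((S.commute k).inv_right).eq])

theorem A_C {a : G} (ha : a ∈ L.A) : a ∈ S.C := by
  obtain ⟨k, -, rfl | rfl⟩ := ha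
  · exact S.ι_mem k
  · exact mul_mem S.t_mem (S.ι_mem k)

theorem A_comm {a b : G} (ha : a ∈ L.A) (hb : b ∈ L.A) : a * b = b * a := by
  obtain ⟨k, hk, rfl | rfl⟩ := ha <;> obtain ⟨l, hl, rfl | rfl⟩ := hb
  · rw [← map_mul, ← map_mul, S.D.T_comm hk hl]
  · rw [S.t_ι, mul_assoc, ← map_mul, S.D.T_comm hk hl]
  · rw [mul_assoc, ← map_mul, S.t_ι, S.D.T_comm hk hl]
  · rw [mul_assoc, S.t_ι, mul_assoc S.t (S.ι l), S.t_ι, S.D.T_comm hk hl]

/-- Projection of `A` to the torus. -/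
noncomputable def κA : L.A →* S.D.T :=
  MonoidHom.mk' (fun a => ⟨S.κ ⟨(a : G), L.A_C a.2⟩, by
    obtain ⟨k, hk, h⟩ := a.2
    rw [S.κ_eq h]; exact hk⟩) fun a b =>
    Subtype.ext (map_mul S.κ ⟨(a : G), L.A_C a.2⟩ ⟨(b : G), L.A_C b.2⟩)

theorem κA_eq {a : L.A} {k : P} (hk : k ∈ S.D.T) (h : (a : G) = S.ι k ∨ (a : G) = S.t * S.ι k) :
    L.κA a = ⟨k, hk⟩ := Subtype.ext (S.κ_eq h)

/-- The four elements of `⟨t, u⟩`. -/
def v (_L : Locals S) : Fin 4 → G := ![1, S.t, S.ι S.D.u, S.t * S.ι S.D.u]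

theorem v_A (i : Fin 4) : L.v i ∈ L.A := by
  fin_cases i <;> simp [v]
  · exact ⟨1, one_mem _, Or.inr (by simp)⟩
  · exact ⟨_, S.D.u_T, Or.inl rfl⟩
  · exact ⟨_, S.D.u_T, Or.inr rfl⟩

theorem Y_A {y : P} (hy : y ∈ S.D.Y) : S.ι y ∈ L.A := ⟨y, Or.inl hy, Or.inl rfl⟩

/-- The elements of `A`. -/
def el (p : Fin 4 × S.D.Y) : L.A := ⟨L.v p.1 * S.ι p.2, mul_mem (L.v_A p.1) (L.Y_A p.2.2)⟩

theorem el_bijective : Function.Bijective L.el := by
  refine ⟨?_, fun a => ?_⟩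
  · rintro ⟨i, y⟩ ⟨j, z⟩ h
    have h' : L.v i * S.ι y = L.v j * S.ι z := congrArg Subtype.val h
    have h1 : (S.D.u * y : P) ∉ S.D.Y := fun e => by
      rcases S.D.T_Y (k := (y : P)) (Or.inl y.2) with ⟨-, h⟩ | ⟨-, h⟩
      · exact h e
      · exact h y.2
    have h2 : (S.D.u * z : P) ∉ S.D.Y := fun e => by
      rcases S.D.T_Y (k := (z : P)) (Or.inl z.2) with ⟨-, h⟩ | ⟨-, h⟩
      · exact h e
      · exact h z.2
    fin_cases i <;> fin_cases j <;> simp [v, mul_assoc, ← map_mul] at h' ⊢ <;>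
      first
      | exact Subtype.ext (S.inj h')
      | exact absurd h' (S.t_mul_ne _ _)
      | exact absurd h'.symm (S.t_mul_ne _ _)
      | exact absurd (S.inj h' ▸ y.2 : (S.D.u * z : P) ∈ S.D.Y) h2
      | exact absurd ((S.inj h').symm ▸ z.2 : (S.D.u * y : P) ∈ S.D.Y) h1
      | exact Subtype.ext (S.inj h')
      | exact Subtype.ext (mul_left_cancel (S.inj h'))
      | exact h'
      | exact Subtype.ext h'
  · obtain ⟨k, hk, h⟩ := a.2
    rcases hk with hk | hk <;> rcases h with h | h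
    · exact ⟨(0, ⟨k, hk⟩), Subtype.ext (by simp [el, v, h])⟩
    · exact ⟨(1, ⟨k, hk⟩), Subtype.ext (by simp [el, v, h])⟩
    · exact ⟨(2, ⟨_, hk⟩), Subtype.ext (by simp [el, v, h, ← map_mul, S.D.uu_cancel])⟩
    · exact ⟨(3, ⟨_, hk⟩), Subtype.ext (by simp [el, v, h, mul_assoc, ← map_mul, S.D.uu_cancel])⟩

theorem card_A : Nat.card L.A = 4 * S.D.r := by
  rw [← Nat.card_eq_of_bijective _ L.el_bijective, Nat.card_prod, S.D.card_Y, Nat.card_eq_fintype_card,
    Fintype.card_fin]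

theorem ιw_sq : S.ι S.D.w * S.ι S.D.w = 1 := by rw [← map_mul, S.D.w2, map_one]

theorem g_inv : L.g⁻¹ = L.g ^ 2 := inv_eq_of_mul_eq_one_right (by rw [← pow_succ', L.g3])

theorem gtu : L.g * (S.t * S.ι S.D.u) * L.g⁻¹ = S.t := by
  rw [← conj_mul, L.gt, L.gu, ← mul_assoc, S.tc, mul_assoc, ← map_mul, S.D.u2, map_one, mul_one]

theorem g_A {a : G} (ha : a ∈ L.A) : L.g * a * L.g⁻¹ ∈ L.A := by
  obtain ⟨⟨i, y⟩, h⟩ := L.el_bijective.2 ⟨a, ha⟩
  have e : a = L.v i * S.ι y := (congrArg Subtype.val h).symm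
  obtain ⟨y', hy', ey⟩ := L.gY y y.2
  rw [e, ← conj_mul, ey]
  refine mul_mem ?_ (L.Y_A hy')
  fin_cases i <;> simp only [v, Matrix.cons_val, Fin.zero_eta, Fin.mk_one, Fin.reduceFinMk, Matrix.cons_val_zero,
    Matrix.cons_val_one]
  · rw [mul_one, mul_inv_cancel]; exact one_mem _
  · rw [L.gt]; exact L.v_A 2
  · rw [L.gu]; exact L.v_A 3
  · rw [L.gtu]; exact L.v_A 1

theorem w_A {a : G} (ha : a ∈ L.A) : S.ι S.D.w * a * (S.ι S.D.w)⁻¹ ∈ L.A := by
  obtain ⟨⟨i, y⟩, h⟩ := L.el_bijective.2 ⟨a, ha⟩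
  have e : a = L.v i * S.ι y := (congrArg Subtype.val h).symm
  rw [e, ← conj_mul, ← map_inv S.ι S.D.w]
  refine mul_mem ?_ (by rw [← map_mul, ← map_mul, S.D.w_Y y y.2]; exact L.Y_A (inv_mem y.2))
  have hc : Commute (S.ι S.D.w) (L.v i) := by
    have h1 : Commute (S.ι S.D.w) S.t := S.tc _
    have h2 : Commute (S.ι S.D.w) (S.ι S.D.u) := (show Commute S.D.w S.D.u from S.D.comm.symm).map S.ι
    fin_cases i
    · exact Commute.one_right _
    · exact h1
    · exact h2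
    · exact h1.mul_right h2
  rw [hc.eq, mul_assoc, ← map_mul, mul_inv_cancel, map_one, mul_one]
  exact L.v_A i

/-- The six elements normalising `A`, modulo `A`. -/
def rep (p : Bool × Fin 3) : G := (bif p.1 then S.ι S.D.w else 1) * L.g ^ (p.2 : ℕ)

theorem gpow_A (n : ℕ) {a : G} (ha : a ∈ L.A) : L.g ^ n * a * (L.g ^ n)⁻¹ ∈ L.A := by
  induction n with
  | zero => simpa using ha
  | succ n ih =>
    rw [pow_succ', show L.g * L.g ^ n * a * (L.g * L.g ^ n)⁻¹ = L.g * (L.g ^ n * a * (L.g ^ n)⁻¹) * L.g⁻¹ by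
      group]
    exact L.g_A ih

theorem gpow_inv (n : ℕ) : (L.g ^ n)⁻¹ = L.g ^ (2 * n) := by
  rw [← inv_pow, L.g_inv, ← pow_mul]

theorem rep_A (p : Bool × Fin 3) {a : G} (ha : a ∈ L.A) : (L.rep p)⁻¹ * a * L.rep p ∈ L.A := by
  have hw : (S.ι S.D.w)⁻¹ = S.ι S.D.w := inv_eq_of_mul_eq_one_right L.ιw_sq
  have h1 : (bif p.1 then S.ι S.D.w else 1)⁻¹ * a * (bif p.1 then S.ι S.D.w else 1) ∈ L.A := by
    cases p.1
    · simpa using ha
    · have := L.w_A ha
      simp only [cond_true]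
      rwa [hw] at this ⊢
  rw [show (L.rep p)⁻¹ * a * L.rep p = (L.g ^ (p.2 : ℕ))⁻¹ *
    ((bif p.1 then S.ι S.D.w else 1)⁻¹ * a * (bif p.1 then S.ι S.D.w else 1)) * (L.g ^ (p.2 : ℕ))⁻¹⁻¹ by
      simp only [rep]; group, L.gpow_inv]
  exact L.gpow_A _ h1

/-- Conjugation by a representative. -/
noncomputable def act (p : Bool × Fin 3) : L.A →* L.A :=
  MonoidHom.mk' (fun a => ⟨(L.rep p)⁻¹ * a * L.rep p, L.rep_A p a.2⟩) fun a b =>
    Subtype.ext (by simp only [Subgroup.coe_mul]; group)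

theorem act_coe (p : Bool × Fin 3) (a : L.A) : (L.act p a : G) = (L.rep p)⁻¹ * a * L.rep p := rfl

/-- The `Y`-part on `A`. -/
noncomputable def yA : L.A →* S.D.Y := S.D.partY.comp L.κA

theorem yA_el (i : Fin 4) (y : S.D.Y) : L.yA (L.el (i, y)) = y := by
  have hv : L.yA (L.el (i, 1)) = 1 := by
    fin_cases i
    · show L.yA (L.el ((0 : Fin 4), 1)) = 1
      rw [show L.el ((0 : Fin 4), 1) = 1 from Subtype.ext (by simp [el, v])]; exact map_one _
    · show S.D.partY (L.κA _) = 1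
      rw [L.κA_eq (one_mem _) (Or.inr (by simp [el, v]))]; exact map_one _
    · show S.D.partY (L.κA _) = 1
      rw [L.κA_eq S.D.u_T (Or.inl (by simp [el, v]))]; exact S.D.partY_u
    · show S.D.partY (L.κA _) = 1
      rw [L.κA_eq S.D.u_T (Or.inr (by simp [el, v]))]; exact S.D.partY_u
  have hy : L.yA ⟨S.ι y, L.Y_A y.2⟩ = y := by
    show S.D.partY (L.κA _) = y
    rw [L.κA_eq (Or.inl y.2) (Or.inl rfl), S.D.partY_Y y.2]
  rw [show L.el (i, y) = L.el (i, 1) * ⟨S.ι y, L.Y_A y.2⟩ from Subtype.ext (by simp [el]), map_mul, hv, hy,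
    one_mul]

theorem v_sq (i : Fin 4) : L.v i * L.v i = 1 := by
  fin_cases i <;> simp [v, S.tt, ← map_mul, S.D.u2]
  rw [mul_assoc, S.t_ι, S.D.u2, map_one, mul_one, S.tt]

theorem sq_eq_one_iff (a : L.A) : (a : G) * a = 1 ↔ L.yA a = 1 := by
  obtain ⟨⟨i, y⟩, rfl⟩ := L.el_bijective.2 a
  rw [L.yA_el]
  have h : ((L.el (i, y) : L.A) : G) * (L.el (i, y) : L.A) = S.ι ((y : P) * y) := by
    show L.v i * S.ι y * (L.v i * S.ι y) = _
    rw [mul_assoc, ← mul_assoc (S.ι y) (L.v i), L.A_comm (L.Y_A y.2) (L.v_A i), mul_assoc (L.v i) (S.ι y),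
      ← mul_assoc, L.v_sq, one_mul, map_mul]
  rw [h]
  constructor
  · intro e
    exact Subtype.ext (S.D.Y_sq y.2 (S.inj (e.trans (map_one _).symm)))
  · rintro rfl; simp

theorem comm_A {x : G} {y : P} (hy : y ∈ S.D.Y) (hy1 : y ≠ 1) (h : x * S.ι y = S.ι y * x) : x ∈ L.A := by
  obtain ⟨y', hy', e | e | e | e⟩ := L.cent_y y hy hy1 x h <;> rw [e]
  · exact L.Y_A hy'
  · exact mul_mem (L.v_A 1) (L.Y_A hy')
  · exact mul_mem (L.v_A 2) (L.Y_A hy')
  · exact mul_mem (L.v_A 3) (L.Y_A hy')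

theorem odd_part {a : L.A} (h : L.yA a ≠ 1) :
    (a : G) ^ (S.D.r + 1) = S.ι (L.yA a) := by
  obtain ⟨⟨i, y⟩, rfl⟩ := L.el_bijective.2 a
  rw [L.yA_el] at h ⊢
  obtain ⟨j, hj⟩ := S.D.r_odd
  show (L.v i * S.ι y) ^ (S.D.r + 1) = _
  rw [(show Commute (L.v i) (S.ι y) from L.A_comm (L.v_A i) (L.Y_A y.2)).mul_pow,
    show S.D.r + 1 = 2 * (j + 1) by omega, pow_mul (L.v i), pow_two, L.v_sq, one_pow, one_mul, ← map_pow,
    show 2 * (j + 1) = S.D.r + 1 by omega, pow_succ, S.D.pow_r y.2, one_mul]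

theorem fusion {a : L.A} (ha : L.yA a ≠ 1) {x : G} (hx : x⁻¹ * a * x ∈ L.A) :
    ∃ b ∈ L.A, ∃ p, x = b * L.rep p := by
  set a' : L.A := ⟨x⁻¹ * a * x, hx⟩ with ha'
  have ha1 : L.yA a' ≠ 1 := fun e => ha (by
    rw [← L.sq_eq_one_iff] at e ⊢
    calc (a : G) * a = x * ((x⁻¹ * a * x) * (x⁻¹ * a * x)) * x⁻¹ := by group
      _ = 1 := by rw [show x⁻¹ * (a : G) * x * (x⁻¹ * a * x) = 1 from e]; group)
  have hodd : x⁻¹ * S.ι (L.yA a) * x = S.ι (L.yA a') := by
    rw [← L.odd_part ha, ← L.odd_part ha1]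
    simp only [a']
    rw [show x⁻¹ * (a : G) * x = x⁻¹ * a * x⁻¹⁻¹ by rw [inv_inv], conj_pow, inv_inv]
  -- `x` conjugates `A` into `A`
  have hconj : ∀ b ∈ L.A, x⁻¹ * b * x ∈ L.A := by
    intro b hb
    refine L.comm_A (L.yA a').2 (fun e => ha1 (Subtype.ext e)) ?_
    rw [← hodd]
    calc x⁻¹ * b * x * (x⁻¹ * S.ι (L.yA a) * x) = x⁻¹ * (b * S.ι (L.yA a)) * x := by group
      _ = _ := by rw [L.A_comm hb (L.Y_A (L.yA a).2)]; group
  have hV : ∀ i : Fin 4, i ≠ 0 → x⁻¹ * L.v i * x = S.t ∨ x⁻¹ * L.v i * x = S.ι S.D.u ∨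
      x⁻¹ * L.v i * x = S.t * S.ι S.D.u := by
    intro i hi
    obtain ⟨⟨j, y⟩, hj⟩ := L.el_bijective.2 ⟨_, hconj _ (L.v_A i)⟩
    have e : L.v j * S.ι y = x⁻¹ * L.v i * x := congrArg Subtype.val hj
    have h2 : x⁻¹ * L.v i * x * (x⁻¹ * L.v i * x) = 1 := by
      calc x⁻¹ * L.v i * x * (x⁻¹ * L.v i * x) = x⁻¹ * (L.v i * L.v i) * x := by group
        _ = 1 := by rw [L.v_sq]; group
    have h3 := (L.sq_eq_one_iff (L.el (j, y))).1 (by rw [← e] at h2; exact h2)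
    rw [L.yA_el] at h3
    subst h3
    rw [Subgroup.coe_one, map_one, mul_one] at e
    fin_cases j
    · exfalso
      have h0 : L.v i = 1 := by
        calc L.v i = x * (x⁻¹ * L.v i * x) * x⁻¹ := by group
          _ = 1 := by rw [← e]; simp [v]
      fin_cases i
      · exact hi rfl
      · exact S.t_ne h0
      · exact S.D.u1 (S.inj (h0.trans (map_one _).symm))
      · exact S.t_mul_ne _ 1 (h0.trans (map_one _).symm)
    · exact Or.inl e.symm
    · exact Or.inr (Or.inl e.symm)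
    · exact Or.inr (Or.inr e.symm)
  -- adjust by a power of `g` so that `t` is fixed
  obtain ⟨n, hn⟩ : ∃ n : Fin 3, L.g ^ (n : ℕ) * (x⁻¹ * S.t * x) * (L.g ^ (n : ℕ))⁻¹ = S.t := by
    rcases hV 1 (by decide) with h | h | h <;> simp only [v, Matrix.cons_val_one, Matrix.cons_val_zero] at h <;>
      rw [h]
    · exact ⟨0, by simp⟩
    · refine ⟨2, ?_⟩
      show L.g ^ 2 * S.ι S.D.u * (L.g ^ 2)⁻¹ = S.t
      calc L.g ^ 2 * S.ι S.D.u * (L.g ^ 2)⁻¹ = L.g * (L.g * S.ι S.D.u * L.g⁻¹) * L.g⁻¹ := by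
            rw [pow_two]; group
        _ = S.t := by rw [L.gu, L.gtu]
    · refine ⟨1, ?_⟩
      show L.g ^ 1 * (S.t * S.ι S.D.u) * (L.g ^ 1)⁻¹ = S.t
      rw [pow_one, L.gtu]
  set z := L.g ^ (n : ℕ) * x⁻¹ with hz
  have hzt : z * S.t = S.t * z := by
    calc z * S.t = L.g ^ (n : ℕ) * (x⁻¹ * S.t * x) * (L.g ^ (n : ℕ))⁻¹ * z := by rw [hz]; group
      _ = S.t * z := by rw [hn]
  have hzu : z * S.ι S.D.u * z⁻¹ = S.ι S.D.u := by
    have hA : z * S.ι S.D.u * z⁻¹ ∈ L.A := by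
      rw [show z * S.ι S.D.u * z⁻¹ = L.g ^ (n : ℕ) * (x⁻¹ * S.ι S.D.u * x) * (L.g ^ (n : ℕ))⁻¹ by
        rw [hz]; group]
      exact L.gpow_A _ (hconj _ (L.v_A 2))
    obtain ⟨k, hk⟩ := S.cover z hzt
    have e : z * S.ι S.D.u * z⁻¹ = S.ι (k * S.D.u * k⁻¹) := by
      rcases hk with e' | e' <;> rw [e']
      · rw [map_mul, map_mul, map_inv]
      · rw [mul_inv_rev, ← map_inv,
          show S.t * S.ι k * S.ι S.D.u * (S.ι k⁻¹ * S.t⁻¹) = S.t * (S.ι k * S.ι S.D.u * S.ι k⁻¹) * S.t⁻¹ by group,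
          ← map_mul, ← map_mul, (S.commute _).eq, mul_inv_cancel_right]
    rw [e] at hA
    obtain ⟨l, hl, h | h⟩ := hA
    · have h' := S.inj h
      rw [e, h']
      rcases S.D.T_Y hl with ⟨hy, -⟩ | ⟨hy, -⟩
      · exfalso
        have h1 : l = 1 := S.D.Y_sq hy (by rw [← h', conj_mul, S.D.u2]; group)
        rw [h1, conj_eq_one_iff] at h'
        exact S.D.u1 h'
      · have h1 : S.D.u * l = 1 := S.D.Y_sq hy (by
          rw [mul_assoc, ← mul_assoc l S.D.u l, S.D.T_comm hl S.D.u_T, mul_assoc S.D.u l l,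
            ← mul_assoc S.D.u S.D.u, S.D.u2, one_mul, ← h', conj_mul, S.D.u2]; group)
        rw [← inv_eq_of_mul_eq_one_right h1, inv_eq_of_mul_eq_one_right S.D.u2]
    · exact absurd h.symm (S.t_mul_ne _ _)
  obtain ⟨k, hk⟩ := S.cover z hzt
  have hku : k * S.D.u = S.D.u * k := by
    have h := mul_inv_eq_iff_eq_mul.1 hzu
    refine S.inj ?_
    rw [map_mul, map_mul]
    rcases hk with e | e <;> rw [e] at h
    · exact h
    · rw [mul_assoc, ← mul_assoc (S.ι S.D.u) S.t, S.tc, mul_assoc] at h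
      exact mul_left_cancel h
  -- `z` lies in `A` or in `A w`
  have hz' : ∃ b ∈ L.A, ∃ s : Bool, z = (bif s then S.ι S.D.w else 1) * b := by
    obtain ⟨y, hy, e | e | e | e⟩ := S.D.cent_u k hku
    · exact ⟨z, ⟨k, e ▸ Or.inl hy, hk⟩, false, by simp⟩
    · exact ⟨z, ⟨k, e ▸ (mul_mem S.D.u_T (Or.inl hy)), hk⟩, false, by simp⟩
    all_goals
      refine ⟨S.ι S.D.w * z, ?_, true, by rw [cond_true, ← mul_assoc, L.ιw_sq, one_mul]⟩
      have hwk : S.ι S.D.w * z = S.ι (S.D.w * k) ∨ S.ι S.D.w * z = S.t * S.ι (S.D.w * k) := by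
        rcases hk with e' | e' <;> rw [e']
        · exact Or.inl (map_mul _ _ _).symm
        · exact Or.inr (S.t_ι _ _)
      refine ⟨S.D.w * k, ?_, hwk⟩
      rw [e]
    · rw [← mul_assoc, S.D.w2, one_mul]; exact Or.inl hy
    · rw [← mul_assoc, ← mul_assoc, ← S.D.comm, mul_assoc S.D.u, S.D.w2, mul_one]
      exact mul_mem S.D.u_T (Or.inl hy)
  obtain ⟨b, hb, s, hbs⟩ := hz'
  refine ⟨b⁻¹, inv_mem hb, (s, n), ?_⟩
  have hw : (bif s then S.ι S.D.w else 1)⁻¹ = (bif s then S.ι S.D.w else 1 : G) := by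
    cases s
    · simp
    · exact inv_eq_of_mul_eq_one_right L.ιw_sq
  calc x = z⁻¹ * L.g ^ (n : ℕ) := by rw [hz]; group
    _ = b⁻¹ * L.rep (s, n) := by rw [hbs, mul_inv_rev, hw]; simp only [rep]; group

end Locals

end Cfsg.Agent.Invol.JankoWard
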