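import Cfsg.Agent.Lib.Invol.JankoWard.ExtProj
import Cfsg.Agent.Lib.Invol.JankoWard.ExtDegree
import Cfsg.Agent.Lib.Invol.JankoWard.Torus
import Mathlib.GroupTheory.SemidirectProduct
import Mathlib.GroupTheory.NoncommCoprod
import Mathlib.Tactic.LinearCombination

/-!
# The lower bound for the degree of a character of a twisted block

`degree_bound`: from the table inequality at the `+`-part of the involution and the fixed space of `⟨t, u⟩ × Y`,
which is left invariant by an element of order six permuting `t, u, tu`.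
-/

open scoped ComplexConjugate

set_option autoImplicit false
set_option linter.unusedSectionVars false
set_option linter.style.haveILetI false

open scoped Classical

namespace Cfsg.Agent.Invol.JankoWard.ExtBase

open Cfsg Cfsg.Agent.Char Cfsg.Agent.Block Subgroup

universe u v

variable {G : Type u} [Group G] [Fintype G] {P : Type v} [Group P] [Fintype P] (S : ExtBase G P)

/-- The abelian group `⟨t, u⟩ × Y`. -/
def tuY : Subgroup G where
  carrier := {x | ∃ b : Bool, ∃ k ∈ S.D.T, x = (bif b then S.t else 1) * S.ι k}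
  one_mem' := ⟨false, 1, one_mem _, by simp⟩
  mul_mem' := by
    rintro x y ⟨b, k, hk, rfl⟩ ⟨b', k', hk', rfl⟩
    refine ⟨xor b b', k * k', mul_mem hk hk', ?_⟩
    cases b <;> cases b' <;>
      simp only [cond_true, cond_false, one_mul, Bool.xor_false, Bool.xor_true, Bool.not_true, Bool.not_false, map_mul]
    · rw [← mul_assoc, S.tc, mul_assoc]
    · rw [mul_assoc]
    · rw [mul_assoc, ← mul_assoc (S.ι k), S.tc, mul_assoc, ← mul_assoc, S.tt, one_mul]
  inv_mem' := by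
    rintro x ⟨b, k, hk, rfl⟩
    refine ⟨b, k⁻¹, inv_mem hk, ?_⟩
    cases b
    · simp
    · simp only [cond_true]
      rw [mul_inv_rev, S.t_inv, ← map_inv, S.tc]

theorem t_tuY : S.t ∈ S.tuY := ⟨true, 1, one_mem _, by simp⟩

theorem ι_tuY {k : P} (hk : k ∈ S.D.T) : S.ι k ∈ S.tuY := ⟨false, k, hk, by simp⟩

theorem Y_tuY {y : P} (hy : y ∈ S.D.Y) : S.ι y ∈ S.tuY := S.ι_tuY (Or.inl hy)

theorem tuY_comm {a b : G} (ha : a ∈ S.tuY) (hb : b ∈ S.tuY) : a * b = b * a := by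
  obtain ⟨i, k, hk, rfl⟩ := ha
  obtain ⟨j, l, hl, rfl⟩ := hb
  have h0 : Commute (S.ι k) (S.ι l) := (show Commute k l from S.D.T_comm hk hl).map S.ι
  have h1 : ∀ m : P, Commute (S.ι m) S.t := fun m => S.tc m
  have hb : ∀ (i : Bool) (m : P), Commute (S.ι m) (bif i then S.t else 1) := fun i m => by
    cases i
    · exact Commute.one_right _
    · exact h1 m
  have h2 : Commute (bif i then S.t else 1 : G) (bif j then S.t else 1) := by
    cases i <;> cases j <;> simp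
  exact ((h2.mul_right (hb i l).symm).mul_left ((hb j k).mul_right h0)).eq

theorem sum_tuY {α : Type*} [AddCommMonoid α] (F : G → α) :
    ∑ a : S.tuY, F a = ∑ y : S.D.Y, (F (S.ι y) + F (S.t * S.ι y) + F (S.ι S.D.u * S.ι y) +
      F (S.t * S.ι S.D.u * S.ι y)) := by
  let el : (Bool × Bool) × S.D.Y → S.tuY := fun p =>
    ⟨(bif p.1.1 then S.t else 1) * ((bif p.1.2 then S.ι S.D.u else 1) * S.ι p.2), mul_mem
      (by cases p.1.1 <;> simp [one_mem, S.t_tuY])
      (mul_mem (by cases p.1.2 <;> simp [one_mem, S.ι_tuY S.D.u_T]) (S.Y_tuY p.2.2))⟩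
  have hbij : Function.Bijective el := by
    refine ⟨?_, ?_⟩
    · rintro ⟨⟨b, c⟩, y⟩ ⟨⟨b', c'⟩, y'⟩ h
      have hcoe : ∀ (c : Bool) (y : S.D.Y), (bif c then S.ι S.D.u else 1) * S.ι (y : P) =
          S.ι ((bif c then S.D.u else 1) * (y : P)) := fun c y => by cases c <;> simp [map_mul]
      have h' := congrArg Subtype.val h
      simp only [el, hcoe] at h'
      have h2 : (b, S.ιE ((bif c then S.D.u else 1) * (y : P))) = (b', S.ιE ((bif c' then S.D.u else 1) * (y' : P))) :=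
        S.pairMap_bijective.1 (Subtype.ext (by simp only [pairMap_coe, ιE_coe]; exact h'))
      obtain ⟨rfl, h3⟩ := Prod.mk.inj h2
      have h4 := S.ιE_inj h3
      cases c <;> cases c' <;> simp only [cond_true, cond_false, one_mul] at h4
      · rw [Subtype.ext h4]
      · exact absurd (by rw [eq_mul_inv_of_mul_eq h4.symm]; exact mul_mem y.2 (inv_mem y'.2)) S.D.u_not_Y
      · exact absurd (by rw [eq_mul_inv_of_mul_eq h4]; exact mul_mem y'.2 (inv_mem y.2)) S.D.u_not_Y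
      · rw [Subtype.ext (mul_left_cancel h4)]
    · rintro ⟨x, b, k, hk, rfl⟩
      rcases hk with hk | hk
      · exact ⟨((b, false), ⟨k, hk⟩), Subtype.ext (by simp [el])⟩
      · exact ⟨((b, true), ⟨_, hk⟩), Subtype.ext (by
          simp only [el, cond_true]
          rw [← map_mul, S.D.uu_cancel])⟩
  rw [← Fintype.sum_bijective el hbij _ _ fun _ => rfl, Fintype.sum_prod_type, Finset.sum_comm]
  refine Finset.sum_congr rfl fun y _ => ?_
  simp only [Fintype.sum_prod_type, Fintype.sum_bool, el, cond_true, cond_false, one_mul, mul_assoc]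
  abel

theorem card_tuY : Nat.card S.tuY = 4 * S.D.r := by
  have h := S.sum_tuY (fun _ => (1 : ℕ))
  simp only [Finset.sum_const, smul_eq_mul, mul_one, Finset.card_univ, ← Nat.card_eq_fintype_card, S.D.card_Y] at h
  omega

/-- A fixed point free element is conjugate to all elements of its coset. -/
theorem conj_coset {z : G} (hz : ∀ a ∈ S.tuY, z * a * z⁻¹ ∈ S.tuY) (hfree : ∀ a ∈ S.tuY, z * a * z⁻¹ = a → a = 1)
    (a : S.tuY) : IsConj z ((a : G) * z) := by
  let f : S.tuY → S.tuY := fun k => ⟨(k : G) * (z * (k : G)⁻¹ * z⁻¹), mul_mem k.2 (hz _ (inv_mem k.2))⟩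
  have hinj : Function.Injective f := by
    intro k l e
    have e' : (k : G) * (z * (k : G)⁻¹ * z⁻¹) = (l : G) * (z * (l : G)⁻¹ * z⁻¹) := congrArg Subtype.val e
    refine Subtype.ext (inv_mul_eq_one.1 ?_).symm
    refine hfree _ (mul_mem (inv_mem l.2) k.2) ?_
    calc z * ((l : G)⁻¹ * k) * z⁻¹ = (z * (l : G)⁻¹ * z⁻¹) * (z * (k : G)⁻¹ * z⁻¹)⁻¹ := by group
      _ = (l : G)⁻¹ * ((l : G) * (z * (l : G)⁻¹ * z⁻¹)) * (z * (k : G)⁻¹ * z⁻¹)⁻¹ := by group
      _ = (l : G)⁻¹ * k := by rw [← e']; group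
  obtain ⟨k, rfl⟩ := Finite.surjective_of_injective hinj a
  exact isConj_iff.2 ⟨k, by simp only [f]; group⟩

variable (L : ExtLocals S)
include L

theorem x_cases : ∃ w' : P, (w' = S.D.w ∨ w' = S.D.u * S.D.w) ∧ L.c * S.t * L.c⁻¹ = S.t * S.ι w' := by
  rcases L.ct with e | e
  · exact ⟨_, Or.inl rfl, e⟩
  · exact ⟨_, Or.inr rfl, e⟩

theorem x_sq : (L.c * S.t * L.c⁻¹) * (L.c * S.t * L.c⁻¹) = 1 := by
  rw [show L.c * S.t * L.c⁻¹ * (L.c * S.t * L.c⁻¹) = L.c * (S.t * S.t) * L.c⁻¹ by group, S.tt]; group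

theorem x_t : L.c * S.t * L.c⁻¹ * S.t = S.t * (L.c * S.t * L.c⁻¹) := by
  obtain ⟨w', -, e⟩ := S.x_cases L
  rw [e, mul_assoc, S.tc]

theorem x_u : L.c * S.t * L.c⁻¹ * S.ι S.D.u = S.ι S.D.u * (L.c * S.t * L.c⁻¹) := by
  obtain ⟨w', hw, e⟩ := S.x_cases L
  have h : w' * S.D.u = S.D.u * w' := by
    rcases hw with rfl | rfl
    · exact S.D.comm.symm
    · rw [mul_assoc, ← S.D.comm]
  rw [e, mul_assoc, ← map_mul, h, map_mul, ← mul_assoc, ← S.tc, mul_assoc]

theorem x_Y {y : P} (hy : y ∈ S.D.Y) : L.c * S.t * L.c⁻¹ * S.ι y * (L.c * S.t * L.c⁻¹)⁻¹ = (S.ι y)⁻¹ := by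
  obtain ⟨w', hw, e⟩ := S.x_cases L
  have h : w' * y * w'⁻¹ = y⁻¹ := by
    rcases hw with rfl | rfl
    · exact S.D.w_Y y hy
    · calc S.D.u * S.D.w * y * (S.D.u * S.D.w)⁻¹ = S.D.u * (S.D.w * y * S.D.w⁻¹) * S.D.u⁻¹ := by group
        _ = y⁻¹ := by rw [S.D.w_Y y hy, S.D.u_Y _ (inv_mem hy)]; group
  rw [e, show S.t * S.ι w' * S.ι y * (S.t * S.ι w')⁻¹ = S.t * (S.ι w' * S.ι y * (S.ι w')⁻¹) * S.t⁻¹ by group,
    ← map_inv, ← map_mul, ← map_mul, h, ← S.tc, mul_inv_cancel_right, map_inv]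

theorem x_inv {a : G} (ha : a ∈ S.tuY) : L.c * S.t * L.c⁻¹ * a * (L.c * S.t * L.c⁻¹)⁻¹ = a⁻¹ := by
  set x := L.c * S.t * L.c⁻¹
  obtain ⟨b, k, hk, rfl⟩ := ha
  have ht : x * (bif b then S.t else 1) * x⁻¹ = (bif b then S.t else 1)⁻¹ := by
    cases b
    · simp
    · simp only [cond_true]; rw [S.x_t L, mul_inv_cancel_right, S.t_inv]
  have hk' : x * S.ι k * x⁻¹ = (S.ι k)⁻¹ := by
    rcases hk with hk | hk
    · exact S.x_Y L hk
    · rw [show S.ι k = S.ι S.D.u * S.ι (S.D.u * k) by rw [← map_mul, S.D.uu_cancel], ← conj_mul, S.x_u L,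
        mul_inv_cancel_right, S.x_Y L hk]
      rw [mul_inv_rev, ← map_inv S.ι S.D.u, inv_eq_of_mul_eq_one_right S.D.u2]
      exact S.tuY_comm (S.ι_tuY S.D.u_T) (inv_mem (S.Y_tuY hk))
  rw [← conj_mul, ht, hk', mul_inv_rev]
  exact S.tuY_comm (by cases b <;> simp [one_mem, S.t_tuY, inv_mem]) (inv_mem (S.ι_tuY hk))

theorem g_Y_sum {α : Type*} [AddCommMonoid α] (F : G → α) :
    ∑ y : S.D.Y, F (L.g * S.ι y * L.g⁻¹) = ∑ y : S.D.Y, F (S.ι y) := by
  choose f hf hf' using L.gY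
  let e : S.D.Y → S.D.Y := fun y => ⟨f y y.2, hf y y.2⟩
  have hinj : Function.Injective e := fun a b h => by
    have h' := congrArg S.ι (congrArg Subtype.val h)
    simp only [e, ← hf'] at h'
    exact Subtype.ext (S.inj (mul_left_cancel (mul_right_cancel h')))
  exact Fintype.sum_bijective e ⟨hinj, Finite.surjective_of_injective hinj⟩ _ _ fun y => by
    simp only [e, ← hf']

theorem g_tuY {a : G} (ha : a ∈ S.tuY) : L.g * a * L.g⁻¹ ∈ S.tuY := by
  obtain ⟨b, k, hk, rfl⟩ := ha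
  have ht : L.g * (bif b then S.t else 1) * L.g⁻¹ ∈ S.tuY := by
    cases b
    · simp [one_mem]
    · simp only [cond_true]; rw [L.gt]; exact S.ι_tuY S.D.u_T
  have hY : ∀ y ∈ S.D.Y, L.g * S.ι y * L.g⁻¹ ∈ S.tuY := fun y hy => by
    obtain ⟨y', hy', e⟩ := L.gY y hy
    rw [e]; exact S.Y_tuY hy'
  rw [← conj_mul]
  refine mul_mem ht ?_
  rcases hk with hk | hk
  · exact hY k hk
  · rw [show S.ι k = S.ι S.D.u * S.ι (S.D.u * k) by rw [← map_mul, S.D.uu_cancel], ← conj_mul, L.gu]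
    exact mul_mem (mul_mem S.t_tuY (S.ι_tuY S.D.u_T)) (hY _ hk)

theorem g_free (hf : L.Free) {a : G} (ha : a ∈ S.tuY) (h : L.g * a * L.g⁻¹ = a) : a = 1 := by
  obtain ⟨b, k, hk, rfl⟩ := ha
  obtain ⟨c, y, hy, rfl⟩ : ∃ c : Bool, ∃ y ∈ S.D.Y, k = (bif c then S.D.u else 1) * y := by
    rcases hk with hk | hk
    · exact ⟨false, k, hk, by simp⟩
    · exact ⟨true, _, hk, (S.D.uu_cancel k).symm⟩
  set v : G := (bif b then S.t else 1) * S.ι (bif c then S.D.u else 1) with hv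
  have e : (bif b then S.t else 1) * S.ι ((bif c then S.D.u else 1) * y) = v * S.ι y := by
    rw [map_mul, hv, mul_assoc]
  rw [e] at h ⊢
  have hvv : v * v = 1 := by
    have hu : S.ι S.D.u * S.ι S.D.u = 1 := by rw [← map_mul, S.D.u2, map_one]
    rw [hv]
    cases b <;> cases c <;> simp [S.tt, hu]
    rw [mul_assoc, ← mul_assoc (S.ι S.D.u), S.tc, mul_assoc, hu, mul_one, S.tt]
  have hvy : Commute v (S.ι y) := S.tuY_comm (mul_mem (by cases b <;> simp [one_mem, S.t_tuY])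
    (by cases c <;> simp [one_mem, S.ι_tuY S.D.u_T])) (S.Y_tuY hy)
  obtain ⟨y', hy', e'⟩ := L.gY y hy
  have h2 : S.ι (y' * y') = S.ι (y * y) := by
    have h3 : (L.g * (v * S.ι y) * L.g⁻¹) * (L.g * (v * S.ι y) * L.g⁻¹) = v * S.ι y * (v * S.ι y) := by rw [h]
    rw [conj_mul] at h3
    rw [show v * S.ι y * (v * S.ι y) = S.ι (y * y) by
      rw [show v * S.ι y * (v * S.ι y) = v * (S.ι y * v) * S.ι y by group, ← hvy.eq, ← mul_assoc v v, hvv, one_mul,
        map_mul]] at h3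
    rw [← h3, map_mul, map_mul, ← conj_mul, e']
  have hy1 : y = 1 := by
    refine hf y hy ?_
    have h4 := S.inj h2
    have h5 : y' * y⁻¹ * (y' * y⁻¹) = 1 := by
      have hc := S.D.Y_comm (inv_mem hy) hy'
      calc y' * y⁻¹ * (y' * y⁻¹) = y' * (y⁻¹ * y') * y⁻¹ := by group
        _ = y' * y' * (y * y)⁻¹ := by rw [hc]; group
        _ = 1 := by rw [h4, mul_inv_cancel]
    rw [e', mul_inv_eq_one.1 (S.D.Y_sq (mul_mem hy' (inv_mem hy)) h5)]
  subst hy1
  rw [map_one, mul_one] at h ⊢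
  have hu1 : S.ι S.D.u ≠ 1 := fun e => S.D.u1 (S.inj (e.trans (map_one _).symm))
  rw [hv] at h ⊢
  cases b <;> cases c <;> simp only [cond_true, cond_false, map_one, one_mul, mul_one] at h ⊢
  · rw [L.gu] at h; exact absurd (mul_eq_right.1 h) S.t_ne
  · rw [L.gt] at h; exact absurd h (S.t_not _)
  · rw [← conj_mul, L.gt, L.gu, ← mul_assoc, S.tc, mul_assoc, ← map_mul, S.D.u2, map_one, mul_one] at h
    exact absurd (mul_eq_left.1 h.symm) hu1

theorem g_order : orderOf L.g = 3 := by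
  haveI : Fact (Nat.Prime 3) := ⟨Nat.prime_three⟩
  refine orderOf_eq_prime L.g3 fun e => ?_
  have h := L.gt
  rw [e, one_mul, inv_one, mul_one] at h
  exact S.t_not _ h.symm

theorem d_order : orderOf L.d = 3 := by
  haveI : Fact (Nat.Prime 3) := ⟨Nat.prime_three⟩
  refine orderOf_eq_prime L.d3 fun e => ?_
  have h := L.gd
  rw [e, map_one, mul_one, mul_inv_cancel] at h
  have := S.g_order L
  rw [h, orderOf_one] at this
  norm_num at this

/-- The table inequality at the `+`-part of `t`. -/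
theorem ineq_plus (T : ExtTable S.D) (χ : IrrCharacter G) {h : P} (hh : orderOf h = 3) :
    let θ : P → ℂ := fun k => ((χ : G → ℂ) (S.ι k) + (χ : G → ℂ) (S.t * S.ι k)) / 2
    let N : ℝ := ((∑ y : S.D.Y, (θ y + θ (S.D.u * y))).re) / (2 * S.D.r)
    let A : ℝ := ((∑ y : S.D.Y, θ (S.D.u * y)).re) / S.D.r
    let J : ℝ := (θ S.D.u).re - A
    2 * (S.D.r : ℝ) * (N + 4 * (θ h).re) + (8 * (S.D.r : ℝ) - 3) * |J|
        - (10 * (S.D.r : ℝ) - 3) * A ≤ 3 * (θ 1).re := by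
  intro θ N A J
  have hθc : IsClassFunction P θ := fun a b => by
    simp only [θ]
    rw [show S.t * S.ι (b * a * b⁻¹) = S.ι b * (S.t * S.ι a) * (S.ι b)⁻¹ by
      rw [map_mul, map_mul, map_inv, ← mul_assoc, ← mul_assoc, ← mul_assoc, ← S.tc], map_mul, map_mul, map_inv,
      IsIrr.classFun χ.2, IsIrr.classFun χ.2]
  -- the coefficients
  have hcoef : ∀ ξ : IrrCharacter P, ∃ n : ℕ, classInner θ (ξ : P → ℂ) = n := by
    intro ξ
    let φ : zpowers S.t × P →* G := (zpowers S.t).subtype.noncommCoprod S.ι fun a k => by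
      obtain ⟨i, hi⟩ := mem_zpowers_iff.1 a.2
      simp only [Subgroup.coe_subtype, ← hi]
      exact ((show Commute S.t (S.ι k) from (S.tc k).symm).zpow_left i)
    have hχ : IsCharacter (zpowers S.t × P) (fun p => (χ : G → ℂ) (φ p)) := IsChar.comp φ (IsIrr.isCharacter χ.2)
    have hξ : IsIrrCharacter (zpowers S.t × P) (fun p => (ξ : P → ℂ) p.2) :=
      IsIrr.comp_surjective (MonoidHom.snd (zpowers S.t) P) (fun k => ⟨(1, k), rfl⟩) ξ.2
    obtain ⟨a, ha, -⟩ := IsChar.exists_decomp_inner hχ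
    refine ⟨a ⟨_, hξ⟩, ?_⟩
    rw [← ha ⟨_, hξ⟩, classInner, classInner, Fintype.sum_prod_type, Nat.card_prod, Nat.card_zpowers, S.ht,
      Finset.sum_comm, Finset.mul_sum, Finset.mul_sum]
    refine Finset.sum_congr rfl fun k _ => ?_
    have h2 : (Finset.univ : Finset (zpowers S.t)) = {1, ⟨S.t, mem_zpowers _⟩} := by
      refine (Finset.eq_univ_of_card _ ?_).symm
      rw [Finset.card_pair (fun e => S.t_ne (congrArg Subtype.val e).symm), ← Nat.card_eq_fintype_card,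
        Nat.card_zpowers, S.ht]
    rw [h2, Finset.sum_pair (fun e => S.t_ne (congrArg Subtype.val e).symm)]
    simp only [φ, θ, MonoidHom.noncommCoprod_apply, Subgroup.coe_subtype, OneMemClass.coe_one, one_mul]
    push_cast
    ring
  choose n hn using hcoef
  have hexp : ∀ k, θ k = ∑ ξ : IrrCharacter P, (n ξ : ℂ) * (ξ : P → ℂ) k := fun k => by
    conv_lhs => rw [classFunction_expansion hθc, Finset.sum_apply]
    exact Finset.sum_congr rfl fun ξ _ => by rw [Pi.smul_apply, smul_eq_mul, hn]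
  have hre : ∀ k, (θ k).re = ∑ ξ : IrrCharacter P, (n ξ : ℝ) * ((ξ : P → ℂ) k).re := fun k => by
    rw [hexp, Complex.re_sum]
    exact Finset.sum_congr rfl fun ξ _ => by simp
  let Nξ : IrrCharacter P → ℝ := fun ξ =>
    ((∑ y : S.D.Y, ((ξ : P → ℂ) y + (ξ : P → ℂ) (S.D.u * y))).re) / (2 * S.D.r)
  let Aξ : IrrCharacter P → ℝ := fun ξ => ((∑ y : S.D.Y, (ξ : P → ℂ) (S.D.u * y)).re) / S.D.r
  let Jξ : IrrCharacter P → ℝ := fun ξ => ((ξ : P → ℂ) S.D.u).re - Aξ ξ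
  have hN : N = ∑ ξ : IrrCharacter P, (n ξ : ℝ) * Nξ ξ := by
    simp only [N, Nξ, Complex.re_sum, Complex.add_re, hre, ← mul_div_assoc, ← Finset.sum_div, Finset.mul_sum,
      Finset.sum_add_distrib, mul_add]
    rw [Finset.sum_comm (γ := S.D.Y), Finset.sum_comm (γ := S.D.Y)]
  have hA : A = ∑ ξ : IrrCharacter P, (n ξ : ℝ) * Aξ ξ := by
    simp only [A, Aξ, Complex.re_sum, hre, ← mul_div_assoc, ← Finset.sum_div, Finset.mul_sum]
    rw [Finset.sum_comm]
  have hJ : J = ∑ ξ : IrrCharacter P, (n ξ : ℝ) * Jξ ξ := by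
    simp only [J, Jξ, hA, hre, mul_sub, Finset.sum_sub_distrib]
  have hJ' : |J| ≤ ∑ ξ : IrrCharacter P, (n ξ : ℝ) * |Jξ ξ| := by
    rw [hJ]
    refine (Finset.abs_sum_le_sum_abs _ _).trans (le_of_eq (Finset.sum_congr rfl fun ξ _ => ?_))
    rw [abs_mul, abs_of_nonneg (Nat.cast_nonneg _)]
  have h8 : (0 : ℝ) ≤ 8 * (S.D.r : ℝ) - 3 := by
    have : (3 : ℝ) ≤ (S.D.r : ℝ) := by exact_mod_cast S.D.r3
    linarith
  have hsum := Finset.sum_le_sum (s := (Finset.univ : Finset (IrrCharacter P))) fun ξ _ =>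
    mul_le_mul_of_nonneg_left (T.ineq ξ h hh) (Nat.cast_nonneg (α := ℝ) (n ξ))
  have eL : ∑ ξ : IrrCharacter P, (n ξ : ℝ) * (2 * (S.D.r : ℝ) * (Nξ ξ + 4 * ((ξ : P → ℂ) h).re) +
      (8 * (S.D.r : ℝ) - 3) * |Jξ ξ| - (10 * (S.D.r : ℝ) - 3) * Aξ ξ) =
      2 * (S.D.r : ℝ) * (N + 4 * (θ h).re) + (8 * (S.D.r : ℝ) - 3) * (∑ ξ : IrrCharacter P, (n ξ : ℝ) * |Jξ ξ|) -
        (10 * (S.D.r : ℝ) - 3) * A := by
    rw [hN, hA, hre h]
    simp only [Finset.mul_sum, mul_add, Finset.sum_add_distrib, mul_sub, Finset.sum_sub_distrib]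
    congr 1
    · congr 1
      · congr 1
        · exact Finset.sum_congr rfl fun ξ _ => by ring
        · exact Finset.sum_congr rfl fun ξ _ => by ring
      · exact Finset.sum_congr rfl fun ξ _ => by ring
    · exact Finset.sum_congr rfl fun ξ _ => by ring
  have eR : ∑ ξ : IrrCharacter P, (n ξ : ℝ) * (3 * ((ξ : P → ℂ) 1).re) = 3 * (θ 1).re := by
    rw [hre 1, Finset.mul_sum]
    exact Finset.sum_congr rfl fun ξ _ => by ring
  have h9 := eL ▸ eR ▸ hsum
  nlinarith [mul_le_mul_of_nonneg_left hJ' h8]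

/-- The two multiplicities of a linear character of the element of order six on the fixed space. -/
theorem six_nonneg (hf : L.Free) (χ : IrrCharacter G) (s : ℝ) (hs : s = 1 ∨ s = -1) :
    0 ≤ (∑ a : S.tuY, (χ : G → ℂ) a).re / (4 * S.D.r) + 2 * ((χ : G → ℂ) L.g).re +
      s * (((χ : G → ℂ) S.t).re + 2 * ((χ : G → ℂ) (L.g * (L.c * S.t * L.c⁻¹))).re) := by
  set x := L.c * S.t * L.c⁻¹ with hx
  set z := L.g * x with hz
  have hgx : Commute L.g x := L.gx
  have hzo : orderOf z = 6 := by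
    rw [hz, hgx.orderOf_mul_eq_mul_orderOf_of_coprime, S.g_order L]
    · rw [show orderOf x = 2 by rw [hx, show L.c * S.t * L.c⁻¹ = MulAut.conj L.c S.t from rfl, MulEquiv.orderOf_eq, S.ht]]
    · rw [S.g_order L, show orderOf x = 2 by
        rw [hx, show L.c * S.t * L.c⁻¹ = MulAut.conj L.c S.t from rfl, MulEquiv.orderOf_eq, S.ht]]
      decide
  have hx2 : x * x = 1 := S.x_sq L
  have hz6 : z ^ 6 = 1 := hzo ▸ pow_orderOf_eq_one z
  have hxinv : x⁻¹ = x := inv_eq_of_mul_eq_one_right hx2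
  have hzA : ∀ a ∈ S.tuY, z * a * z⁻¹ ∈ S.tuY := fun a ha => by
    rw [hz, show L.g * x * a * (L.g * x)⁻¹ = L.g * (x * a * x⁻¹) * L.g⁻¹ by group, S.x_inv L ha]
    exact S.g_tuY L (inv_mem ha)
  have hzN : z ∈ normalizer (S.tuY : Set G) := by
    refine Subgroup.mem_normalizer_iff.2 fun a => ⟨hzA a, fun h => ?_⟩
    have h5 : ∀ n : ℕ, ∀ a ∈ S.tuY, z ^ n * a * (z ^ n)⁻¹ ∈ S.tuY := by
      intro n
      induction n with
      | zero => intro a ha; simpa using ha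
      | succ n ih =>
        intro a ha
        rw [pow_succ, show z ^ n * z * a * (z ^ n * z)⁻¹ = z ^ n * (z * a * z⁻¹) * (z ^ n)⁻¹ by group]
        exact ih _ (hzA a ha)
    have h6 := h5 5 _ h
    rw [show z ^ 5 * (z * a * z⁻¹) * (z ^ 5)⁻¹ = z ^ 6 * a * (z ^ 6)⁻¹ by group, ← hzo, pow_orderOf_eq_one] at h6
    simpa using h6
  let φ : zpowers z →* MulAut S.tuY := S.tuY.normalizerMonoidHom.comp (Subgroup.inclusion (zpowers_le.2 hzN))
  let lift : S.tuY ⋊[φ] zpowers z →* G := SemidirectProduct.lift S.tuY.subtype (zpowers z).subtype fun y => by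
    refine MonoidHom.ext fun a => ?_
    simp [φ, Subgroup.normalizerMonoidHom, MulAut.conj_apply]
    rfl
  haveI : Finite (S.tuY ⋊[φ] zpowers z) := Finite.of_equiv _ SemidirectProduct.equivProd.symm
  haveI : Fintype (S.tuY ⋊[φ] zpowers z) := Fintype.ofFinite _
  let sg : zpowers z →* ℂˣ := MonoidHom.mk' (fun y => if (y : G) ^ 3 = 1 then 1 else if s = 1 then 1 else -1) (by
    intro a b
    have hcases : ∀ y : zpowers z, (y : G) ^ 3 = 1 ∨ (y : G) ^ 3 = z ^ 3 := by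
      intro y
      obtain ⟨n, hn⟩ := (mem_powers_iff_mem_zpowers).2 y.2
      rw [← hn, ← pow_mul, mul_comm, pow_mul]
      rcases Nat.even_or_odd n with ⟨j, hj⟩ | ⟨j, hj⟩
      · left; rw [hj, ← two_mul, pow_mul, ← pow_mul z 3 2, show (3 * 2 : ℕ) = 6 by norm_num, hz6, one_pow]
      · right; rw [hj, pow_succ, pow_mul, ← pow_mul z 3 2, show (3 * 2 : ℕ) = 6 by norm_num, hz6, one_pow, one_mul]
    have h3 : z ^ 3 ≠ 1 := pow_ne_one_of_lt_orderOf (by norm_num) (by omega)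
    have hab : ((a * b : zpowers z) : G) ^ 3 = (a : G) ^ 3 * (b : G) ^ 3 := by
      rw [Subgroup.coe_mul]
      exact Commute.mul_pow (show Commute (a : G) b from congrArg Subtype.val ((IsCyclic.commGroup (α := zpowers z)).mul_comm a b)) 3
    have h33 : z ^ 3 * z ^ 3 = 1 := by rw [← pow_add]; exact hz6
    rcases hcases a with ha | ha <;> rcases hcases b with hb | hb <;> rw [ha, hb] at hab <;>
      simp only [ha, hb, hab, one_mul, mul_one, h33, h3, if_true, if_false]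
    split_ifs <;> simp)
  let β : S.tuY ⋊[φ] zpowers z →* ℂˣ := sg.comp SemidirectProduct.rightHom
  obtain ⟨m, hm, -⟩ := IsChar.exists_decomp_inner (IsChar.comp lift (IsIrr.isCharacter χ.2))
  have hkey := hm ⟨_, isIrr_linear β⟩
  simp only [classInner] at hkey
  rw [← Fintype.sum_equiv (SemidirectProduct.equivProd (φ := φ)).symm
      (fun p : S.tuY × zpowers z => (χ : G → ℂ) ((p.1 : G) * (p.2 : G)) * conj ((sg p.2 : ℂˣ) : ℂ)) _
      (fun p => by simp [lift, β]; rfl),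
    Nat.card_congr SemidirectProduct.equivProd, Nat.card_prod, S.card_tuY, Nat.card_zpowers, hzo,
    Fintype.sum_prod_type, Finset.sum_comm,
    ← Fintype.sum_equiv ((finCongr hzo.symm).trans (finEquivZPowers (isOfFinOrder_of_finite z)))
      (fun i : Fin 6 => ∑ a : S.tuY, (χ : G → ℂ) ((a : G) * z ^ (i : ℕ)) *
        conj ((sg ⟨z ^ (i : ℕ), pow_mem (mem_zpowers z) _⟩ : ℂˣ) : ℂ)) _ (fun i => rfl)] at hkey
  simp only [← Finset.sum_mul] at hkey
  -- the sums over the cosets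
  have hpow : ∀ n : ℕ, ∀ a ∈ S.tuY, z ^ n * a * (z ^ n)⁻¹ ∈ S.tuY := fun n a ha =>
    (Subgroup.mem_normalizer_iff.1 (pow_mem hzN n) a).1 ha
  have hg4 : z ^ 4 = L.g := by
    rw [hz, hgx.mul_pow, show x ^ 4 = 1 by rw [show (4 : ℕ) = 2 * 2 by norm_num, pow_mul, pow_two x, hx2, one_pow],
      mul_one, pow_succ, L.g3, one_mul]
  have hfree : ∀ n : ℕ, (∃ i, (z ^ n) ^ i = z ^ 4) → ∀ a ∈ S.tuY, z ^ n * a * (z ^ n)⁻¹ = a → a = 1 := by
    rintro n ⟨i, hi⟩ a ha h
    refine S.g_free L hf ha ?_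
    have hc : Commute ((z ^ n) ^ i) a := ((show Commute (z ^ n) a from mul_inv_eq_iff_eq_mul.1 h).pow_left i)
    rw [← hg4, ← hi, hc.eq, mul_inv_cancel_right]
  have hcos : ∀ n : ℕ, (∃ i, (z ^ n) ^ i = z ^ 4) →
      ∑ a : S.tuY, (χ : G → ℂ) ((a : G) * z ^ n) = (4 * S.D.r : ℂ) * (χ : G → ℂ) (z ^ n) := by
    intro n hn
    rw [Finset.sum_congr rfl (g := fun _ => (χ : G → ℂ) (z ^ n)) fun a _ => by
      obtain ⟨k, hk⟩ := isConj_iff.1 (S.conj_coset (hpow n) (hfree n hn) a)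
      rw [← hk, IsIrr.classFun χ.2], Finset.sum_const, Finset.card_univ, ← Nat.card_eq_fintype_card, S.card_tuY,
      nsmul_eq_mul]
    push_cast; ring
  have hz3 : z ^ 3 = x := by
    rw [hz, hgx.mul_pow, L.g3, one_mul, pow_succ, pow_two, hx2, one_mul]
  have h3sum : ∑ a : S.tuY, (χ : G → ℂ) ((a : G) * z ^ 3) = (4 * S.D.r : ℂ) * (χ : G → ℂ) S.t := by
    rw [Finset.sum_congr rfl (g := fun _ => (χ : G → ℂ) S.t) fun a _ => ?_, Finset.sum_const, Finset.card_univ,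
      ← Nat.card_eq_fintype_card, S.card_tuY, nsmul_eq_mul]
    · push_cast; ring
    rw [hz3]
    have h2 : (a : G) * x * ((a : G) * x) = 1 := by
      calc (a : G) * x * ((a : G) * x) = (a : G) * (x * a * x⁻¹) * (x * x) := by group
        _ = 1 := by rw [S.x_inv L a.2, hx2]; group
    have hne : (a : G) * x ≠ 1 := fun e => by
      have hxa : x ∈ S.tuY := by rw [eq_inv_of_mul_eq_one_right e]; exact inv_mem a.2
      obtain ⟨y₀, hy₀, hy1⟩ := (Subgroup.bot_or_exists_ne_one S.D.Y).resolve_left (fun e => by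
        have := S.D.card_Y
        rw [e, Subgroup.card_bot] at this
        have := S.D.r3
        omega)
      have h4 := S.x_Y L hy₀
      rw [show L.c * S.t * L.c⁻¹ = x from rfl, S.tuY_comm hxa (S.Y_tuY hy₀), mul_inv_cancel_right,
        ← map_inv] at h4
      exact hy1 (S.D.Y_sq hy₀ (mul_eq_one_iff_eq_inv.2 (S.inj h4)))
    obtain ⟨k, hk⟩ := isConj_iff.1 (L.one_class _ (orderOf_eq_prime (by rw [pow_two]; exact h2) hne))
    rw [← hk, IsIrr.classFun χ.2]
  have hz1 : z ^ 1 = z := pow_one z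
  have hz2 : z ^ 2 = (z ^ 4)⁻¹ := eq_inv_of_mul_eq_one_left (by rw [← pow_add]; exact hz6)
  have hz5 : z ^ 5 = z⁻¹ := eq_inv_of_mul_eq_one_left (by rw [← pow_succ]; exact hz6)
  simp only [Fin.sum_univ_six, Fin.val_zero, Fin.val_one, Fin.val_two, show ((3 : Fin 6) : ℕ) = 3 from rfl,
    show ((4 : Fin 6) : ℕ) = 4 from rfl, show ((5 : Fin 6) : ℕ) = 5 from rfl, h3sum,
    hcos 1 ⟨4, by rw [pow_one]⟩, hcos 2 ⟨2, by rw [← pow_mul]⟩, hcos 4 ⟨1, pow_one _⟩,
    hcos 5 ⟨2, by rw [← pow_mul, show (5 * 2 : ℕ) = 6 + 4 by norm_num, pow_add, hz6, one_mul]⟩,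
    pow_zero, mul_one] at hkey
  have hsg : ∀ n : ℕ, n ≤ 5 → ((sg ⟨z ^ n, pow_mem (mem_zpowers z) n⟩ : ℂˣ) : ℂ) =
      if n % 2 = 0 then 1 else (s : ℂ) := by
    intro n hn
    simp only [sg, MonoidHom.mk'_apply]
    rcases Nat.even_or_odd n with ⟨j, hj⟩ | ⟨j, hj⟩
    · have h1 : (z ^ n) ^ 3 = 1 := by rw [hj, ← pow_mul, show (j + j) * 3 = 6 * j by ring, pow_mul, hz6, one_pow]
      simp [h1, show n % 2 = 0 by omega]
    · have h1 : (z ^ n) ^ 3 ≠ 1 := by
        rw [hj, ← pow_mul, show (2 * j + 1) * 3 = 6 * j + 3 by ring, pow_add, pow_mul, hz6, one_pow, one_mul]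
        exact pow_ne_one_of_lt_orderOf (by norm_num) (by omega)
      rcases hs with rfl | rfl
      · simp [h1, show n % 2 = 1 by omega]
      · norm_num [h1, show n % 2 = 1 by omega]
  have e0 := hsg 0 (by norm_num); have e1 := hsg 1 (by norm_num); have e2 := hsg 2 (by norm_num)
  have e3 := hsg 3 (by norm_num); have e4 := hsg 4 (by norm_num); have e5 := hsg 5 (by norm_num)
  simp only [pow_zero] at e0
  simp only [e0, e1, e2, e3, e4, e5, show (1 % 2 = 0) = False by simp, show (3 % 2 = 0) = False by simp,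
    show (5 % 2 = 0) = False by simp, show (2 % 2 = 0) = True by simp, show (4 % 2 = 0) = True by simp,
    show (0 % 2 = 0) = True by simp, if_true, if_false, Complex.conj_ofReal, map_one, mul_one] at hkey
  simp only [hz1, hz2, hz5, hg4, IsIrr.apply_inv χ.2] at hkey
  have h := congrArg Complex.re hkey
  have hr0 : (S.D.r : ℝ) ≠ 0 := Nat.cast_ne_zero.2 (by have := S.D.r3; omega)
  rw [show (((4 * S.D.r * 6 : ℕ) : ℂ))⁻¹ = (((24 * (S.D.r : ℝ))⁻¹ : ℝ) : ℂ) by
      push_cast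
      rw [show (4 : ℂ) * (S.D.r : ℂ) * 6 = 24 * (S.D.r : ℂ) by ring],
    Complex.re_ofReal_mul, Complex.natCast_re] at h
  simp only [Complex.add_re, Complex.mul_re, Complex.conj_re, Complex.conj_im, Complex.re_ofNat, Complex.im_ofNat,
    Complex.natCast_re, Complex.natCast_im, Complex.ofReal_re, Complex.ofReal_im, Complex.mul_im] at h
  field_simp at h
  have hr : (0 : ℝ) < (S.D.r : ℝ) := by have := S.D.r3; positivity
  have hm0 : (0 : ℝ) ≤ (m ⟨_, isIrr_linear β⟩ : ℝ) := Nat.cast_nonneg _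
  have key : (∑ a : S.tuY, (χ : G → ℂ) a).re / (4 * S.D.r) + 2 * ((χ : G → ℂ) L.g).re +
      s * (((χ : G → ℂ) S.t).re + 2 * ((χ : G → ℂ) z).re) = 6 * (m ⟨_, isIrr_linear β⟩ : ℝ) := by
    field_simp
    linear_combination h
  rw [key]; positivity

variable (X : LChars S.D) {M : Ideal AlgInt} (hM : IsPModular 2 M)
include hM

theorem value_Y (A : Amb G) (hδ : S.D.δ = -1) {l : S.Fld →* ℂˣ} {χ : IrrCharacter G} (hχ : χ ∈ S.gb X hM l)
    {y : P} (hy : y ∈ S.D.Y) :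
    (χ : G → ℂ) (S.t * S.ι y) = (S.vE X hM l 0 χ : ℂ) +
      ((S.vE X hM l 1 χ : ℂ) + S.vE X hM l 2 χ) * (if y = 1 then (2 * (S.D.r : ℂ) - 1) else -1) := by
  have hk : Odd (orderOf (S.ιE y)) := by rw [orderOf_injective _ S.ιE_inj]; exact S.D.odd_Y hy
  have h := S.value_v X hM A L hχ hk
  rw [ιE_coe, S.fp_ι, map_one, Units.val_one, one_mul, S.hat_ι, S.hat_ι] at h
  rw [h]
  have hq : (S.D.q : ℂ) = 4 * (S.D.r : ℂ) + S.D.δ := by exact_mod_cast congrArg (Int.cast : ℤ → ℂ) S.D.hq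
  split_ifs with h1
  · subst h1; simp [LChars.four, X.e1_one, X.e2_one, LData.cc, hδ, hq]; ring
  · simp [LChars.four, X.e1_Y y hy h1, X.e2_Y y hy h1, LData.cc, hδ]; ring

/-- The lower bound for the degree. -/
theorem degree_bound (A : Amb G) (T : ExtTable S.D) (hf : L.Free) (hp : S.D.p = 3) (hδ : S.D.δ = -1)
    {l : S.Fld →* ℂˣ} {χ : IrrCharacter G} (hχ : χ ∈ S.gb X hM l) :
    (40 * (S.D.r : ℝ) ^ 2 - 82 * S.D.r + 21) * |(S.vE X hM l 1 χ : ℝ) + S.vE X hM l 2 χ| -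
        (40 * (S.D.r : ℝ) - 3) * |(S.vE X hM l 0 χ : ℝ)| ≤ 3 * (charDegree (χ : G → ℂ) : ℝ) := by
  set a : ℝ := (S.vE X hM l 0 χ : ℝ) with ha
  set W : ℝ := (S.vE X hM l 1 χ : ℝ) + S.vE X hM l 2 χ with hW
  set r : ℝ := (S.D.r : ℝ) with hr
  have hr3 : (3 : ℝ) ≤ r := by rw [hr]; exact_mod_cast S.D.r3
  have hYre : ∀ y : S.D.Y, ((χ : G → ℂ) (S.t * S.ι y)).re = a + W * (if (y : P) = 1 then 2 * r - 1 else -1) :=
    fun y => by
      rw [S.value_Y L X hM A hδ hχ y.2]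
      split_ifs <;> simp [ha, hW, hr, Complex.add_re, Complex.mul_re]
  have hYim : ∀ y : S.D.Y, ((χ : G → ℂ) (S.t * S.ι y)).im = 0 := fun y => by
    rw [S.value_Y L X hM A hδ hχ y.2]
    split_ifs <;> simp [Complex.add_im, Complex.mul_im]
  have htr : ((χ : G → ℂ) S.t).re = a + W * (2 * r - 1) := by
    have h := hYre 1
    rwa [OneMemClass.coe_one, map_one, mul_one, if_pos rfl] at h
  have hSt : (∑ y : S.D.Y, (χ : G → ℂ) (S.t * S.ι y)).re = r * (a + W) := by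
    rw [Complex.re_sum, Finset.sum_congr rfl fun y _ => hYre y, ← Finset.add_sum_erase _ _ (Finset.mem_univ (1 : S.D.Y)),
      Finset.sum_congr rfl (g := fun _ => a + W * (-1)) fun y hy => by
        rw [if_neg fun e : (y : P) = (1 : P) => Finset.ne_of_mem_erase hy (Subtype.ext e)],
      Finset.sum_const, Finset.card_erase_of_mem (Finset.mem_univ _), Finset.card_univ, ← Nat.card_eq_fintype_card,
      S.D.card_Y, nsmul_eq_mul, Nat.cast_sub (by have := S.D.r3; omega : 1 ≤ S.D.r), if_pos (OneMemClass.coe_one S.D.Y),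
      Nat.cast_one, ← hr]
    ring
  have hconj : ∀ (F : G) (z : G), (χ : G → ℂ) (F * z * F⁻¹) = (χ : G → ℂ) z := fun F z => IsIrr.classFun χ.2 z F
  have hSu : ∑ y : S.D.Y, (χ : G → ℂ) (S.ι S.D.u * S.ι y) = ∑ y : S.D.Y, (χ : G → ℂ) (S.t * S.ι y) := by
    rw [← S.g_Y_sum L (fun z => (χ : G → ℂ) (S.ι S.D.u * z))]
    refine Finset.sum_congr rfl fun y _ => ?_
    rw [← L.gt, conj_mul, hconj]
  have hStu : ∑ y : S.D.Y, (χ : G → ℂ) (S.t * S.ι S.D.u * S.ι y) = ∑ y : S.D.Y, (χ : G → ℂ) (S.t * S.ι y) := by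
    rw [← hSu, ← S.g_Y_sum L (fun z => (χ : G → ℂ) (S.t * S.ι S.D.u * z))]
    refine Finset.sum_congr rfl fun y _ => ?_
    rw [← L.gu, conj_mul, hconj]
  have hu : ((χ : G → ℂ) (S.ι S.D.u)).re = a + W * (2 * r - 1) := by rw [← L.gt, hconj, htr]
  have htu : ((χ : G → ℂ) (S.t * S.ι S.D.u)).re = a + W * (2 * r - 1) := by rw [← L.gu, hconj, hu]
  -- the values at the element of order three
  have hgv : (χ : G → ℂ) (S.ι L.d) = (χ : G → ℂ) L.g := by rw [L.gd, hconj]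
  have hzv : (χ : G → ℂ) (S.t * S.ι L.d) = (χ : G → ℂ) (L.g * (L.c * S.t * L.c⁻¹)) := by
    rw [L.gd, conj_mul, S.tc, hconj]
  have hz : ((χ : G → ℂ) (L.g * (L.c * S.t * L.c⁻¹))).re = a - W / 2 := by
    rw [← hzv]
    have hk : Odd (orderOf (S.ιE L.d)) := by rw [orderOf_injective _ S.ιE_inj, S.d_order L]; decide
    have h := S.value_v X hM A L hχ hk
    rw [ιE_coe, S.fp_ι, map_one, Units.val_one, one_mul, S.hat_ι, S.hat_ι] at h
    have hdeg : ∀ e : IrrCharacter P, (e : P → ℂ) 1 = ((S.D.q : ℂ) + S.D.δ) / 2 →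
        (e : P → ℂ) 1 = ((2 * S.D.r - 1 : ℕ) : ℂ) := fun e he => by
      have hq : (S.D.q : ℂ) = 4 * (S.D.r : ℂ) + S.D.δ := by exact_mod_cast congrArg (Int.cast : ℤ → ℂ) S.D.hq
      rw [he, hq, hδ, Nat.cast_sub (by have := S.D.r3; omega)]
      push_cast; ring
    have h1 := T.re_half hp hδ X.e1 (hdeg _ X.e1_one) (S.d_order L)
    have h2 := T.re_half hp hδ X.e2 (hdeg _ X.e2_one) (S.d_order L)
    rw [h]
    simp [LChars.four, LData.cc, hδ, Complex.add_re, Complex.mul_re, h1, h2, ha, hW]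
    ring
  -- the inequality
  have hineq := S.ineq_plus L T χ (S.d_order L)
  have hN : ((∑ y : S.D.Y, (((χ : G → ℂ) (S.ι y) + (χ : G → ℂ) (S.t * S.ι y)) / 2 +
      ((χ : G → ℂ) (S.ι (S.D.u * y)) + (χ : G → ℂ) (S.t * S.ι (S.D.u * y))) / 2)).re) / (2 * r) =
      (∑ x : S.tuY, (χ : G → ℂ) x).re / (4 * r) := by
    rw [S.sum_tuY (fun x => (χ : G → ℂ) x), Complex.re_sum, Complex.re_sum, Finset.sum_div, Finset.sum_div]
    refine Finset.sum_congr rfl fun y _ => ?_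
    rw [map_mul, ← mul_assoc]
    simp only [Complex.add_re, Complex.div_ofNat_re]
    field_simp
    ring
  have hA : ((∑ y : S.D.Y, ((χ : G → ℂ) (S.ι (S.D.u * y)) + (χ : G → ℂ) (S.t * S.ι (S.D.u * y))) / 2).re) / r =
      a + W := by
    simp only [map_mul, ← mul_assoc]
    rw [← Finset.sum_div, Finset.sum_add_distrib, hSu, hStu, Complex.div_ofNat_re, Complex.add_re, hSt]
    field_simp
    ring
  have hθu : (((χ : G → ℂ) (S.ι S.D.u) + (χ : G → ℂ) (S.t * S.ι S.D.u)) / 2).re = a + W * (2 * r - 1) := by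
    rw [Complex.div_ofNat_re, Complex.add_re, hu, htu]; ring
  simp only [hN, hA, hθu, ← hr] at hineq
  rw [Complex.div_ofNat_re, Complex.add_re, hgv, hzv, hz, map_one, mul_one, Complex.div_ofNat_re, Complex.add_re,
    htr, charDeg_spec', Complex.natCast_re, show a + W * (2 * r - 1) - (a + W) = W * (2 * r - 2) by ring, abs_mul,
    abs_of_nonneg (show (0 : ℝ) ≤ 2 * r - 2 by linarith)] at hineq
  have p1 := S.six_nonneg L hf χ 1 (Or.inl rfl)
  have p2 := S.six_nonneg L hf χ (-1) (Or.inr rfl)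
  rw [hz, htr, ← hr] at p1 p2
  set n0 : ℝ := (∑ x : S.tuY, (χ : G → ℂ) x).re / (4 * r)
  set gg : ℝ := ((χ : G → ℂ) L.g).re
  have habs : |3 * a + W * (2 * r - 2)| ≤ n0 + 2 * gg := by rw [abs_le]; constructor <;> linarith
  have h1 : (2 * r - 2) * |W| ≤ |3 * a + W * (2 * r - 2)| + 3 * |a| := by
    have := abs_add_le (3 * a + W * (2 * r - 2)) (-(3 * a))
    rw [show 3 * a + W * (2 * r - 2) + -(3 * a) = W * (2 * r - 2) by ring, abs_neg, abs_mul, abs_mul,
      abs_of_nonneg (show (0 : ℝ) ≤ 2 * r - 2 by linarith), abs_of_nonneg (show (0 : ℝ) ≤ 3 by norm_num)] at this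
    linarith
  have hlow : (2 * r - 3) * |W| - 5 * |a| ≤ n0 + 4 * ((gg + (a - W / 2)) / 2) := by
    linarith [le_abs_self W, neg_abs_le a]
  nlinarith [mul_le_mul_of_nonneg_left hlow (show (0 : ℝ) ≤ 2 * r by linarith),
    mul_le_mul_of_nonneg_left (le_abs_self a) (show (0 : ℝ) ≤ 10 * r - 3 by linarith),
    mul_le_mul_of_nonneg_left (le_abs_self W) (show (0 : ℝ) ≤ 10 * r - 3 by linarith),
    mul_le_mul_of_nonneg_left (le_abs_self W) (show (0 : ℝ) ≤ 2 * r - 1 by linarith),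
    le_abs_self a]

end Cfsg.Agent.Invol.JankoWard.ExtBase
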