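import Cfsg.Agent.Lib.Invol.JankoWard.ExtProj
import Cfsg.Agent.Lib.Invol.JankoWard.Count
import Cfsg.Agent.Lib.Invol.JankoWard.Swap

/-!
# The class multiplication formula against the projectives of the twisted blocks
-/

open scoped ComplexConjugate

set_option autoImplicit false
set_option linter.unusedSectionVars false
set_option linter.style.haveILetI false

open scoped Classical

namespace Cfsg.Agent.Invol.JankoWard

open Cfsg Cfsg.Agent.Char Cfsg.Agent.Block

universe u v

namespace LChars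

variable {P : Type v} [Group P] [Fintype P] {D : LData P} (X : LChars D)

/-- The exchange of the two halves. -/
def swapped : LChars D where
  St := X.St
  e1 := X.e2
  e2 := X.e1
  ne := X.ne.symm
  St_one := X.St_one
  e1_one := X.e2_one
  e2_one := X.e1_one
  St_Y := X.St_Y
  e1_Y := X.e2_Y
  e2_Y := X.e1_Y
  St_even := X.St_even
  e1_even := X.e2_even
  e2_even := X.e1_even
  relation := fun x hx => by rw [X.relation x hx, add_comm ((X.e1 : P → ℂ) x)]
  swap := by
    obtain ⟨σ, h, h1, h2⟩ := X.swap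
    exact ⟨σ, h, h2, h1⟩

theorem swapped_Phi (k : P) : X.swapped.Phi 1 k = X.Phi 2 k := by
  simp [Phi, coef, four, swapped, Fin.sum_univ_four]

theorem sum_Phi_two (hδ : D.δ = -1) :
    (D.r : ℂ) * ∑ k : P, X.Phi 2 k * (2 * (D.Inv k : ℂ) - if k = 1 then 2 else 0) =
      (Nat.card P : ℂ) * (3 * D.r - 1) := by
  simp only [← X.swapped_Phi]
  exact (X.swapped.sum_Phi hδ).2

end LChars

namespace ExtBase

variable {G : Type u} [Group G] [Fintype G] {P : Type v} [Group P] [Fintype P] (S : ExtBase G P)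

theorem t_ι (k k' : P) : S.ι k * (S.t * S.ι k') = S.t * S.ι (k * k') := by
  rw [map_mul, ← mul_assoc, S.tc k, mul_assoc]

theorem t_mul_ne (k k' : P) : S.t * S.ι k ≠ S.ι k' := fun h => S.ι_ne_tι' k' k h.symm

/-- An element of square one of the centraliser. -/
theorem exists_invol {a : G} (h : a * S.t = S.t * a) (h2 : a * a = 1) :
    ∃ (b : Bool) (i : P), a = (bif b then S.t else 1) * S.ι i := by
  obtain ⟨⟨b, x⟩, hx⟩ := S.pairMap_bijective.2 ⟨a, S.mem_C.2 h⟩
  have hxx : x * x = 1 := by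
    have h3 : S.pairMap (b, x) * S.pairMap (b, x) = S.pairMap (false, 1) := by
      rw [hx, S.pairMap_one]; exact Subtype.ext h2
    rw [S.pairMap_mul] at h3
    exact (Prod.mk.inj (S.pairMap_bijective.1 h3)).2
  obtain ⟨i, -, rfl⟩ := S.two_mem_ι hxx
  exact ⟨b, i, (congrArg Subtype.val hx).symm⟩

/-- The weight of a character in the product counts. -/
noncomputable def wt (χ : IrrCharacter G) : ℂ := (χ : G → ℂ) S.t ^ 2 / (χ : G → ℂ) 1

/-- `|C|² / |G|`. -/
noncomputable def kap : ℂ := (Nat.card S.C : ℂ) ^ 2 / (Nat.card G : ℂ)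

theorem sum_wt (x : G) :
    ∑ χ : IrrCharacter G, S.wt χ * conj ((χ : G → ℂ) x) = S.kap * (nPairs S.t x : ℂ) := by
  unfold wt kap
  rw [sum_sq_div]
  ring

variable (hone : ∀ x : G, orderOf x = 2 → IsConj S.t x)
include hone

theorem isConj_iff_invol (x : G) : IsConj S.t x ↔ x * x = 1 ∧ x ≠ 1 := by
  constructor
  · intro h
    obtain ⟨c, rfl⟩ := isConj_iff.1 h
    exact ⟨by rw [show c * S.t * c⁻¹ * (c * S.t * c⁻¹) = c * (S.t * S.t) * c⁻¹ by group, S.tt]; group,
      fun e => S.t_ne (by rwa [conj_eq_one_iff] at e)⟩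
  · rintro ⟨h1, h2⟩
    exact hone x (orderOf_eq_prime (by rw [pow_two]; exact h1) h2)

theorem nPairs_ι {k : P} (hk : Odd (orderOf k)) :
    (nPairs S.t (S.t * S.ι k) : ℂ) = 2 * (S.D.Inv k : ℂ) - if k = 1 then 2 else 0 := by
  have hkE : S.ιE k ^ S.EE = 1 := (S.pow_EE_iff _).2 (by rwa [orderOf_injective _ S.ιE_inj])
  set T := Finset.univ.filter fun i : P => i * i = 1 ∧ i * k * (i * k) = 1 with hT
  set Z : Finset (Bool × P) := (Finset.univ ×ˢ T).filter fun p => ¬ (k = 1 ∧ p.2 = 1) with hZ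
  have hsq : ∀ (b : Bool) (i : P), ((bif b then S.t else 1) * S.ι i) * ((bif b then S.t else 1) * S.ι i) =
      S.ι (i * i) := by
    intro b i
    cases b
    · simp
    · simp only [cond_true]; rw [mul_assoc, S.t_ι, ← mul_assoc, S.tt, one_mul]
  have hinv : ∀ (b : Bool) {i : P}, i * i = 1 → ((bif b then S.t else 1) * S.ι i)⁻¹ = (bif b then S.t else 1) * S.ι i :=
    fun b i hi => inv_eq_of_mul_eq_one_right (by rw [hsq, hi, map_one])
  have hprod : ∀ (b : Bool) (i : P), (bif b then S.t else 1) * S.ι i * (S.t * S.ι k) =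
      (bif !b then S.t else 1) * S.ι (i * k) := by
    intro b i
    cases b
    · simp only [cond_false, one_mul, Bool.not_false, cond_true]; exact S.t_ι i k
    · simp only [cond_true, Bool.not_true, cond_false, one_mul]
      rw [mul_assoc, S.t_ι, ← mul_assoc, S.tt, one_mul]
  have hcard : nPairs S.t (S.t * S.ι k) = Z.card := by
    refine (Finset.card_bij (fun p _ => (bif p.1 then S.t else 1) * S.ι p.2) ?_ ?_ ?_).symm
    · rintro ⟨b, i⟩ hp
      simp only [Z, T, Finset.mem_filter, Finset.mem_product, Finset.mem_univ, true_and] at hp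
      obtain ⟨⟨h1, h2⟩, h3⟩ := hp
      refine Finset.mem_filter.2 ⟨Finset.mem_univ _, (S.isConj_iff_invol hone _).2 ⟨by rw [hsq, h1, map_one], ?_⟩,
        (S.isConj_iff_invol hone _).2 ⟨?_, ?_⟩⟩
      · intro e
        cases b
        · simp only [cond_false, one_mul] at e
          have hi : i = 1 := S.inj (e.trans (map_one _).symm)
          subst hi
          simp only [one_mul] at h2
          exact h3 ⟨by
            have h4 : orderOf k ∣ 2 := orderOf_dvd_of_pow_eq_one (by rw [pow_two, h2])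
            exact orderOf_eq_one_iff.1 ((Nat.dvd_prime Nat.prime_two).1 h4 |>.resolve_right fun h5 => by
              rw [h5] at hk; exact absurd hk (by decide)), rfl⟩
        · exact S.t_mul_ne i 1 (e.trans (map_one _).symm)
      · rw [hinv b h1, hprod, hsq, h2, map_one]
      · rw [hinv b h1, hprod]
        intro e
        cases b
        · exact S.t_mul_ne (i * k) 1 (e.trans (map_one _).symm)
        · simp only [Bool.not_true, cond_false, one_mul] at e
          have hik : i * k = 1 := S.inj (e.trans (map_one _).symm)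
          have hki : k = i := by rw [← inv_eq_of_mul_eq_one_right hik, inv_eq_of_mul_eq_one_right h1]
          subst hki
          have h4 : orderOf k ∣ 2 := orderOf_dvd_of_pow_eq_one (by rw [pow_two, h1])
          have : k = 1 := orderOf_eq_one_iff.1 ((Nat.dvd_prime Nat.prime_two).1 h4 |>.resolve_right fun h5 => by
            rw [h5] at hk; exact absurd hk (by decide))
          exact h3 ⟨this, this⟩
    · rintro ⟨b, i⟩ _ ⟨b', i'⟩ _ h
      have h' : (b, S.ιE i) = (b', S.ιE i') := S.pairMap_bijective.1 (Subtype.ext h)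
      exact Prod.ext (Prod.mk.inj h').1 (S.ιE_inj (Prod.mk.inj h').2)
    · intro a ha
      obtain ⟨h1, h2⟩ := (Finset.mem_filter.1 ha).2
      obtain ⟨h1, h1'⟩ := (S.isConj_iff_invol hone _).1 h1
      obtain ⟨h2, h2'⟩ := (S.isConj_iff_invol hone _).1 h2
      have ha' : a⁻¹ = a := inv_eq_of_mul_eq_one_right h1
      rw [ha'] at h2 h2'
      have hxa : a * (S.t * S.ι k) * a⁻¹ = (S.t * S.ι k)⁻¹ := by
        rw [ha']
        exact eq_inv_of_mul_eq_one_left (by rw [mul_assoc _ a (S.t * S.ι k)]; exact h2)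
      have hat : a * S.t = S.t * a := by
        have h : (a * (S.t * (S.ιE k : G)) * a⁻¹) ^ S.EE = (S.t * (S.ιE k : G))⁻¹ ^ S.EE :=
          congrArg (· ^ S.EE) hxa
        rw [conj_pow, inv_pow, S.pow_EE_t hkE, S.t_inv] at h
        calc a * S.t = a * S.t * a⁻¹ * a := by group
          _ = S.t * a := by rw [h]
      obtain ⟨b, i, hae⟩ := S.exists_invol hat h1
      subst hae
      rw [hsq] at h1
      rw [hprod, hsq] at h2
      have h1 : i * i = 1 := S.inj (h1.trans (map_one _).symm)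
      have h2 : i * k * (i * k) = 1 := S.inj (h2.trans (map_one _).symm)
      refine ⟨(b, i), ?_, rfl⟩
      simp only [Z, T, Finset.mem_filter, Finset.mem_product, Finset.mem_univ, true_and]
      refine ⟨⟨h1, h2⟩, fun ⟨e1, e2⟩ => ?_⟩
      subst e1; subst e2
      cases b
      · exact h1' (by simp)
      · rw [hprod] at h2'; exact h2' (by simp)
  rw [hcard]
  have hI : S.D.Inv k = T.card := rfl
  by_cases hk1 : k = 1
  · subst hk1
    have hZ' : Z = (Finset.univ : Finset Bool) ×ˢ T.erase 1 := by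
      ext ⟨b, i⟩; simp [Z, and_comm]
    have h1T : (1 : P) ∈ T := by simp [T]
    rw [if_pos rfl, hZ', Finset.card_product, Finset.card_univ, Fintype.card_bool, hI,
      Finset.card_erase_of_mem h1T, Nat.cast_mul, Nat.cast_sub (Finset.card_pos.2 ⟨1, h1T⟩)]
    ring
  · have hZ' : Z = (Finset.univ : Finset Bool) ×ˢ T := by
      ext ⟨b, i⟩; simp [Z, hk1]
    rw [if_neg hk1, hZ', Finset.card_product, Finset.card_univ, Fintype.card_bool, hI, Nat.cast_mul]
    ring

/-- Off `P` there are no pairs. -/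
theorem nPairs_off {k : S.EG} (hk : Odd (orderOf k)) (hne : S.fp k ≠ 1) : nPairs S.t (S.t * (k : G)) = 0 := by
  rw [nPairs, Finset.card_eq_zero, Finset.filter_eq_empty_iff]
  rintro a - ⟨h1, h2⟩
  obtain ⟨h1, -⟩ := (S.isConj_iff_invol hone _).1 h1
  obtain ⟨h2, -⟩ := (S.isConj_iff_invol hone _).1 h2
  have ha' : a⁻¹ = a := inv_eq_of_mul_eq_one_right h1
  rw [ha'] at h2
  have hxa : a * (S.t * (k : G)) * a⁻¹ = (S.t * (k : G))⁻¹ := by
    rw [ha']
    exact eq_inv_of_mul_eq_one_left (by rw [mul_assoc _ a (S.t * (k : G))]; exact h2)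
  have hat : a * S.t = S.t * a := by
    have h : (a * (S.t * (k : G)) * a⁻¹) ^ S.EE = (S.t * (k : G))⁻¹ ^ S.EE := congrArg (· ^ S.EE) hxa
    rw [conj_pow, inv_pow, S.pow_EE_t ((S.pow_EE_iff k).2 hk), S.t_inv] at h
    calc a * S.t = a * S.t * a⁻¹ * a := by group
      _ = S.t * a := by rw [h]
  obtain ⟨b, i, rfl⟩ := S.exists_invol hat h1
  set p : S.C := S.pairMap (b, S.ιE i) * S.pairMap (true, k) with hp
  have hp2 : p * p = 1 := by
    refine Subtype.ext ?_
    simp only [hp, Subgroup.coe_mul, pairMap_coe, ιE_coe, cond_true, OneMemClass.coe_one]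
    exact h2
  rw [hp, S.pairMap_mul, S.pairMap_mul, ← S.pairMap_one] at hp2
  obtain ⟨l, -, hl⟩ := S.two_mem_ι (Prod.mk.inj (S.pairMap_bijective.1 hp2)).2
  have := congrArg S.fp hl
  rw [map_mul, S.fp_ι, S.fp_ι, one_mul] at this
  exact hne this

variable (X : LChars S.D) {M : Ideal AlgInt} (hM : IsPModular 2 M)
include hM

theorem sum_vE_wt (A : Amb G) (l : S.Fld →* ℂˣ) (i : Fin 3) :
    ∑ χ : IrrCharacter G, (S.vE X hM l i χ : ℂ) * S.wt χ =
      S.kap / (Nat.card S.EG : ℂ) * ∑ k : P, X.Phi i k * (2 * (S.D.Inv k : ℂ) - if k = 1 then 2 else 0) := by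
  set F : G → ℂ := fun x => conj (∑ χ : IrrCharacter G, S.wt χ * conj ((χ : G → ℂ) x)) with hF
  have hFc : IsClassFunction G F := fun a b => by
    simp only [F]
    congr 1
    exact Finset.sum_congr rfl fun χ _ => by rw [IsIrr.classFun χ.2 a b]
  have h1 : classInner (S.PsiE X hM l i) F = ∑ χ : IrrCharacter G, (S.vE X hM l i χ : ℂ) * S.wt χ := by
    simp only [← S.vE_spec X hM l i, classInner, F, Complex.conj_conj, Finset.mul_sum, Finset.sum_mul]
    rw [Finset.sum_comm]
    exact Finset.sum_congr rfl fun χ _ => Finset.sum_congr rfl fun g _ => by ring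
  rw [← h1, PsiE, S.classInner_Ind _ hFc, classInner, Finset.mul_sum, Finset.mul_sum]
  refine (Finset.sum_of_injOn (fun k => S.ιE k) (fun a _ b _ h => S.ιE_inj h)
    (fun k _ => Finset.mem_coe.2 (Finset.mem_univ _)) (fun x _ hx => ?_) fun k _ => ?_).symm
  · by_cases hk : S.PhiE X hM l i x = 0
    · rw [hk]; ring
    · have ho := (S.pow_EE_iff x).1 (S.PhiE_supp X hM A hk)
      have hne : S.fp x ≠ 1 := fun e => hx (by
        obtain ⟨k, hk⟩ := S.fp_eq_one e
        exact ⟨k, Finset.mem_coe.2 (Finset.mem_univ _), hk.symm⟩)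
      simp only [fS, F, Complex.conj_conj, S.sum_wt, S.nPairs_off hone ho hne]
      simp
  · simp only [fS, F, Complex.conj_conj, S.sum_wt, S.PhiE_ι, ιE_coe]
    by_cases hk : X.Phi i k = 0
    · rw [hk]; ring
    · rw [S.nPairs_ι hone (S.D.pow_E_iff.1 (X.Phi_supp hk))]; ring

theorem count_E (A : Amb G) (l : S.Fld →* ℂˣ) (hδ : S.D.δ = -1) :
    ∑ χ : IrrCharacter G, (S.vE X hM l 0 χ : ℂ) * S.wt χ = S.kap / (Nat.card S.Fld : ℂ) * (2 * S.D.m) ∧
    (S.D.r : ℂ) * ∑ χ : IrrCharacter G, (S.vE X hM l 1 χ : ℂ) * S.wt χ =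
      S.kap / (Nat.card S.Fld : ℂ) * (3 * S.D.r - 1) ∧
    (S.D.r : ℂ) * ∑ χ : IrrCharacter G, (S.vE X hM l 2 χ : ℂ) * S.wt χ =
      S.kap / (Nat.card S.Fld : ℂ) * (3 * S.D.r - 1) := by
  have hP : (Nat.card P : ℂ) ≠ 0 := Nat.cast_ne_zero.2 Nat.card_pos.ne'
  obtain ⟨h0, h1⟩ := X.sum_Phi hδ
  have hF : (Nat.card S.Fld : ℂ) ≠ 0 := Nat.cast_ne_zero.2 Nat.card_pos.ne'
  refine ⟨?_, ?_, ?_⟩
  · rw [S.sum_vE_wt hone X hM A, h0, S.card_EG, Nat.cast_mul]; field_simp
  · rw [S.sum_vE_wt hone X hM A, mul_left_comm, h1, S.card_EG, Nat.cast_mul]; field_simp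
  · rw [S.sum_vE_wt hone X hM A, mul_left_comm, X.sum_Phi_two hδ, S.card_EG, Nat.cast_mul]; field_simp

end ExtBase

end Cfsg.Agent.Invol.JankoWard
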