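import Cfsg.Agent.Lib.Invol.JankoWard.Proj
import Mathlib.Tactic.LinearCombination

/-!
# The three class functions of the section of `t` and the coordinates of the characters of the principal block

`Base.Psi X i` is induced from the projective `Phi i` on the coset of `t`; `Base.v` is its coordinate vector.
-/

open scoped ComplexConjugate

set_option autoImplicit false
set_option linter.unusedSectionVars false
set_option linter.style.haveILetI false

open scoped Classical

namespace Cfsg.Agent.Invol.JankoWard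

open Cfsg Cfsg.Agent.Char Cfsg.Agent.Block

universe u v

namespace LData

variable {P : Type v} [Group P] (D : LData P)

/-- `1` for `δ = 1` and `0` for `δ = -1`. -/
def cc : ℤ := if D.δ = 1 then 1 else 0

theorem two_cc : 2 * D.cc = 1 + D.δ := by rcases D.hδ with h | h <;> simp [cc, h]

theorem cc_sq : D.cc * D.cc = D.cc := by rcases D.hδ with h | h <;> simp [cc, h]

end LData

namespace LChars

variable {P : Type v} [Group P] [Fintype P] {D : LData P} (X : LChars D)
include X

/-- The coefficients of the three projectives. -/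
def coef (_X : LChars D) : Fin 3 → Fin 4 → ℤ := ![![1, 1, D.cc, D.cc], ![0, 1, 1, 0], ![0, 1, 0, 1]]

/-- The three projectives. -/
noncomputable def Phi (i : Fin 3) : P → ℂ := fun k => ∑ j, (X.coef i j : ℂ) * (X.four j : P → ℂ) k

theorem Phi_gen (i : Fin 3) : IsGeneralizedCharacter P (X.Phi i) := by
  have e : X.Phi i = ∑ j, fun k => (X.coef i j : ℂ) * (X.four j : P → ℂ) k := by
    funext k; simp [Phi]
  rw [e]
  exact IsGenChar.sum fun j _ => IsGenChar.zsmul (IsGenChar.of_isCharacter (IsIrr.isCharacter (X.four j).2)) _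

theorem Phi_even {i : Fin 3} {k : P} (h : 2 ∣ orderOf k) : X.Phi i k = 0 := by
  have hc : (2 : ℂ) * D.cc = 1 + D.δ := by exact_mod_cast congrArg (Int.cast : ℤ → ℂ) D.two_cc
  have hd : (D.δ : ℂ) * D.δ = 1 := by rcases D.hδ with e | e <;> simp [e]
  fin_cases i <;> simp [Phi, coef, four, Fin.sum_univ_four, trivialIrr, X.St_even k h, X.e1_even k h,
    X.e2_even k h]
  linear_combination (-(D.δ : ℂ)) * hc - hd

theorem Phi_supp {i : Fin 3} {k : P} (h : X.Phi i k ≠ 0) : k ^ D.E = 1 :=
  D.pow_E_iff.2 (Nat.not_even_iff_odd.1 fun he => h (X.Phi_even (even_iff_two_dvd.1 he)))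

theorem inner_four (i j : Fin 4) :
    classInner (X.four i : P → ℂ) (X.four j : P → ℂ) = if i = j then 1 else 0 := by
  rw [classInner_irr_eq_ite (X.four i).2 (X.four j).2]
  congr 1
  exact propext ⟨fun h => X.four_injective (Subtype.ext h), fun h => h ▸ rfl⟩

theorem inner_Phi_four (i : Fin 3) (j : Fin 4) : classInner (X.four j : P → ℂ) (X.Phi i) = X.coef i j := by
  have e : X.Phi i = ∑ l, (X.coef i l : ℂ) • (X.four l : P → ℂ) := by funext k; simp [Phi]
  rw [e, classInner_sum_right]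
  simp [classInner_smul_right, X.inner_four]

/-- The Gram matrix of the projectives. -/
theorem inner_Phi (i i' : Fin 3) :
    classInner (X.Phi i) (X.Phi i') = ((∑ j, X.coef i j * X.coef i' j : ℤ) : ℂ) := by
  have e : X.Phi i = ∑ l, (X.coef i l : ℂ) • (X.four l : P → ℂ) := by funext k; simp [Phi]
  rw [e, classInner_sum_left]
  simp [classInner_smul_left, X.inner_Phi_four]

theorem Phi_one : X.Phi 0 1 = 1 + D.q + D.cc * ((D.q : ℂ) + D.δ) ∧
    X.Phi 1 1 = D.q + ((D.q : ℂ) + D.δ) / 2 ∧ X.Phi 2 1 = D.q + ((D.q : ℂ) + D.δ) / 2 := by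
  refine ⟨?_, ?_, ?_⟩ <;>
    simp [Phi, coef, four, Fin.sum_univ_four, trivialIrr, X.St_one, X.e1_one, X.e2_one] <;> ring

theorem Phi_Y {y : P} (hy : y ∈ D.Y) (hy1 : y ≠ 1) : X.Phi 0 y = 1 + D.δ + 2 * D.cc * D.δ ∧
    X.Phi 1 y = 2 * D.δ ∧ X.Phi 2 y = 2 * D.δ := by
  refine ⟨?_, ?_, ?_⟩ <;>
    simp [Phi, coef, four, Fin.sum_univ_four, trivialIrr, X.St_Y y hy hy1, X.e1_Y y hy hy1, X.e2_Y y hy hy1] <;>
    ring

end LChars

namespace Base

variable {G : Type u} [Group G] [Fintype G] {P : Type v} [Group P] [Fintype P] (S : Base G P) (X : LChars S.D)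

/-- The three functions on `G`. -/
noncomputable def Psi (i : Fin 3) : G → ℂ := S.Ind (X.Phi i)

theorem exists_v (i : Fin 3) :
    ∃ a : IrrCharacter G → ℤ, ∀ χ : IrrCharacter G, classInner (S.Psi X i) (χ : G → ℂ) = a χ :=
  (IsGenChar.exists_decomp (S.Ind_gen (X.Phi_gen i))).imp fun _ h => h.1

/-- The coordinates. -/
noncomputable def v (i : Fin 3) : IrrCharacter G → ℤ := (S.exists_v X i).choose

theorem v_spec (i : Fin 3) (χ : IrrCharacter G) : classInner (S.Psi X i) (χ : G → ℂ) = S.v X i χ :=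
  (S.exists_v X i).choose_spec χ

theorem inner_Psi (i i' : Fin 3) :
    classInner (S.Psi X i) (S.Psi X i') = ((2 * ∑ j, X.coef i j * X.coef i' j : ℤ) : ℂ) := by
  rw [Psi, Psi, S.isometry (fun a => X.Phi_supp) (IsGenChar.classFun (X.Phi_gen i')) (fun a => X.Phi_supp),
    X.inner_Phi]
  push_cast; ring

theorem sum_v_mul (i i' : Fin 3) :
    ∑ χ : IrrCharacter G, S.v X i χ * S.v X i' χ = 2 * ∑ j, X.coef i j * X.coef i' j := by
  have h := S.inner_Psi X i i'
  rw [classFunction_expansion (IsGenChar.classFun (S.Ind_gen (X.Phi_gen i')) : IsClassFunction G (S.Psi X i')),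
    classInner_sum_right] at h
  simp only [classInner_smul_right, v_spec] at h
  have h2 : ((∑ χ : IrrCharacter G, S.v X i χ * S.v X i' χ : ℤ) : ℂ) =
      ((2 * ∑ j, X.coef i j * X.coef i' j : ℤ) : ℂ) := by
    rw [← h, Int.cast_sum]
    refine Finset.sum_congr rfl fun χ _ => ?_
    push_cast
    rw [map_intCast]
    ring
  exact_mod_cast h2

theorem sum_v_one (i : Fin 3) : ∑ χ : IrrCharacter G, (S.v X i χ : ℂ) * (χ : G → ℂ) 1 = 0 := by
  have h1 : S.Psi X i 1 = 0 :=
    S.Ind_odd (fun a => X.Phi_supp) (n := 1) odd_one (one_pow 1)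
  have h2 := congrFun (classFunction_expansion
    (IsGenChar.classFun (S.Ind_gen (X.Phi_gen i)) : IsClassFunction G (S.Psi X i))) 1
  rw [h1, Finset.sum_apply] at h2
  rw [h2]
  refine Finset.sum_congr rfl fun χ _ => ?_
  rw [Pi.smul_apply, smul_eq_mul]
  congr 1
  exact (S.v_spec X i χ).symm

/-- The coordinate as an inner product on `P`. -/
theorem v_eq (i : Fin 3) (χ : IrrCharacter G) : (S.v X i χ : ℂ) = classInner (S.fS (χ : G → ℂ)) (X.Phi i) := by
  rw [← classInner_conj_symm, ← S.classInner_Ind _ (IsIrr.classFun χ.2)]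
  rw [show classInner (S.Ind (X.Phi i)) (χ : G → ℂ) = (S.v X i χ : ℂ) from S.v_spec X i χ, map_intCast]

theorem trivial_v (i : Fin 3) : (S.v X i (trivialIrr G) : ℤ) = X.coef i 0 := by
  have h := S.v_eq X i (trivialIrr G)
  have e : S.fS ((trivialIrr G : IrrCharacter G) : G → ℂ) = (X.four 0 : P → ℂ) := rfl
  rw [e, X.inner_Phi_four] at h
  exact_mod_cast h

variable {M : Ideal AlgInt} (hM : IsPModular 2 M)
include hM

theorem v_eq_coef (i : Fin 3) (χ : IrrCharacter G) :
    classInner (fun k : P => if χ ∈ principalBlock M G then (χ : G → ℂ) (S.t * S.ι k) else 0) (X.Phi i) =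
      ∑ j, classInner (S.fS (χ : G → ℂ)) (X.four j : P → ℂ) * (X.coef i j : ℂ) := by
  have h : classInner (fun k : P => if χ ∈ principalBlock M G then (χ : G → ℂ) (S.t * S.ι k) else 0) (X.Phi i) =
      classInner (∑ j, classInner (S.fS (χ : G → ℂ)) (X.four j : P → ℂ) • (X.four j : P → ℂ)) (X.Phi i) := by
    simp only [classInner]
    congr 1
    refine Finset.sum_congr rfl fun k _ => ?_
    by_cases hk : Odd (orderOf k)
    · rw [← value_t X hM χ hk]; simp [classInner]
    · rw [X.Phi_even (even_iff_two_dvd.1 (Nat.not_odd_iff_even.1 hk))]; simp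
  rw [h, classInner_sum_left]
  simp [classInner_smul_left, X.inner_Phi_four]

theorem v_eq_zero (i : Fin 3) {χ : IrrCharacter G} (hχ : χ ∉ principalBlock M G) : S.v X i χ = 0 := by
  have h := S.v_eq_coef X hM i χ
  simp only [if_neg hχ] at h
  have h2 : classInner (S.fS (χ : G → ℂ)) (X.Phi i) =
      ∑ j, classInner (S.fS (χ : G → ℂ)) (X.four j : P → ℂ) * (X.coef i j : ℂ) := by
    conv_lhs => rw [show X.Phi i = ∑ l, (X.coef i l : ℂ) • (X.four l : P → ℂ) by funext k; simp [LChars.Phi]]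
    rw [classInner_sum_right]
    exact Finset.sum_congr rfl fun j _ => by rw [classInner_smul_right, map_intCast]; ring
  rw [← h2, ← v_eq, show (fun _ : P => (0 : ℂ)) = 0 from rfl, classInner_zero_left] at h
  exact_mod_cast h.symm

theorem mem_of_v {i : Fin 3} {χ : IrrCharacter G} (h : S.v X i χ ≠ 0) : χ ∈ principalBlock M G := by
  by_contra hno
  exact h (S.v_eq_zero X hM i hno)

/-- The values on the section of `t` of a character of the principal block. -/
theorem value_v {χ : IrrCharacter G} (hχ : χ ∈ principalBlock M G) {k : P} (hk : Odd (orderOf k)) :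
    (χ : G → ℂ) (S.t * S.ι k) = S.v X 0 χ + S.v X 1 χ * ((X.e1 : P → ℂ) k - S.D.cc) +
      S.v X 2 χ * ((X.e2 : P → ℂ) k - S.D.cc) := by
  have h := value_t X hM χ hk
  rw [if_pos hχ] at h
  have hc : ∀ i, (S.v X i χ : ℂ) = ∑ j, classInner (S.fS (χ : G → ℂ)) (X.four j : P → ℂ) * (X.coef i j : ℂ) := by
    intro i
    rw [S.v_eq X i χ]
    conv_lhs => rw [show X.Phi i = ∑ l, (X.coef i l : ℂ) • (X.four l : P → ℂ) by funext k; simp [LChars.Phi]]
    rw [classInner_sum_right]
    exact Finset.sum_congr rfl fun j _ => by rw [classInner_smul_right, map_intCast]; ring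
  rw [← h, hc, hc, hc]
  simp only [Fin.sum_univ_four]
  simp [LChars.coef, LChars.four, trivialIrr]
  have hrel := X.relation k (by rw [← even_iff_two_dvd, Nat.not_even_iff_odd]; exact hk)
  have h2 : (2 : ℂ) * S.D.cc = 1 + S.D.δ := by exact_mod_cast congrArg (Int.cast : ℤ → ℂ) S.D.two_cc
  rw [hrel]
  linear_combination classInner (S.fS (χ : G → ℂ)) (X.St : P → ℂ) * h2

theorem value_one {χ : IrrCharacter G} (hχ : χ ∈ principalBlock M G) :
    (χ : G → ℂ) S.t = S.v X 0 χ + ((S.v X 1 χ : ℂ) + S.v X 2 χ) * (((S.D.q : ℂ) - 1) / 2) := by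
  have h := S.value_v X hM hχ (k := 1) (by simp)
  rw [map_one, mul_one, X.e1_one, X.e2_one] at h
  have h2 : (2 : ℂ) * S.D.cc = 1 + S.D.δ := by exact_mod_cast congrArg (Int.cast : ℤ → ℂ) S.D.two_cc
  rw [h]
  linear_combination (-((S.v X 1 χ : ℂ) + S.v X 2 χ) / 2) * h2

theorem value_Y {χ : IrrCharacter G} (hχ : χ ∈ principalBlock M G) {y : P} (hy : y ∈ S.D.Y) (hy1 : y ≠ 1) :
    (χ : G → ℂ) (S.t * S.ι y) =
      ((S.v X 0 χ + (S.v X 1 χ + S.v X 2 χ) * (S.D.δ - S.D.cc) : ℤ) : ℂ) := by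
  rw [S.value_v X hM hχ (S.D.odd_Y hy), X.e1_Y y hy hy1, X.e2_Y y hy hy1]
  push_cast; ring

end Base

end Cfsg.Agent.Invol.JankoWard
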