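import Cfsg.Agent.Lib.Invol.JankoWard.ExtBasic
import Cfsg.Agent.Lib.Invol.JankoWard.Vals
import Cfsg.Agent.Lib.Char.Extend
import Cfsg.Agent.Lib.Char.ExtendMain
import Cfsg.Agent.Lib.Block.SectionRegular
import Cfsg.Agent.Lib.Block.KleinFour

/-!
# The principal 2-block of `P ⋊ Fld` and its twists by the characters of `Fld`

`hat i`: the extension of the `i`th character of the principal block of `P` that lies in the principal block;
`tw lam i`: its product with a linear character of the field part; `PhiE lam i`: the projectives.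
-/

open scoped ComplexConjugate

set_option autoImplicit false
set_option linter.unusedSectionVars false
set_option linter.style.haveILetI false

open scoped Classical

namespace Cfsg.Agent.Invol.JankoWard.ExtBase

open Cfsg Cfsg.Agent.Char Cfsg.Agent.Block

universe u v

variable {G : Type u} [Group G] [Fintype G] {P : Type v} [Group P] [Fintype P] (S : ExtBase G P)

/-- `P` as the kernel of the projection on the field part. -/
noncomputable def kerEquiv : P ≃* S.fp.ker :=
  MulEquiv.ofBijective (S.ιE.codRestrict S.fp.ker fun k => S.fp_ι k)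
    ⟨fun _ _ h => S.ιE_inj (congrArg Subtype.val h), fun m => by
      obtain ⟨k, hk⟩ := S.fp_eq_one m.2
      exact ⟨k, Subtype.ext hk.symm⟩⟩

theorem kerEquiv_coe (k : P) : ((S.kerEquiv k : S.fp.ker) : S.EG) = S.ιE k := rfl

/-- The action of `EG` on `P`. -/
noncomputable def aut : S.EG →* MulAut P :=
  MonoidHom.mk' (fun x => (S.kerEquiv.trans (MulAut.conjNormal x)).trans S.kerEquiv.symm) fun x y => by
    ext k
    simp [map_mul]

theorem aut_spec (x : S.EG) (k : P) : S.ιE (S.aut x k) = x * S.ιE k * x⁻¹ := by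
  rw [← S.kerEquiv_coe]
  simp [aut, MulAut.conjNormal_apply, kerEquiv_coe]

theorem aut_ι (l k : P) : S.aut (S.ιE l) k = l * k * l⁻¹ :=
  S.ιE_inj (by rw [S.aut_spec, map_mul, map_mul, map_inv])

variable (X : LChars S.D)

theorem four_reg {M : Ideal AlgInt} (hM : IsPModular 2 M) (i : Fin 4) :
    PrinCol.regTot 2 (X.four i : P → ℂ) ≠ 0 := by
  haveI : Fact (Nat.Prime 2) := ⟨Nat.prime_two⟩
  exact (PrinCol.mem_principal_iff hM _).1 ((X.principal_P hM _).2 ⟨i, rfl⟩)

theorem regTot_equiv (σ : P ≃* P) (f : P → ℂ) : PrinCol.regTot 2 (fun k => f (σ k)) = PrinCol.regTot 2 f := by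
  refine Finset.sum_equiv σ.toEquiv (fun k => ?_) fun k _ => rfl
  simp [MulEquiv.orderOf_eq]

variable {M : Ideal AlgInt} (hM : IsPModular 2 M)
include hM

theorem exists_four_comp (x : S.EG) (i : Fin 4) :
    ∃ j, ∀ k, (X.four i : P → ℂ) (S.aut x k) = (X.four j : P → ℂ) k := by
  haveI : Fact (Nat.Prime 2) := ⟨Nat.prime_two⟩
  have hχ : IsIrrCharacter P fun k => (X.four i : P → ℂ) (S.aut x k) :=
    IsIrr.comp_mulEquiv (S.aut x) (X.four i).2
  obtain ⟨j, hj⟩ := (X.principal_P hM ⟨_, hχ⟩).1 ((PrinCol.mem_principal_iff hM _).2 (by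
    show PrinCol.regTot 2 (fun k => (X.four i : P → ℂ) (S.aut x k)) ≠ 0
    rw [regTot_equiv]; exact four_reg S X hM i))
  exact ⟨j, fun k => congrFun (congrArg Subtype.val hj) k⟩

/-- The four characters are invariant under the field part. -/
theorem four_F {a : S.EG} (ha : Odd (orderOf a)) (i : Fin 4) (k : P) :
    (X.four i : P → ℂ) (S.aut a k) = (X.four i : P → ℂ) k := by
  obtain ⟨j, hj⟩ := S.exists_four_comp X hM a i
  suffices h : i = j by rw [hj, h]
  have h1 := hj 1
  rw [map_one] at h1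
  have hq := S.D.q_ge
  have hdeg : ∀ n : Fin 4, (X.four n : P → ℂ) 1 =
      (![1, (S.D.q : ℂ), ((S.D.q : ℂ) + S.D.δ) / 2, ((S.D.q : ℂ) + S.D.δ) / 2] n) := fun n => by
    fin_cases n <;> simp [LChars.four, trivialIrr, X.St_one, X.e1_one, X.e2_one]
  have c1 : ((S.D.q : ℂ) + S.D.δ) / 2 ≠ 1 := fun e => by
    have : ((S.D.q : ℤ) : ℂ) + (S.D.δ : ℂ) = ((2 : ℤ) : ℂ) := by
      rw [div_eq_iff two_ne_zero] at e; push_cast; rw [e]; ring
    have h' : (S.D.q : ℤ) + S.D.δ = 2 := by exact_mod_cast this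
    rcases S.D.hδ with d | d <;> omega
  have c2 : ((S.D.q : ℂ) + S.D.δ) / 2 ≠ (S.D.q : ℂ) := fun e => by
    have : ((S.D.q : ℤ) : ℂ) + (S.D.δ : ℂ) = 2 * ((S.D.q : ℤ) : ℂ) := by
      rw [div_eq_iff two_ne_zero] at e; push_cast; rw [e]; ring
    have h' : (S.D.q : ℤ) + S.D.δ = 2 * (S.D.q : ℤ) := by exact_mod_cast this
    rcases S.D.hδ with d | d <;> omega
  have c3 : (S.D.q : ℂ) ≠ 1 := fun e => by
    have : (S.D.q : ℕ) = 1 := by exact_mod_cast e
    omega
  by_cases h23 : (i = 2 ∧ j = 3) ∨ (i = 3 ∧ j = 2)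
  · exfalso
    have hsw : ∃ i j : Fin 4, i ≠ j ∧ (∀ l, (X.four i : P → ℂ) (S.aut a l) = (X.four j : P → ℂ) l) ∧
        ∀ l, (X.four j : P → ℂ) (S.aut a l) = (X.four i : P → ℂ) l := by
      obtain ⟨n, hn⟩ := S.exists_four_comp X hM a j
      refine ⟨i, j, by rcases h23 with ⟨rfl, rfl⟩ | ⟨rfl, rfl⟩ <;> decide, hj, ?_⟩
      suffices hni : n = i by subst hni; exact hn
      have h2 := hn 1
      rw [map_one, hdeg, hdeg] at h2
      have hne : n ≠ j := fun e => by
        subst e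
        have : X.four i = X.four n := Subtype.ext (funext fun l => by
          have := hj ((S.aut a).symm l)
          rw [MulEquiv.apply_symm_apply] at this
          rw [this, ← hn, MulEquiv.apply_symm_apply])
        have := X.four_injective this
        rcases h23 with ⟨rfl, rfl⟩ | ⟨rfl, rfl⟩ <;> exact absurd this (by decide)
      rcases h23 with ⟨rfl, rfl⟩ | ⟨rfl, rfl⟩ <;> fin_cases n <;>
        first
          | rfl
          | exact absurd rfl hne
          | exact absurd (by simpa using h2) c1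
          | exact absurd (by simpa using h2) c2
    obtain ⟨i, j, hne, hij, hji⟩ := hsw
    have hpow : ∀ n : ℕ, ∀ l, (X.four i : P → ℂ) (S.aut (a ^ n) l) =
        if Odd n then (X.four j : P → ℂ) l else (X.four i : P → ℂ) l := by
      intro n
      induction n with
      | zero => intro l; simp
      | succ n ih =>
        intro l
        rw [pow_succ, map_mul, MulAut.mul_apply, ih]
        by_cases hn : Odd n
        · rw [if_pos hn, if_neg (by simpa [Nat.odd_add_one] using hn), hji]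
        · rw [if_neg hn, if_pos (by simpa [Nat.odd_add_one] using hn), hij]
    refine hne (X.four_injective (Subtype.ext (funext fun l => ?_)))
    have := hpow (orderOf a) l
    rw [pow_orderOf_eq_one, if_pos ha, map_one] at this
    simpa using this
  · rw [hdeg, hdeg] at h1
    fin_cases i <;> fin_cases j <;> simp_all [c1, c2, c3, c1.symm, c2.symm, c3.symm]

theorem four_conj (x : S.EG) (i : Fin 4) (k : P) :
    (X.four i : P → ℂ) (S.aut x k) = (X.four i : P → ℂ) k := by
  obtain ⟨l, a, ha, e⟩ := x.2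
  have hx : x = S.ιE l * ⟨a, S.F_EG ha⟩ := Subtype.ext e
  rw [hx, map_mul, MulAut.mul_apply, S.aut_ι, IsIrr.classFun (X.four i).2]
  refine S.four_F X hM ?_ i k
  rw [← Subgroup.orderOf_coe]
  exact S.F_odd.of_dvd_nat (Subgroup.orderOf_dvd_natCard _ ha)

omit hM in
theorem linear_expansion {f : S.Fld → ℂ} (h : ∀ l : S.Fld →* ℂˣ, ∑ a, f a * (l a : ℂ) = 0) (a : S.Fld) :
    f a = 0 := by
  have hc : ∀ a b : S.Fld, a * b = b * a := by
    haveI := S.F_cyclic
    exact mul_comm'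
  have hf : IsClassFunction S.Fld f := fun a b => by rw [hc b a, mul_inv_cancel_right]
  rw [classFunction_expansion hf, Finset.sum_apply]
  refine Finset.sum_eq_zero fun χ _ => ?_
  obtain ⟨l, hl⟩ := linearHom_of_isCharacter (IsIrr.isCharacter χ.2) (IsIrr.one_of_comm hc χ.2)
  have h0 : classInner f (χ : S.Fld → ℂ) = 0 := by
    simp only [classInner]
    rw [Finset.sum_congr rfl (g := fun a => f a * ((l⁻¹ : S.Fld →* ℂˣ) a : ℂ)) (fun a _ => by
      congr 1
      rw [show (χ : S.Fld → ℂ) a = (l a : ℂ) from congrFun hl a, ← IsIrr.apply_inv (isIrr_linear l) a]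
      simp), h, mul_zero]
  rw [Pi.smul_apply, h0, zero_smul]

/-- The extension in the principal block. -/
theorem exists_hat (i : Fin 4) : ∃ ξ : IrrCharacter S.EG, ξ ∈ principalBlock M S.EG ∧
    ∀ k, (ξ : S.EG → ℂ) (S.ιE k) = (X.four i : P → ℂ) k := by
  haveI : Fact (Nat.Prime 2) := ⟨Nat.prime_two⟩
  set θ : S.fp.ker → ℂ := fun m => (X.four i : P → ℂ) (S.kerEquiv.symm m) with hθ
  have hθi : IsIrrCharacter S.fp.ker θ := IsIrr.comp_mulEquiv S.kerEquiv.symm (X.four i).2
  obtain ⟨n, ρ, hρ, hρe, -, -⟩ := IsIrr.exists_rep hθi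
  haveI := hρ
  have hinv : ∀ (g : S.EG) (m : S.fp.ker), ρ.character (conjEquivN S.fp.ker g m) = ρ.character m := by
    intro g m
    rw [hρe]
    have h1 : (X.four i : P → ℂ) (S.aut g (S.kerEquiv.symm m)) = θ m := S.four_conj X hM g i _
    rw [← h1]
    simp only [θ]
    refine congrArg _ (S.ιE_inj ?_)
    rw [S.aut_spec, ← S.kerEquiv_coe, ← S.kerEquiv_coe, MulEquiv.apply_symm_apply, MulEquiv.apply_symm_apply,
      conjEquivN_apply]
  have hcyc : IsCyclic (S.EG ⧸ S.fp.ker) := by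
    haveI := S.F_cyclic
    exact isCyclic_of_injective (QuotientGroup.kerLift S.fp) (QuotientGroup.kerLift_injective _)
  obtain ⟨η, hη, hres⟩ := Ext.exists_extension S.fp.ker ρ hinv (Ext.cyclic_mem S.fp.ker ρ hinv hcyc)
  have hres' : ∀ k, η (S.ιE k) = (X.four i : P → ℂ) k := fun k => by
    rw [← S.kerEquiv_coe, hres, hρe]; simp [θ]
  by_contra hno
  push Not at hno
  have hl : ∀ l : S.Fld →* ℂˣ, PrinCol.regTot 2 (fun x => (S.lamE l x : ℂ) * η x) = 0 := by
    intro l
    by_contra h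
    obtain ⟨k, hk⟩ := hno ⟨_, IsIrr.mul_linear hη (S.lamE l)⟩ ((PrinCol.mem_principal_iff hM _).2 h)
    exact hk (by
      show (S.lamE l (S.ιE k) : ℂ) * η (S.ιE k) = _
      simp [lamE, S.fp_ι, hres'])
  set T := Finset.univ.filter fun x : S.EG => ¬ 2 ∣ orderOf x
  have hf := S.linear_expansion (f := fun a => ∑ x ∈ T.filter (fun x => S.fp x = a), η x) (fun l => by
    rw [← hl l, PrinCol.regTot, ← Finset.sum_fiberwise_of_maps_to (g := S.fp) (t := Finset.univ)
      (fun x _ => Finset.mem_univ _)]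
    refine Finset.sum_congr rfl fun a _ => ?_
    rw [Finset.sum_mul]
    refine Finset.sum_congr rfl fun x hx => ?_
    simp only [lamE, MonoidHom.coe_comp, Function.comp_apply, (Finset.mem_filter.1 hx).2]
    ring) 1
  refine four_reg S X hM i (Eq.trans ?_ hf)
  refine Finset.sum_bij (fun k _ => S.ιE k) (fun k hk => ?_) (fun a _ b _ h => S.ιE_inj h) (fun x hx => ?_)
    fun k _ => (hres' k).symm
  · simp only [T, Finset.mem_filter, Finset.mem_univ, true_and] at hk ⊢
    exact ⟨by rwa [orderOf_injective _ S.ιE_inj], S.fp_ι k⟩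
  · simp only [T, Finset.mem_filter, Finset.mem_univ, true_and] at hx
    obtain ⟨k, rfl⟩ := S.fp_eq_one hx.2
    exact ⟨k, by simpa [orderOf_injective _ S.ιE_inj] using hx.1, rfl⟩

/-- The extension of the `i`th character. -/
noncomputable def hat (i : Fin 4) : IrrCharacter S.EG := (S.exists_hat X hM i).choose

theorem hat_mem (i : Fin 4) : S.hat X hM i ∈ principalBlock M S.EG := (S.exists_hat X hM i).choose_spec.1

theorem hat_ι (i : Fin 4) (k : P) : (S.hat X hM i : S.EG → ℂ) (S.ιE k) = (X.four i : P → ℂ) k :=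
  (S.exists_hat X hM i).choose_spec.2 k

theorem hat_injective : Function.Injective (S.hat X hM) := fun i j h =>
  X.four_injective (Subtype.ext (funext fun k => by rw [← S.hat_ι X hM, h, S.hat_ι]))

omit hM in
theorem EG_one_class (x : S.EG) (hx : orderOf x = 2) : IsConj (S.ιE S.D.u) x := by
  obtain ⟨k, hk, rfl⟩ := S.two_mem_ι (x := x) (by rw [← pow_two, orderOf_dvd_iff_pow_eq_one.1 (dvd_of_eq hx)])
  exact S.ιE.map_isConj (S.D.one_class k hk fun e => by simp [e] at hx)

omit hM in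
theorem exists_klein_EG (X : LChars S.D) : ∃ W : Sylow 2 S.EG, IsKleinFour (W : Subgroup S.EG) := by
  haveI : Fact (Nat.Prime 2) := ⟨Nat.prime_two⟩
  obtain ⟨Q, hQ⟩ := X.exists_klein
  set V := (Q : Subgroup P).map S.ιE
  have h4 : Nat.card V = 4 := by
    rw [Nat.card_congr (Subgroup.equivMapOfInjective _ _ S.ιE_inj).symm.toEquiv, hQ.card_four]
  have hidx : ¬ 2 ∣ V.index := by
    have h := V.card_mul_index
    rw [h4, S.card_EG'] at h
    rw [show V.index = S.EE by omega, ← even_iff_two_dvd, Nat.not_even_iff_odd]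
    exact S.EE_odd
  have hp : IsPGroup 2 V := IsPGroup.of_card (n := 2) (by rw [h4]; rfl)
  refine ⟨hp.toSylow hidx, h4, ?_⟩
  rw [show Monoid.exponent ↥((hp.toSylow hidx : Sylow 2 S.EG) : Subgroup S.EG) = Monoid.exponent V from rfl,
    ← Monoid.exponent_eq_of_mulEquiv (Subgroup.equivMapOfInjective _ _ S.ιE_inj), hQ.exponent_two]

theorem principal_EG (ξ : IrrCharacter S.EG) : ξ ∈ principalBlock M S.EG ↔ ∃ i, ξ = S.hat X hM i := by
  haveI : Fact (Nat.Prime 2) := ⟨Nat.prime_two⟩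
  obtain ⟨W, hW⟩ := S.exists_klein_EG X
  obtain ⟨a, b, c, -, -, -, -, -, -, -, hB, -⟩ := klein_principal hM W hW
    fun s t hs ht => (S.EG_one_class s hs).symm.trans (S.EG_one_class t ht)
  refine ⟨fun hψ => ?_, fun ⟨i, e⟩ => e ▸ S.hat_mem X hM i⟩
  by_contra hno
  push Not at hno
  let T : Finset (IrrCharacter S.EG) := {trivialIrr S.EG, a, b, c}
  have hsub : insert ξ (Finset.univ.image (S.hat X hM)) ⊆ T := by
    intro x hx
    have hx' : x ∈ principalBlock M S.EG := by
      rcases Finset.mem_insert.1 hx with rfl | hx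
      · exact hψ
      · obtain ⟨i, -, rfl⟩ := Finset.mem_image.1 hx
        exact S.hat_mem X hM i
    rw [hB] at hx'
    rcases hx' with h | rfl | rfl | rfl
    · exact Finset.mem_insert.2 (Or.inl (Subtype.ext h))
    all_goals simp [T]
  have h5 := Finset.card_le_card hsub
  rw [Finset.card_insert_of_notMem (fun h => by
    obtain ⟨i, -, e⟩ := Finset.mem_image.1 h
    exact hno i e.symm), Finset.card_image_of_injective _ (S.hat_injective X hM), Finset.card_univ,
    Fintype.card_fin] at h5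
  have h4 : T.card ≤ 4 := Finset.card_le_four
  omega

theorem hat_zero : S.hat X hM 0 = trivialIrr S.EG := by
  obtain ⟨i, hi⟩ := (S.principal_EG X hM _).1 (trivial_mem_principalBlock hM)
  have : i = 0 := X.four_injective (Subtype.ext (funext fun k => by
    rw [← S.hat_ι X hM, ← hi]; rfl))
  rw [hi, this]

theorem hat_uk (i : Fin 4) {k : S.EG} (hk : k * S.ιE S.D.u = S.ιE S.D.u * k) (ho : Odd (orderOf k)) :
    (S.hat X hM i : S.EG → ℂ) (S.ιE S.D.u * k) = (X.four i : P → ℂ) S.D.u := by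
  haveI : Fact (Nat.Prime 2) := ⟨Nat.prime_two⟩
  set u := S.ιE S.D.u
  have hu2 : orderOf u = 2 := by rw [orderOf_injective _ S.ιE_inj, S.D.orderOf_u]
  obtain ⟨W, hW, hWc⟩ : ∃ W : Sylow 2 S.EG, IsKleinFour (W : Subgroup S.EG) ∧ u ∈ (W : Subgroup S.EG) := by
    obtain ⟨W₀, hW₀⟩ := S.exists_klein_EG X
    have hp : IsPGroup 2 (Subgroup.zpowers u) :=
      IsPGroup.of_card (n := 1) (by rw [Nat.card_zpowers, hu2, pow_one])
    obtain ⟨W, hW⟩ := hp.exists_le_sylow
    refine ⟨W, ⟨?_, ?_⟩, hW (Subgroup.mem_zpowers u)⟩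
    · rw [Nat.card_congr (Sylow.equiv W W₀).toEquiv, hW₀.card_four]
    · rw [Monoid.exponent_eq_of_mulEquiv (Sylow.equiv W W₀), hW₀.exponent_two]
  haveI := hW
  obtain ⟨K, hKn, hK, hidx⟩ := klein_centralizer_complement W hW hWc (fun e => by simp [e] at hu2)
  haveI := hKn
  set kc : Subgroup.centralizer ({u} : Set S.EG) := ⟨k, Subgroup.mem_centralizer_singleton_iff.2 hk⟩
  have hkK : kc ∈ K := by
    have h1 : (QuotientGroup.mk' K kc) ^ orderOf k = 1 := by
      rw [← map_pow, show kc ^ orderOf k = 1 from Subtype.ext (pow_orderOf_eq_one k), map_one]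
    have h2 : orderOf (QuotientGroup.mk' K kc) ∣ K.index := orderOf_dvd_natCard _
    have h3 := orderOf_dvd_of_pow_eq_one h1
    rw [hidx] at h2
    have h4 : orderOf (QuotientGroup.mk' K kc) = 1 := Nat.eq_one_of_dvd_coprimes
      (((Nat.prime_two.coprime_iff_not_dvd.2 (by
        rw [← even_iff_two_dvd, Nat.not_even_iff_odd]; exact ho)).pow_left 2)) h2 h3
    exact (QuotientGroup.eq_one_iff kc).1 (orderOf_eq_one_iff.1 h4)
  have hk2 : ¬ 2 ∣ orderOf kc := by
    rw [← Subgroup.orderOf_coe, ← even_iff_two_dvd, Nat.not_even_iff_odd]; exact ho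
  have h := section_mul_const hM (x := u) ⟨1, by rw [hu2, pow_one]⟩ (K := K) hK (S.hat_mem X hM i)
    (v := 1) (l := kc) (by simp) (by rwa [one_mul]) hkK
  rw [one_mul] at h
  rw [show u * k = u * (kc : S.EG) from rfl, h]
  simp [u, S.hat_ι]

/-- The twist by a linear character of the field part. -/
noncomputable def tw (l : S.Fld →* ℂˣ) (i : Fin 4) : IrrCharacter S.EG :=
  ⟨fun x => (S.lamE l x : ℂ) * (S.hat X hM i : S.EG → ℂ) x, IsIrr.mul_linear (S.hat X hM i).2 _⟩

theorem tw_apply (l : S.Fld →* ℂˣ) (i : Fin 4) (x : S.EG) :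
    (S.tw X hM l i : S.EG → ℂ) x = (l (S.fp x) : ℂ) * (S.hat X hM i : S.EG → ℂ) x := rfl

theorem tw_ι (l : S.Fld →* ℂˣ) (i : Fin 4) (k : P) :
    (S.tw X hM l i : S.EG → ℂ) (S.ιE k) = (X.four i : P → ℂ) k := by
  rw [tw_apply, S.fp_ι, map_one, Units.val_one, one_mul, S.hat_ι]

theorem four_u (i : Fin 4) : (X.four i : P → ℂ) S.D.u ≠ 0 := by
  have hu : 2 ∣ orderOf S.D.u := by rw [S.D.orderOf_u]
  rcases S.D.hδ with h | h <;> fin_cases i <;>
    simp [LChars.four, trivialIrr, X.St_even _ hu, X.e1_even _ hu, X.e2_even _ hu, h]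

theorem tw_injective {l l' : S.Fld →* ℂˣ} {i i' : Fin 4} (h : S.tw X hM l i = S.tw X hM l' i') :
    l = l' ∧ i = i' := by
  have hi : i = i' := X.four_injective (Subtype.ext (funext fun k => by
    rw [← S.tw_ι X hM l, h, S.tw_ι]))
  subst hi
  refine ⟨MonoidHom.ext fun a => Units.ext ?_, rfl⟩
  have hc : (⟨(a : G), S.F_EG a.2⟩ : S.EG) * S.ιE S.D.u = S.ιE S.D.u * ⟨(a : G), S.F_EG a.2⟩ :=
    Subtype.ext (S.Fu a a.2)
  have ho : Odd (orderOf (⟨(a : G), S.F_EG a.2⟩ : S.EG)) := by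
    rw [← Subgroup.orderOf_coe]
    exact S.F_odd.of_dvd_nat (Subgroup.orderOf_dvd_natCard _ a.2)
  have h1 := congrFun (congrArg Subtype.val h) (S.ιE S.D.u * ⟨(a : G), S.F_EG a.2⟩)
  rw [S.tw_apply, S.tw_apply, S.hat_uk X hM i hc ho, map_mul, S.fp_ι, one_mul, S.fp_F a.2] at h1
  exact mul_right_cancel₀ (S.four_u X hM i) h1

theorem inner_tw (l l' : S.Fld →* ℂˣ) (i i' : Fin 4) :
    classInner (S.tw X hM l i : S.EG → ℂ) (S.tw X hM l' i' : S.EG → ℂ) = if l = l' ∧ i = i' then 1 else 0 := by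
  rw [classInner_irr_eq_ite (S.tw X hM l i).2 (S.tw X hM l' i').2]
  congr 1
  exact propext ⟨fun h => S.tw_injective X hM (Subtype.ext h), fun ⟨h, h'⟩ => by rw [h, h']⟩

/-- The projectives of the twisted block. -/
noncomputable def PhiE (l : S.Fld →* ℂˣ) (i : Fin 3) : S.EG → ℂ :=
  fun x => ∑ j, (X.coef i j : ℂ) * (S.tw X hM l j : S.EG → ℂ) x

theorem PhiE_eq (l : S.Fld →* ℂˣ) (i : Fin 3) :
    S.PhiE X hM l i = ∑ j, (X.coef i j : ℂ) • (S.tw X hM l j : S.EG → ℂ) := by
  funext x; simp [PhiE]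

theorem PhiE_gen (l : S.Fld →* ℂˣ) (i : Fin 3) : IsGeneralizedCharacter S.EG (S.PhiE X hM l i) := by
  have e : S.PhiE X hM l i = ∑ j, fun x => (X.coef i j : ℂ) * (S.tw X hM l j : S.EG → ℂ) x := by
    funext x; simp [PhiE]
  rw [e]
  exact IsGenChar.sum fun j _ =>
    IsGenChar.zsmul (IsGenChar.of_isCharacter (IsIrr.isCharacter (S.tw X hM l j).2)) _

theorem PhiE_ι (l : S.Fld →* ℂˣ) (i : Fin 3) (k : P) : S.PhiE X hM l i (S.ιE k) = X.Phi i k := by
  simp [PhiE, LChars.Phi, S.tw_ι]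

theorem PhiE_even (A : Amb G) {l : S.Fld →* ℂˣ} {i : Fin 3} {x : S.EG} (hx : 2 ∣ orderOf x) :
    S.PhiE X hM l i x = 0 := by
  obtain ⟨c, k, hk, ho, e⟩ := S.exists_conj_u A hx
  rw [← IsGenChar.classFun (S.PhiE_gen X hM l i) x c, e]
  have h0 : X.Phi i S.D.u = 0 := X.Phi_even (by rw [S.D.orderOf_u])
  simp only [LChars.Phi] at h0
  simp only [PhiE, S.tw_apply, S.hat_uk X hM _ hk ho]
  rw [Finset.sum_congr rfl (g := fun j => (l (S.fp (S.ιE S.D.u * k)) : ℂ) *
    ((X.coef i j : ℂ) * (X.four j : P → ℂ) S.D.u)) (fun j _ => by ring), ← Finset.mul_sum, h0, mul_zero]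

theorem PhiE_supp (A : Amb G) {l : S.Fld →* ℂˣ} {i : Fin 3} {x : S.EG} (h : S.PhiE X hM l i x ≠ 0) :
    x ^ S.EE = 1 :=
  (S.pow_EE_iff x).2 (Nat.not_even_iff_odd.1 fun he => h (S.PhiE_even X hM A (even_iff_two_dvd.1 he)))

theorem inner_PhiE_tw (l l' : S.Fld →* ℂˣ) (i : Fin 3) (j : Fin 4) :
    classInner (S.tw X hM l' j : S.EG → ℂ) (S.PhiE X hM l i) = if l' = l then (X.coef i j : ℂ) else 0 := by
  rw [PhiE_eq, classInner_sum_right]
  by_cases h : l' = l <;> simp [classInner_smul_right, S.inner_tw, h]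

/-- The Gram matrix. -/
theorem inner_PhiE (l l' : S.Fld →* ℂˣ) (i i' : Fin 3) :
    classInner (S.PhiE X hM l i) (S.PhiE X hM l' i') =
      if l = l' then ((∑ j, X.coef i j * X.coef i' j : ℤ) : ℂ) else 0 := by
  rw [S.PhiE_eq X hM l i, classInner_sum_left]
  by_cases h : l = l' <;> simp [classInner_smul_left, S.inner_PhiE_tw, h]

end Cfsg.Agent.Invol.JankoWard.ExtBase
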