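import Cfsg.Agent.Lib.Invol.JankoWard.ExtBasic
import Cfsg.Agent.Lib.Invol.JankoWard.Torus

/-!
# The subgroup `(⟨u⟩ × Y) ⋊ F₁` of `P ⋊ Fld`
-/

set_option autoImplicit false
set_option linter.unusedSectionVars false
set_option linter.style.haveILetI false

open scoped Classical

namespace Cfsg.Agent.Invol.JankoWard.ExtBase

open Subgroup

universe u v

variable {G : Type u} [Group G] {P : Type v} [Group P] (S : ExtBase G P)

/-- An element of the field part normalises the torus and its subgroup `Y`. -/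
theorem F_T {a : G} (ha : a ∈ S.Fld) {k : P} (hk : k ∈ S.D.T) :
    ∃ k' : S.D.T, a * S.ι k * a⁻¹ = S.ι k' ∧ ((k' : P) ∈ S.D.Y ↔ k ∈ S.D.Y) := by
  rcases S.D.T_Y hk with ⟨h, -⟩ | ⟨h, hn⟩
  · obtain ⟨y', hy', e⟩ := S.F_Y ha h
    exact ⟨⟨y', Or.inl hy'⟩, e, iff_of_true hy' h⟩
  · obtain ⟨y', hy', e⟩ := S.F_Y ha h
    refine ⟨⟨S.D.u * y', Or.inr (by rwa [S.D.uu_cancel])⟩, ?_, iff_of_false (fun h' => ?_) hn⟩
    · conv_lhs => rw [← S.D.uu_cancel k]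
      rw [map_mul S.ι S.D.u, map_mul S.ι S.D.u y', ← e, ← mul_assoc a, S.Fu a ha]
      group
    · exact S.D.u_not_Y (by
        have := mul_mem h' (inv_mem hy')
        rwa [mul_inv_cancel_right] at this)

variable (F₁ : Subgroup S.Fld)

/-- `(⟨u⟩ × Y) ⋊ F₁`. -/
def HE : Subgroup S.EG where
  carrier := {x | ∃ k ∈ S.D.T, ∃ a ∈ F₁, (x : G) = S.ι k * (a : G)}
  one_mem' := ⟨1, one_mem _, 1, one_mem _, by simp⟩
  mul_mem' := by
    rintro x y ⟨k, hk, a, ha, e⟩ ⟨l, hl, b, hb, e'⟩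
    obtain ⟨l', hl', -⟩ := S.F_T a.2 hl
    refine ⟨k * l', mul_mem hk l'.2, a * b, mul_mem ha hb, ?_⟩
    rw [Subgroup.coe_mul, e, e', map_mul, ← hl', Subgroup.coe_mul]
    group
  inv_mem' := by
    rintro x ⟨k, hk, a, ha, e⟩
    obtain ⟨l', hl', -⟩ := S.F_T (inv_mem a.2) (inv_mem hk)
    refine ⟨l', l'.2, a⁻¹, inv_mem ha, ?_⟩
    rw [Subgroup.coe_inv, e, ← hl', mul_inv_rev, map_inv, Subgroup.coe_inv]
    group

theorem HE_exists (x : S.HE F₁) : ∃ k : S.D.T, ∃ a : F₁, ((x : S.EG) : G) = S.ι k * ((a : S.Fld) : G) := by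
  obtain ⟨k, hk, a, ha, e⟩ := x.2
  exact ⟨⟨k, hk⟩, ⟨a, ha⟩, e⟩

/-- The element `k a`. -/
def HEmk (p : S.D.T × F₁) : S.HE F₁ :=
  ⟨⟨S.ι (p.1 : P) * ((p.2 : S.Fld) : G), (p.1 : P), _, (p.2 : S.Fld).2, rfl⟩,
    (p.1 : P), p.1.2, (p.2 : S.Fld), p.2.2, rfl⟩

theorem HEmk_coe (p : S.D.T × F₁) : ((S.HEmk F₁ p : S.EG) : G) = S.ι (p.1 : P) * ((p.2 : S.Fld) : G) := rfl

theorem HEmk_bijective : Function.Bijective (S.HEmk F₁) := by
  refine ⟨fun p p' h => ?_, fun x => ?_⟩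
  · have h' := congrArg (fun x : S.HE F₁ => ((x : S.EG) : G)) h
    simp only [HEmk_coe] at h'
    obtain ⟨h1, h2⟩ := S.decomp (p.2 : S.Fld).2 (p'.2 : S.Fld).2 h'
    exact Prod.ext (Subtype.ext h1) (Subtype.ext (Subtype.ext h2))
  · obtain ⟨k, a, e⟩ := S.HE_exists F₁ x
    exact ⟨(k, a), Subtype.ext (Subtype.ext e.symm)⟩

theorem fp_HEmk (p : S.D.T × F₁) : S.fp (S.HEmk F₁ p : S.EG) = (p.2 : S.Fld) :=
  Subtype.ext (S.fp_eq (p.2 : S.Fld).2 rfl)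

theorem HEmk_mul (p q : S.D.T × F₁) : ∃ l : S.D.T,
    ((p.2 : S.Fld) : G) * S.ι (q.1 : P) * ((p.2 : S.Fld) : G)⁻¹ = S.ι (l : P) ∧
      ((l : P) ∈ S.D.Y ↔ (q.1 : P) ∈ S.D.Y) ∧ S.HEmk F₁ p * S.HEmk F₁ q = S.HEmk F₁ (p.1 * l, p.2 * q.2) := by
  obtain ⟨l, hl, hY⟩ := S.F_T (p.2 : S.Fld).2 q.1.2
  refine ⟨l, hl, hY, Subtype.ext (Subtype.ext ?_)⟩
  simp only [HEmk_coe, Subgroup.coe_mul]
  rw [map_mul, ← hl]
  group

/-- The sign: `1` on `Y ⋊ F₁`. -/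
noncomputable def epsE : S.HE F₁ →* ℂˣ :=
  MonoidHom.mk' (fun x => S.D.eps ((Equiv.ofBijective _ (S.HEmk_bijective F₁)).symm x).1) fun a b => by
    obtain ⟨p, rfl⟩ := (S.HEmk_bijective F₁).2 a
    obtain ⟨q, rfl⟩ := (S.HEmk_bijective F₁).2 b
    obtain ⟨l, -, hY, e⟩ := S.HEmk_mul F₁ p q
    rw [e]
    simp only [Equiv.ofBijective_symm_apply_apply, map_mul]
    congr 1
    simp only [LData.eps, MonoidHom.mk'_apply, hY]

theorem epsE_mk (p : S.D.T × F₁) : S.epsE F₁ (S.HEmk F₁ p) = S.D.eps p.1 := by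
  simp [epsE, Equiv.ofBijective_symm_apply_apply]

theorem w_T {k : P} (hk : k ∈ S.D.T) : S.D.w * k * S.D.w⁻¹ ∈ S.D.T := by
  rcases hk with hk | hk
  · exact Or.inl (by rw [S.D.w_Y k hk]; exact inv_mem hk)
  · refine Or.inr ?_
    have e : S.D.w * k * S.D.w⁻¹ = S.D.u * (S.D.w * (S.D.u * k) * S.D.w⁻¹) := by
      calc S.D.w * k * S.D.w⁻¹ = S.D.w * (S.D.u * (S.D.u * k)) * S.D.w⁻¹ := by rw [S.D.uu_cancel]
        _ = (S.D.w * S.D.u) * (S.D.u * k) * S.D.w⁻¹ := by group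
        _ = _ := by rw [← S.D.comm]; group
    rw [e, S.D.uu_cancel, S.D.w_Y _ hk]
    exact inv_mem hk

theorem w_not_T : S.D.w ∉ S.D.T := by
  obtain ⟨y, hy, hy1⟩ := (Subgroup.bot_or_exists_ne_one S.D.Y).resolve_left (fun e => by
    have := S.D.card_Y
    rw [e, Subgroup.card_bot] at this
    have := S.D.r3
    omega)
  intro h
  have h1 := S.D.w_Y y hy
  rw [S.D.T_comm h (Or.inl hy), mul_inv_cancel_right] at h1
  exact hy1 (S.D.Y_sq hy (mul_eq_one_iff_eq_inv.2 h1))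

end Cfsg.Agent.Invol.JankoWard.ExtBase
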