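import Cfsg.Agent.Lib.Invol.JankoWard.ExtProj
import Cfsg.Agent.Lib.Invol.JankoWard.ExtDegree
import Cfsg.Agent.Lib.Invol.JankoWard.ExtTorusF
import Cfsg.Agent.Lib.Char.TwoTransConstituent
import Mathlib.LinearAlgebra.Matrix.ProjectiveSpecialLinearGroup
import Mathlib.Tactic.LinearCombination

/-!
# The values of the principal block of `P ⋊ Fld` on `Y ⋊ Fld`

The Steinberg extension is the permutation character on the Sylow 3-subgroups less one; the two halves agree on
`(⟨u⟩ × Y) ⋊ Fld`, their constituents being simple and, together, those of two copies of one permutation character.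
-/

open scoped ComplexConjugate

set_option autoImplicit false
set_option linter.unusedSectionVars false
set_option linter.style.haveILetI false

open scoped Classical

namespace Cfsg.Agent.Invol.JankoWard.ExtBase

open Cfsg Cfsg.Agent.Char Cfsg.Agent.Block Cfsg.Agent.Block.PermChar Subgroup
open scoped Pointwise

universe u v

variable {G : Type u} [Group G] [Fintype G] {P : Type v} [Group P] [Fintype P] (S : ExtBase G P)

/-- The action of `P ⋊ Fld` on the Sylow 3-subgroups of `P`. -/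
@[reducible] noncomputable def sylAct : MulAction S.EG (Sylow 3 P) := MulAction.compHom _ S.aut

/-- The permutation character on the Sylow 3-subgroups. -/
noncomputable def piS (x : S.EG) : ℂ := (Nat.card {U : Sylow 3 P // S.aut x • U = U} : ℂ)

theorem aut_conj (l : P) (U : Sylow 3 P) : S.aut (S.ιE l) • U = l • U := by
  rw [show S.aut (S.ιE l) = MulAut.conj l from MulEquiv.ext fun k => by rw [S.aut_ι, MulAut.conj_apply]]
  rfl

theorem aut_pow_fix {x : S.EG} {U : Sylow 3 P} (h : S.aut x • U = U) (n : ℕ) : S.aut (x ^ n) • U = U := by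
  induction n with
  | zero => rw [pow_zero, map_one, one_smul]
  | succ n ih => rw [pow_succ, map_mul, mul_smul, h, ih]

variable (T : ExtTable S.D) (hp : S.D.p = 3) (hδ : S.D.δ = -1)
include T hp hδ

theorem card_normalizer (U : Sylow 3 P) :
    Nat.card (normalizer ((U : Subgroup P) : Set P)) = S.D.q * (2 * S.D.r - 1) := by
  haveI : Fact (Nat.Prime 3) := ⟨Nat.prime_three⟩
  have h1 := Sylow.card_eq_index_normalizer U
  rw [T.card_syl] at h1
  change S.D.q + 1 = (normalizer ((U : Subgroup P) : Set P)).index at h1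
  have h2 := (normalizer ((U : Subgroup P) : Set P)).card_mul_index
  rw [← h1, ExtTable.card_P' hp hδ] at h2
  have hq : S.D.q + 1 = 4 * S.D.r := by have := S.D.hq; omega
  rw [hq] at h2
  exact Nat.eq_of_mul_eq_mul_right (by have := S.D.r3; omega) h2

/-- An element with a power that has an order prime to that of a normaliser fixes no Sylow subgroup. -/
theorem piS_zero {x : S.EG} {n : ℕ} {k : P} (hx : x ^ n = S.ιE k) (hk1 : k ≠ 1)
    (hk : k ^ (2 * S.D.r) = 1) : S.piS x = 0 := by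
  rw [piS, Nat.cast_eq_zero, Nat.card_eq_zero]
  refine Or.inl ⟨fun ⟨U, hU⟩ => hk1 (orderOf_eq_one_iff.1 ?_)⟩
  have h1 := S.aut_pow_fix hU n
  rw [hx, S.aut_conj] at h1
  have h2 : orderOf k ∣ Nat.card (normalizer ((U : Subgroup P) : Set P)) :=
    Subgroup.orderOf_dvd_natCard _ (Sylow.smul_eq_iff_mem_normalizer.1 h1)
  rw [S.card_normalizer T hp hδ] at h2
  have hodd : Odd (orderOf k) := (S.D.q_odd.mul ⟨S.D.r - 1, by have := S.D.r3; omega⟩).of_dvd_nat h2
  have h3 : orderOf k ∣ S.D.r := (Nat.Coprime.dvd_of_dvd_mul_left (Nat.coprime_two_right.2 hodd))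
    (orderOf_dvd_of_pow_eq_one hk)
  have hcop : Nat.Coprime S.D.r (S.D.q * (2 * S.D.r - 1)) := by
    have hq : S.D.q = 4 * S.D.r - 1 := by have := S.D.hq; omega
    have h3' := S.D.r3
    refine Nat.Coprime.mul_right ?_ ?_
    · refine Nat.coprime_of_dvd' fun d hd hd1 hd2 => ?_
      rw [hq] at hd2
      have h4 := Nat.dvd_sub (hd1.mul_left 4) hd2
      rwa [show 4 * S.D.r - (4 * S.D.r - 1) = 1 by omega] at h4
    · refine Nat.coprime_of_dvd' fun d hd hd1 hd2 => ?_
      have h4 := Nat.dvd_sub (hd1.mul_left 2) hd2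
      rwa [show 2 * S.D.r - (2 * S.D.r - 1) = 1 by omega] at h4
  exact Nat.eq_one_of_dvd_coprimes hcop h3 h2

theorem piS_even {x : S.EG} (hx : 2 ∣ orderOf x) : S.piS x = 0 := by
  obtain ⟨j, hj⟩ := hx
  have hi2 : x ^ j * x ^ j = 1 := by rw [← pow_add, show j + j = orderOf x by omega, pow_orderOf_eq_one]
  have hi1 : x ^ j ≠ 1 := pow_ne_one_of_lt_orderOf (fun e => by subst e; have := orderOf_pos x; omega)
    (by have := orderOf_pos x; omega)
  obtain ⟨k, hk, hxk⟩ := S.two_mem_ι hi2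
  exact S.piS_zero T hp hδ hxk (fun e => hi1 (by rw [hxk, e, map_one]))
    (by rw [pow_mul, pow_two, hk, one_pow])

omit hδ in
theorem inf_trans {a b c : Sylow 3 P} (hb : b ≠ a) (hc : c ≠ a) : ∃ u ∈ (a : Subgroup P), u • b = c := by
  haveI : Fact (Nat.Prime 3) := ⟨Nat.prime_three⟩
  let f : ↥(a : Subgroup P) → {V : Sylow 3 P // V ≠ a} := fun u => ⟨(u : P) • b, fun e => hb (by
    have : (u : P) • a = a := Sylow.smul_eq_iff_mem_normalizer.2 (Subgroup.le_normalizer u.2)
    exact smul_left_cancel _ (e.trans this.symm))⟩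
  have hinj : Function.Injective f := by
    intro u v e
    have e' : (u : P) • b = (v : P) • b := congrArg Subtype.val e
    have h1 : ((v : P)⁻¹ * u) • b = b := by rw [mul_smul, e', inv_smul_smul]
    have h2 : (v : P)⁻¹ * u ∈ (a : Subgroup P) ⊓ (b : Subgroup P) := by
      rw [← a.isPGroup'.inf_normalizer_sylow b]
      exact Subgroup.mem_inf.2 ⟨mul_mem (inv_mem v.2) u.2, Sylow.smul_eq_iff_mem_normalizer.1 h1⟩
    rw [T.syl_ti a b hb.symm, Subgroup.mem_bot, inv_mul_eq_one] at h2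
    exact Subtype.ext h2.symm
  have hbij : Function.Bijective f := by
    rw [Fintype.bijective_iff_injective_and_card]
    refine ⟨hinj, ?_⟩
    rw [Fintype.card_subtype_compl, Fintype.card_subtype_eq, ← Nat.card_eq_fintype_card, ← Nat.card_eq_fintype_card,
      T.card_syl, T.card_U hp]
    omega
  obtain ⟨u, hu⟩ := hbij.2 ⟨c, hc⟩
  exact ⟨u, u.2, congrArg Subtype.val hu⟩

variable (X : LChars S.D) {M : Ideal AlgInt} (hM : IsPModular 2 M)
include hM

/-- The Steinberg extension. -/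
theorem hat_St (x : S.EG) : (S.hat X hM 1 : S.EG → ℂ) x = S.piS x - 1 := by
  haveI : Fact (Nat.Prime 3) := ⟨Nat.prime_three⟩
  haveI : Fact (Nat.Prime 2) := ⟨Nat.prime_two⟩
  letI : MulAction S.EG (Sylow 3 P) := S.sylAct
  have hsm : ∀ (y : S.EG) (U : Sylow 3 P), y • U = S.aut y • U := fun _ _ => rfl
  have hpi : ∀ y : S.EG, piFun S.EG (Sylow 3 P) y = S.piS y := fun y => by
    rw [piFun, piS]; rfl
  have hcard : Fintype.card (Sylow 3 P) = S.D.q + 1 := by rw [← Nat.card_eq_fintype_card, T.card_syl]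
  have h2t : MulAction.IsMultiplyPretransitive S.EG (Sylow 3 P) 2 := by
    refine MulAction.is_two_pretransitive_iff.2 fun {a b c d} hab hcd => ?_
    obtain ⟨g, hg⟩ := MulAction.exists_smul_eq P a c
    obtain ⟨u, hu, hud⟩ := S.inf_trans T hp (a := c) (b := g • b) (c := d)
      (fun e => hab (smul_left_cancel g (hg.trans e.symm))) hcd.symm
    refine ⟨S.ιE (u * g), ?_, ?_⟩
    · rw [hsm, S.aut_conj, mul_smul, hg]
      exact Sylow.smul_eq_iff_mem_normalizer.2 (Subgroup.le_normalizer hu)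
    · rw [hsm, S.aut_conj, mul_smul, hud]
  have hq11 := S.D.q_ge
  obtain ⟨hdeg, χ₀, hχ₀, hm₀⟩ := two_trans_constituent (G := S.EG) (Ω := Sylow 3 P) h2t (by omega)
  choose a ha using fun χ : IrrCharacter S.EG => exists_mult (Ω := Sylow 3 P) χ
  have h1 : a (trivialIrr S.EG) = 1 := by
    have hpre : MulAction.IsPretransitive S.EG (Sylow 3 P) := MulAction.isPretransitive_of_is_two_pretransitive
    have := (ha (trivialIrr S.EG)).symm.trans (mult_one hpre inferInstance)
    exact_mod_cast this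
  have hd₀ : charDegree (χ₀ : S.EG → ℂ) = S.D.q := by
    have h := hdeg χ₀ hχ₀ hm₀
    rw [hcard, charDeg_spec'] at h
    push_cast at h
    exact_mod_cast add_right_cancel h
  have hsum : ∑ χ : IrrCharacter S.EG, a χ * charDegree (χ : S.EG → ℂ) = S.D.q + 1 := by
    have h := congrFun (piFun_decomp (G := S.EG) (Ω := Sylow 3 P)) 1
    rw [Finset.sum_apply] at h
    simp only [Pi.smul_apply, smul_eq_mul, ha, charDeg_spec'] at h
    have h1 : piFun S.EG (Sylow 3 P) 1 = ((S.D.q + 1 : ℕ) : ℂ) := by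
      rw [piFun, Nat.card_congr (Equiv.subtypeUnivEquiv fun U : Sylow 3 P => by simp), Nat.card_eq_fintype_card, hcard]
    rw [h1] at h
    exact_mod_cast h.symm
  have hne : χ₀ ≠ trivialIrr S.EG := fun e => hχ₀ (congrArg Subtype.val e)
  have ha₀ : 1 ≤ a χ₀ := by
    rw [Nat.one_le_iff_ne_zero]; intro e; exact hm₀ (by rw [ha, e, Nat.cast_zero])
  have hd1 : charDegree ((trivialIrr S.EG : IrrCharacter S.EG) : S.EG → ℂ) = 1 := by simp [trivialIrr, charDegree]
  rw [← Finset.add_sum_erase _ _ (Finset.mem_univ (trivialIrr S.EG)),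
    ← Finset.add_sum_erase _ _ (Finset.mem_erase.2 ⟨hne, Finset.mem_univ χ₀⟩), h1, hd1, hd₀] at hsum
  have hle : S.D.q ≤ a χ₀ * S.D.q := Nat.le_mul_of_pos_left _ ha₀
  have hrest : ∀ χ, χ ≠ trivialIrr S.EG → χ ≠ χ₀ → a χ = 0 := by
    intro χ h h'
    by_contra hz
    have hmem : χ ∈ (Finset.univ.erase (trivialIrr S.EG)).erase χ₀ := by simp [h, h']
    have := Finset.single_le_sum (f := fun χ => a χ * charDegree (χ : S.EG → ℂ)) (fun i _ => Nat.zero_le _) hmem
    have hpos : 1 ≤ a χ * charDegree (χ : S.EG → ℂ) :=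
      Nat.one_le_iff_ne_zero.2 (mul_ne_zero hz (charDeg_pos χ).ne')
    omega
  have ha₀1 : a χ₀ = 1 := by
    refine le_antisymm ?_ ha₀
    by_contra hh
    have h2 : 2 * S.D.q ≤ a χ₀ * S.D.q := Nat.mul_le_mul_right _ (by omega)
    omega
  have hval : ∀ y : S.EG, (χ₀ : S.EG → ℂ) y = S.piS y - 1 := by
    intro y
    have h := congrFun (piFun_decomp (G := S.EG) (Ω := Sylow 3 P)) y
    rw [hpi, Finset.sum_apply, ← Finset.add_sum_erase _ _ (Finset.mem_univ (trivialIrr S.EG)),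
      ← Finset.add_sum_erase _ _ (Finset.mem_erase.2 ⟨hne, Finset.mem_univ χ₀⟩), Finset.sum_eq_zero fun χ hχ => by
        simp only [Finset.mem_erase] at hχ
        rw [Pi.smul_apply, ha, hrest χ hχ.2.1 hχ.1, Nat.cast_zero, zero_smul]] at h
    simp only [Pi.smul_apply, smul_eq_mul, ha, h1, ha₀1, Nat.cast_one, one_mul, add_zero] at h
    simp only [trivialIrr] at h
    rw [h]; ring
  -- in the principal block
  have htot : ∑ y : S.EG, S.piS y = (Nat.card S.EG : ℂ) := by
    have h := ha (trivialIrr S.EG)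
    rw [mult, classInner, h1, Nat.cast_one] at h
    simp only [trivialIrr, map_one, mul_one, hpi] at h
    exact ((inv_mul_eq_one₀ (Nat.cast_ne_zero.2 Nat.card_pos.ne')).1 h).symm
  have hmem : χ₀ ∈ principalBlock M S.EG := by
    refine (PrinCol.mem_principal_iff hM _).2 ?_
    rw [PrinCol.regTot, Finset.sum_congr rfl fun y _ => hval y, Finset.sum_sub_distrib, Finset.sum_const,
      nsmul_eq_mul, mul_one]
    rw [← Finset.sum_filter_add_sum_filter_not Finset.univ (fun y : S.EG => ¬ 2 ∣ orderOf y)] at htot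
    rw [Finset.sum_eq_zero (s := Finset.univ.filter fun y : S.EG => ¬¬ 2 ∣ orderOf y) (fun y hy => by
      simp only [not_not, Finset.mem_filter] at hy
      exact S.piS_even T hp hδ hy.2), add_zero] at htot
    rw [htot, sub_ne_zero, Nat.card_eq_fintype_card, ← Finset.card_univ]
    intro e
    have e' := Finset.card_filter_eq_iff.1 (Nat.cast_injective e).symm
    exact e' (x := S.ιE S.D.u) (Finset.mem_univ _) (by rw [orderOf_injective _ S.ιE_inj, S.D.orderOf_u])
  obtain ⟨i, rfl⟩ := (S.principal_EG X hM _).1 hmem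
  suffices h : i = 1 by subst h; exact hval x
  have h := charDeg_spec' (S.hat X hM i)
  rw [hd₀, S.hat_one] at h
  have hq : (S.D.q : ℂ) = 4 * (S.D.r : ℂ) + S.D.δ := by exact_mod_cast congrArg (Int.cast : ℤ → ℂ) S.D.hq
  have hM' : ((S.D.q : ℂ) + S.D.δ) / 2 ≠ (S.D.q : ℂ) := fun e => by
    rw [hδ] at e
    field_simp at e
    have : ((S.D.q : ℕ) : ℂ) + 1 = 0 := by push_cast at e ⊢; linear_combination -e
    have h' : ((S.D.q + 1 : ℕ) : ℂ) = ((0 : ℕ) : ℂ) := by push_cast; exact this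
    exact absurd (Nat.cast_injective h') (by omega)
  have h1q : (1 : ℂ) ≠ (S.D.q : ℂ) := fun e => by
    have : ((1 : ℕ) : ℂ) = (S.D.q : ℂ) := by push_cast; exact e
    have := Nat.cast_injective this
    omega
  fin_cases i
  · exact absurd (by simpa [LChars.four, trivialIrr] using h) h1q
  · rfl
  · exact absurd (by simpa [LChars.four, X.e1_one] using h) hM'
  · exact absurd (by simpa [LChars.four, X.e2_one] using h) hM'

omit hM in
/-- A Sylow 3-subgroup fixed by the field part. -/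
theorem exists_fixed : ∃ U : Sylow 3 P, ∀ a : S.EG, (a : G) ∈ S.Fld → S.aut a • U = U := by
  haveI : Fact (Nat.Prime 3) := ⟨Nat.prime_three⟩
  haveI := S.F_cyclic
  obtain ⟨φ, hφ⟩ := IsCyclic.exists_generator (α := S.Fld)
  obtain ⟨K, iK, iF, hK, ⟨e⟩⟩ := S.fix_iso (φ : G) φ.2
  letI := iK; letI := iF
  have hf : 0 < S.D.f / orderOf (φ : G) := by
    refine Nat.div_pos (Nat.le_of_dvd (ExtTable.f_pos hp) ?_) (orderOf_pos _)
    exact (Subgroup.orderOf_dvd_natCard _ φ.2).trans S.F_dvd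
  rw [hp] at hK
  haveI h3 : CharP K 3 := by
    obtain ⟨p', hp'⟩ := CharP.exists K
    haveI : Fact p'.Prime := ⟨CharP.char_is_prime K p'⟩
    obtain ⟨n, hn, hcard⟩ := FiniteField.card K p'
    have h1 : p' ∣ 3 ^ (S.D.f / orderOf (φ : G)) := hK ▸ hcard ▸ dvd_pow_self p' n.pos.ne'
    rwa [← (Nat.prime_dvd_prime_iff_eq hn Nat.prime_three).1 (hn.dvd_of_dvd_pow h1)]
  let z : Matrix.SpecialLinearGroup (Fin 2) K := ⟨!![1, 1; 0, 1], by simp [Matrix.det_fin_two]⟩
  have hz3 : z ^ 3 = 1 := by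
    refine Subtype.ext ?_
    rw [Matrix.SpecialLinearGroup.coe_pow, Matrix.SpecialLinearGroup.coe_one]
    have h30 : (3 : K) = 0 := by exact_mod_cast CharP.cast_eq_zero K 3
    show (!![1, 1; 0, 1] : Matrix (Fin 2) (Fin 2) K) ^ 3 = 1
    ext i j
    fin_cases i <;> fin_cases j <;> simp [pow_succ, Matrix.mul_apply, Fin.sum_univ_two]
    linear_combination h30
  have hzc : z ∉ Subgroup.center (Matrix.SpecialLinearGroup (Fin 2) K) := by
    intro h
    obtain ⟨c, -, hc⟩ := Matrix.SpecialLinearGroup.mem_center_iff.1 h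
    have := congrFun (congrFun hc 0) 1
    simp [z] at this
  set m : (centralizer ({(φ : G)} : Set G)).comap S.ι := e.symm (QuotientGroup.mk' _ z) with hm
  have hm3 : (m : P) ^ 3 = 1 := by
    rw [← Subgroup.coe_pow, hm, ← map_pow, ← map_pow, hz3, map_one, map_one, OneMemClass.coe_one]
  have hm1 : (m : P) ≠ 1 := fun h => hzc <| by
    have h' : m = 1 := Subtype.ext h
    rw [hm, MulEquiv.map_eq_one_iff, QuotientGroup.mk'_apply, QuotientGroup.eq_one_iff] at h'
    exact h'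
  obtain ⟨U, hU⟩ := (IsPGroup.of_card (n := 1) (G := zpowers (m : P)) (p := 3) (by
    rw [Nat.card_zpowers, orderOf_eq_prime hm3 hm1, pow_one])).exists_le_sylow
  refine ⟨U, fun a ha => ?_⟩
  have hfix : S.aut a (m : P) = (m : P) := by
    have hc : (φ : G) * S.ι (m : P) = S.ι (m : P) * φ := (mem_centralizer_singleton_iff.1 m.2).symm
    obtain ⟨i, hi⟩ := mem_zpowers_iff.1 (hφ ⟨_, ha⟩)
    have hi' : (φ : G) ^ i = (a : G) := by rw [← Subgroup.coe_zpow, hi]
    refine S.ιE_inj (Subtype.ext ?_)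
    rw [S.aut_spec, Subgroup.coe_mul, Subgroup.coe_mul, Subgroup.coe_inv, ιE_coe, ← hi',
      ((show Commute (φ : G) (S.ι (m : P)) from hc).zpow_left i).eq, mul_inv_cancel_right]
  by_contra hne
  have : (m : P) ∈ ((S.aut a • U : Sylow 3 P) : Subgroup P) ⊓ (U : Subgroup P) := by
    refine ⟨?_, hU (mem_zpowers _)⟩
    show (m : P) ∈ (S.aut a • (U : Subgroup P))
    exact ⟨(m : P), hU (mem_zpowers _), hfix⟩
  rw [T.syl_ti _ _ hne, Subgroup.mem_bot] at this
  exact hm1 this

omit hM in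
/-- The permutation character on the torus with the field part is twice a character. -/
theorem piS_half (U : Sylow 3 P) (hU : ∀ a : S.EG, (a : G) ∈ S.Fld → S.aut a • U = U) :
    ∃ θ : S.HE ⊤ → ℂ, IsCharacter (S.HE ⊤) θ ∧ ∀ x : S.HE ⊤, S.piS (x : S.EG) = 2 * θ x := by
  letI : MulAction (S.HE ⊤) (Sylow 3 P) := MulAction.compHom _ (S.aut.comp (S.HE ⊤).subtype)
  have hsm : ∀ (y : S.HE ⊤) (V : Sylow 3 P), y • V = S.aut (y : S.EG) • V := fun _ _ => rfl
  let e : Bool × S.D.T → Sylow 3 P := fun p => ((p.2 : P) * bif p.1 then S.D.w else 1) • U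
  have hfree : ∀ k : P, k ^ (2 * S.D.r) = 1 → k • U = U → k = 1 := by
    intro k hk h
    by_contra hk1
    have hz := S.piS_zero T hp hδ (x := S.ιE k) (n := 1) (pow_one _) hk1 hk
    rw [piS, Nat.cast_eq_zero, Nat.card_eq_zero] at hz
    rcases hz with hz | hz
    · exact hz.false ⟨U, by rw [S.aut_conj]; exact h⟩
    · exact hz.false.elim
  have hT2r : ∀ k ∈ S.D.T, k ^ (2 * S.D.r) = 1 := by
    intro k hk
    rcases hk with hk | hk
    · rw [mul_comm, pow_mul, S.D.pow_r hk, one_pow]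
    · have hc : Commute S.D.u (S.D.u * k) := S.D.u_Y _ hk
      rw [← S.D.uu_cancel k, hc.mul_pow, pow_mul, pow_two, S.D.u2, one_pow, one_mul, mul_comm, pow_mul,
        S.D.pow_r hk, one_pow]
  have hinj : Function.Injective e := by
    rintro ⟨b, k⟩ ⟨b', k'⟩ h
    have h1 : (((k' : P) * bif b' then S.D.w else 1)⁻¹ * ((k : P) * bif b then S.D.w else 1)) • U = U := by
      rw [mul_smul]; simp only [e] at h; rw [h, inv_smul_smul]
    have hwi : S.D.w⁻¹ = S.D.w := inv_eq_of_mul_eq_one_right S.D.w2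
    have hl : (k' : P)⁻¹ * k ∈ S.D.T := mul_mem (inv_mem k'.2) k.2
    have hbad : ∀ l ∈ S.D.T, (l * S.D.w) • U = U → False := fun l hl' h' => by
      have hlw : l * S.D.w * (l * S.D.w) = 1 ∨ (l * S.D.w) ^ (2 * S.D.r) = 1 := by
        left
        have h3 : S.D.w * l * S.D.w = l⁻¹ := by
          rcases hl' with hl' | hl'
          · conv_lhs => arg 2; rw [← hwi]
            exact S.D.w_Y l hl'
          · calc S.D.w * l * S.D.w = S.D.w * (S.D.u * (S.D.u * l)) * S.D.w⁻¹ := by rw [S.D.uu_cancel, hwi]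
              _ = S.D.u * (S.D.w * (S.D.u * l) * S.D.w⁻¹) := by
                rw [← mul_assoc S.D.w, ← S.D.comm]; group
              _ = l⁻¹ := by
                rw [S.D.w_Y _ hl', mul_inv_rev, inv_eq_of_mul_eq_one_right S.D.u2, ← mul_assoc,
                  S.D.T_comm S.D.u_T (inv_mem (show l ∈ S.D.T from Or.inr hl')), mul_assoc, S.D.u2, mul_one]
        calc l * S.D.w * (l * S.D.w) = l * (S.D.w * l * S.D.w) := by group
          _ = 1 := by rw [h3, mul_inv_cancel]
      have hne : l * S.D.w ≠ 1 := fun e => S.w_not_T (by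
        rw [eq_inv_of_mul_eq_one_right e]; exact inv_mem hl')
      refine hne (hfree _ ?_ h')
      rcases hlw with hlw | hlw
      · rw [pow_mul, pow_two, hlw, one_pow]
      · exact hlw
    cases b <;> cases b' <;> simp only [cond_true, cond_false, mul_one] at h1
    · rw [Subtype.ext (inv_mul_eq_one.1 (hfree _ (hT2r _ hl) h1)).symm]
    · exfalso
      rw [mul_inv_rev, hwi, mul_assoc,
        show S.D.w * ((k' : P)⁻¹ * k) = (S.D.w * ((k' : P)⁻¹ * k) * S.D.w⁻¹) * S.D.w by group] at h1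
      exact hbad _ (S.w_T hl) h1
    · exfalso
      rw [← mul_assoc] at h1
      exact hbad _ hl h1
    · rw [mul_inv_rev, hwi, mul_assoc, ← mul_assoc (k' : P)⁻¹, ← mul_assoc] at h1
      have hm := S.w_T hl
      rw [hwi] at hm
      have h4 := hfree _ (hT2r _ hm) h1
      have h5 : (k' : P)⁻¹ * k = 1 := by
        have h6 : S.D.w * (S.D.w * ((k' : P)⁻¹ * k) * S.D.w) * S.D.w = 1 := by rw [h4, mul_one, S.D.w2]
        calc (k' : P)⁻¹ * k = S.D.w * S.D.w * ((k' : P)⁻¹ * k) * (S.D.w * S.D.w) := by rw [S.D.w2, one_mul, mul_one]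
          _ = S.D.w * (S.D.w * ((k' : P)⁻¹ * k) * S.D.w) * S.D.w := by group
          _ = 1 := h6
      rw [Subtype.ext (inv_mul_eq_one.1 h5).symm]
  have hcardT : Nat.card S.D.T = 2 * S.D.r := by
    let g : Bool × S.D.Y → S.D.T := fun p => ⟨(bif p.1 then S.D.u else 1) * p.2, mul_mem
      (by cases p.1 <;> simp [one_mem, S.D.u_T]) (Or.inl p.2.2)⟩
    have hg : Function.Bijective g := by
      refine ⟨?_, fun k => ?_⟩
      · rintro ⟨b, y⟩ ⟨b', y'⟩ h
        have h' := congrArg Subtype.val h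
        cases b <;> cases b' <;> simp only [g, cond_true, cond_false, one_mul] at h'
        · rw [Subtype.ext h']
        · exact absurd (by rw [eq_mul_inv_of_mul_eq h'.symm]; exact mul_mem y.2 (inv_mem y'.2)) S.D.u_not_Y
        · exact absurd (by rw [eq_mul_inv_of_mul_eq h']; exact mul_mem y'.2 (inv_mem y.2)) S.D.u_not_Y
        · rw [Subtype.ext (mul_left_cancel h')]
      · rcases k.2 with hk | hk
        · exact ⟨(false, ⟨_, hk⟩), Subtype.ext (one_mul _)⟩
        · exact ⟨(true, ⟨_, hk⟩), Subtype.ext (S.D.uu_cancel _)⟩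
    rw [← Nat.card_eq_of_bijective g hg, Nat.card_prod, S.D.card_Y, Nat.card_eq_fintype_card (α := Bool),
      Fintype.card_bool]
  have hbij : Function.Bijective e := by
    rw [Fintype.bijective_iff_injective_and_card]
    refine ⟨hinj, ?_⟩
    rw [← Nat.card_eq_fintype_card, ← Nat.card_eq_fintype_card, T.card_syl, Nat.card_prod, hcardT,
      Nat.card_eq_fintype_card (α := Bool), Fintype.card_bool]
    have := S.D.hq
    omega
  -- the action in these coordinates
  have hact : ∀ (k : S.D.T) (a : (⊤ : Subgroup S.Fld)) (b : Bool) (z : S.D.T), ∃ z' : S.D.T,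
      ((a : S.Fld) : G) * S.ι (z : P) * ((a : S.Fld) : G)⁻¹ = S.ι (z' : P) ∧
        S.HEmk ⊤ (k, a) • e (b, z) = e (b, k * z') := by
    intro k a b z
    obtain ⟨z', hz', -⟩ := S.F_T (a : S.Fld).2 z.2
    refine ⟨z', hz', ?_⟩
    set a' : S.EG := ⟨((a : S.Fld) : G), S.F_EG (a : S.Fld).2⟩
    have hax : (S.HEmk ⊤ (k, a) : S.EG) = S.ιE (k : P) * a' := Subtype.ext rfl
    have hc : a' * S.ιE ((z : P) * bif b then S.D.w else 1) =
        S.ιE ((z' : P) * bif b then S.D.w else 1) * a' := by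
      refine Subtype.ext ?_
      show ((a : S.Fld) : G) * S.ι _ = S.ι _ * ((a : S.Fld) : G)
      rw [map_mul, map_mul, ← hz']
      have hw : ((a : S.Fld) : G) * S.ι (bif b then S.D.w else 1) = S.ι (bif b then S.D.w else 1) * ((a : S.Fld) : G) := by
        cases b
        · simp
        · exact S.Fw _ (a : S.Fld).2
      rw [mul_assoc (((a : S.Fld) : G) * S.ι (z : P) * _) (S.ι _), ← hw]
      group
    show S.aut (S.HEmk ⊤ (k, a) : S.EG) • e (b, z) = e (b, k * z')
    simp only [e]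
    rw [hax, ← S.aut_conj, ← mul_smul, ← map_mul, mul_assoc, hc, ← mul_assoc, map_mul S.aut _ a', mul_smul,
      hU a' (a : S.Fld).2, ← map_mul, S.aut_conj, Subgroup.coe_mul, mul_assoc]
  let O := MulAction.orbit (S.HE ⊤) (e (false, 1))
  let f : S.D.T → O := fun z => ⟨e (false, z), by
    obtain ⟨z', hz', h⟩ := hact z 1 false 1
    refine ⟨S.HEmk ⊤ (z, 1), h.trans ?_⟩
    have : z' = 1 := Subtype.ext (S.inj (by simpa using hz'.symm))
    rw [this, mul_one]⟩
  have hf : Function.Bijective f := by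
    refine ⟨fun z z' h => (Prod.mk.inj (hinj (congrArg Subtype.val h))).2, ?_⟩
    rintro ⟨V, x, rfl⟩
    obtain ⟨⟨k, a⟩, rfl⟩ := (S.HEmk_bijective ⊤).2 x
    obtain ⟨z', -, h⟩ := hact k a false 1
    exact ⟨k * z', Subtype.ext h.symm⟩
  refine ⟨piFun (S.HE ⊤) O, isCharacter_piFun, fun x => ?_⟩
  obtain ⟨⟨k, a⟩, rfl⟩ := (S.HEmk_bijective ⊤).2 x
  choose c hc1 hc2 using fun z : S.D.T => hact k a false z
  have hb : ∀ b z, S.HEmk ⊤ (k, a) • e (b, z) = e (b, k * c z) := fun b z => by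
    obtain ⟨z', h1, h2⟩ := hact k a b z
    rw [h2, show z' = c z from Subtype.ext (S.inj (h1.symm.trans (hc1 z)))]
  have e1 : Nat.card {V : Sylow 3 P // S.aut (S.HEmk ⊤ (k, a) : S.EG) • V = V} =
      2 * Nat.card {z : S.D.T // k * c z = z} := by
    rw [show (2 : ℕ) = Nat.card Bool by rw [Nat.card_eq_fintype_card, Fintype.card_bool], ← Nat.card_prod]
    refine (Nat.card_congr ?_).symm
    refine (Equiv.ofBijective (fun p : Bool × {z : S.D.T // k * c z = z} =>
      (⟨e (p.1, p.2.1), by rw [← hsm, hb, p.2.2]⟩ : {V : Sylow 3 P // S.aut (S.HEmk ⊤ (k, a) : S.EG) • V = V})) ⟨?_, ?_⟩)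
    · intro p p' h
      have h' := Prod.mk.inj (hinj (congrArg Subtype.val h))
      exact Prod.ext h'.1 (Subtype.ext h'.2)
    · rintro ⟨V, hV⟩
      obtain ⟨⟨b, z⟩, rfl⟩ := hbij.2 V
      rw [← hsm, hb] at hV
      exact ⟨(b, ⟨z, (Prod.mk.inj (hinj hV)).2⟩), rfl⟩
  have e2 : Nat.card (MulAction.fixedBy O (S.HEmk ⊤ (k, a))) = Nat.card {z : S.D.T // k * c z = z} := by
    refine (Nat.card_congr ?_).symm
    refine Equiv.ofBijective (fun z : {z : S.D.T // k * c z = z} =>
      (⟨f z.1, Subtype.ext (by rw [MulAction.orbit.coe_smul]; show _ • e (false, z.1) = e (false, z.1); rw [hb, z.2])⟩ :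
        MulAction.fixedBy O (S.HEmk ⊤ (k, a)))) ⟨?_, ?_⟩
    · exact fun z z' h => Subtype.ext (hf.1 (congrArg Subtype.val h))
    · rintro ⟨V, hV⟩
      obtain ⟨z, rfl⟩ := hf.2 V
      have hV' := congrArg Subtype.val hV
      rw [MulAction.orbit.coe_smul] at hV'
      change _ • e (false, z) = e (false, z) at hV'
      rw [hb] at hV'
      exact ⟨⟨z, (Prod.mk.inj (hinj hV')).2⟩, rfl⟩
  rw [piS, e1, piFun, e2]
  push_cast
  ring

/-- The two halves agree. -/
theorem hat_halves (x : S.HE ⊤) :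
    (S.hat X hM 2 : S.EG → ℂ) (x : S.EG) = (S.hat X hM 3 : S.EG → ℂ) (x : S.EG) := by
  obtain ⟨U, hU⟩ := S.exists_fixed T hp hδ
  obtain ⟨θ, hθ, hπ⟩ := S.piS_half T hp hδ U hU
  let χ : Fin 4 → S.HE ⊤ → ℂ := fun i x => (S.hat X hM i : S.EG → ℂ) (x : S.EG)
  have hχ : ∀ i, IsCharacter (S.HE ⊤) (χ i) := fun i =>
    IsChar.comp (S.HE ⊤).subtype (IsIrr.isCharacter (S.hat X hM i).2)
  -- the sum of the two
  have hsum : ∀ x : S.HE ⊤, χ 2 x + χ 3 x = 2 * θ x - 2 * (S.epsE ⊤ x : ℂ) := by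
    intro x
    obtain ⟨⟨k, a⟩, rfl⟩ := (S.HEmk_bijective ⊤).2 x
    rw [S.epsE_mk, ← hπ]
    have hodd : ∀ y : S.EG, (∃ k ∈ S.D.Y, ∃ a ∈ S.Fld, (y : G) = S.ι k * a) → Odd (orderOf y) := by
      rintro y ⟨k, hk, a, ha, e⟩
      refine (S.D.r_odd.mul S.F_odd).of_dvd_nat ?_
      rw [mul_comm]
      refine orderOf_dvd_of_pow_eq_one (Subtype.ext ?_)
      have hpow : ∀ n : ℕ, ∃ k' ∈ S.D.Y, (y : G) ^ n = S.ι k' * a ^ n := by
        intro n
        induction n with
        | zero => exact ⟨1, one_mem _, by simp⟩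
        | succ n ih =>
          obtain ⟨k', hk', e'⟩ := ih
          obtain ⟨k'', hk'', e''⟩ := S.F_Y (pow_mem ha n) hk
          refine ⟨k' * k'', mul_mem hk' hk'', ?_⟩
          rw [pow_succ, pow_succ, e', e, map_mul, ← e'']
          group
      obtain ⟨k', hk', e'⟩ := hpow (Nat.card S.Fld)
      rw [show a ^ Nat.card S.Fld = 1 from congrArg Subtype.val (pow_card_eq_one' (x := (⟨a, ha⟩ : S.Fld))),
        mul_one] at e'
      rw [Subgroup.coe_pow, pow_mul, e', ← map_pow, S.D.pow_r hk', map_one, OneMemClass.coe_one]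
    set y : S.EG := (S.HEmk ⊤ (k, a) : S.EG) with hy
    by_cases hkY : (k : P) ∈ S.D.Y
    · have ho := hodd y ⟨k, hkY, _, (a : S.Fld).2, rfl⟩
      have h := S.hat_relation X hM ho
      rw [S.hat_St T hp hδ X hM, hδ] at h
      push_cast at h
      simp only [χ, ← hy, LData.eps, MonoidHom.mk'_apply, if_pos hkY, Units.val_one]
      linear_combination -h
    · have hk' : S.D.u * (k : P) ∈ S.D.Y := k.2.resolve_left hkY
      set y₀ : S.EG := S.ιE (S.D.u * k) * ⟨((a : S.Fld) : G), S.F_EG (a : S.Fld).2⟩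
      have ho := hodd y₀ ⟨_, hk', _, (a : S.Fld).2, rfl⟩
      have hy0 : y = S.ιE S.D.u * y₀ := Subtype.ext (by
        show S.ι (k : P) * _ = S.ι S.D.u * (S.ι (S.D.u * k) * _)
        rw [← mul_assoc, ← map_mul, S.D.uu_cancel])
      have hcu : y₀ * S.ιE S.D.u = S.ιE S.D.u * y₀ := Subtype.ext (by
        show S.ι (S.D.u * k) * ((a : S.Fld) : G) * S.ι S.D.u = S.ι S.D.u * (S.ι (S.D.u * k) * ((a : S.Fld) : G))
        rw [mul_assoc, S.Fu _ (a : S.Fld).2, ← mul_assoc, ← map_mul, ← S.D.u_Y _ hk', map_mul, mul_assoc])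
      have hev : 2 ∣ orderOf y := by
        rw [hy0, (show Commute (S.ιE S.D.u) y₀ from hcu.symm).orderOf_mul_eq_mul_orderOf_of_coprime (by
          rw [orderOf_injective _ S.ιE_inj, S.D.orderOf_u]; exact Nat.coprime_two_left.2 ho),
          orderOf_injective _ S.ιE_inj, S.D.orderOf_u]
        exact dvd_mul_right _ _
      simp only [χ, ← hy, S.piS_even T hp hδ hev, LData.eps, MonoidHom.mk'_apply, if_neg hkY]
      rw [hy0, S.hat_uk X hM 2 hcu ho, S.hat_uk X hM 3 hcu ho]
      have hu : 2 ∣ orderOf S.D.u := by rw [S.D.orderOf_u]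
      simp [LChars.four, X.e1_even _ hu, X.e2_even _ hu, hδ]
      norm_num
  -- the constituents are simple
  let j : S.D.T →* S.HE ⊤ := MonoidHom.mk' (fun k => S.HEmk ⊤ (k, 1)) fun p q => Subtype.ext (Subtype.ext (by
    simp [S.HEmk_coe, map_mul]))
  have hone : ∀ i : Fin 4, i = 2 ∨ i = 3 → ∀ ψ : IrrCharacter (S.HE ⊤), ∀ n : ℕ,
      classInner (χ i) (ψ : S.HE ⊤ → ℂ) = n → n ≤ 1 := by
    intro i hi ψ n hn
    obtain ⟨β, hβ⟩ := IsChar.exists_constituent' (IsChar.comp j (IsIrr.isCharacter ψ.2))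
      (by rw [map_one]; exact IsIrr.one_ne_zero ψ.2)
    obtain ⟨lb, hlb⟩ := linearHom_of_isCharacter (IsIrr.isCharacter β.2)
      (IsIrr.one_of_comm (fun a b => Subtype.ext (S.D.T_comm a.2 b.2)) β.2)
    obtain ⟨b, hb, hdec⟩ := IsChar.exists_decomp_inner (hχ i)
    obtain rfl : n = b ψ := by
      have := hn.symm.trans (hb ψ)
      exact_mod_cast this
    choose d hd using fun φ : IrrCharacter (S.HE ⊤) =>
      IsChar.classInner_nat (IsChar.comp j (IsIrr.isCharacter φ.2)) (IsIrr.isCharacter β.2)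
    obtain ⟨N, hN⟩ := IsChar.classInner_nat (IsChar.comp j (hχ i)) (IsIrr.isCharacter β.2)
    have hN' : N = ∑ φ : IrrCharacter (S.HE ⊤), b φ * d φ := by
      have h : (N : ℂ) = ((∑ φ : IrrCharacter (S.HE ⊤), b φ * d φ : ℕ) : ℂ) := by
        rw [← hN, show (fun x : S.D.T => χ i (j x)) =
          ∑ φ : IrrCharacter (S.HE ⊤), (b φ : ℂ) • fun x : S.D.T => (φ : S.HE ⊤ → ℂ) (j x) by
            funext x; rw [congrFun hdec (j x), Finset.sum_apply, Finset.sum_apply]
            exact Finset.sum_congr rfl fun φ _ => by simp, classInner_sum_left]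
        push_cast
        exact Finset.sum_congr rfl fun φ _ => by rw [classInner_smul_left, hd]
      exact_mod_cast h
    have hd1 : 1 ≤ d ψ := Nat.one_le_iff_ne_zero.2 fun e => hβ (by rw [hd, e, Nat.cast_zero])
    have hle : b ψ ≤ N := by
      rw [hN']
      exact le_trans (Nat.le_mul_of_pos_right _ hd1)
        (Finset.single_le_sum (f := fun φ => b φ * d φ) (fun _ _ => Nat.zero_le _) (Finset.mem_univ ψ))
    refine hle.trans ?_
    -- the multiplicity on the torus
    have hu : 2 ∣ orderOf S.D.u := by rw [S.D.orderOf_u]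
    have hval : ∀ (c : Bool) (y : S.D.Y), χ i (j ⟨(bif c then S.D.u else 1) * (y : P), mul_mem
        (by cases c <;> simp [one_mem, S.D.u_T]) (Or.inl y.2)⟩) =
        if c then 1 else (if (y : P) = 1 then 2 * (S.D.r : ℂ) - 1 else -1) := by
      intro c y
      have hq : (S.D.q : ℂ) = 4 * (S.D.r : ℂ) + S.D.δ := by exact_mod_cast congrArg (Int.cast : ℤ → ℂ) S.D.hq
      have hcoe : ∀ k : S.D.T, ((j k : S.HE ⊤) : S.EG) = S.ιE (k : P) := fun k => Subtype.ext (by
        simp [j, S.HEmk_coe, ιE_coe])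
      simp only [χ, hcoe, S.hat_ι]
      cases c
      · simp only [cond_false, one_mul, Bool.false_eq_true, if_false]
        split_ifs with h1
        · rcases hi with rfl | rfl <;> simp [LChars.four, h1, X.e1_one, X.e2_one, hq, hδ] <;> ring
        · rcases hi with rfl | rfl <;> simp [LChars.four, X.e1_Y _ y.2 h1, X.e2_Y _ y.2 h1, hδ]
      · simp only [cond_true, if_true]
        have hev : 2 ∣ orderOf (S.D.u * (y : P)) := by
          rw [(show Commute S.D.u (y : P) from S.D.u_Y _ y.2).orderOf_mul_eq_mul_orderOf_of_coprime (by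
            rw [S.D.orderOf_u]; exact Nat.coprime_two_left.2 (S.D.odd_Y y.2)), S.D.orderOf_u]
          exact dvd_mul_right _ _
        rcases hi with rfl | rfl <;> simp [LChars.four, X.e1_even _ hev, X.e2_even _ hev, hδ]
    let g : Bool × S.D.Y → S.D.T := fun p => ⟨(bif p.1 then S.D.u else 1) * p.2, mul_mem
      (by cases p.1 <;> simp [one_mem, S.D.u_T]) (Or.inl p.2.2)⟩
    have hg : Function.Bijective g := by
      refine ⟨?_, fun k => ?_⟩
      · rintro ⟨b, y⟩ ⟨b', y'⟩ h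
        have h' := congrArg Subtype.val h
        cases b <;> cases b' <;> simp only [g, cond_true, cond_false, one_mul] at h'
        · rw [Subtype.ext h']
        · exact absurd (by rw [eq_mul_inv_of_mul_eq h'.symm]; exact mul_mem y.2 (inv_mem y'.2)) S.D.u_not_Y
        · exact absurd (by rw [eq_mul_inv_of_mul_eq h']; exact mul_mem y'.2 (inv_mem y.2)) S.D.u_not_Y
        · rw [Subtype.ext (mul_left_cancel h')]
      · rcases k.2 with hk | hk
        · exact ⟨(false, ⟨_, hk⟩), Subtype.ext (one_mul _)⟩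
        · exact ⟨(true, ⟨_, hk⟩), Subtype.ext (S.D.uu_cancel _)⟩
    have hcard : Nat.card S.D.T = 2 * S.D.r := by
      rw [← Nat.card_eq_of_bijective g hg, Nat.card_prod, S.D.card_Y, Nat.card_eq_fintype_card (α := Bool),
        Fintype.card_bool]
    let l : S.D.Y →* ℂˣ := lb.comp (MonoidHom.mk' (fun y => (⟨(y : P), Or.inl y.2⟩ : S.D.T)) fun a b => rfl)
    have hlg : ∀ (c : Bool) (y : S.D.Y), conj ((β : S.D.T → ℂ) (g (c, y))) =
        (bif c then conj ((β : S.D.T → ℂ) ⟨S.D.u, S.D.u_T⟩) else 1) * ((l⁻¹ y : ℂˣ) : ℂ) := by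
      intro c y
      have hinv : conj ((l y : ℂˣ) : ℂ) = ((l⁻¹ y : ℂˣ) : ℂ) := by
        rw [MonoidHom.inv_apply, Units.val_inv_eq_inv_val,
          ← IsIrr.apply_inv (isIrr_linear l) y]
        simp
      cases c
      · rw [show g (false, y) = ⟨(y : P), Or.inl y.2⟩ from Subtype.ext (one_mul _), cond_false, one_mul, ← hinv]
        rw [show (β : S.D.T → ℂ) ⟨(y : P), Or.inl y.2⟩ = ((l y : ℂˣ) : ℂ) from congrFun hlb _]
      · rw [show g (true, y) = ⟨S.D.u, S.D.u_T⟩ * ⟨(y : P), Or.inl y.2⟩ from Subtype.ext rfl, cond_true, ← hinv,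
          congrFun hlb, map_mul, Units.val_mul, map_mul, congrFun hlb]
        rfl
    have hbu : (β : S.D.T → ℂ) ⟨S.D.u, S.D.u_T⟩ = 1 ∨ (β : S.D.T → ℂ) ⟨S.D.u, S.D.u_T⟩ = -1 := by
      rw [congrFun hlb]
      refine mul_self_eq_one_iff.1 ?_
      rw [← Units.val_mul, ← map_mul, show (⟨S.D.u, S.D.u_T⟩ : S.D.T) * ⟨S.D.u, S.D.u_T⟩ = 1 from
        Subtype.ext S.D.u2, map_one, Units.val_one]
    rw [classInner, hcard, ← Fintype.sum_bijective g hg _ _ fun _ => rfl, Fintype.sum_prod_type,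
      Fintype.sum_bool] at hN
    have hval' : ∀ c y, χ i (j (g (c, y))) =
        if c then 1 else (if (y : P) = 1 then 2 * (S.D.r : ℂ) - 1 else -1) := hval
    simp only [hval', hlg, if_true, Bool.false_eq_true, if_false, cond_true, cond_false, one_mul] at hN
    rw [← Finset.mul_sum] at hN
    have hfalse : ∑ y : S.D.Y, (if (y : P) = 1 then 2 * (S.D.r : ℂ) - 1 else -1) * ((l⁻¹ y : ℂˣ) : ℂ) =
        2 * (S.D.r : ℂ) - ∑ y : S.D.Y, ((l⁻¹ y : ℂˣ) : ℂ) := by
      rw [eq_sub_iff_add_eq, ← Finset.sum_add_distrib, Finset.sum_eq_single (1 : S.D.Y)]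
      · rw [OneMemClass.coe_one, if_pos rfl, map_one, Units.val_one]; ring
      · intro y _ hy
        rw [if_neg fun e : (y : P) = (1 : P) => hy (Subtype.ext e)]; ring
      · intro h; exact absurd (Finset.mem_univ _) h
    rw [hfalse] at hN
    have hr : (S.D.r : ℂ) ≠ 0 := Nat.cast_ne_zero.2 (by have := S.D.r3; omega)
    have hs : ∑ y : S.D.Y, ((l⁻¹ y : ℂˣ) : ℂ) = 0 ∨ ∑ y : S.D.Y, ((l⁻¹ y : ℂˣ) : ℂ) = S.D.r := by
      by_cases hl : l⁻¹ = 1
      · right; simp [hl, ← Nat.card_eq_fintype_card, S.D.card_Y]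
      · left; exact linear_sum _ hl
    have hN1 : (N : ℂ) = ((1 : ℕ) : ℂ) ∨ (N : ℂ) = ((0 : ℕ) : ℂ) := by
      rcases hs with hs | hs <;> rcases hbu with hb' | hb' <;> rw [← hN, hs, hb'] <;> simp <;> field_simp <;> norm_num
    rcases hN1 with h | h <;> have := Nat.cast_injective h <;> omega
  -- equal multiplicities
  have heq : ∀ ψ : IrrCharacter (S.HE ⊤),
      classInner (χ 2) (ψ : S.HE ⊤ → ℂ) = classInner (χ 3) (ψ : S.HE ⊤ → ℂ) := by
    intro ψ
    obtain ⟨n2, h2⟩ := IsChar.classInner_nat (hχ 2) (IsIrr.isCharacter ψ.2)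
    obtain ⟨n3, h3⟩ := IsChar.classInner_nat (hχ 3) (IsIrr.isCharacter ψ.2)
    obtain ⟨nθ, h1⟩ := IsChar.classInner_nat hθ (IsIrr.isCharacter ψ.2)
    obtain ⟨ne, he⟩ := IsChar.classInner_nat (IsIrr.isCharacter (isIrr_linear (S.epsE ⊤))) (IsIrr.isCharacter ψ.2)
    have h : ((n2 + n3 + 2 * ne : ℕ) : ℂ) = ((2 * nθ : ℕ) : ℂ) := by
      push_cast
      rw [← h2, ← h3, ← he, ← h1]
      simp only [classInner, ← mul_assoc, Finset.mul_sum, ← Finset.sum_add_distrib]
      refine Finset.sum_congr rfl fun x _ => ?_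
      linear_combination ((Nat.card (S.HE ⊤) : ℂ)⁻¹ * conj ((ψ : S.HE ⊤ → ℂ) x)) * hsum x
    have h' := Nat.cast_injective h
    have a2 := hone 2 (Or.inl rfl) ψ n2 h2
    have a3 := hone 3 (Or.inr rfl) ψ n3 h3
    rw [h2, h3, show n2 = n3 by omega]
  have e := classFunction_expansion (IsGenChar.classFun (IsGenChar.of_isCharacter (hχ 2)))
  have e' := classFunction_expansion (IsGenChar.classFun (IsGenChar.of_isCharacter (hχ 3)))
  show χ 2 x = χ 3 x
  rw [e, e']
  simp only [heq]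

/-- The values on the elements of `Y ⋊ Fld` with a non-trivial part in `Y`. -/
theorem hat_YF {y : P} (hy : y ∈ S.D.Y) {a : G} (ha : a ∈ S.Fld) (x : S.EG) (hx : (x : G) = S.ι y * a)
    {n : ℕ} {y' : P} (hy' : y' ∈ S.D.Y) (hy1 : y' ≠ 1) (hn : x ^ n = S.ιE y') (hodd : Odd (orderOf x)) :
    (S.hat X hM 1 : S.EG → ℂ) x = -1 ∧ (S.hat X hM 2 : S.EG → ℂ) x = -1 ∧
      (S.hat X hM 3 : S.EG → ℂ) x = -1 := by
  have h1 := S.hat_St T hp hδ X hM x
  rw [S.piS_zero T hp hδ hn hy1 (by rw [mul_comm, pow_mul, S.D.pow_r hy', one_pow]), zero_sub] at h1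
  have h2 := S.hat_relation X hM hodd
  rw [h1, hδ] at h2
  have h3 := S.hat_halves T hp hδ X hM
    (⟨x, y, Or.inl hy, ⟨a, ha⟩, Subgroup.mem_top _, hx⟩ : S.HE ⊤)
  change (S.hat X hM 2 : S.EG → ℂ) x = (S.hat X hM 3 : S.EG → ℂ) x at h3
  rw [← h3] at h2
  push_cast at h2
  have h4 : (S.hat X hM 2 : S.EG → ℂ) x = -1 := by linear_combination -h2 / 2
  exact ⟨h1, h4, h3.symm.trans h4⟩

end Cfsg.Agent.Invol.JankoWard.ExtBase
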