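import Cfsg.Agent.Lib.Invol.JankoWard.ExtExcH
import Cfsg.Agent.Lib.Invol.JankoWard.ExtCount
import Cfsg.Agent.Lib.Invol.JankoWard.ExtStHat

/-!
# The fusion of `⟨t, u⟩ × (Y ⋊ F₁)`

`rho`: the representatives; `act_el`: their action; `mem_reps`: an element conjugating into `H` an element with a
non-trivial `s`-part in `Y` lies in `H` times a representative.
-/

open scoped ComplexConjugate

set_option autoImplicit false
set_option linter.unusedSectionVars false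
set_option linter.style.haveILetI false

open scoped Classical

namespace Cfsg.Agent.Invol.JankoWard

open Cfsg Cfsg.Agent.Char Subgroup

universe u v

namespace ExtBase

variable {G : Type u} [Group G] {P : Type v} [Group P] (S : ExtBase G P)

theorem v4_cent {x : G} (h1 : x * S.t = S.t * x) (h2 : x * S.ι S.D.u = S.ι S.D.u * x) (q : Fin 4) :
    Commute x (S.v4 q) := by
  fin_cases q
  · exact Commute.one_right _
  · exact h1
  · exact h2
  · exact Commute.mul_right h1 h2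

theorem v4_split (q : Fin 4) :
    ∃ (b : Bool) (k : P), (k = 1 ∨ k = S.D.u) ∧ S.v4 q = (bif b then S.t else 1) * S.ι k := by
  fin_cases q
  · exact ⟨false, 1, Or.inl rfl, by simp [v4]⟩
  · exact ⟨true, 1, Or.inl rfl, by simp [v4]⟩
  · exact ⟨false, S.D.u, Or.inr rfl, by simp [v4]⟩
  · exact ⟨true, S.D.u, Or.inr rfl, by simp [v4]⟩

namespace ExcAux

theorem F_comm {a b : G} (ha : a ∈ S.Fld) (hb : b ∈ S.Fld) : a * b = b * a := by
  haveI := S.F_cyclic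
  exact congrArg Subtype.val (mul_comm' (⟨a, ha⟩ : S.Fld) ⟨b, hb⟩)

end ExcAux

/-- An element of odd order does not invert a non-trivial element of `Y`. -/
theorem not_inverts {n : G} {y : P} (hy : y ∈ S.D.Y) (hy1 : y ≠ 1) {N : ℕ} (hN : Odd N) (hn : n ^ N = 1) :
    n * S.ι y * n⁻¹ ≠ S.ι y⁻¹ := by
  intro h
  have hpow : ∀ j : ℕ, n ^ j * S.ι y * (n ^ j)⁻¹ = if Even j then S.ι y else S.ι y⁻¹ := by
    intro j
    induction j with
    | zero => simp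
    | succ j ih =>
      rw [show n ^ (j + 1) * S.ι y * (n ^ (j + 1))⁻¹ = n * (n ^ j * S.ι y * (n ^ j)⁻¹) * n⁻¹ by
        rw [pow_succ']; group, ih]
      by_cases hj : Even j
      · rw [if_pos hj, if_neg (by simpa [Nat.even_add_one] using hj), h]
      · rw [if_neg hj, if_pos (Nat.even_add_one.2 hj), map_inv, ← conj_inv, h, map_inv, inv_inv]
  have h1 := hpow N
  rw [if_neg (Nat.not_even_iff_odd.2 hN), hn, one_mul, inv_one, mul_one] at h1
  exact hy1 (S.D.Y_sq hy (mul_eq_one_iff_eq_inv.2 (S.inj h1)))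

theorem pow_odd_el {y : P} (hy : y ∈ S.D.Y) {a : G} (ha : a ∈ S.Fld) (n : ℕ) :
    ∃ y' ∈ S.D.Y, (S.ι y * a) ^ n = S.ι y' * a ^ n := by
  induction n with
  | zero => exact ⟨1, one_mem _, by simp⟩
  | succ n ih =>
    obtain ⟨y', hy', e⟩ := ih
    obtain ⟨y'', hy'', e'⟩ := S.F_Y (pow_mem ha n) hy
    refine ⟨y' * y'', mul_mem hy' hy'', ?_⟩
    rw [pow_succ, pow_succ, e, map_mul, ← e']
    group

theorem pow_YF {y : P} (hy : y ∈ S.D.Y) {a : G} (ha : a ∈ S.Fld) :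
    (S.ι y * a) ^ (Nat.card S.Fld * S.D.r) = 1 := by
  obtain ⟨y', hy', e⟩ := S.pow_odd_el hy ha (Nat.card S.Fld)
  rw [pow_mul, e, show a ^ Nat.card S.Fld = 1 from congrArg Subtype.val (pow_card_eq_one' (x := (⟨a, ha⟩ : S.Fld))),
    mul_one, ← map_pow, S.D.pow_r hy', map_one]

theorem odd_YF [Finite G] {y : P} (hy : y ∈ S.D.Y) {a : G} (ha : a ∈ S.Fld) : Odd (orderOf (S.ι y * a)) :=
  (S.F_odd.mul S.D.r_odd).of_dvd_nat (orderOf_dvd_of_pow_eq_one (S.pow_YF hy ha))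

/-- An element centralising `t` and `u`. -/
theorem cent_tu {d : G} (h1 : d * S.t = S.t * d) (h2 : d * S.ι S.D.u = S.ι S.D.u * d) :
    ∃ (b : Bool) (k : P), (k ∈ S.D.T ∨ k * S.D.w ∈ S.D.T) ∧ ∃ a ∈ S.Fld,
      d = (bif b then S.t else 1) * (S.ι k * a) := by
  obtain ⟨k, a, ha, e⟩ := S.cover d h1
  obtain ⟨b, e⟩ : ∃ b : Bool, d = (bif b then S.t else 1) * (S.ι k * a) := by
    rcases e with e | e
    · exact ⟨false, by simp [e]⟩
    · exact ⟨true, by simp [e]⟩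
  refine ⟨b, k, ?_, a, ha, e⟩
  have hku : k * S.D.u = S.D.u * k := by
    refine S.inj ?_
    rw [map_mul, map_mul]
    have hc : Commute (bif b then S.t else 1) (S.ι S.D.u) := by
      cases b
      · exact Commute.one_left _
      · exact (S.tc _).symm
    rw [e] at h2
    have h3 : S.ι k * a * S.ι S.D.u = S.ι S.D.u * (S.ι k * a) := mul_left_cancel
      (a := (bif b then S.t else 1)) (by rw [← mul_assoc, h2, ← mul_assoc, ← mul_assoc, ← hc.eq]; simp only [mul_assoc])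
    rw [mul_assoc, S.Fu a ha, ← mul_assoc, ← mul_assoc] at h3
    exact mul_right_cancel h3
  obtain ⟨y, hy, hk⟩ := S.D.cent_u k hku
  have hyw : y * S.D.w = S.D.w * y⁻¹ := by
    have h := S.D.w_Y _ (inv_mem hy)
    rw [inv_inv] at h
    calc y * S.D.w = S.D.w * y⁻¹ * S.D.w⁻¹ * S.D.w := by rw [h]
      _ = S.D.w * y⁻¹ := by group
  rcases hk with rfl | rfl | rfl | rfl
  · exact Or.inl (Or.inl hy)
  · exact Or.inl (Or.inr (by rwa [S.D.uu_cancel]))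
  · refine Or.inr (Or.inl ?_)
    rw [mul_assoc, hyw, ← mul_assoc, S.D.w2, one_mul]
    exact inv_mem hy
  · refine Or.inr (Or.inr ?_)
    rw [mul_assoc (S.D.u * S.D.w), hyw, mul_assoc S.D.u, ← mul_assoc S.D.w, S.D.w2, one_mul, S.D.uu_cancel]
    exact inv_mem hy

end ExtBase

namespace Exc

variable {G : Type u} [Group G] [Fintype G] {P : Type v} [Group P] [Fintype P] {S : ExtBase G P}
  {L : ExtLocals S} (E : Exc L)

/-- The indices of the representatives. -/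
abbrev Reps : Type := Fin 3 × Bool × Fin E.k

/-- A representative. -/
def rho (p : E.Reps) : G :=
  (bif p.2.1 then S.ι S.D.w else 1) * ((E.φ : G) ^ (p.2.2 : ℕ) * L.g ^ (p.1 : ℕ))

/-- The action on the four-group. -/
def rot : Fin 3 → Fin 4 → Fin 4 := ![![0, 1, 2, 3], ![0, 2, 3, 1], ![0, 3, 1, 2]]

theorem g_tu : L.g * (S.t * S.ι S.D.u) * L.g⁻¹ = S.t := by
  rw [← conj_mul, L.gt, L.gu, ← mul_assoc, S.tc, mul_assoc, S.ιuu, mul_one]

theorem g_v4 (q : Fin 4) : L.g * S.v4 q * L.g⁻¹ = S.v4 (rot 1 q) := by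
  fin_cases q
  · simp [ExtBase.v4, rot]
  · simpa [ExtBase.v4, rot] using L.gt
  · simpa [ExtBase.v4, rot] using L.gu
  · simpa [ExtBase.v4, rot] using g_tu (L := L)

theorem gpow_v4 (i : Fin 3) (q : Fin 4) : L.g ^ (i : ℕ) * S.v4 q * (L.g ^ (i : ℕ))⁻¹ = S.v4 (rot i q) := by
  fin_cases i
  · fin_cases q <;> simp [rot]
  · simpa using g_v4 (L := L) q
  · calc L.g ^ 2 * S.v4 q * (L.g ^ 2)⁻¹ = L.g * (L.g * S.v4 q * L.g⁻¹) * L.g⁻¹ := by rw [pow_two]; group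
      _ = S.v4 (rot 2 q) := by
        rw [g_v4, g_v4]
        fin_cases q <;> rfl

theorem rho_v4 (p : E.Reps) (q : Fin 4) : E.rho p * S.v4 q * (E.rho p)⁻¹ = S.v4 (rot p.1 q) := by
  have hc : Commute ((bif p.2.1 then S.ι S.D.w else 1) * (E.φ : G) ^ (p.2.2 : ℕ)) (S.v4 (rot p.1 q)) := by
    refine Commute.mul_left ?_ ((S.v4_cent (S.Ft _ E.φ.2) (S.Fu _ E.φ.2) _).pow_left _)
    cases p.2.1
    · exact Commute.one_left _
    · exact S.v4_cent (S.tc _) (by rw [← map_mul, ← map_mul, S.D.comm]) _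
  calc E.rho p * S.v4 q * (E.rho p)⁻¹ = ((bif p.2.1 then S.ι S.D.w else 1) * (E.φ : G) ^ (p.2.2 : ℕ)) *
        (L.g ^ (p.1 : ℕ) * S.v4 q * (L.g ^ (p.1 : ℕ))⁻¹) *
        ((bif p.2.1 then S.ι S.D.w else 1) * (E.φ : G) ^ (p.2.2 : ℕ))⁻¹ := by simp only [rho]; group
    _ = S.v4 (rot p.1 q) := by rw [gpow_v4, hc.eq, mul_inv_cancel_right]

theorem g_pow_Y (n : ℕ) {y : P} (hy : y ∈ S.D.Y) : ∃ y' ∈ S.D.Y, L.g ^ n * S.ι y * (L.g ^ n)⁻¹ = S.ι y' := by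
  induction n with
  | zero => exact ⟨y, hy, by simp⟩
  | succ n ih =>
    obtain ⟨y', hy', e⟩ := ih
    obtain ⟨y'', hy'', e'⟩ := L.gY y' hy'
    exact ⟨y'', hy'', by rw [← e', ← e, pow_succ']; group⟩

theorem rho_Y (p : E.Reps) : ∀ y ∈ S.D.Y, ∃ y' ∈ S.D.Y, E.rho p * S.ι y * (E.rho p)⁻¹ = S.ι y' := by
  intro y hy
  obtain ⟨y1, h1, e1⟩ := g_pow_Y (L := L) p.1 hy
  obtain ⟨y2, h2, e2⟩ := S.F_Y (pow_mem E.φ.2 (p.2.2 : ℕ)) h1
  cases hb : p.2.1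
  · exact ⟨y2, h2, by rw [← e2, ← e1]; simp only [rho, hb, cond_false]; group⟩
  · refine ⟨y2⁻¹, inv_mem h2, ?_⟩
    rw [← S.D.w_Y y2 h2, map_mul, map_mul, map_inv, ← e2, ← e1]
    simp only [rho, hb, cond_true]
    group

theorem rho_F (p : E.Reps) {a : G} (ha : a ∈ S.Fld) : Commute (E.rho p) a := by
  refine Commute.mul_left ?_ (Commute.mul_left ((show Commute (E.φ : G) a from ExtBase.ExcAux.F_comm S E.φ.2 ha).pow_left _)
    ((show Commute L.g a from L.gF a ha).pow_left _))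
  cases p.2.1
  · exact Commute.one_left _
  · exact (S.Fw a ha).symm

/-- The exponent of a representative on `Y`. -/
noncomputable def cexp (p : E.Reps) : ℤ := (S.exists_exp (E.rho_Y p)).choose

theorem cexp_spec (p : E.Reps) : ∀ y ∈ S.D.Y, E.rho p * S.ι y * (E.rho p)⁻¹ = S.ι (y ^ E.cexp p) :=
  (S.exists_exp (E.rho_Y p)).choose_spec

theorem act_el (p : E.Reps) (q : Fin 4) (y : S.D.Y) (a : E.F₁) :
    E.rho p * (E.el (q, y, a) : G) * (E.rho p)⁻¹ = (E.el (rot p.1 q, y ^ E.cexp p, a) : G) := by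
  rw [el_coe, el_coe, ← conj_mul, ← conj_mul, E.rho_v4, E.cexp_spec p y y.2,
    (E.rho_F p (a : S.Fld).2).eq, mul_inv_cancel_right, SubgroupClass.coe_zpow]

theorem rho_fix_iff (p : E.Reps) :
    E.rho p * S.ι E.z = S.ι E.z * E.rho p ↔ (E.s : ℤ) ∣ E.cexp p - 1 := E.dvd_of_comm (E.cexp_spec p)

theorem cexp_ndvd (p : E.Reps) : ¬ (E.s : ℤ) ∣ E.cexp p := by
  intro h
  have h1 : E.z ^ E.cexp p = 1 := orderOf_dvd_iff_zpow_eq_one.1 (by rw [E.hzo]; exact h)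
  have h2 := E.cexp_spec p E.z E.hz
  rw [h1, map_one, conj_eq_one_iff, ← map_one S.ι] at h2
  exact E.z_ne (S.inj h2)

theorem j_act_ne (p : E.Reps) {y : S.D.Y} (h : E.j y ≠ 1) : E.j (y ^ E.cexp p) ≠ 1 := by
  intro e
  rw [map_zpow, ← orderOf_dvd_iff_zpow_eq_one] at e
  have h1 : orderOf (E.j y) ∣ E.s := orderOf_dvd_of_pow_eq_one (by
    have := DFunLike.congr_fun (show E.j ^ E.s = 1 by rw [← E.j_order, pow_orderOf_eq_one]) y
    exact this)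
  rcases (Nat.dvd_prime E.hs).1 h1 with h2 | h2
  · exact h (orderOf_eq_one_iff.1 h2)
  · rw [h2] at e; exact E.cexp_ndvd p e

theorem m_eq {m m' : Fin E.k} (h : (E.φ ^ (m : ℕ))⁻¹ * E.φ ^ (m' : ℕ) ∈ E.F₁) : m = m' := by
  obtain ⟨m0, -, huniq⟩ := E.cover (E.φ ^ (m' : ℕ))
  exact (huniq m h).trans (huniq m' (by simp only [inv_mul_cancel]; exact one_mem _)).symm

theorem rot_one_inj : Function.Injective fun i : Fin 3 => rot i 1 := by decide

theorem rep_eq {p p' : E.Reps} (hi : p.1 = p'.1)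
    (h : E.rho p * S.ι E.z * (E.rho p)⁻¹ = E.rho p' * S.ι E.z * (E.rho p')⁻¹) : p = p' := by
  obtain ⟨i, b, m⟩ := p
  obtain ⟨i', b', m'⟩ := p'
  simp only at hi
  subst hi
  obtain ⟨y1, hy1, e1⟩ := S.F_Y (pow_mem E.φ.2 (m : ℕ)) E.hz
  obtain ⟨y2, hy2, e2⟩ := S.F_Y (pow_mem E.φ.2 (m' : ℕ)) E.hz
  obtain ⟨z1, hz1, d1⟩ := g_pow_Y (L := L) i hy1
  obtain ⟨z2, hz2, d2⟩ := g_pow_Y (L := L) i hy2
  have hg : ∀ n : ℕ, Commute ((E.φ : G) ^ n) (L.g ^ (i : ℕ)) := fun n =>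
    ((show Commute L.g (E.φ : G) from L.gF _ E.φ.2).symm.pow_pow n (i : ℕ))
  have hval : ∀ (b : Bool) (n : ℕ) (y z' : P), z' ∈ S.D.Y → (E.φ : G) ^ n * S.ι E.z * ((E.φ : G) ^ n)⁻¹ = S.ι y →
      L.g ^ (i : ℕ) * S.ι y * (L.g ^ (i : ℕ))⁻¹ = S.ι z' →
      ((bif b then S.ι S.D.w else 1) * ((E.φ : G) ^ n * L.g ^ (i : ℕ))) * S.ι E.z *
        ((bif b then S.ι S.D.w else 1) * ((E.φ : G) ^ n * L.g ^ (i : ℕ)))⁻¹ =
      S.ι (bif b then z'⁻¹ else z') := by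
    intro b n y z' hz' e d
    rw [(hg n).eq]
    cases b
    · simp only [cond_false, one_mul]; rw [← d, ← e]; group
    · simp only [cond_true]; rw [← S.D.w_Y z' hz', map_mul, map_mul, map_inv, ← d, ← e]; group
  simp only [rho] at h
  rw [hval b m y1 z1 hz1 e1 d1, hval b' m' y2 z2 hz2 e2 d2] at h
  have hz : (bif b then z1⁻¹ else z1) = (bif b' then z2⁻¹ else z2) := S.inj h
  set n : S.Fld := (E.φ ^ (m : ℕ))⁻¹ * E.φ ^ (m' : ℕ) with hn
  have hnG : (n : G) = ((E.φ : G) ^ (m : ℕ))⁻¹ * (E.φ : G) ^ (m' : ℕ) := by simp [n]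
  have hback : ∀ e : P, (L.g ^ (i : ℕ)) * S.ι y2 * (L.g ^ (i : ℕ))⁻¹ =
      L.g ^ (i : ℕ) * S.ι e * (L.g ^ (i : ℕ))⁻¹ → S.ι y2 = S.ι e :=
    fun e he => mul_left_cancel (mul_right_cancel he)
  have hbb : b = b' := by
    by_contra hne
    have hz' : z2 = z1⁻¹ := by
      cases b <;> cases b' <;> simp_all
    have h1 : S.ι y2 = S.ι y1⁻¹ := hback _ (by rw [d2, hz', map_inv, map_inv, ← d1, conj_inv])
    refine S.not_inverts E.hz E.z_ne S.F_odd (n := (n : G)) ?_ ?_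
    · exact congrArg Subtype.val (pow_card_eq_one' (x := n))
    · rw [hnG, map_inv, show ((E.φ : G) ^ (m : ℕ))⁻¹ * (E.φ : G) ^ (m' : ℕ) * S.ι E.z *
        (((E.φ : G) ^ (m : ℕ))⁻¹ * (E.φ : G) ^ (m' : ℕ))⁻¹ = ((E.φ : G) ^ (m : ℕ))⁻¹ *
          ((E.φ : G) ^ (m' : ℕ) * S.ι E.z * ((E.φ : G) ^ (m' : ℕ))⁻¹) * (E.φ : G) ^ (m : ℕ) by group,
        e2, h1, map_inv, ← e1]
      group
  subst hbb
  have hz' : z1 = z2 := by
    cases b <;> simp_all
  have h1 : S.ι y2 = S.ι y1 := hback _ (by rw [d2, ← hz', d1])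
  obtain rfl : m = m' := E.m_eq ((E.stab n).1 (mul_inv_eq_iff_eq_mul.1 (by
    rw [hnG, show ((E.φ : G) ^ (m : ℕ))⁻¹ * (E.φ : G) ^ (m' : ℕ) * S.ι E.z *
        (((E.φ : G) ^ (m : ℕ))⁻¹ * (E.φ : G) ^ (m' : ℕ))⁻¹ = ((E.φ : G) ^ (m : ℕ))⁻¹ *
          ((E.φ : G) ^ (m' : ℕ) * S.ι E.z * ((E.φ : G) ^ (m' : ℕ))⁻¹) * (E.φ : G) ^ (m : ℕ) by group,
        e2, h1, ← e1]
    group)))
  rfl

theorem rep_map_injective : Function.Injective fun q : E.H × E.Reps => (q.1 : G) * E.rho q.2 := by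
  rintro ⟨c, p⟩ ⟨c', p'⟩ h
  simp only at h
  have key : ∀ (c : E.H) (p : E.Reps) (x : G),
      ((c : G) * E.rho p) * x * ((c : G) * E.rho p)⁻¹ = (c : G) * (E.rho p * x * (E.rho p)⁻¹) * (c : G)⁻¹ :=
    fun c p x => by group
  have hv : ∀ (c : E.H) (p : E.Reps), ((c : G) * E.rho p) * S.v4 1 * ((c : G) * E.rho p)⁻¹ = S.v4 (rot p.1 1) :=
    fun c p => by rw [key, E.rho_v4, E.H_cent_V c.2, mul_inv_cancel_right]
  have hi : p.1 = p'.1 := rot_one_inj (S.v4_injective (by rw [← hv c p, h, hv c' p']))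
  have hzc : ∀ (c : E.H) (y : P), y ∈ S.D.Y → (∀ a ∈ E.F₁, ((a : S.Fld) : G) * S.ι y = S.ι y * ((a : S.Fld) : G)) →
      (c : G) * S.ι y = S.ι y * (c : G) := by
    intro c y hy hfix
    obtain ⟨⟨q, y', a⟩, rfl⟩ := E.el_surjective c
    rw [el_coe]
    exact (((S.v4_cent (S.tc _) (by rw [← map_mul, ← map_mul, S.D.u_Y y hy]) q).symm.mul_left
      (show Commute (S.ι (y' : P)) (S.ι y) by
        show _ * _ = _ * _
        rw [← map_mul, ← map_mul, S.D.Y_comm y'.2 hy])).mul_left (hfix _ a.2)).eq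
  have hfix : ∀ (p : E.Reps), ∀ a ∈ E.F₁, ((a : S.Fld) : G) * S.ι (E.z ^ E.cexp p) =
      S.ι (E.z ^ E.cexp p) * ((a : S.Fld) : G) := fun p a ha => by
    rw [map_zpow]
    exact ((show Commute ((a : S.Fld) : G) (S.ι E.z) from (E.stab a).2 ha).zpow_right _).eq
  have hz : ∀ (c : E.H) (p : E.Reps), ((c : G) * E.rho p) * S.ι E.z * ((c : G) * E.rho p)⁻¹ =
      E.rho p * S.ι E.z * (E.rho p)⁻¹ := fun c p => by
    rw [key, E.cexp_spec p E.z E.hz, hzc c _ (zpow_mem E.hz _) (hfix p), mul_inv_cancel_right]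
  obtain rfl : p = p' := E.rep_eq hi (by rw [← hz c p, h, hz c' p'])
  rw [Subtype.ext (mul_right_cancel h : (c : G) = c')]

/-- The projection on `F₁`. -/
noncomputable def aH : E.H →* S.Fld := S.fp.comp ((S.HE E.F₁).subtype.comp E.κH)

theorem aH_el (q : Fin 4) (y : S.D.Y) (a : E.F₁) : E.aH (E.el (q, y, a)) = (a : S.Fld) := by
  obtain ⟨k, e, -⟩ := E.κH_el q y a
  simp only [aH, MonoidHom.comp_apply, Subgroup.coe_subtype, e, S.fp_HEmk]

theorem el_one : E.el (0, 1, 1) = 1 := Subtype.ext (by simp [el_coe, ExtBase.v4])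

theorem el_pow (q : Fin 4) (y : S.D.Y) {N : ℕ} (hN : Odd N) :
    (E.el (q, y, 1)) ^ N = E.el (q, y ^ N, 1) := by
  refine Subtype.ext ?_
  rw [Subgroup.coe_pow, el_coe, el_coe]
  simp only [OneMemClass.coe_one, mul_one, Subgroup.coe_pow, map_pow]
  rw [(S.v4_cent (S.tc _) (by rw [← map_mul, ← map_mul, S.D.u_Y _ y.2]) q).symm.mul_pow]
  obtain ⟨j, rfl⟩ := hN
  congr 1
  rw [pow_succ, pow_mul, pow_two, S.v4_sq, one_pow, one_mul]

theorem J_pow_s (h : E.H) : E.J h ^ E.s = 1 := by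
  obtain ⟨⟨q, y, a⟩, rfl⟩ := E.el_surjective h
  rw [(E.values_el false q y a).2.2]
  exact DFunLike.congr_fun (show E.j ^ E.s = 1 by rw [← E.j_order, pow_orderOf_eq_one]) y

/-- The `s`-part of an element of `H` outside the kernel of `J` lies in `Y`. -/
theorem exists_zpart {h : E.H} (hJ : E.J h ≠ 1) :
    ∃ (z : P) (m : ℕ), z ∈ S.D.Y ∧ z ≠ 1 ∧ (∃ j, z ^ E.s ^ j = 1) ∧ (h : G) ^ m = S.ι z ∧
      ¬ E.s ∣ orderOf ((S.ι z)⁻¹ * (h : G)) := by
  haveI := Fact.mk E.hs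
  obtain ⟨α, n0, hn0, hn⟩ := Nat.exists_eq_pow_mul_and_not_dvd (orderOf_pos h).ne' E.s E.hs.ne_one
  have hα : α ≠ 0 := by
    rintro rfl
    have h1 : orderOf (E.J h) ∣ orderOf h := orderOf_map_dvd E.J h
    rw [orderOf_eq_prime (E.J_pow_s h) hJ, hn, pow_zero, one_mul] at h1
    exact hn0 h1
  have hcop : Nat.Coprime (E.s ^ α) n0 := (E.hs.coprime_iff_not_dvd.2 hn0).pow_left α
  obtain ⟨m, hm1, hm2⟩ := Nat.chineseRemainder hcop 1 0
  have hs : (h ^ m) ^ E.s ^ α = 1 := by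
    rw [← pow_mul]
    obtain ⟨w, hw⟩ := Nat.modEq_zero_iff_dvd.1 hm2
    rw [hw, show n0 * w * E.s ^ α = orderOf h * w by rw [hn]; ring, pow_mul, pow_orderOf_eq_one, one_pow]
  obtain ⟨⟨q, y, a⟩, he⟩ := E.el_surjective (h ^ m)
  have ha : a = 1 := by
    refine Subtype.ext ?_
    have h1 : E.aH (h ^ m) ^ E.s ^ α = 1 := by rw [← map_pow, hs, map_one]
    rw [← he, E.aH_el] at h1
    exact orderOf_eq_one_iff.1 (Nat.eq_one_of_dvd_coprimes (((E.hs.coprime_iff_not_dvd.2 E.hsF)).pow_left α)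
      (orderOf_dvd_of_pow_eq_one h1) (orderOf_dvd_natCard _))
  subst ha
  have hq : q = 0 := by
    have h1 := hs
    rw [← he, E.el_pow q y ((E.hs.odd_of_ne_two E.hs2).pow), ← E.el_one] at h1
    exact (Prod.mk.inj (E.el_injective h1)).1
  subst hq
  have hJm : E.J (h ^ m) = E.J h := by
    rw [map_pow]
    have h2 : m ≡ 1 [MOD orderOf (E.J h)] := by
      rw [orderOf_eq_prime (E.J_pow_s h) hJ]
      exact hm1.of_dvd (dvd_pow_self _ hα)
    conv_rhs => rw [← pow_one (E.J h)]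
    exact pow_eq_pow_iff_modEq.2 h2
  have hy1 : (y : P) ≠ 1 := fun e => hJ (by
    rw [← hJm, ← he, (E.values_el false 0 y 1).2.2, show y = 1 from Subtype.ext e, map_one])
  have hcoe : (h : G) ^ m = S.ι (y : P) := by
    rw [← Subgroup.coe_pow, ← he, el_coe]; simp [ExtBase.v4]
  refine ⟨y, m, y.2, hy1, ⟨α, S.inj ?_⟩, hcoe, fun hd => ?_⟩
  · rw [map_pow, map_one, ← hcoe, ← Subgroup.coe_pow, ← Subgroup.coe_pow, hs, OneMemClass.coe_one]
  · have h1 : ((S.ι (y : P))⁻¹ * (h : G)) ^ n0 = 1 := by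
      rw [← hcoe, ← Subgroup.coe_pow, ← Subgroup.coe_inv, ← Subgroup.coe_mul, ← Subgroup.coe_pow,
        ← OneMemClass.coe_one E.H]
      congr 1
      rw [(show Commute ((h ^ m)⁻¹) h from ((Commute.refl h).pow_left m).inv_left).mul_pow, inv_pow, ← pow_mul,
        inv_mul_eq_one, pow_eq_pow_iff_modEq, hn]
      calc m * n0 ≡ 1 * n0 [MOD E.s ^ α * n0] := hm1.mul_right' n0
        _ = n0 := one_mul _
    exact hn0 (hd.trans (orderOf_dvd_of_pow_eq_one h1))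

theorem t_H : S.t ∈ E.H := by
  have h := (E.el (1, 1, 1)).2
  rwa [el_coe, OneMemClass.coe_one, map_one, mul_one, OneMemClass.coe_one, OneMemClass.coe_one, mul_one] at h

theorem Y_H {y : P} (hy : y ∈ S.D.Y) : S.ι y ∈ E.H := by
  have h := (E.el (0, ⟨y, hy⟩, 1)).2
  simpa [el_coe, ExtBase.v4] using h

theorem T_H {k : P} (hk : k ∈ S.D.T) : S.ι k ∈ E.H := by
  rcases hk with hk | hk
  · exact E.Y_H hk
  · have h := (E.el (2, ⟨_, hk⟩, 1)).2
    simp only [el_coe, OneMemClass.coe_one, mul_one, ExtBase.v4, Matrix.cons_val] at h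
    rwa [← map_mul, S.D.uu_cancel] at h

theorem F_H {a : S.Fld} (ha : a ∈ E.F₁) : (a : G) ∈ E.H := by
  have h := (E.el (0, 1, ⟨a, ha⟩)).2
  simpa [el_coe, ExtBase.v4] using h

theorem mem_reps {h : E.H} (hJ : E.J h ≠ 1) {x : G} (hx : x * (h : G) * x⁻¹ ∈ E.H) :
    ∃ (c : E.H) (p : E.Reps), x = (c : G) * E.rho p := by
  obtain ⟨z, m, hz, hz1, hzs, hzm, -⟩ := E.exists_zpart hJ
  have hv : ∀ q, q ≠ 0 → ∃ q', x⁻¹ * S.v4 q * x = S.v4 q' ∧ q' ≠ 0 := by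
    intro q hq
    have hc : Commute (x⁻¹ * S.v4 q * x) (h : G) := by
      have h1 : x * (h : G) * x⁻¹ * S.v4 q = S.v4 q * (x * (h : G) * x⁻¹) := E.H_cent_V hx q
      show _ = _
      calc x⁻¹ * S.v4 q * x * (h : G) = x⁻¹ * (S.v4 q * (x * (h : G) * x⁻¹)) * x := by group
        _ = x⁻¹ * (x * (h : G) * x⁻¹ * S.v4 q) * x := by rw [h1]
        _ = (h : G) * (x⁻¹ * S.v4 q * x) := by group
    have hi : (x⁻¹ * S.v4 q * x) * (x⁻¹ * S.v4 q * x) = 1 := by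
      rw [show (x⁻¹ * S.v4 q * x) * (x⁻¹ * S.v4 q * x) = x⁻¹ * (S.v4 q * S.v4 q) * x by group, S.v4_sq]; group
    obtain ⟨q', hq'⟩ := E.invol z hz hz1 hzs _ hi (by rw [← hzm]; exact (hc.pow_right m).eq)
    refine ⟨q', hq', fun e => hq (S.v4_injective ?_)⟩
    rw [e] at hq'
    have h2 : x⁻¹ * S.v4 q * x = 1 := hq'.trans (by simp [ExtBase.v4])
    calc S.v4 q = x * (x⁻¹ * S.v4 q * x) * x⁻¹ := by group
      _ = S.v4 0 := by rw [h2]; simp [ExtBase.v4]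
  have hset : ∀ q : Fin 4, q ≠ 0 → S.v4 q ∈ ({S.t, S.ι S.D.u, S.t * S.ι S.D.u} : Set G) := by
    intro q hq
    fin_cases q <;> simp [ExtBase.v4] at hq ⊢
  obtain ⟨q1, e1, hq1⟩ := hv 1 (by decide)
  obtain ⟨q2, e2, hq2⟩ := hv 2 (by decide)
  obtain ⟨i, k, hk, a, ha, e⟩ := L.norm_F x⁻¹
    (by rw [inv_inv, show S.t = S.v4 1 from rfl, e1]; exact hset _ hq1)
    (by rw [inv_inv, show S.ι S.D.u = S.v4 2 from rfl, e2]; exact hset _ hq2)
  obtain ⟨D, hDt, hDu, e⟩ : ∃ D : G, D * S.t = S.t * D ∧ D * S.ι S.D.u = S.ι S.D.u * D ∧ x⁻¹ = L.g ^ i * D := by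
    have h1 : Commute (S.ι k * a) S.t := Commute.mul_left (S.tc k) (S.Ft a ha)
    have h2 : Commute (S.ι k * a) (S.ι S.D.u) := Commute.mul_left
      (show _ * _ = _ * _ by rw [← map_mul, ← map_mul, hk]) (S.Fu a ha)
    rcases e with e | e
    · exact ⟨_, h1, h2, e⟩
    · exact ⟨_, ((Commute.refl S.t).mul_left h1).eq, ((show Commute S.t (S.ι S.D.u) from (S.tc _).symm).mul_left h2).eq, e⟩
  obtain ⟨b, k', hk', a', ha', hd⟩ := S.cent_tu (d := D⁻¹) ((show Commute D S.t from hDt).inv_left.eq)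
    ((show Commute D (S.ι S.D.u) from hDu).inv_left.eq)
  have hgi : (L.g ^ i)⁻¹ = L.g ^ ((2 * i) % 3) := by
    have h1 : ∀ n : ℕ, L.g ^ n = L.g ^ (n % 3) := fun n => by
      conv_lhs => rw [← Nat.div_add_mod n 3, pow_add, pow_mul, L.g3, one_pow, one_mul]
    refine inv_eq_of_mul_eq_one_right ?_
    rw [← h1, ← pow_add, show i + 2 * i = 3 * i by ring, pow_mul, L.g3, one_pow]
  have hxe : x = D⁻¹ * (L.g ^ i)⁻¹ := by rw [← mul_inv_rev, ← e, inv_inv]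
  rw [hd, hgi] at hxe
  obtain ⟨m', hm', -⟩ := E.cover ⟨a', ha'⟩
  set a1 : S.Fld := (E.φ ^ (m' : ℕ))⁻¹ * ⟨a', ha'⟩ with ha1
  have hφa : a' = (a1 : G) * (E.φ : G) ^ (m' : ℕ) := by
    rw [ExtBase.ExcAux.F_comm S a1.2 (pow_mem E.φ.2 _)]; simp [a1]
  have hbH : (bif b then S.t else 1) ∈ E.H := by
    cases b
    · exact one_mem _
    · exact E.t_H
  rcases hk' with hk' | hk'
  · refine ⟨⟨(bif b then S.t else 1) * (S.ι k' * (a1 : G)), mul_mem hbH (mul_mem (E.T_H hk') (E.F_H hm'))⟩,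
      (⟨(2 * i) % 3, Nat.mod_lt _ (by norm_num)⟩, false, m'), ?_⟩
    rw [hxe, hφa]
    simp only [rho, cond_false, one_mul]
    group
  · refine ⟨⟨(bif b then S.t else 1) * (S.ι (k' * S.D.w) * (a1 : G)), mul_mem hbH (mul_mem (E.T_H hk') (E.F_H hm'))⟩,
      (⟨(2 * i) % 3, Nat.mod_lt _ (by norm_num)⟩, true, m'), ?_⟩
    rw [hxe, hφa]
    simp only [rho, cond_true]
    have hw : (a1 : G) * S.ι S.D.w = S.ι S.D.w * (a1 : G) := S.Fw _ a1.2
    rw [show S.ι k' = S.ι (k' * S.D.w) * S.ι S.D.w by rw [← map_mul, mul_assoc, S.D.w2, mul_one]]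
    rw [show S.ι (k' * S.D.w) * S.ι S.D.w * ((a1 : G) * (E.φ : G) ^ (m' : ℕ)) =
      S.ι (k' * S.D.w) * ((a1 : G) * S.ι S.D.w) * (E.φ : G) ^ (m' : ℕ) by rw [hw]; group]
    group

end Exc

end Cfsg.Agent.Invol.JankoWard
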