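import Cfsg.Agent.Lib.Invol.JankoWard.ExtExc
import Mathlib.Tactic.LinearCombination

/-!
# The exceptional functions

`e b`: the coordinates of the functions induced from `F b`; their norms, their product counts, their products with the
projectives of the twisted blocks and their values on the characters of these blocks.
-/

open scoped ComplexConjugate

set_option autoImplicit false
set_option linter.unusedSectionVars false
set_option linter.style.haveILetI false

open scoped Classical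

namespace Cfsg.Agent.Invol.JankoWard

open Cfsg Cfsg.Agent.Char Cfsg.Agent.Block Subgroup

universe u v

namespace Exc

variable {G : Type u} [Group G] [Fintype G] {P : Type v} [Group P] [Fintype P] {S : ExtBase G P}
  {L : ExtLocals S} (E : Exc L)

/-- The induced function. -/
noncomputable def Ex (b : Bool) : G → ℂ := indFun E.H (E.F b)

theorem Ex_class (b : Bool) : IsClassFunction G (E.Ex b) := indFun_classFun _ _

theorem Ex_gen (b : Bool) : IsGeneralizedCharacter G (E.Ex b) := IsGenChar.ind E.H (E.F_gen b)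

theorem exists_e (b : Bool) :
    ∃ a : IrrCharacter G → ℤ, ∀ χ : IrrCharacter G, classInner (E.Ex b) (χ : G → ℂ) = a χ :=
  (IsGenChar.exists_decomp (E.Ex_gen b)).imp fun _ h => h.1

/-- The coordinates. -/
noncomputable def e (b : Bool) : IrrCharacter G → ℤ := (E.exists_e b).choose

theorem e_spec (b : Bool) (χ : IrrCharacter G) : classInner (E.Ex b) (χ : G → ℂ) = E.e b χ :=
  (E.exists_e b).choose_spec χ

theorem F_zero (b : Bool) {h : E.H} (hJ : E.J h = 1) : E.F b h = 0 := by simp [F, hJ]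

theorem F_J (b : Bool) {h : E.H} (hF : E.F b h ≠ 0) : E.J h ≠ 1 := fun e => hF (E.F_zero b e)

theorem Ex_sq (b : Bool) {g : G} (hg : g * g = 1) : E.Ex b g = 0 := by
  simp only [Ex, indFun]
  rw [Finset.sum_eq_zero, mul_zero]
  intro x _
  by_cases hm : x⁻¹ * g * x ∈ E.H
  · rw [extendByZero_of_mem _ hm]
    refine E.F_zero b ?_
    set h : E.H := ⟨x⁻¹ * g * x, hm⟩
    have h2 : h ^ 2 = 1 := Subtype.ext (by
      show (x⁻¹ * g * x) ^ 2 = 1
      rw [pow_two, show x⁻¹ * g * x * (x⁻¹ * g * x) = x⁻¹ * (g * g) * x by group, hg]; group)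
    have h3 : E.J h ^ 2 = 1 := by rw [← map_pow, h2, map_one]
    have hg2 := (Nat.coprime_primes E.hs Nat.prime_two).2 E.hs2
    exact orderOf_eq_one_iff.1 (Nat.eq_one_of_dvd_coprimes hg2 (orderOf_dvd_of_pow_eq_one (E.J_pow_s h))
      (orderOf_dvd_of_pow_eq_one h3))
  · exact extendByZero_not_mem _ hm

theorem sum_e_chi (b : Bool) {g : G} (hg : g * g = 1) :
    ∑ χ : IrrCharacter G, (E.e b χ : ℂ) * (χ : G → ℂ) g = 0 := by
  have h2 := congrFun (classFunction_expansion (E.Ex_class b)) g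
  rw [E.Ex_sq b hg, Finset.sum_apply] at h2
  rw [h2]
  refine Finset.sum_congr rfl fun χ _ => ?_
  rw [Pi.smul_apply, smul_eq_mul]
  congr 1
  exact (E.e_spec b χ).symm

theorem inner_Ex (b : Bool) {f : G → ℂ} (hf : IsClassFunction G f) :
    classInner (E.Ex b) f = (4 * S.D.r * Nat.card E.F₁ : ℂ)⁻¹ *
      ∑ q : Fin 4, ∑ y : S.D.Y, ∑ a : E.F₁,
        muv b q * (E.l1 (a : S.Fld) : ℂ) * ((E.j y : ℂ) - 1) * conj (f (E.el (q, y, a) : G)) := by
  rw [Ex, classInner_indFun _ _ hf, classInner, E.card_H, E.sum_H]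
  push_cast
  congr 1
  exact Finset.sum_congr rfl fun q _ => Finset.sum_congr rfl fun y _ => Finset.sum_congr rfl fun a _ => by
    rw [E.F_el]

theorem Ex_val (b : Bool) {h : E.H} (hJ : E.J h ≠ 1) {q : Fin 4} {y : S.D.Y} {a : E.F₁}
    (he : h = E.el (q, y, a)) :
    E.Ex b (h : G) = ∑ p : E.Reps, E.F b (E.el (rot p.1 q, y ^ E.cexp p, a)) := by
  simp only [Ex, indFun]
  rw [← Fintype.sum_equiv (Equiv.inv G) (fun x => extendByZero E.H (E.F b) (x * (h : G) * x⁻¹))
    (fun x => extendByZero E.H (E.F b) (x⁻¹ * (h : G) * x)) fun x => by simp]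
  set φ := fun c : E.H × E.Reps => (c.1 : G) * E.rho c.2
  rw [← Fintype.sum_of_injective φ E.rep_map_injective
    (fun c => E.F b (E.el (rot c.2.1 q, y ^ E.cexp c.2, a))) (fun x => extendByZero E.H (E.F b) (x * (h : G) * x⁻¹))
    (fun x hx => ?_) fun c => ?_]
  · rw [Fintype.sum_prod_type]
    dsimp only
    rw [Finset.sum_const, Finset.card_univ,
      ← Nat.card_eq_fintype_card, nsmul_eq_mul, ← mul_assoc,
      inv_mul_cancel₀ (Nat.cast_ne_zero.2 Nat.card_pos.ne'), one_mul]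
  · by_cases hm : x * (h : G) * x⁻¹ ∈ E.H
    · obtain ⟨c, p, hcp⟩ := E.mem_reps hJ hm
      exact absurd ⟨(c, p), hcp.symm⟩ hx
    · exact extendByZero_not_mem _ hm
  · obtain ⟨c, p⟩ := c
    have e : φ (c, p) * (h : G) * (φ (c, p))⁻¹ =
        ((c * E.el (rot p.1 q, y ^ E.cexp p, a) * c⁻¹ : E.H) : G) := by
      rw [Subgroup.coe_mul, Subgroup.coe_mul, Subgroup.coe_inv, ← E.act_el p q y a, he]
      simp only [φ]; group
    rw [e, extendByZero_apply, E.F_conj]

/-- The weight of a representative. -/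
def mfac (b : Bool) (i : Fin 3) : ℂ := if b = true ∧ i ≠ 0 then 0 else 4

theorem sum_muv (b : Bool) (i : Fin 3) : ∑ q : Fin 4, muv b q * muv b (rot i q) = mfac b i := by
  cases b <;> fin_cases i <;> simp [Fin.sum_univ_four, muv, rot, mfac] <;> norm_num

theorem muv_conj (b : Bool) (q : Fin 4) : conj (muv b q) = muv b q := by
  cases b <;> fin_cases q <;> simp [muv]

theorem lin_conj {K : Type u} [Group K] [Finite K] (l : K →* ℂˣ) (a : K) : (l a : ℂ) * conj (l a : ℂ) = 1 := by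
  rw [← IsIrr.apply_inv (isIrr_linear l), ← Units.val_mul, ← map_mul, mul_inv_cancel, map_one, Units.val_one]

theorem inner_self_aux (b : Bool) :
    classInner (E.Ex b) (E.Ex b) = ∑ p : E.Reps, mfac b p.1 / 4 *
      ((if (E.s : ℤ) ∣ E.cexp p - 1 then 1 else 0) + 1) := by
  rw [E.inner_Ex b (E.Ex_class b)]
  have e : ∀ (q : Fin 4) (y : S.D.Y) (a : E.F₁),
      muv b q * (E.l1 (a : S.Fld) : ℂ) * ((E.j y : ℂ) - 1) * conj (E.Ex b (E.el (q, y, a) : G)) =
      ∑ p : E.Reps, muv b q * muv b (rot p.1 q) * ((E.j y : ℂ) - 1) * conj ((E.j (y ^ E.cexp p) : ℂ) - 1) := by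
    intro q y a
    by_cases hj : E.j y = 1
    · rw [hj]; simp
    · have hJ : E.J (E.el (q, y, a)) ≠ 1 := by rwa [(E.values_el b q y a).2.2]
      rw [E.Ex_val b hJ rfl, map_sum, Finset.mul_sum]
      refine Finset.sum_congr rfl fun p _ => ?_
      rw [E.F_el, map_mul, map_mul, muv_conj]
      linear_combination (muv b q * muv b (rot p.1 q) * ((E.j y : ℂ) - 1) * conj ((E.j (y ^ E.cexp p) : ℂ) - 1)) *
        lin_conj E.l1 (a : S.Fld)
  simp only [e, Finset.sum_const, Finset.card_univ, ← Nat.card_eq_fintype_card, nsmul_eq_mul]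
  rw [show (∑ q : Fin 4, ∑ y : S.D.Y, (Nat.card E.F₁ : ℂ) * ∑ p : E.Reps,
      muv b q * muv b (rot p.1 q) * ((E.j y : ℂ) - 1) * conj ((E.j (y ^ E.cexp p) : ℂ) - 1)) =
      (Nat.card E.F₁ : ℂ) * ∑ p : E.Reps, (∑ q : Fin 4, muv b q * muv b (rot p.1 q)) *
        ∑ y : S.D.Y, ((E.j y : ℂ) - 1) * conj ((E.j (y ^ E.cexp p) : ℂ) - 1) by
    simp only [Finset.mul_sum, Finset.sum_mul]
    rw [Finset.sum_comm]
    refine (Finset.sum_congr rfl fun y _ => Finset.sum_comm).trans (Finset.sum_comm.trans ?_)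
    exact Finset.sum_congr rfl fun p _ => Finset.sum_congr rfl fun y _ => Finset.sum_congr rfl fun q _ => by ring]
  simp only [sum_muv, E.sum_j, if_neg (E.cexp_ndvd _)]
  rw [← mul_assoc, Finset.mul_sum]
  refine Finset.sum_congr rfl fun p _ => ?_
  have hr : (S.D.r : ℂ) ≠ 0 := Nat.cast_ne_zero.2 (by have := S.D.r3; omega)
  have hF : (Nat.card E.F₁ : ℂ) ≠ 0 := Nat.cast_ne_zero.2 Nat.card_pos.ne'
  field_simp

/-- The number of representatives fixing `z`. -/
noncomputable def eta : ℕ :=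
  (Finset.univ.filter fun p : E.Reps => E.rho p * S.ι E.z = S.ι E.z * E.rho p).card

theorem fix_zero {p : E.Reps} (hi : p.1 = 0) :
    E.rho p * S.ι E.z = S.ι E.z * E.rho p ↔ p = ((0 : Fin 3), false, ⟨0, E.k_pos⟩) := by
  have h0 : E.rho ((0 : Fin 3), false, ⟨0, E.k_pos⟩) = 1 := by simp [rho]
  constructor
  · intro h
    refine E.rep_eq hi ?_
    rw [h, mul_inv_cancel_right, h0]
    simp
  · rintro rfl
    rw [h0, one_mul, mul_one]

theorem norm_true : classInner (E.Ex true) (E.Ex true) = 2 * E.k + 1 := by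
  rw [E.inner_self_aux true, Fintype.sum_prod_type, Fin.sum_univ_three]
  simp only [mfac, Fin.reduceEq, ne_eq, not_false_eq_true, not_true, and_true, and_false, if_true, if_false, zero_div,
    zero_mul, Finset.sum_const_zero, add_zero]
  norm_num only [one_mul]
  rw [Finset.sum_add_distrib, Finset.sum_const, Finset.card_univ, Fintype.card_prod, Fintype.card_bool,
    Fintype.card_fin, nsmul_eq_mul, mul_one, Finset.sum_eq_single (false, (⟨0, E.k_pos⟩ : Fin E.k))]
  · rw [if_pos ((E.rho_fix_iff _).1 ((E.fix_zero rfl).2 rfl))]; push_cast; ring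
  · intro x _ hx
    rw [if_neg]
    intro h
    exact hx (Prod.mk.inj ((E.fix_zero (p := (0, x)) rfl).1 ((E.rho_fix_iff _).2 h))).2
  · intro h; exact absurd (Finset.mem_univ _) h

theorem norm_false : classInner (E.Ex false) (E.Ex false) = 6 * E.k + E.eta := by
  rw [E.inner_self_aux false]
  simp only [mfac, Bool.false_eq_true, false_and, if_false]
  norm_num only [one_mul]
  rw [Finset.sum_add_distrib, Finset.sum_const, Finset.card_univ, nsmul_eq_mul, mul_one, Finset.sum_boole]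
  simp only [Fintype.card_prod, Fintype.card_bool, Fintype.card_fin, ← E.rho_fix_iff, eta]
  push_cast; ring

theorem sum_e_sq (b : Bool) : ∑ χ : IrrCharacter G, ((E.e b χ : ℂ)) ^ 2 = classInner (E.Ex b) (E.Ex b) := by
  conv_rhs => arg 2; rw [classFunction_expansion (E.Ex_class b)]
  rw [classInner_sum_right]
  refine Finset.sum_congr rfl fun χ _ => ?_
  rw [classInner_smul_right, E.e_spec, map_intCast, pow_two]

theorem sq_true : ∑ χ : IrrCharacter G, E.e true χ ^ 2 = 2 * E.k + 1 := by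
  have h := (E.sum_e_sq true).trans E.norm_true
  exact_mod_cast h

theorem sq_false : ∑ χ : IrrCharacter G, E.e false χ ^ 2 = 6 * E.k + E.eta := by
  have h := (E.sum_e_sq false).trans E.norm_false
  exact_mod_cast h

theorem el_YF (q : Fin 4) (y : S.D.Y) (a : E.F₁) :
    (E.el (q, y, a) : G) = S.v4 q * (S.ι (y : P) * ((a : S.Fld) : G)) := by rw [el_coe, mul_assoc]

theorem eq_one_el {q : Fin 4} {y : S.D.Y} {a : E.F₁} (h : (E.el (q, y, a) : G) = 1) : q = 0 ∧ y = 1 ∧ a = 1 := by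
  have := E.el_injective ((Subtype.ext h : E.el (q, y, a) = 1).trans E.el_one.symm)
  simpa using this

theorem npairs_el (hone : ∀ x : G, orderOf x = 2 → IsConj S.t x) {q : Fin 4} {y : S.D.Y} {a : E.F₁}
    (hj : E.j y ≠ 1) :
    nPairs S.t (E.el (q, y, a) : G) = if a = 1 then 4 * S.D.r else 0 := by
  set h := E.el (q, y, a) with hh
  have hJ : E.J h ≠ 1 := by rwa [hh, (E.values_el false q y a).2.2]
  obtain ⟨z, m, hz, hz1, -, hzm, -⟩ := E.exists_zpart hJ
  have hinv : ∀ x : G, IsConj S.t x ∧ IsConj S.t (x⁻¹ * (h : G)) →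
      x * x = 1 ∧ x * (h : G) * x⁻¹ = (h : G)⁻¹ := by
    rintro x ⟨h1, h2⟩
    obtain ⟨h1, -⟩ := (S.isConj_iff_invol hone x).1 h1
    obtain ⟨h2, -⟩ := (S.isConj_iff_invol hone _).1 h2
    refine ⟨h1, ?_⟩
    rw [inv_eq_of_mul_eq_one_right h1] at h2 ⊢
    exact eq_inv_of_mul_eq_one_left (by rw [mul_assoc (x * (h : G))]; exact h2)
  have hkey : ∀ x : G, IsConj S.t x ∧ IsConj S.t (x⁻¹ * (h : G)) →
      a = 1 ∧ ∃ (q' : Fin 4) (y' : S.D.Y), x = S.v4 q' * S.ι (y' : P) * S.ι S.D.w := by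
    intro x hx
    obtain ⟨hx2, hxh⟩ := hinv x hx
    obtain ⟨c, ⟨i, b, m'⟩, rfl⟩ := E.mem_reps hJ (x := x) (by rw [hxh]; exact inv_mem h.2)
    obtain ⟨⟨q', y', a'⟩, rfl⟩ := E.el_surjective c
    have hxv : ∀ q0 : Fin 4, ((E.el (q', y', a') : G) * E.rho (i, b, m')) * S.v4 q0 *
        ((E.el (q', y', a') : G) * E.rho (i, b, m'))⁻¹ = S.v4 (rot i q0) := by
      intro q0
      calc _ = (E.el (q', y', a') : G) * (E.rho (i, b, m') * S.v4 q0 * (E.rho (i, b, m'))⁻¹) *
            (E.el (q', y', a') : G)⁻¹ := by group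
        _ = _ := by rw [E.rho_v4, E.H_cent_V (E.el (q', y', a')).2, mul_inv_cancel_right]
    obtain rfl : i = 0 := by
      have h1 : rot i (rot i 1) = 1 := S.v4_injective (by
        rw [← hxv, ← hxv]
        set x := (E.el (q', y', a') : G) * E.rho (i, b, m')
        calc x * (x * S.v4 1 * x⁻¹) * x⁻¹ = (x * x) * S.v4 1 * (x * x)⁻¹ := by group
          _ = S.v4 1 := by rw [hx2]; group)
      revert h1
      fin_cases i <;> simp [rot]
    have hfp : (a' : S.Fld) * E.φ ^ (m' : ℕ) = 1 := by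
      obtain ⟨ε, k0, -, hv⟩ := S.v4_split q'
      set α : G := ((a' : S.Fld) : G) * (E.φ : G) ^ (m' : ℕ) with hα
      have hαF : α ∈ S.Fld := mul_mem (a' : S.Fld).2 (pow_mem E.φ.2 _)
      obtain ⟨k1, hk1⟩ : ∃ k1 : P, (E.el (q', y', a') : G) * E.rho (0, b, m') =
          (bif ε then S.t else 1) * (S.ι k1 * α) := by
        refine ⟨k0 * (y' : P) * (bif b then S.D.w else 1), ?_⟩
        rw [el_coe, hv]
        have hc : Commute ((a' : S.Fld) : G) (bif b then S.ι S.D.w else 1) := by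
          cases b
          · exact Commute.one_right _
          · exact S.Fw _ (a' : S.Fld).2
        simp only [rho, Fin.val_zero, pow_zero, mul_one, hα]
        rw [show (bif ε then S.t else 1) * S.ι k0 * S.ι (y' : P) * ((a' : S.Fld) : G) *
            ((bif b then S.ι S.D.w else 1) * (E.φ : G) ^ (m' : ℕ)) = (bif ε then S.t else 1) * S.ι k0 *
            S.ι (y' : P) * (((a' : S.Fld) : G) * (bif b then S.ι S.D.w else 1)) * (E.φ : G) ^ (m' : ℕ) by group,
          hc.eq, map_mul, map_mul, show S.ι (bif b then S.D.w else 1) = (bif b then S.ι S.D.w else 1) by cases b <;> simp]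
        group
      have hxC : S.pairMap (ε, ⟨S.ι k1 * α, k1, α, hαF, rfl⟩) * S.pairMap (ε, ⟨S.ι k1 * α, k1, α, hαF, rfl⟩) =
          S.pairMap (false, 1) := Subtype.ext (by
        rw [Subgroup.coe_mul, ExtBase.pairMap_coe, ExtBase.pairMap_coe, ← hk1, hx2]; simp)
      rw [S.pairMap_mul] at hxC
      have h2 := congrArg S.fp (Prod.mk.inj (S.pairMap_bijective.1 hxC)).2
      rw [map_mul, map_one] at h2
      have h3 : S.fp ⟨S.ι k1 * α, k1, α, hαF, rfl⟩ = ⟨α, hαF⟩ := Subtype.ext (S.fp_eq hαF rfl)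
      rw [h3] at h2
      have h4 : (⟨α, hαF⟩ : S.Fld) = 1 := eq_one_of_two_odd ⟨1, by rw [pow_one, pow_two, h2]⟩ S.F_odd pow_card_eq_one'
      exact Subtype.ext (by simpa [hα] using congrArg Subtype.val h4)
    obtain rfl : m' = ⟨0, E.k_pos⟩ := by
      refine (E.m_eq (m := ⟨0, E.k_pos⟩) (m' := m') ?_).symm
      rw [show E.φ ^ (m' : ℕ) = (a' : S.Fld)⁻¹ from eq_inv_of_mul_eq_one_right hfp]
      simp
    have ha' : a' = 1 := Subtype.ext (by simpa using hfp)
    subst ha'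
    cases b
    · exfalso
      set x := (E.el (q', y', 1) : G) * E.rho (0, false, ⟨0, E.k_pos⟩) with hx0
      have hxe : x = S.v4 q' * S.ι (y' : P) := by simp [x, el_coe, rho]
      have h1 : x * S.ι z * x⁻¹ = S.ι z⁻¹ := by
        rw [map_inv, ← hzm, ← conj_pow, hxh, inv_pow]
      rw [hxe, show S.v4 q' * S.ι (y' : P) * S.ι z * (S.v4 q' * S.ι (y' : P))⁻¹ = S.v4 q' *
        (S.ι (y' : P) * S.ι z * (S.ι (y' : P))⁻¹) * (S.v4 q')⁻¹ by group, ← map_mul, ← map_inv, ← map_mul,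
        S.D.Y_comm y'.2 hz, mul_inv_cancel_right,
        ← (S.v4_cent (S.tc z) (by rw [← map_mul, ← map_mul, S.D.u_Y z hz]) q').eq, mul_inv_cancel_right] at h1
      exact hz1 (S.D.Y_sq hz (mul_eq_one_iff_eq_inv.2 (S.inj h1)))
    · refine ⟨?_, q', y', by simp [el_coe, rho]⟩
      set p0 : E.Reps := (0, true, ⟨0, E.k_pos⟩)
      have h1 : E.el (q', y', 1) * E.el (rot 0 q, y ^ E.cexp p0, a) * (E.el (q', y', 1))⁻¹ = h⁻¹ := Subtype.ext (by
        rw [Subgroup.coe_mul, Subgroup.coe_mul, ← E.act_el p0 q y a, Subgroup.coe_inv, Subgroup.coe_inv, ← hxh, hh]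
        group)
      have h2 := congrArg E.aH h1
      rw [map_mul, map_mul, map_inv, map_inv, hh, E.aH_el, E.aH_el, E.aH_el, OneMemClass.coe_one, one_mul, inv_one,
        mul_one] at h2
      exact Subtype.ext (eq_one_of_two_odd ⟨1, by rw [pow_one, pow_two, mul_eq_one_iff_eq_inv.2 h2]⟩ S.F_odd
        pow_card_eq_one')
  by_cases ha : a = 1
  · subst ha
    rw [if_pos rfl, nPairs]
    have hcard : 4 * S.D.r = (Finset.univ : Finset (Fin 4 × S.D.Y)).card := by
      rw [Finset.card_univ, Fintype.card_prod, Fintype.card_fin, ← Nat.card_eq_fintype_card, S.D.card_Y]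
    rw [hcard]
    refine (Finset.card_bij (fun c _ => S.v4 c.1 * S.ι (c.2 : P) * S.ι S.D.w) ?_ ?_ ?_).symm
    · rintro ⟨q', y'⟩ -
      refine Finset.mem_filter.2 ⟨Finset.mem_univ _, ?_⟩
      have hwy : ∀ y0 ∈ S.D.Y, S.D.w * y0 = y0⁻¹ * S.D.w := fun y0 hy0 => by
        rw [← S.D.w_Y y0 hy0]; group
      have hcu : ∀ y0 ∈ S.D.Y, (y0 * S.D.w) * S.D.u = S.D.u * (y0 * S.D.w) := fun y0 hy0 => by
        rw [mul_assoc, ← S.D.comm, ← mul_assoc, ← S.D.u_Y y0 hy0, mul_assoc]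
      have hcv : ∀ y0 ∈ S.D.Y, ∀ q0, Commute (S.ι (y0 * S.D.w)) (S.v4 q0) := fun y0 hy0 q0 =>
        S.v4_cent (S.tc _) (by rw [← map_mul, ← map_mul, hcu y0 hy0]) q0
      have hform : ∀ (q0 q1 : Fin 4) (y0 : P), y0 ∈ S.D.Y →
          S.v4 q0 * S.v4 q1 * S.ι (y0 * S.D.w) * (S.v4 q0 * S.v4 q1 * S.ι (y0 * S.D.w)) = 1 ∧
          S.v4 q0 * S.v4 q1 * S.ι (y0 * S.D.w) ≠ 1 := by
        intro q0 q1 y0 hy0
        have hc01 : Commute (S.v4 q0) (S.v4 q1) := E.H_cent_V (h := S.v4 q0) (by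
          have := (E.el (q0, 1, 1)).2; simpa [el_coe] using this) q1
        have hsq : (y0 * S.D.w) * (y0 * S.D.w) = 1 := by
          rw [show y0 * S.D.w * (y0 * S.D.w) = y0 * (S.D.w * y0) * S.D.w by group, hwy y0 hy0,
            mul_inv_cancel_left, S.D.w2]
        refine ⟨?_, fun e => ?_⟩
        · have hc := ((hcv y0 hy0 q0).mul_right (hcv y0 hy0 q1)).symm
          rw [← pow_two, hc.mul_pow, hc01.mul_pow, pow_two, pow_two, pow_two, S.v4_sq, S.v4_sq, ← map_mul, hsq,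
            map_one, one_mul, one_mul]
        · obtain ⟨b0, k0, hk0, e0⟩ := S.v4_split q0
          obtain ⟨b1, k1, hk1, e1⟩ := S.v4_split q1
          have hT : k0 * k1 ∈ S.D.T := mul_mem
            (by rcases hk0 with rfl | rfl <;> [exact one_mem _; exact S.D.u_T])
            (by rcases hk1 with rfl | rfl <;> [exact one_mem _; exact S.D.u_T])
          have e2 : S.pairMap (xor b0 b1, S.ιE (k0 * k1 * (y0 * S.D.w))) = S.pairMap (false, 1) := Subtype.ext (by
            rw [ExtBase.pairMap_coe, ExtBase.pairMap_coe, ExtBase.ιE_coe]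
            simp only [cond_false, one_mul, OneMemClass.coe_one]
            rw [e0, e1] at e
            refine Eq.trans ?_ e
            rw [map_mul S.ι (k0 * k1), map_mul S.ι k0]
            have htk : ∀ x, S.ι k0 * (S.t * x) = S.t * (S.ι k0 * x) := fun x => by
              rw [← mul_assoc, S.tc, mul_assoc]
            have htt : ∀ x, S.t * (S.t * x) = x := fun x => by rw [← mul_assoc, S.tt, one_mul]
            cases b0 <;> cases b1 <;> simp only [Bool.xor_false, Bool.xor_true, Bool.not_false, Bool.not_true,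
              cond_true, cond_false, one_mul, mul_assoc, htk, htt])
          have h3 : k0 * k1 * (y0 * S.D.w) = 1 := S.ιE_inj
            ((Prod.mk.inj (S.pairMap_bijective.1 e2)).2.trans (map_one _).symm)
          refine S.w_not_T ?_
          rw [show S.D.w = y0⁻¹ * (k0 * k1)⁻¹ * (k0 * k1 * (y0 * S.D.w)) by group, h3, mul_one]
          exact mul_mem (inv_mem (Or.inl hy0)) (inv_mem hT)
      have hx := hform q' 0 y' y'.2
      rw [show S.v4 0 = 1 from rfl, mul_one, map_mul, ← mul_assoc (S.v4 q') (S.ι (y' : P))] at hx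
      refine ⟨(S.isConj_iff_invol hone _).2 hx, (S.isConj_iff_invol hone _).2 ?_⟩
      rw [inv_eq_of_mul_eq_one_right hx.1]
      have hy1 : (y' : P) * (y : P)⁻¹ ∈ S.D.Y := mul_mem y'.2 (inv_mem y.2)
      rw [show (h : G) = S.v4 q * S.ι (y : P) by simp [hh, el_coe],
        show S.v4 q' * S.ι (y' : P) * S.ι S.D.w * (S.v4 q * S.ι (y : P)) =
          S.v4 q' * S.v4 q * S.ι ((y' : P) * (y : P)⁻¹ * S.D.w) by
        rw [mul_assoc (S.v4 q') (S.ι (y' : P)), ← map_mul, mul_assoc (S.v4 q'), ← mul_assoc (S.ι _) (S.v4 q),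
          (hcv y' y'.2 q).eq, mul_assoc (S.v4 q), ← map_mul, ← mul_assoc, mul_assoc (y' : P), hwy y y.2,
          ← mul_assoc (y' : P)]]
      exact hform q' q _ hy1
    · rintro ⟨q1, y1⟩ - ⟨q2, y2⟩ - he
      have he' : (E.el (q1, y1, 1) : G) = (E.el (q2, y2, 1) : G) := by
        simpa [el_coe] using mul_right_cancel he
      obtain ⟨h1, h2, -⟩ : q1 = q2 ∧ y1 = y2 ∧ (1 : E.F₁) = 1 := by
        simpa using E.el_injective (Subtype.ext he')
      exact Prod.ext h1 h2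
    · intro x hx
      obtain ⟨-, q', y', e⟩ := hkey x (Finset.mem_filter.1 hx).2
      exact ⟨(q', y'), Finset.mem_univ _, e.symm⟩
  · rw [if_neg ha, nPairs, Finset.card_eq_zero, Finset.filter_eq_empty_iff]
    exact fun x _ hx => ha (hkey x hx).1

theorem sum_y_j : ∑ y : S.D.Y, ((E.j y : ℂ) - 1) = -(S.D.r : ℂ) := by
  rw [Finset.sum_sub_distrib, linear_sum _ E.j_ne, Finset.sum_const, Finset.card_univ, ← Nat.card_eq_fintype_card,
    S.D.card_Y, nsmul_eq_mul, mul_one, zero_sub]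

theorem sum_e_wt (b : Bool) (hone : ∀ x : G, orderOf x = 2 → IsConj S.t x) :
    ∑ χ : IrrCharacter G, (E.e b χ : ℂ) * S.wt χ =
      if b then 0 else -(4 * S.D.r : ℂ) * S.kap / (Nat.card E.F₁ : ℂ) := by
  set F : G → ℂ := fun x => conj (∑ χ : IrrCharacter G, S.wt χ * conj ((χ : G → ℂ) x)) with hF
  have hFc : IsClassFunction G F := fun a b => by
    simp only [F]
    congr 1
    exact Finset.sum_congr rfl fun χ _ => by rw [IsIrr.classFun χ.2 a b]
  have h1 : classInner (E.Ex b) F = ∑ χ : IrrCharacter G, (E.e b χ : ℂ) * S.wt χ := by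
    simp only [← E.e_spec b, classInner, F, Complex.conj_conj, Finset.mul_sum, Finset.sum_mul]
    rw [Finset.sum_comm]
    exact Finset.sum_congr rfl fun χ _ => Finset.sum_congr rfl fun g _ => by ring
  rw [← h1, E.inner_Ex b hFc]
  have e : ∀ (q : Fin 4) (y : S.D.Y) (a : E.F₁),
      muv b q * (E.l1 (a : S.Fld) : ℂ) * ((E.j y : ℂ) - 1) * conj (F (E.el (q, y, a) : G)) =
      if a = 1 then muv b q * ((E.j y : ℂ) - 1) * (S.kap * (4 * S.D.r)) else 0 := by
    intro q y a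
    simp only [F, Complex.conj_conj, S.sum_wt]
    by_cases hj : E.j y = 1
    · rw [hj]; simp
    · rw [E.npairs_el hone hj]
      split_ifs with ha
      · subst ha; push_cast; simp
      · simp
  simp only [e, Finset.sum_ite_eq', Finset.mem_univ, if_true, ← Finset.sum_mul, ← Finset.mul_sum, E.sum_y_j]
  have hr : (S.D.r : ℂ) ≠ 0 := Nat.cast_ne_zero.2 (by have := S.D.r3; omega)
  have hF' : (Nat.card E.F₁ : ℂ) ≠ 0 := Nat.cast_ne_zero.2 Nat.card_pos.ne'
  cases b <;> simp [Fin.sum_univ_four, muv] <;> field_simp <;> ring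

theorem el_conj_one {q : Fin 4} (hq : q ≠ 0) (y : S.D.Y) (a : E.F₁) (hj : E.j y ≠ 1) :
    ∃ (x : G) (y' : S.D.Y), E.j y' ≠ 1 ∧ x * (E.el (q, y, a) : G) * x⁻¹ = (E.el (1, y', a) : G) := by
  obtain ⟨i, hi⟩ : ∃ i : Fin 3, rot i q = 1 := by
    fin_cases q
    · exact absurd rfl hq
    · exact ⟨0, rfl⟩
    · exact ⟨2, rfl⟩
    · exact ⟨1, rfl⟩
  set p : E.Reps := (i, false, ⟨0, E.k_pos⟩)
  exact ⟨E.rho p, y ^ E.cexp p, E.j_act_ne p hj, by rw [E.act_el p q y a, show rot p.1 q = 1 from hi]⟩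

theorem el_t (y : S.D.Y) (a : E.F₁) : ∃ k : S.EG,
    (k : G) = S.ι (y : P) * ((a : S.Fld) : G) ∧ Odd (orderOf k) ∧ S.fp k = (a : S.Fld) ∧
      (E.el (1, y, a) : G) = S.t * (k : G) := by
  refine ⟨⟨_, (y : P), _, (a : S.Fld).2, rfl⟩, rfl, ?_, Subtype.ext (S.fp_eq (a : S.Fld).2 rfl), ?_⟩
  · rw [← Subgroup.orderOf_coe]; exact S.odd_YF y.2 (a : S.Fld).2
  · rw [el_YF]; rfl

variable (T : ExtTable S.D) (hp : S.D.p = 3) (hδ : S.D.δ = -1) (X : LChars S.D) {M : Ideal AlgInt}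
  (hM : IsPModular 2 M)
include T hp hδ hM

omit T hp hM in
theorem cc_zero : S.D.cc = 0 := by
  have := S.D.two_cc; rw [hδ] at this; omega

theorem hat_el {y : S.D.Y} (hj : E.j y ≠ 1) {a : E.F₁} {k : S.EG}
    (hk : (k : G) = S.ι (y : P) * ((a : S.Fld) : G)) :
    (S.hat X hM 1 : S.EG → ℂ) k = -1 ∧ (S.hat X hM 2 : S.EG → ℂ) k = -1 ∧
      (S.hat X hM 3 : S.EG → ℂ) k = -1 := by
  obtain ⟨z, m, hz, hz1, -, hzm, -⟩ := E.exists_zpart (h := E.el (0, y, a)) (by rwa [(E.values_el false 0 y a).2.2])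
  refine S.hat_YF T hp hδ X hM y.2 (a : S.Fld).2 k hk (n := m) hz hz1 ?_ ?_
  · refine Subtype.ext ?_
    rw [Subgroup.coe_pow, hk, ExtBase.ιE_coe, ← hzm, el_YF]
    simp [ExtBase.v4]
  · rw [← Subgroup.orderOf_coe, hk]; exact S.odd_YF y.2 (a : S.Fld).2

theorem PhiE_el (l : S.Fld →* ℂˣ) (i : Fin 3) {y : S.D.Y} (hj : E.j y ≠ 1) {a : E.F₁} {k : S.EG}
    (hk : (k : G) = S.ι (y : P) * ((a : S.Fld) : G)) (hfp : S.fp k = (a : S.Fld)) :
    2 * S.PhiE X hM l i k = (if i = 0 then 0 else -4) * (l (a : S.Fld) : ℂ) := by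
  obtain ⟨h1, h2, h3⟩ := E.hat_el T hp hδ X hM hj hk
  simp only [ExtBase.PhiE, Fin.sum_univ_four, ExtBase.tw_apply, hfp, S.hat_zero X hM, h1, h2, h3]
  fin_cases i <;> simp [LChars.coef, trivialIrr, cc_zero hδ] <;> ring

theorem value_el (A : Amb G) {l : S.Fld →* ℂˣ} {χ : IrrCharacter G} (hχ : χ ∈ S.gb X hM l)
    {q : Fin 4} (hq : q ≠ 0) {y : S.D.Y} (hj : E.j y ≠ 1) (a : E.F₁) :
    (χ : G → ℂ) (E.el (q, y, a) : G) = (l (a : S.Fld) : ℂ) *
      ((S.vE X hM l 0 χ : ℂ) - (S.vE X hM l 1 χ + S.vE X hM l 2 χ)) := by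
  obtain ⟨x, y', hj', e⟩ := E.el_conj_one hq y a hj
  obtain ⟨k, hk, hko, hfp, hkt⟩ := E.el_t y' a
  rw [← IsIrr.classFun χ.2 (E.el (q, y, a) : G) x, e, hkt, S.value_v X hM A L hχ hko, hfp]
  obtain ⟨-, h2, h3⟩ := E.hat_el T hp hδ X hM hj' hk
  rw [h2, h3, cc_zero hδ]
  push_cast; ring

theorem sum_e_vE (A : Amb G) {l : S.Fld →* ℂˣ} (hl : ∀ a ∈ E.F₁, l a = E.l1 a) (i : Fin 3) :
    ∑ χ : IrrCharacter G, E.e true χ * S.vE X hM l i χ = if i = 0 then 0 else -1 := by
  have hΨ : IsClassFunction G (S.PsiE X hM l i) := IsGenChar.classFun (S.Ind_gen (S.PhiE_gen X hM l i))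
  have h : classInner (E.Ex true) (S.PsiE X hM l i) = ((if i = 0 then 0 else -1 : ℤ) : ℂ) := by
    rw [E.inner_Ex true hΨ]
    have e : ∀ (q : Fin 4) (y : S.D.Y) (a : E.F₁),
        muv true q * (E.l1 (a : S.Fld) : ℂ) * ((E.j y : ℂ) - 1) * conj (S.PsiE X hM l i (E.el (q, y, a) : G)) =
        (if q = 0 then 0 else muv true q) * ((if i = 0 then 0 else -4 : ℂ) * ((E.j y : ℂ) - 1)) := by
      intro q y a
      by_cases hj : E.j y = 1
      · rw [hj]; simp
      by_cases hq : q = 0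
      · subst hq
        have h0 : S.PsiE X hM l i (E.el (0, y, a) : G) = 0 := by
          refine S.Ind_odd (fun a => S.PhiE_supp X hM A) (n := Nat.card S.Fld * S.D.r) (S.F_odd.mul S.D.r_odd) ?_
          rw [el_YF, show S.v4 0 = 1 from rfl, one_mul]
          exact S.pow_YF y.2 (a : S.Fld).2
        rw [h0]; simp
      · obtain ⟨x, y', hj', he⟩ := E.el_conj_one hq y a hj
        obtain ⟨k, hk, hko, hfp, hkt⟩ := E.el_t y' a
        have h1 : S.PsiE X hM l i (E.el (q, y, a) : G) =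
            (if i = 0 then 0 else -4 : ℂ) * (l (a : S.Fld) : ℂ) := by
          rw [← hΨ (E.el (q, y, a) : G) x, he, hkt, ExtBase.PsiE,
            S.Ind_val (IsGenChar.classFun (S.PhiE_gen X hM l i)) (fun a => S.PhiE_supp X hM A)
              ((S.pow_EE_iff k).2 hko), E.PhiE_el T hp hδ X hM l i hj' hk hfp]
        rw [h1, if_neg hq, map_mul, apply_ite (starRingEnd ℂ), map_zero, map_neg, Complex.conj_ofNat, hl _ a.2]
        linear_combination (muv true q * ((E.j y : ℂ) - 1) * (if i = 0 then 0 else -4 : ℂ)) *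
          lin_conj E.l1 (a : S.Fld)
    simp only [e, Finset.sum_const, Finset.card_univ, ← Nat.card_eq_fintype_card, nsmul_eq_mul, ← Finset.mul_sum,
      E.sum_y_j, ← Finset.sum_mul]
    have hr : (S.D.r : ℂ) ≠ 0 := Nat.cast_ne_zero.2 (by have := S.D.r3; omega)
    have hF' : (Nat.card E.F₁ : ℂ) ≠ 0 := Nat.cast_ne_zero.2 Nat.card_pos.ne'
    fin_cases i <;> simp [Fin.sum_univ_four, muv] <;> field_simp <;> ring
  rw [classFunction_expansion hΨ, classInner_sum_right] at h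
  simp only [classInner_smul_right, E.e_spec, S.vE_spec, map_intCast] at h
  have h2 : ((∑ χ : IrrCharacter G, E.e true χ * S.vE X hM l i χ : ℤ) : ℂ) = ((if i = 0 then 0 else -1 : ℤ) : ℂ) := by
    rw [← h, Int.cast_sum]
    exact Finset.sum_congr rfl fun χ _ => by push_cast; ring
  exact_mod_cast h2

theorem e_of_gb (A : Amb G) {l : S.Fld →* ℂˣ} (hl : ∀ a ∈ E.F₁, l a = E.l1 a) {χ : IrrCharacter G}
    (hχ : χ ∈ S.gb X hM l)
    (hsec : (∀ (q : Fin 4) (y : S.D.Y) (a : E.F₁), E.j y ≠ 1 →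
        (χ : G → ℂ) (E.el (q, y, a) : G) = (χ : G → ℂ) (E.el (0, y, a) : G)) ∨
      (∀ (y : S.D.Y) (a : E.F₁), E.j y ≠ 1 → ∑ q : Fin 4, (χ : G → ℂ) (E.el (q, y, a) : G) = 0)) :
    (E.e true χ = 0 ∧ E.e false χ = -(S.vE X hM l 0 χ - (S.vE X hM l 1 χ + S.vE X hM l 2 χ))) ∨
      (E.e true χ = S.vE X hM l 0 χ - (S.vE X hM l 1 χ + S.vE X hM l 2 χ) ∧ E.e false χ = 0) := by
  set ε := S.vE X hM l 0 χ - (S.vE X hM l 1 χ + S.vE X hM l 2 χ) with hε
  have hr : (S.D.r : ℂ) ≠ 0 := Nat.cast_ne_zero.2 (by have := S.D.r3; omega)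
  have hF' : (Nat.card E.F₁ : ℂ) ≠ 0 := Nat.cast_ne_zero.2 Nat.card_pos.ne'
  have hv : ∀ (q : Fin 4), q ≠ 0 → ∀ (y : S.D.Y) (a : E.F₁), E.j y ≠ 1 →
      (χ : G → ℂ) (E.el (q, y, a) : G) = (l (a : S.Fld) : ℂ) * (ε : ℂ) := fun q hq y a hj => by
    rw [E.value_el T hp hδ X hM A hχ hq hj a, hε]; push_cast; ring
  have key : ∀ (c0 : ℂ), (∀ y a, E.j y ≠ 1 → (χ : G → ℂ) (E.el (0, y, a) : G) = (l (a : S.Fld) : ℂ) * (c0 * ε)) →
      conj c0 = c0 → ∀ b, (E.e b χ : ℂ) = -(muv b 0 * c0 + muv b 1 + muv b 2 + muv b 3) / 4 * ε := by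
    intro c0 h0 hc0 b
    rw [← E.e_spec b χ, E.inner_Ex b (IsIrr.classFun χ.2)]
    have e : ∀ (q : Fin 4) (y : S.D.Y) (a : E.F₁),
        muv b q * (E.l1 (a : S.Fld) : ℂ) * ((E.j y : ℂ) - 1) * conj ((χ : G → ℂ) (E.el (q, y, a) : G)) =
        (muv b q * if q = 0 then c0 else 1) * (((E.j y : ℂ) - 1) * ε) := by
      intro q y a
      by_cases hj : E.j y = 1
      · rw [hj]; simp
      by_cases hq : q = 0
      · subst hq
        rw [h0 y a hj, if_pos rfl, map_mul, map_mul, map_intCast, hc0, hl _ a.2]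
        linear_combination (muv b 0 * c0 * ((E.j y : ℂ) - 1) * (ε : ℂ)) * lin_conj E.l1 (a : S.Fld)
      · rw [hv q hq y a hj, if_neg hq, map_mul, map_intCast, hl _ a.2]
        linear_combination (muv b q * ((E.j y : ℂ) - 1) * (ε : ℂ)) * lin_conj E.l1 (a : S.Fld)
    simp only [e, Finset.sum_const, Finset.card_univ, ← Nat.card_eq_fintype_card, nsmul_eq_mul, ← Finset.mul_sum,
      ← Finset.sum_mul, E.sum_y_j]
    simp [Fin.sum_univ_four]
    field_simp
    ring
  rcases hsec with hs | hs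
  · have h := key 1 (fun y a hj => by rw [← hs 1 y a hj, hv 1 (by decide) y a hj, one_mul]) (map_one _)
    refine Or.inl ⟨?_, ?_⟩
    · have h1 := h true
      simp [muv] at h1
      exact_mod_cast h1
    · have h1 := h false
      simp [muv] at h1
      norm_num at h1
      exact_mod_cast h1
  · have h := key (-3) (fun y a hj => by
      have h4 := hs y a hj
      rw [Fin.sum_univ_four, hv 1 (by decide) y a hj, hv 2 (by decide) y a hj, hv 3 (by decide) y a hj] at h4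
      linear_combination h4) (by rw [map_neg, Complex.conj_ofNat])
    refine Or.inr ⟨?_, ?_⟩
    · have h1 := h true
      simp [muv] at h1
      norm_num at h1
      exact_mod_cast h1
    · have h1 := h false
      simp [muv] at h1
      norm_num at h1
      exact_mod_cast h1

omit T hp hδ hM in
theorem e_gal (σ : ℂ ≃+* ℂ) (hj : ∀ y, σ (E.j y : ℂ) = (E.j y : ℂ))
    (hl : ∀ a ∈ E.F₁, σ (E.l1 a : ℂ) = (E.l1 a : ℂ)) (b : Bool) (χ : IrrCharacter G) :
    E.e b (PrinCol.galIrr σ χ) = E.e b χ := by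
  have hm : ∀ q, σ (muv b q) = muv b q := by
    intro q; cases b <;> fin_cases q <;> simp [muv]
  have h : σ (E.e b χ : ℂ) = (E.e b (PrinCol.galIrr σ χ) : ℂ) := by
    rw [← E.e_spec b χ, ← E.e_spec b _, E.inner_Ex b (IsIrr.classFun χ.2), E.inner_Ex b (IsIrr.classFun (PrinCol.galIrr σ χ).2)]
    simp only [map_mul, map_inv₀, map_sum, map_ofNat, map_natCast, ← IsIrr.apply_inv χ.2,
      ← IsIrr.apply_inv (PrinCol.galIrr σ χ).2, map_sub, map_one]
    congr 1
    refine Finset.sum_congr rfl fun q _ => Finset.sum_congr rfl fun y _ => Finset.sum_congr rfl fun a _ => ?_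
    rw [hm, hj, hl _ a.2]
    rfl
  rw [map_intCast] at h
  exact_mod_cast h.symm

end Exc

end Cfsg.Agent.Invol.JankoWard
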