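import Cfsg.Agent.Lib.Invol.JankoWard.ExtBasic
import Cfsg.Agent.Lib.Invol.JankoWard.ExtHyp

/-!
# The Sylow 2-subgroup of the field configuration: its normaliser centralises the field part
-/

set_option autoImplicit false
set_option linter.unusedSectionVars false
set_option linter.style.haveILetI false

open scoped Classical

namespace Cfsg.Agent.Invol.JankoWard.ExtBase

open Subgroup

universe u v

variable {G : Type u} [Group G] [Finite G] {P : Type v} [Group P] [Finite P] (S : ExtBase G P)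

theorem ι_ne_tι' (a b : P) : S.ι a ≠ S.t * S.ι b := fun e => S.t_not (a * b⁻¹) (by
  rw [map_mul, map_inv, e, mul_inv_cancel_right])

theorem sq_P (S : ExtBase G P) (A : Amb G) {x : P} (h : ∃ k, x ^ 2 ^ k = 1) : x * x = 1 := by
  obtain ⟨k, hk⟩ := h
  exact S.inj (by rw [map_mul, map_one]; exact A.sq2 _ ⟨k, by rw [← map_pow, hk, map_one]⟩)

/-- The element of order three of `P` cycling `u`, `w`, `uw`. -/
theorem exists_h (A : Amb G) :
    ∃ h : P, h ^ 3 = 1 ∧ h * S.D.u * h⁻¹ = S.D.w ∧ h * S.D.w * h⁻¹ = S.D.u * S.D.w := by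
  classical
  haveI : Fact (Nat.Prime 2) := ⟨Nat.prime_two⟩
  set D := S.D
  set K := fourSub D.u D.w D.u2 D.w2 D.comm
  haveI hK : IsKleinFour ↥K := fourSub_klein D.u1 D.w1 D.uw
  have hKp : IsPGroup 2 K := IsPGroup.of_card (n := 2) (by rw [IsKleinFour.card_four]; norm_num)
  obtain ⟨Q, hQ⟩ := hKp.exists_le_sylow
  have hsq : ∀ x ∈ (Q : Subgroup P), x * x = 1 := fun x hx => by
    obtain ⟨k, hk⟩ := Q.isPGroup' ⟨x, hx⟩
    exact S.sq_P A ⟨k, congrArg Subtype.val hk⟩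
  have hQc : ∀ x ∈ (Q : Subgroup P), ∀ y ∈ (Q : Subgroup P), x * y = y * x := fun x hx y hy => by
    have h1 := hsq _ (mul_mem hx hy)
    rw [← inv_eq_of_mul_eq_one_left h1, mul_inv_rev, inv_eq_of_mul_eq_one_left (hsq x hx),
      inv_eq_of_mul_eq_one_left (hsq y hy)]
  have hQK : (Q : Subgroup P) = K := le_antisymm (fun x hx =>
    D.comm_uw (hQc x hx _ (hQ (Or.inr (Or.inl rfl)))) (hQc x hx _ (hQ (Or.inr (Or.inr (Or.inl rfl)))))) hQ
  obtain ⟨c, hc⟩ := isConj_iff.1 (D.one_class D.w D.w2 D.w1)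
  obtain ⟨n, hn, hnw⟩ := Transfer.exists_normalizer_conj_of_abelian Q
    ⟨⟨fun a b => Subtype.ext (hQc a a.2 b b.2)⟩⟩ (x := D.u) (g := c)
    (hQ (Or.inr (Or.inl rfl))) (hc ▸ hQ (Or.inr (Or.inr (Or.inl rfl))))
  rw [hc] at hnw
  have hnK : ∀ v ∈ K, n * v * n⁻¹ ∈ K := fun v hv => hQK ▸ (mem_normalizer_iff.1 hn v).1 (hQ hv)
  have hnw2 : n * D.w * n⁻¹ = D.u * D.w := by
    rcases hnK D.w (Or.inr (Or.inr (Or.inl rfl))) with e | e | e | e
    · exact absurd (conj_eq_one_iff.1 e) D.w1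
    · exfalso
      obtain ⟨k, o, ho, hko⟩ := Nat.exists_eq_two_pow_mul_odd (orderOf_pos n).ne'
      have hord : (n ^ o) ^ 2 ^ k = 1 := by rw [← pow_mul, mul_comm, ← hko, pow_orderOf_eq_one]
      have hpow : ∀ j : ℕ, n ^ j * D.u * (n ^ j)⁻¹ = if Even j then D.u else D.w := by
        intro j
        induction j with
        | zero => simp
        | succ j ih =>
          rw [show n ^ (j + 1) * D.u * (n ^ (j + 1))⁻¹ = n * (n ^ j * D.u * (n ^ j)⁻¹) * n⁻¹ by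
            rw [pow_succ']; group, ih]
          by_cases hj : Even j
          · rw [if_pos hj, if_neg (by simpa [Nat.even_add_one] using hj), hnw]
          · rw [if_neg hj, if_pos (Nat.even_add_one.2 hj), e]
      have hz : IsPGroup 2 (zpowers (n ^ o)) := by
        refine IsPGroup.of_card (n := Nat.log 2 (orderOf (n ^ o))) ?_
        obtain ⟨j, -, hj⟩ := (Nat.dvd_prime_pow Nat.prime_two).1 (orderOf_dvd_of_pow_eq_one hord)
        rw [Nat.card_zpowers, hj, Nat.log_pow (by norm_num)]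
      have h1 : n ^ o ∈ zpowers (n ^ o) ⊓ (Q : Subgroup P) :=
        hz.inf_normalizer_sylow Q ▸ ⟨mem_zpowers _, pow_mem hn o⟩
      have h2 := hpow o
      rw [if_neg (Nat.not_even_iff_odd.2 ho), hQc _ h1.2 _ (hQ (Or.inr (Or.inl rfl))), mul_inv_cancel_right] at h2
      exact D.uw h2
    · exact absurd ((MulAut.conj n).injective (show MulAut.conj n D.w = MulAut.conj n D.u by
        simp only [MulAut.conj_apply]; rw [e, hnw])) D.uw.symm
    · exact e
  have h3u : n * (n * (n * D.u * n⁻¹) * n⁻¹) * n⁻¹ = D.u := by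
    rw [hnw, hnw2, show n * (D.u * D.w) * n⁻¹ = (n * D.u * n⁻¹) * (n * D.w * n⁻¹) by group, hnw, hnw2,
      ← mul_assoc, ← D.comm, mul_assoc, D.w2, mul_one]
  have h3w : n * (n * (n * D.w * n⁻¹) * n⁻¹) * n⁻¹ = D.w := by
    calc _ = n * (n * (n * (n * D.u * n⁻¹) * n⁻¹) * n⁻¹) * n⁻¹ := by rw [hnw]
      _ = n * D.u * n⁻¹ := by rw [h3u]
      _ = D.w := hnw
  have hcu : n ^ 3 * D.u = D.u * n ^ 3 := mul_inv_eq_iff_eq_mul.1 (by
    refine Eq.trans ?_ h3u
    simp [pow_succ, mul_assoc])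
  have hcw : n ^ 3 * D.w = D.w * n ^ 3 := mul_inv_eq_iff_eq_mul.1 (by
    refine Eq.trans ?_ h3w
    simp [pow_succ, mul_assoc])
  have h6 : n ^ 6 = 1 := by
    rw [show 6 = 3 * 2 by norm_num, pow_mul, pow_two]
    rcases D.comm_uw hcu hcw with e | e | e | e <;> rw [e]
    · rw [one_mul]
    · exact D.u2
    · exact D.w2
    · exact hsq _ (hQ (Or.inr (Or.inr (Or.inr rfl))))
  have hconj : ∀ x, n ^ 3 * x = x * n ^ 3 → n ^ 4 * x * (n ^ 4)⁻¹ = n * x * n⁻¹ := fun x hx => by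
    rw [pow_succ' n 3, show n * n ^ 3 * x * (n * n ^ 3)⁻¹ = n * (n ^ 3 * x * (n ^ 3)⁻¹) * n⁻¹ by group, hx,
      mul_inv_cancel_right]
  refine ⟨n ^ 4, ?_, ?_, ?_⟩
  · rw [← pow_mul, show 4 * 3 = 6 * 2 by norm_num, pow_mul, h6, one_pow]
  · rw [hconj _ hcu, hnw]
  · rw [hconj _ hcw, hnw2]

/-- The Sylow 2-subgroup `⟨t, u, w⟩`. -/
theorem exists_sylow (A : Amb G) : ∃ T : Sylow 2 G, ∀ x, x ∈ (T : Subgroup G) ↔
    ∃ k ∈ fourSub S.D.u S.D.w S.D.u2 S.D.w2 S.D.comm, x = S.ι k ∨ x = S.t * S.ι k := by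
  classical
  haveI : Fact (Nat.Prime 2) := ⟨Nat.prime_two⟩
  set K := fourSub S.D.u S.D.w S.D.u2 S.D.w2 S.D.comm
  haveI hK : IsKleinFour ↥K := fourSub_klein S.D.u1 S.D.w1 S.D.uw
  haveI : IsMulCommutative ↥K := IsKleinFour.isMulCommutative (G := ↥K)
  have hc : ∀ a ∈ K, ∀ b ∈ K, a * b = b * a := fun a ha b hb =>
    congrArg Subtype.val (mul_comm' (⟨a, ha⟩ : ↥K) ⟨b, hb⟩)
  have hinv : S.t⁻¹ = S.t := inv_eq_of_mul_eq_one_left S.tt
  let M : Subgroup G :=
    { carrier := {x | ∃ k ∈ K, x = S.ι k ∨ x = S.t * S.ι k}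
      one_mem' := ⟨1, one_mem _, Or.inl (map_one _).symm⟩
      mul_mem' := by
        rintro x y ⟨k, hk, rfl | rfl⟩ ⟨l, hl, rfl | rfl⟩ <;> refine ⟨k * l, mul_mem hk hl, ?_⟩
        · exact Or.inl (map_mul _ _ _).symm
        · right; rw [← mul_assoc, S.tc, mul_assoc, map_mul]
        · right; rw [mul_assoc, map_mul]
        · left
          rw [show S.t * S.ι k * (S.t * S.ι l) = S.t * (S.ι k * S.t) * S.ι l by group, S.tc, ← mul_assoc, S.tt,
            one_mul, map_mul]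
      inv_mem' := by
        rintro x ⟨k, hk, rfl | rfl⟩ <;> refine ⟨k⁻¹, inv_mem hk, ?_⟩
        · exact Or.inl (map_inv _ _).symm
        · right; rw [mul_inv_rev, hinv, ← map_inv, S.tc] }
  have hsq : ∀ x ∈ M, x * x = 1 := by
    rintro x ⟨k, hk, rfl | rfl⟩
    · rw [← map_mul, four_sq hK hk, map_one]
    · rw [show S.t * S.ι k * (S.t * S.ι k) = S.t * (S.ι k * S.t) * S.ι k by group, S.tc, ← mul_assoc, S.tt,
        one_mul, ← map_mul, four_sq hK hk, map_one]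
  have hMp : IsPGroup 2 M := fun x => ⟨1, Subtype.ext (by
    rw [Subgroup.coe_pow, pow_one, pow_two]; exact hsq x x.2)⟩
  obtain ⟨T, hT⟩ := hMp.exists_le_sylow
  let f : Bool × ↥K → ↥M := fun p => ⟨(bif p.1 then S.t else 1) * S.ι p.2, p.2, p.2.2, by
    cases p.1
    · exact Or.inl (one_mul _)
    · exact Or.inr rfl⟩
  have hf : Function.Injective f := by
    rintro ⟨a, k⟩ ⟨b, l⟩ e
    have e' : (bif a then S.t else 1) * S.ι k = (bif b then S.t else 1) * S.ι l := congrArg Subtype.val e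
    cases a <;> cases b <;> simp only [cond_true, cond_false, one_mul] at e'
    · exact Prod.ext rfl (Subtype.ext (S.inj e'))
    · exact absurd e' (S.ι_ne_tι' _ _)
    · exact absurd e'.symm (S.ι_ne_tι' _ _)
    · exact Prod.ext rfl (Subtype.ext (S.inj (mul_left_cancel e')))
  have h8 : 8 ≤ Nat.card ↥M := by
    refine le_trans ?_ (Nat.card_le_card_of_injective f hf)
    rw [Nat.card_prod, hK.card_four, Nat.card_eq_fintype_card, Fintype.card_bool]
  have hTM : (T : Subgroup G) = M := (eq_of_le_of_card_ge hT ((A.eight T).le.trans h8)).symm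
  exact ⟨T, fun x => hTM ▸ Iff.rfl⟩

/-- The elements of the four-group are centralised by the field part. -/
theorem F_four {a : G} (ha : a ∈ S.Fld) {v : P} (hv : v ∈ fourSub S.D.u S.D.w S.D.u2 S.D.w2 S.D.comm) :
    a * S.ι v = S.ι v * a := by
  rcases hv with rfl | rfl | rfl | rfl
  · simp
  · exact S.Fu a ha
  · exact S.Fw a ha
  · rw [map_mul, ← mul_assoc, S.Fu a ha, mul_assoc, S.Fw a ha, mul_assoc]

/-- The normaliser of the four-group in `P` is centralised by the field part. -/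
theorem F_normV {a : G} (ha : a ∈ S.Fld) {k : P}
    (hk : ∀ v ∈ fourSub S.D.u S.D.w S.D.u2 S.D.w2 S.D.comm, k * v * k⁻¹ ∈ fourSub S.D.u S.D.w S.D.u2 S.D.w2 S.D.comm) :
    a * S.ι k = S.ι k * a := by
  set K := fourSub S.D.u S.D.w S.D.u2 S.D.w2 S.D.comm
  obtain ⟨k', hk'⟩ := S.F_norm a ha k
  have hu : k' * k⁻¹ ∈ K := by
    have h : ∀ v ∈ K, (k' * k⁻¹) * v = v * (k' * k⁻¹) := by
      intro v hv
      have hv' : k⁻¹ * v * k ∈ K :=
        (mem_normalizer_iff''.1 (mem_normalizer_fintype (S := (K : Set P)) hk) v).1 hv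
      set v' := k⁻¹ * v * k with hv'd
      have h1 : k' * v' * k'⁻¹ = v := by
        refine S.inj ?_
        rw [map_mul, map_mul, map_inv, ← hk']
        have h2 : a * S.ι v' * a⁻¹ = S.ι v' := by rw [S.F_four ha hv', mul_inv_cancel_right]
        conv_lhs => arg 1; arg 2; rw [← h2]
        rw [conj_mul, conj_inv, conj_mul, ← map_inv, ← map_mul, ← map_mul,
          show k * v' * k⁻¹ = v by rw [hv'd]; group, S.F_four ha hv, mul_inv_cancel_right]
      calc k' * k⁻¹ * v = k' * v' * k⁻¹ := by rw [hv'd]; group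
        _ = (k' * v' * k'⁻¹) * (k' * k⁻¹) := by group
        _ = v * (k' * k⁻¹) := by rw [h1]
    exact S.D.comm_uw (h _ (Or.inr (Or.inl rfl))) (h _ (Or.inr (Or.inr (Or.inl rfl))))
  set z := k' * k⁻¹
  have hz : a * S.ι k * a⁻¹ = S.ι z * S.ι k := by rw [← map_mul, inv_mul_cancel_right, hk']
  have hpow : ∀ n : ℕ, a ^ n * S.ι k * (a ^ n)⁻¹ = S.ι z ^ n * S.ι k := by
    intro n
    induction n with
    | zero => simp
    | succ n ih =>
      have hc : Commute a (S.ι z ^ n) := (show Commute a (S.ι z) from S.F_four ha hu).pow_right n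
      calc a ^ (n + 1) * S.ι k * (a ^ (n + 1))⁻¹ = a * (a ^ n * S.ι k * (a ^ n)⁻¹) * a⁻¹ := by
            rw [pow_succ']; group
        _ = S.ι z ^ n * (a * S.ι k * a⁻¹) := by rw [ih, ← mul_assoc, hc.eq]; group
        _ = S.ι z ^ (n + 1) * S.ι k := by rw [hz, pow_succ]; group
  have h1 := hpow (Nat.card S.Fld)
  rw [show a ^ Nat.card S.Fld = 1 from congrArg Subtype.val (pow_card_eq_one' (x := (⟨a, ha⟩ : S.Fld))),
    one_mul, inv_one, mul_one, right_eq_mul] at h1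
  have h2 : S.ι z = 1 := eq_one_of_two_odd ⟨1, by rw [pow_one, pow_two, ← map_mul, four_sq
    (fourSub_klein S.D.u1 S.D.w1 S.D.uw) hu, map_one]⟩ S.F_odd h1
  rw [h2, one_mul] at hz
  exact mul_inv_eq_iff_eq_mul.1 hz

/-- The normaliser of the Sylow 2-subgroup `⟨t, u, w⟩` centralises the field part. -/
theorem normS_F (A : Amb G) (L : ExtLocals S) (T : Sylow 2 G)
    (hT : ∀ x, x ∈ (T : Subgroup G) ↔
      ∃ k ∈ fourSub S.D.u S.D.w S.D.u2 S.D.w2 S.D.comm, x = S.ι k ∨ x = S.t * S.ι k)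
    {n : G} (hn : n ∈ normalizer ((T : Subgroup G) : Set G)) {a : G} (ha : a ∈ S.Fld) :
    n * a = a * n := by
  set K := fourSub S.D.u S.D.w S.D.u2 S.D.w2 S.D.comm
  obtain ⟨h, -, hu, hw⟩ := S.exists_h A
  have hhK : ∀ v ∈ K, h * v * h⁻¹ ∈ K := by
    rintro v (rfl | rfl | rfl | rfl)
    · rw [mul_one, mul_inv_cancel]; exact one_mem _
    · rw [hu]; exact Or.inr (Or.inr (Or.inl rfl))
    · rw [hw]; exact Or.inr (Or.inr (Or.inr rfl))
    · rw [← conj_mul, hu, hw]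
      exact mul_mem (Or.inr (Or.inr (Or.inl rfl))) (Or.inr (Or.inr (Or.inr rfl)))
  have hh : Commute (S.ι h) a := (S.F_normV ha hhK).symm
  have hg : Commute L.g a := L.gF a ha
  have hmap : ∀ (x y : P), S.ι x * S.ι y * (S.ι x)⁻¹ = S.ι (x * y * x⁻¹) := fun x y => by simp
  have huw : h * (S.D.u * S.D.w) * h⁻¹ = S.D.u := by
    rw [← conj_mul, hu, hw, ← mul_assoc, ← S.D.comm, mul_assoc, S.D.w2, mul_one]
  have hht : S.ι h * S.t * (S.ι h)⁻¹ = S.t := by rw [S.tc, mul_inv_cancel_right]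
  have hht' : ∀ y, S.ι h * (S.t * S.ι y) * (S.ι h)⁻¹ = S.t * S.ι (h * y * h⁻¹) := fun y => by
    rw [← conj_mul, hht, hmap]
  set N := normalizer ((T : Subgroup G) : Set G) with hN
  have htT : S.t ∈ (T : Subgroup G) := (hT _).2 ⟨1, one_mem _, Or.inr (by rw [map_one, mul_one])⟩
  have hιT : ∀ v ∈ K, S.ι v ∈ (T : Subgroup G) := fun v hv => (hT _).2 ⟨v, hv, Or.inl rfl⟩
  have hhN : S.ι h ∈ N := by
    refine mem_normalizer_fintype fun x hx => (hT _).2 ?_
    obtain ⟨v, hv, e | e⟩ := (hT x).1 hx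
    · exact ⟨_, hhK v hv, Or.inl (by rw [e, hmap])⟩
    · exact ⟨_, hhK v hv, Or.inr (by rw [e, hht'])⟩
  have hgN : L.g ∈ N := by
    set H := (T : Subgroup G).comap (MulAut.conj L.g).toMonoidHom
    have hHt : S.t ∈ H := show L.g * S.t * L.g⁻¹ ∈ (T : Subgroup G) by
      rw [L.gt]; exact hιT _ (Or.inr (Or.inl rfl))
    have hHu : S.ι S.D.u ∈ H := show L.g * S.ι S.D.u * L.g⁻¹ ∈ (T : Subgroup G) by
      rw [L.gu]; exact mul_mem htT (hιT _ (Or.inr (Or.inl rfl)))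
    have hx : L.c * S.t * L.c⁻¹ ∈ (T : Subgroup G) := by
      rcases L.ct with e | e <;> rw [e]
      · exact mul_mem htT (hιT _ (Or.inr (Or.inr (Or.inl rfl))))
      · exact mul_mem htT (hιT _ (Or.inr (Or.inr (Or.inr rfl))))
    have hHx : L.c * S.t * L.c⁻¹ ∈ H :=
      show L.g * (L.c * S.t * L.c⁻¹) * L.g⁻¹ ∈ (T : Subgroup G) by rw [L.gx, mul_inv_cancel_right]; exact hx
    have hHw : S.ι S.D.w ∈ H := by
      rcases L.ct with e | e <;> rw [e] at hHx
      · exact (H.mul_mem_cancel_left hHt).1 hHx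
      · rw [map_mul] at hHx
        exact (H.mul_mem_cancel_left hHu).1 ((H.mul_mem_cancel_left hHt).1 hHx)
    refine mem_normalizer_fintype fun x hx => ?_
    suffices h' : x ∈ H from h'
    have hHv : ∀ v ∈ K, S.ι v ∈ H := by
      rintro v (rfl | rfl | rfl | rfl)
      · rw [map_one]; exact one_mem _
      · exact hHu
      · exact hHw
      · rw [map_mul]; exact mul_mem hHu hHw
    obtain ⟨v, hv, rfl | rfl⟩ := (hT x).1 hx
    · exact hHv v hv
    · exact mul_mem hHt (hHv v hv)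
  have horb : ∀ v ∈ K, (v ≠ 1 → ∃ m, (Commute m a ∧ m ∈ N) ∧ m * S.t * m⁻¹ = S.ι v) ∧
      ∃ m, (Commute m a ∧ m ∈ N) ∧ m * S.t * m⁻¹ = S.t * S.ι v := by
    have h1 : ∃ m, (Commute m a ∧ m ∈ N) ∧ m * S.t * m⁻¹ = S.t * S.ι S.D.u :=
      ⟨L.g * L.g, ⟨hg.mul_left hg, mul_mem hgN hgN⟩, by
        rw [show L.g * L.g * S.t * (L.g * L.g)⁻¹ = L.g * (L.g * S.t * L.g⁻¹) * L.g⁻¹ by group, L.gt, L.gu]⟩
    have st : ∀ {x y : G}, (∃ m, (Commute m a ∧ m ∈ N) ∧ m * S.t * m⁻¹ = x) → S.ι h * x * (S.ι h)⁻¹ = y →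
        ∃ m, (Commute m a ∧ m ∈ N) ∧ m * S.t * m⁻¹ = y := by
      rintro x y ⟨m, ⟨hm, hm'⟩, rfl⟩ rfl
      exact ⟨S.ι h * m, ⟨hh.mul_left hm, mul_mem hhN hm'⟩, by group⟩
    have e1 : ∃ m, (Commute m a ∧ m ∈ N) ∧ m * S.t * m⁻¹ = S.ι S.D.u := ⟨L.g, ⟨hg, hgN⟩, L.gt⟩
    have e2 := st e1 (by rw [hmap, hu] : _ = S.ι S.D.w)
    have e3 := st e2 (by rw [hmap, hw] : _ = S.ι (S.D.u * S.D.w))
    have f2 := st h1 (by rw [hht', hu] : _ = S.t * S.ι S.D.w)
    have f3 := st f2 (by rw [hht', hw] : _ = S.t * S.ι (S.D.u * S.D.w))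
    rintro v (rfl | rfl | rfl | rfl)
    · exact ⟨fun h => absurd rfl h, 1, ⟨Commute.one_left _, one_mem _⟩, by simp⟩
    · exact ⟨fun _ => e1, h1⟩
    · exact ⟨fun _ => e2, f2⟩
    · exact ⟨fun _ => e3, f3⟩
  obtain ⟨m, ⟨hm, hmN⟩, hmt⟩ : ∃ m, (Commute m a ∧ m ∈ N) ∧ m * S.t * m⁻¹ = n * S.t * n⁻¹ := by
    obtain ⟨v, hv, e | e⟩ := (hT _).1 ((mem_normalizer_iff.1 hn S.t).1 htT) <;> rw [e]
    · refine (horb v hv).1 ?_
      rintro rfl
      rw [map_one, conj_eq_one_iff] at e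
      exact S.t_ne e
    · exact (horb v hv).2
  set n' := m⁻¹ * n with hn'
  have hn't : n' * S.t = S.t * n' := by
    refine mul_inv_eq_iff_eq_mul.1 ?_
    rw [hn', show m⁻¹ * n * S.t * (m⁻¹ * n)⁻¹ = m⁻¹ * (n * S.t * n⁻¹) * m by group, ← hmt]
    group
  suffices hsuf : Commute n' a by
    have := hm.mul_left hsuf
    rwa [hn', mul_inv_cancel_left] at this
  obtain ⟨k, b, hb, e⟩ := S.cover n' hn't
  have hab : Commute b a := by
    haveI := S.F_cyclic
    exact congrArg Subtype.val (mul_comm' (⟨b, hb⟩ : S.Fld) ⟨a, ha⟩)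
  have hkK : ∀ v ∈ K, k * v * k⁻¹ ∈ K := by
    intro v hv
    have hvb : b * S.ι v * b⁻¹ = S.ι v := by rw [S.F_four hb hv, mul_inv_cancel_right]
    have h1 : n' * S.ι v * n'⁻¹ = S.ι (k * v * k⁻¹) := by
      have htk : S.t * S.ι (k * v * k⁻¹) * S.t⁻¹ = S.ι (k * v * k⁻¹) := by rw [← S.tc, mul_inv_cancel_right]
      rcases e with e | e <;> rw [e]
      · rw [← hmap]
        conv_rhs => rw [← hvb]
        group
      · rw [← htk, ← hmap]
        conv_rhs => rw [← hvb]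
        group
    have h2 : S.ι (k * v * k⁻¹) ∈ (T : Subgroup G) := by
      rw [← h1]
      exact (mem_normalizer_iff.1 (mul_mem (inv_mem hmN) hn) _).1 (hιT v hv)
    obtain ⟨v', hv', e' | e'⟩ := (hT _).1 h2
    · rw [S.inj e']; exact hv'
    · exact absurd e' (S.ι_ne_tι' _ _)
  have hka : Commute (S.ι k) a := (S.F_normV ha hkK).symm
  rcases e with e | e <;> rw [e]
  · exact hka.mul_left hab
  · exact Commute.mul_left (show Commute S.t a from (S.Ft a ha).symm) (hka.mul_left hab)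

end Cfsg.Agent.Invol.JankoWard.ExtBase
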