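import Cfsg.Agent.Lib.Invol.JankoWard.ExtTorusF
import Cfsg.Agent.Lib.Invol.JankoWard.ExtHyp
import Cfsg.Agent.Lib.Invol.JankoWard.ExtSylow
import Cfsg.Agent.Lib.Char.Induce
import Cfsg.Agent.Lib.Char.Constituent
import Mathlib.GroupTheory.SpecificGroups.Cyclic
import Mathlib.Tactic.LinearCombination

/-!
# The group `⟨t, u⟩ × (Y ⋊ F₁)` and its linear characters

`Exc`: a prime `s` of `|Y|` prime to `|Fld|` and the subgroup `F₁` of index `k` of the field part fixing an element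
of order `s`.  `F b`: the product of a character of `⟨t, u⟩`, one of `F₁` and `j - 1`, `j` of order `s` on `Y`.
-/

open scoped ComplexConjugate

set_option autoImplicit false
set_option linter.unusedSectionVars false
set_option linter.style.haveILetI false

open scoped Classical

namespace Cfsg.Agent.Invol.JankoWard

open Cfsg Cfsg.Agent.Char Subgroup

universe u v

namespace ExtBase

variable {G : Type u} [Group G] {P : Type v} [Group P] (S : ExtBase G P)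

/-- The four-group `⟨t, u⟩`, listed. -/
def v4 : Fin 4 → G := ![1, S.t, S.ι S.D.u, S.t * S.ι S.D.u]

theorem ιuu : S.ι S.D.u * S.ι S.D.u = 1 := by rw [← map_mul, S.D.u2, map_one]

theorem v4_sq (q : Fin 4) : S.v4 q * S.v4 q = 1 := by
  fin_cases q
  · simp [v4]
  · simp [v4, S.tt]
  · simp [v4, S.ιuu]
  · simp only [v4, Fin.reduceFinMk, Matrix.cons_val]
    rw [mul_assoc, ← mul_assoc (S.ι S.D.u), S.tc, mul_assoc, S.ιuu, mul_one, S.tt]

theorem v4_injective : Function.Injective S.v4 := by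
  have h1 : S.t ≠ 1 := S.t_ne
  have h2 : S.ι S.D.u ≠ 1 := fun e => S.D.u1 (S.inj (e.trans (map_one _).symm))
  have h3 : S.ι S.D.u ≠ S.t := S.t_not _
  have h4 : S.t * S.ι S.D.u ≠ 1 := fun e => by
    have := eq_inv_of_mul_eq_one_right e
    rw [S.t_inv] at this
    exact h3 this
  intro a b h
  fin_cases a <;> fin_cases b <;>
    simp only [v4, Matrix.cons_val_zero, Matrix.cons_val_one, Matrix.cons_val, Fin.reduceFinMk, Fin.isValue,
      Fin.zero_eta, Fin.mk_one] at h ⊢ <;>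
    first
      | rfl
      | exact absurd h h1
      | exact absurd h h2
      | exact absurd h h3
      | exact absurd h h4
      | exact absurd h.symm h1
      | exact absurd h.symm h2
      | exact absurd h.symm h3
      | exact absurd h.symm h4
      | exact absurd (mul_eq_left.1 h) h2
      | exact absurd (mul_eq_left.1 h.symm) h2
      | exact absurd (mul_eq_right.1 h) h1
      | exact absurd (mul_eq_right.1 h.symm) h1

/-- An element normalising `Y` acts as a power. -/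
theorem exists_exp {n : G} (hn : ∀ y ∈ S.D.Y, ∃ y' ∈ S.D.Y, n * S.ι y * n⁻¹ = S.ι y') :
    ∃ c : ℤ, ∀ y ∈ S.D.Y, n * S.ι y * n⁻¹ = S.ι (y ^ c) := by
  haveI := S.D.Y_cyclic
  choose f hf hf' using hn
  let σ : S.D.Y →* S.D.Y := MonoidHom.mk' (fun y => ⟨f y y.2, hf y y.2⟩) fun a b => Subtype.ext (S.inj (by
    simp only [Subgroup.coe_mul, map_mul, ← hf']
    group))
  obtain ⟨c, hc⟩ := MonoidHom.map_cyclic σ
  refine ⟨c, fun y hy => ?_⟩
  rw [hf' y hy]
  congr 1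
  exact congrArg Subtype.val (hc ⟨y, hy⟩)

end ExtBase

/-- The data of the exceptional functions. -/
structure Exc {G : Type u} [Group G] {P : Type v} [Group P] {S : ExtBase G P} (L : ExtLocals S) where
  /-- the prime -/
  s : ℕ
  hs : s.Prime
  hs2 : s ≠ 2
  hsr : s ∣ S.D.r
  hsF : ¬ s ∣ Nat.card S.Fld
  /-- the index of `F₁` -/
  k : ℕ
  hk : k = 1 ∨ (k.Prime ∧ Odd k)
  /-- the stabiliser in the field part of an element of order `s` -/
  F₁ : Subgroup S.Fld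
  /-- representatives are its powers -/
  φ : S.Fld
  cover : ∀ a : S.Fld, ∃! m : Fin k, (φ ^ (m : ℕ))⁻¹ * a ∈ F₁
  pow_k : φ ^ k ∈ F₁
  /-- the element of order `s` -/
  z : P
  hz : z ∈ S.D.Y
  hzo : orderOf z = s
  stab : ∀ a : S.Fld, (a : G) * S.ι z = S.ι z * (a : G) ↔ a ∈ F₁
  /-- the character of the field part; only its restriction to `F₁` matters here -/
  l1 : S.Fld →* ℂˣ
  invol : ∀ y ∈ S.D.Y, y ≠ 1 → (∃ j, y ^ s ^ j = 1) → ∀ i : G, i * i = 1 → i * S.ι y = S.ι y * i →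
    ∃ q, i = S.v4 q

namespace Exc

variable {G : Type u} [Group G] [Fintype G] {P : Type v} [Group P] [Fintype P] {S : ExtBase G P}
  {L : ExtLocals S} (E : Exc L)

theorem k_pos : 0 < E.k := by rcases E.hk with h | ⟨h, -⟩ <;> [omega; exact h.pos]

theorem k_odd : Odd E.k := by rcases E.hk with h | ⟨-, h⟩ <;> [exact h ▸ odd_one; exact h]

/-- The index is the index. -/
theorem card_F₁ : E.k * Nat.card E.F₁ = Nat.card S.Fld := by
  conv_lhs => rw [← Fintype.card_fin E.k, ← Nat.card_eq_fintype_card, ← Nat.card_prod]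
  refine Nat.card_eq_of_bijective (fun p : Fin E.k × E.F₁ => E.φ ^ (p.1 : ℕ) * (p.2 : S.Fld)) ⟨?_, fun a => ?_⟩
  · rintro ⟨m, a⟩ ⟨m', a'⟩ h
    obtain ⟨m0, -, huniq⟩ := E.cover (E.φ ^ (m : ℕ) * (a : S.Fld))
    have h1 := huniq m (by simp)
    have h2 := huniq m' (by simp only at h ⊢; rw [h]; simp)
    have hm : m = m' := h1.trans h2.symm
    subst hm
    exact Prod.ext rfl (Subtype.ext (mul_left_cancel h))
  · obtain ⟨m, hm, -⟩ := E.cover a
    exact ⟨(m, ⟨_, hm⟩), mul_inv_cancel_left _ _⟩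

theorem z_ne : E.z ≠ 1 := fun e => E.hs.ne_one (by rw [← E.hzo, e, orderOf_one])

/-- A character of order `s` of `Y`. -/
noncomputable def j : S.D.Y →* ℂˣ := S.D.l0 ^ (S.D.r / E.s)

theorem j_order : orderOf E.j = E.s := by
  haveI := Fact.mk E.hs
  haveI := S.D.Y_cyclic
  have hmul : S.D.r / E.s * E.s = S.D.r := Nat.div_mul_cancel E.hsr
  refine orderOf_eq_prime ?_ fun h => ?_
  · refine MonoidHom.ext fun y => ?_
    show (S.D.l0 y ^ (S.D.r / E.s)) ^ E.s = 1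
    rw [← pow_mul, hmul, ← map_pow, show y ^ S.D.r = 1 from Subtype.ext (S.D.pow_r y.2), map_one]
  · obtain ⟨y₁, hy₁⟩ := IsCyclic.exists_generator (α := S.D.Y)
    have hor : orderOf y₁ = S.D.r := by rw [orderOf_eq_card_of_forall_mem_zpowers hy₁, S.D.card_Y]
    have h1 : S.D.l0 (y₁ ^ (S.D.r / E.s)) = 1 := by
      rw [map_pow]; exact DFunLike.congr_fun h y₁
    have hr := S.D.r3
    refine pow_ne_one_of_lt_orderOf ?_ ?_ (S.D.l0_inj (h1.trans (map_one _).symm))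
    · intro e; rw [e, zero_mul] at hmul; omega
    · rw [hor]; exact Nat.div_lt_self (by omega) E.hs.one_lt

theorem j_ne : E.j ≠ 1 := fun h => E.hs.ne_one (by rw [← E.j_order, h, orderOf_one])

/-- An element fixing `z` fixes `j`. -/
theorem dvd_of_comm {n : G} {c : ℤ} (hc : ∀ y ∈ S.D.Y, n * S.ι y * n⁻¹ = S.ι (y ^ c)) :
    n * S.ι E.z = S.ι E.z * n ↔ (E.s : ℤ) ∣ c - 1 := by
  rw [← E.hzo, orderOf_dvd_sub_iff_zpow_eq_zpow, zpow_one, ← S.inj.eq_iff, ← hc _ E.hz, mul_inv_eq_iff_eq_mul]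

theorem j_zpow {c : ℤ} (h : (E.s : ℤ) ∣ c - 1) (y : S.D.Y) : E.j (y ^ c) = E.j y := by
  have h1 : E.j ^ c = E.j ^ (1 : ℤ) := orderOf_dvd_sub_iff_zpow_eq_zpow.1 (by rw [E.j_order]; exact h)
  rw [map_zpow]
  exact (DFunLike.congr_fun h1 y).trans (zpow_one _)

/-- The field elements of `F₁` fix `j`. -/
theorem j_F₁ {a : S.Fld} (ha : a ∈ E.F₁) {y y' : S.D.Y}
    (h : (a : G) * S.ι (y : P) * (a : G)⁻¹ = S.ι (y' : P)) : E.j y' = E.j y := by
  obtain ⟨c, hc⟩ := S.exists_exp (n := (a : G)) fun y hy => S.F_Y a.2 hy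
  have h1 := (E.dvd_of_comm hc).1 ((E.stab a).2 ha)
  rw [show y' = y ^ c from Subtype.ext (S.inj (h.symm.trans (hc _ y.2))), E.j_zpow h1]

/-- The sum of a product of `j - 1` with a conjugate. -/
theorem sum_j (c : ℤ) :
    ∑ y : S.D.Y, ((E.j y : ℂ) - 1) * conj ((E.j (y ^ c) : ℂ) - 1) =
      (S.D.r : ℂ) * ((if (E.s : ℤ) ∣ c - 1 then 1 else 0) + (if (E.s : ℤ) ∣ c then 0 else 1)) := by
  have hsum : ∀ l : S.D.Y →* ℂˣ, ∑ y : S.D.Y, (l y : ℂ) = if l = 1 then (S.D.r : ℂ) else 0 := by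
    intro l
    split_ifs with h
    · simp [h, ← Nat.card_eq_fintype_card, S.D.card_Y]
    · exact linear_sum l h
  have hconj : ∀ y, conj ((E.j (y ^ c) : ℂˣ) : ℂ) = (((E.j ^ (-c)) y : ℂˣ) : ℂ) := fun y => by
    have hrhs : (E.j ^ (-c)) y = E.j ((y ^ c)⁻¹) := by
      show E.j y ^ (-c) = _
      rw [map_inv, map_zpow, zpow_neg]
    rw [hrhs, ← IsIrr.apply_inv (isIrr_linear E.j) (y ^ c)]
  have e : ∀ y : S.D.Y, ((E.j y : ℂ) - 1) * conj ((E.j (y ^ c) : ℂ) - 1) =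
      (((E.j ^ (1 - c)) y : ℂˣ) : ℂ) - (E.j y : ℂ) - (((E.j ^ (-c)) y : ℂˣ) : ℂ) + (((1 : S.D.Y →* ℂˣ) y : ℂˣ) : ℂ) := by
    intro y
    rw [map_sub, map_one, hconj]
    show ((E.j y : ℂ) - 1) * ((((E.j y) ^ (-c) : ℂˣ) : ℂ) - 1) =
      (((E.j y) ^ (1 - c) : ℂˣ) : ℂ) - (E.j y : ℂ) - (((E.j y) ^ (-c) : ℂˣ) : ℂ) + ((1 : ℂˣ) : ℂ)
    rw [sub_eq_add_neg (1 : ℤ) c, zpow_add, zpow_one, Units.val_mul, Units.val_one]
    ring
  rw [Finset.sum_congr rfl fun y _ => e y, Finset.sum_add_distrib, Finset.sum_sub_distrib, Finset.sum_sub_distrib,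
    hsum, hsum, hsum, hsum, if_neg E.j_ne, if_pos rfl]
  have h1 : E.j ^ (1 - c) = 1 ↔ (E.s : ℤ) ∣ c - 1 :=
    (orderOf_dvd_iff_zpow_eq_one (x := E.j)).symm.trans (by rw [E.j_order, dvd_sub_comm])
  have h2 : E.j ^ (-c) = 1 ↔ (E.s : ℤ) ∣ c :=
    (orderOf_dvd_iff_zpow_eq_one (x := E.j)).symm.trans (by rw [E.j_order, dvd_neg])
  simp only [h1, h2]
  split_ifs <;> ring

/-- `⟨t, u⟩ × (Y ⋊ F₁)`. -/
noncomputable def H : Subgroup G := ((S.HE E.F₁).comap S.κ).map S.C.subtype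

theorem H_le : E.H ≤ S.C := Subgroup.map_subtype_le _

/-- The projection on `(⟨u⟩ × Y) ⋊ F₁`. -/
noncomputable def κH : E.H →* S.HE E.F₁ :=
  (S.κ.comp (Subgroup.inclusion E.H_le)).codRestrict (S.HE E.F₁) fun h => by
    obtain ⟨c, hc, e⟩ := h.2
    have : Subgroup.inclusion E.H_le h = c := Subtype.ext e.symm
    simp only [MonoidHom.comp_apply, this]
    exact hc

theorem el_mem (q : Fin 4) (y : S.D.Y) (a : E.F₁) : S.v4 q * S.ι (y : P) * ((a : S.Fld) : G) ∈ E.H ∧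
    ∃ b : Bool, ∃ k : S.D.T, S.v4 q * S.ι (y : P) * ((a : S.Fld) : G) =
      (S.pairMap (b, (S.HEmk E.F₁ (k, a) : S.EG)) : G) ∧ (k : P) = (if 2 ≤ (q : ℕ) then S.D.u * (y : P) else (y : P)) := by
  have key : ∀ (b : Bool) (k : S.D.T), (S.pairMap (b, (S.HEmk E.F₁ (k, a) : S.EG)) : G) ∈ E.H := fun b k =>
    ⟨S.pairMap (b, (S.HEmk E.F₁ (k, a) : S.EG)), by
      show S.κ _ ∈ S.HE E.F₁
      rw [S.κ_pairMap]; exact (S.HEmk E.F₁ (k, a)).2, rfl⟩
  have hu : S.D.u * (y : P) ∈ S.D.T := mul_mem S.D.u_T (Or.inl y.2)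
  obtain ⟨b, k, e, hk⟩ : ∃ b : Bool, ∃ k : S.D.T, S.v4 q * S.ι (y : P) * ((a : S.Fld) : G) =
      (S.pairMap (b, (S.HEmk E.F₁ (k, a) : S.EG)) : G) ∧
      (k : P) = (if 2 ≤ (q : ℕ) then S.D.u * (y : P) else (y : P)) := by
    fin_cases q
    · exact ⟨false, ⟨y, Or.inl y.2⟩, by simp [ExtBase.v4, ExtBase.pairMap_coe, S.HEmk_coe], rfl⟩
    · exact ⟨true, ⟨y, Or.inl y.2⟩, by simp [ExtBase.v4, ExtBase.pairMap_coe, S.HEmk_coe, mul_assoc], rfl⟩
    · exact ⟨false, ⟨_, hu⟩, by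
          show S.v4 _ * _ * _ = _
          rw [ExtBase.pairMap_coe, S.HEmk_coe]
          simp only [map_mul, cond_true, cond_false, one_mul, ExtBase.v4, Fin.reduceFinMk, Matrix.cons_val,
            ← mul_assoc], rfl⟩
    · exact ⟨true, ⟨_, hu⟩, by
          show S.v4 _ * _ * _ = _
          rw [ExtBase.pairMap_coe, S.HEmk_coe]
          simp only [map_mul, cond_true, cond_false, one_mul, ExtBase.v4, Fin.reduceFinMk, Matrix.cons_val,
            ← mul_assoc], rfl⟩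
  exact ⟨e ▸ key b k, b, k, e, hk⟩

/-- The element `v y a`. -/
noncomputable def el (p : Fin 4 × S.D.Y × E.F₁) : E.H :=
  ⟨S.v4 p.1 * S.ι (p.2.1 : P) * ((p.2.2 : S.Fld) : G), (E.el_mem p.1 p.2.1 p.2.2).1⟩

theorem el_coe (q : Fin 4) (y : S.D.Y) (a : E.F₁) :
    ((E.el (q, y, a) : E.H) : G) = S.v4 q * S.ι (y : P) * ((a : S.Fld) : G) := rfl

theorem el_surjective : Function.Surjective E.el := by
  rintro ⟨g, ⟨c, hc, rfl⟩⟩
  obtain ⟨⟨b, x⟩, rfl⟩ := S.pairMap_bijective.2 c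
  change S.κ (S.pairMap (b, x)) ∈ S.HE E.F₁ at hc
  rw [S.κ_pairMap] at hc
  obtain ⟨k, hk, a, ha, e⟩ := hc
  rcases S.D.T_Y hk with ⟨h, -⟩ | ⟨h, -⟩
  · cases b
    · exact ⟨(0, ⟨k, h⟩, ⟨a, ha⟩), Subtype.ext (by simp [el, ExtBase.v4, ExtBase.pairMap_coe, e])⟩
    · exact ⟨(1, ⟨k, h⟩, ⟨a, ha⟩), Subtype.ext (by simp [el, ExtBase.v4, ExtBase.pairMap_coe, e, mul_assoc])⟩
  · have e' : S.ι k = S.ι S.D.u * S.ι (S.D.u * k) := by rw [← map_mul, S.D.uu_cancel]
    cases b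
    · exact ⟨(2, ⟨_, h⟩, ⟨a, ha⟩), Subtype.ext (by
        show S.ι S.D.u * S.ι (S.D.u * k) * ((a : S.Fld) : G) = _
        rw [← e']; simp [ExtBase.pairMap_coe, e])⟩
    · exact ⟨(3, ⟨_, h⟩, ⟨a, ha⟩), Subtype.ext (by
        show S.t * S.ι S.D.u * S.ι (S.D.u * k) * ((a : S.Fld) : G) = _
        rw [mul_assoc S.t, ← e']; simp [ExtBase.pairMap_coe, e, mul_assoc])⟩

theorem el_injective : Function.Injective E.el := by
  rintro ⟨q, y, a⟩ ⟨q', y', a'⟩ h
  obtain ⟨b, k, e, hk⟩ := (E.el_mem q y a).2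
  obtain ⟨b', k', e', hk'⟩ := (E.el_mem q' y' a').2
  have h' : S.v4 q * S.ι (y : P) * ((a : S.Fld) : G) = S.v4 q' * S.ι (y' : P) * ((a' : S.Fld) : G) :=
    congrArg Subtype.val h
  rw [e, e'] at h'
  obtain ⟨rfl, h2⟩ := Prod.mk.inj (S.pairMap_bijective.1 (Subtype.ext h'))
  obtain ⟨rfl, rfl⟩ := Prod.mk.inj ((S.HEmk_bijective E.F₁).1 (Subtype.ext h2))
  have hyy : (y : P) = (y' : P) := by
    rw [hk] at hk'
    split_ifs at hk' with h1 h2 h2
    · exact mul_left_cancel hk'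
    · exact absurd (by rw [eq_mul_inv_of_mul_eq hk']; exact mul_mem y'.2 (inv_mem y.2)) S.D.u_not_Y
    · exact absurd (by rw [eq_mul_inv_of_mul_eq hk'.symm]; exact mul_mem y.2 (inv_mem y'.2)) S.D.u_not_Y
    · exact hk'
  obtain rfl : y = y' := Subtype.ext hyy
  have h'' : S.v4 q * S.ι (y : P) * ((a : S.Fld) : G) = S.v4 q' * S.ι (y : P) * ((a : S.Fld) : G) :=
    congrArg Subtype.val h
  rw [S.v4_injective (mul_right_cancel (mul_right_cancel h''))]

theorem el_bijective : Function.Bijective E.el := ⟨E.el_injective, E.el_surjective⟩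

theorem sum_H {α : Type*} [AddCommMonoid α] (f : E.H → α) :
    ∑ h : E.H, f h = ∑ q : Fin 4, ∑ y : S.D.Y, ∑ a : E.F₁, f (E.el (q, y, a)) := by
  rw [← Fintype.sum_bijective _ E.el_bijective _ _ fun _ => rfl, Fintype.sum_prod_type]
  exact Finset.sum_congr rfl fun q _ => Fintype.sum_prod_type _

theorem card_H : Nat.card E.H = 4 * S.D.r * Nat.card E.F₁ := by
  rw [← Nat.card_eq_of_bijective _ E.el_bijective, Nat.card_prod, Nat.card_prod, S.D.card_Y,
    Nat.card_eq_fintype_card (α := Fin 4), Fintype.card_fin, mul_assoc]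

/-- `j` on `(⟨u⟩ × Y) ⋊ F₁`. -/
noncomputable def JE : S.HE E.F₁ →* ℂˣ :=
  MonoidHom.mk' (fun x => E.j (S.D.partY ((Equiv.ofBijective _ (S.HEmk_bijective E.F₁)).symm x).1)) fun a b => by
    obtain ⟨p, rfl⟩ := (S.HEmk_bijective E.F₁).2 a
    obtain ⟨q, rfl⟩ := (S.HEmk_bijective E.F₁).2 b
    obtain ⟨l, hl, hY, e⟩ := S.HEmk_mul E.F₁ p q
    rw [e]
    simp only [Equiv.ofBijective_symm_apply_apply, map_mul]
    congr 1
    refine E.j_F₁ p.2.2 ?_
    rcases S.D.T_Y q.1.2 with ⟨h, -⟩ | ⟨h, hn⟩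
    · have e1 : S.D.partY q.1 = ⟨(q.1 : P), h⟩ := dif_pos h
      have e2 : S.D.partY l = ⟨(l : P), hY.2 h⟩ := dif_pos (hY.2 h)
      rw [e1, e2]; exact hl
    · have e1 : S.D.partY q.1 = ⟨S.D.u * (q.1 : P), h⟩ := dif_neg hn
      have hn' : (l : P) ∉ S.D.Y := fun h' => hn (hY.1 h')
      have e2 : S.D.partY l = ⟨S.D.u * (l : P), l.2.resolve_left hn'⟩ := dif_neg hn'
      rw [e1, e2]
      show _ * S.ι (S.D.u * (q.1 : P)) * _ = S.ι (S.D.u * (l : P))
      rw [map_mul, map_mul, ← hl, ← mul_assoc _ (S.ι S.D.u), S.Fu _ (p.2 : S.Fld).2]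
      group

/-- The sign of the four-group. -/
def muv (b : Bool) (q : Fin 4) : ℂ := if b then ![1, 1, -1, -1] q else 1

/-- The linear character of the four-group on `H`. -/
noncomputable def mu (b : Bool) : E.H →* ℂˣ := if b then (S.epsE E.F₁).comp E.κH else 1

/-- The character of `F₁` on `H`. -/
noncomputable def Lam : E.H →* ℂˣ := E.l1.comp (S.fp.comp ((S.HE E.F₁).subtype.comp E.κH))

/-- The character of order `s` on `H`. -/
noncomputable def J : E.H →* ℂˣ := E.JE.comp E.κH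

theorem κH_el (q : Fin 4) (y : S.D.Y) (a : E.F₁) : ∃ k : S.D.T, E.κH (E.el (q, y, a)) = S.HEmk E.F₁ (k, a) ∧
    (k : P) = (if 2 ≤ (q : ℕ) then S.D.u * (y : P) else (y : P)) := by
  obtain ⟨b, k, e, hk⟩ := (E.el_mem q y a).2
  refine ⟨k, Subtype.ext ?_, hk⟩
  show S.κ _ = _
  rw [show Subgroup.inclusion E.H_le (E.el (q, y, a)) = S.pairMap (b, (S.HEmk E.F₁ (k, a) : S.EG)) from
    Subtype.ext e, S.κ_pairMap]

theorem values_el (b : Bool) (q : Fin 4) (y : S.D.Y) (a : E.F₁) :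
    (E.mu b (E.el (q, y, a)) : ℂ) = muv b q ∧ E.Lam (E.el (q, y, a)) = E.l1 (a : S.Fld) ∧
      E.J (E.el (q, y, a)) = E.j y := by
  obtain ⟨k, e, hk⟩ := E.κH_el q y a
  refine ⟨?_, ?_, ?_⟩
  · cases b
    · simp [mu, muv]
    · simp only [mu, muv, if_true, MonoidHom.comp_apply, e, S.epsE_mk]
      have hyu : S.D.u * (y : P) ∉ S.D.Y := fun h => S.D.u_not_Y (by
        have := mul_mem h (inv_mem y.2); rwa [mul_inv_cancel_right] at this)
      simp only [LData.eps, MonoidHom.mk'_apply, hk]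
      fin_cases q <;> simp [hyu]
  · simp only [Lam, MonoidHom.comp_apply, Subgroup.coe_subtype, e, S.fp_HEmk]
  · simp only [J, MonoidHom.comp_apply, e, JE, MonoidHom.mk'_apply, Equiv.ofBijective_symm_apply_apply]
    congr 1
    split_ifs at hk with h2
    · have hn : (k : P) ∉ S.D.Y := fun h => S.D.u_not_Y (by
        rw [hk] at h
        have := mul_mem h (inv_mem y.2); rwa [mul_inv_cancel_right] at this)
      refine (dif_neg hn).trans (Subtype.ext ?_)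
      show S.D.u * (k : P) = y
      rw [hk, S.D.uu_cancel]
    · exact (dif_pos (hk ▸ y.2 : (k : P) ∈ S.D.Y)).trans (Subtype.ext hk)

/-- The function on `H`. -/
noncomputable def F (b : Bool) : E.H → ℂ := fun h => (E.mu b h : ℂ) * (E.Lam h : ℂ) * ((E.J h : ℂ) - 1)

theorem F_el (b : Bool) (q : Fin 4) (y : S.D.Y) (a : E.F₁) :
    E.F b (E.el (q, y, a)) = muv b q * (E.l1 (a : S.Fld) : ℂ) * ((E.j y : ℂ) - 1) := by
  obtain ⟨h1, h2, h3⟩ := E.values_el b q y a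
  rw [F, h1, h2, h3]

theorem F_gen (b : Bool) : IsGeneralizedCharacter E.H (E.F b) := by
  have e : E.F b = (fun h => ((E.mu b * E.Lam * E.J) h : ℂ)) - fun h => ((E.mu b * E.Lam) h : ℂ) := by
    funext h
    simp [F, mul_sub]
  rw [e]
  exact IsGenChar.sub (IsGenChar.of_isCharacter (IsIrr.isCharacter (isIrr_linear _)))
    (IsGenChar.of_isCharacter (IsIrr.isCharacter (isIrr_linear _)))

theorem F_conj (b : Bool) (h h' : E.H) : E.F b (h' * h * h'⁻¹) = E.F b h := by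
  simp [F, mul_inv_cancel_comm]

theorem H_cent_V {h : G} (hh : h ∈ E.H) (q : Fin 4) : h * S.v4 q = S.v4 q * h := by
  obtain ⟨⟨q', y, a⟩, e⟩ := E.el_surjective ⟨h, hh⟩
  have e' : h = S.v4 q' * S.ι (y : P) * ((a : S.Fld) : G) := (congrArg Subtype.val e).symm
  have ct : ∀ x : G, x * S.t = S.t * x → x * S.ι S.D.u = S.ι S.D.u * x → Commute x (S.v4 q) := by
    intro x h1 h2
    fin_cases q
    · exact Commute.one_right _
    · exact h1
    · exact h2
    · exact Commute.mul_right h1 h2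
  have c1 : ∀ q'' : Fin 4, Commute (S.v4 q'') (S.v4 q) := fun q'' => by
    refine ct _ ?_ ?_
    · fin_cases q''
      · exact Commute.one_left _
      · rfl
      · exact S.tc _
      · exact Commute.mul_left (Commute.refl S.t) (show Commute (S.ι S.D.u) S.t from S.tc _)
    · fin_cases q''
      · exact Commute.one_left _
      · exact (S.tc _).symm
      · rfl
      · exact Commute.mul_left (show Commute S.t (S.ι S.D.u) from (S.tc _).symm) (Commute.refl _)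
  have c2 : Commute (S.ι (y : P)) (S.v4 q) := ct _ (S.tc _) (by rw [← map_mul, ← map_mul, S.D.u_Y _ y.2])
  have c3 : Commute ((a : S.Fld) : G) (S.v4 q) := ct _ (S.Ft _ (a : S.Fld).2) (S.Fu _ (a : S.Fld).2)
  rw [e']
  exact (((c1 q').mul_left c2).mul_left c3).eq

end Exc

end Cfsg.Agent.Invol.JankoWard
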