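import Cfsg.Agent.Lib.Invol.JankoWard.ExtFour
import Cfsg.Agent.Lib.Invol.JankoWard.ExtFree
import Cfsg.Agent.Lib.Block.SecondMain
import Cfsg.Agent.Lib.Char.ModP
import Cfsg.Agent.Lib.Char.Basic

/-!
# The odd sections of the torus

The involutions of the centraliser of a non-trivial element of the torus lie in `⟨t, u⟩`. An irreducible
character is, on all sections of elements with a non-trivial `s`-part in the torus at once, either constant on
the cosets of `⟨t, u⟩` or sums to zero on each of them.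
-/

set_option autoImplicit false
set_option linter.unusedSectionVars false
set_option linter.style.haveILetI false

open scoped Classical

namespace Cfsg.Agent.Invol.JankoWard.ExtBase

open Subgroup

universe u v

variable {G : Type u} [Group G] [Fintype G] {P : Type v} [Group P] [Fintype P] (S : ExtBase G P)

/-- An element centralising `t`, `u` with a non-trivial `s`-part in `Y`. -/
def SPart (s : ℕ) (h : G) : Prop :=
  h * S.t = S.t * h ∧ h * S.ι S.D.u = S.ι S.D.u * h ∧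
    ∃ z ∈ S.D.Y, z ≠ 1 ∧ (∃ j, z ^ s ^ j = 1) ∧ S.ι z * h = h * S.ι z ∧ ¬ s ∣ orderOf ((S.ι z)⁻¹ * h)

theorem tuGroup_comm {m v : G} (hv : v ∈ S.tuGroup) (ht : Commute m S.t) (hu : Commute m (S.ι S.D.u)) :
    Commute m v := by
  rcases hv with rfl | rfl | rfl | rfl
  exacts [Commute.one_right m, ht, hu, ht.mul_right hu]

theorem tuGroup_klein : IsKleinFour ↥S.tuGroup :=
  fourSub_klein S.t_ne (fun e => S.D.u1 (S.inj (e.trans (map_one _).symm))) (fun e => S.t_not _ e.symm)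

theorem tuGroup_le {z : P} (hz : z ∈ S.D.Y) : S.tuGroup ≤ centralizer ({S.ι z} : Set G) := fun v hv =>
  mem_centralizer_singleton_iff.2 (S.tuGroup_comm hv (S.tc z)
    ((show Commute S.D.u z from S.D.u_Y z hz).symm.map S.ι)).eq.symm

theorem Y_comm {y y' : P} (hy : y ∈ S.D.Y) (hy' : y' ∈ S.D.Y) : Commute (S.ι y) (S.ι y') := by
  haveI := S.D.Y_cyclic
  exact (show Commute y y' from congrArg Subtype.val (mul_comm' (⟨y, hy⟩ : ↥S.D.Y) ⟨y', hy'⟩)).map S.ι

/-- The centraliser of `t` and of an element of the torus. -/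
theorem cent_t_Y {z : P} (hz : z ∈ S.D.Y) (hz1 : z ≠ 1) {m : G} (hmz : m * S.ι z = S.ι z * m)
    (ht : m * S.t = S.t * m) :
    ∃ v ∈ S.tuGroup, ∃ y ∈ S.D.Y, ∃ a ∈ S.Fld, a * S.ι z = S.ι z * a ∧ m = v * (S.ι y * a) := by
  obtain ⟨k, a, ha, e⟩ := S.cover m ht
  obtain ⟨z', hz', haz⟩ := S.F_Y ha hz
  have hzz : m * S.ι z * m⁻¹ = S.ι z := by rw [hmz, mul_inv_cancel_right]
  have hkz : k * z' * k⁻¹ = z := by
    refine S.inj ?_
    rw [map_mul, map_mul, map_inv, ← haz]
    refine Eq.trans ?_ hzz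
    rcases e with e | e <;> rw [e]
    · group
    · rw [show S.t * (S.ι k * a) * S.ι z * (S.t * (S.ι k * a))⁻¹ =
        S.t * (S.ι k * (a * S.ι z * a⁻¹) * (S.ι k)⁻¹) * S.t⁻¹ by group, haz, ← map_inv, ← map_mul, ← map_mul,
        ← S.tc, mul_inv_cancel_right]
  have hku : k * S.D.u = S.D.u * k := by
    refine mul_inv_eq_iff_eq_mul.1 ?_
    obtain ⟨y, hy, e'⟩ := S.D.cent_Y z hz hz1 (k * S.D.u * k⁻¹) (by
      rw [← hkz, conj_mul, conj_mul, S.D.u_Y _ hz'])
    have hsq : k * S.D.u * k⁻¹ * (k * S.D.u * k⁻¹) = 1 := by rw [conj_mul, S.D.u2, mul_one, mul_inv_cancel]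
    rcases e' with e' | e' <;> rw [e'] at hsq
    · exfalso
      rw [eq_one_of_two_odd ⟨1, by rw [pow_one, pow_two, hsq]⟩ S.D.r_odd (S.D.pow_r hy), conj_eq_one_iff] at e'
      exact S.D.u1 e'
    · rw [mul_assoc, ← mul_assoc y, ← S.D.u_Y y hy, mul_assoc, ← mul_assoc, S.D.u2, one_mul] at hsq
      rw [e', eq_one_of_two_odd ⟨1, by rw [pow_one, pow_two, hsq]⟩ S.D.r_odd (S.D.pow_r hy), mul_one]
  obtain ⟨y, hy, hk⟩ := S.D.cent_u k hku
  have hy1 : y * z' * y⁻¹ = z' := by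
    refine S.inj ?_
    rw [map_mul, map_mul, map_inv, (S.Y_comm hy hz').eq, mul_inv_cancel_right]
  have hu1 : S.D.u * z' * S.D.u⁻¹ = z' := by rw [S.D.u_Y _ hz', mul_inv_cancel_right]
  have hbad : z' ≠ z⁻¹ := by
    intro h
    rw [h, map_inv] at haz
    have h2 : a ^ 2 * S.ι z * (a ^ 2)⁻¹ = S.ι z := by
      rw [pow_two, show a * a * S.ι z * (a * a)⁻¹ = a * (a * S.ι z * a⁻¹) * a⁻¹ by group, haz, ← conj_inv, haz,
        inv_inv]
    have hc : Commute a (S.ι z) := commute_of_sq (by rw [← pow_two]; exact mul_inv_eq_iff_eq_mul.1 h2)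
      (S.F_odd_order ha) (pow_orderOf_eq_one a)
    rw [hc.eq, mul_inv_cancel_right, ← map_inv] at haz
    exact hz1 (eq_one_of_two_odd ⟨1, by
      rw [pow_one, pow_two]; nth_rewrite 1 [S.inj haz]; exact inv_mul_cancel _⟩ S.D.r_odd (S.D.pow_r hz))
  obtain ⟨heq, u', hu', hk'⟩ : z' = z ∧ ∃ u', (u' = 1 ∨ u' = S.D.u) ∧ k = u' * y := by
    rcases hk with rfl | rfl | rfl | rfl
    · exact ⟨hy1.symm.trans hkz, 1, Or.inl rfl, (one_mul _).symm⟩
    · refine ⟨?_, S.D.u, Or.inr rfl, rfl⟩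
      rw [← hkz, show S.D.u * y * z' * (S.D.u * y)⁻¹ = S.D.u * (y * z' * y⁻¹) * S.D.u⁻¹ by group, hy1, hu1]
    · exfalso
      refine hbad ?_
      rw [← hkz, show S.D.w * y * z' * (S.D.w * y)⁻¹ = S.D.w * (y * z' * y⁻¹) * S.D.w⁻¹ by group, hy1,
        S.D.w_Y _ hz', inv_inv]
    · exfalso
      refine hbad ?_
      rw [← hkz, show S.D.u * S.D.w * y * z' * (S.D.u * S.D.w * y)⁻¹ =
        S.D.u * (S.D.w * (y * z' * y⁻¹) * S.D.w⁻¹) * S.D.u⁻¹ by group, hy1, S.D.w_Y _ hz',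
        ← conj_inv, hu1, inv_inv]
  rw [heq] at haz
  obtain ⟨v, hv, hmv⟩ : ∃ v ∈ S.tuGroup, m = v * (S.ι y * a) := by
    rcases e with e | e <;> rcases hu' with rfl | rfl <;> rw [hk'] at e
    · exact ⟨1, one_mem _, by rw [e]; simp⟩
    · exact ⟨_, Or.inr (Or.inr (Or.inl rfl)), by rw [e, map_mul, mul_assoc]⟩
    · exact ⟨_, Or.inr (Or.inl rfl), by rw [e]; simp⟩
    · exact ⟨_, Or.inr (Or.inr (Or.inr rfl)), by rw [e, map_mul]; group⟩
  exact ⟨v, hv, y, hy, a, ha, mul_inv_eq_iff_eq_mul.1 haz, hmv⟩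

/-- The part of odd order of the centraliser of `t` and of an element of the torus. -/
def oddTorus (z : P) : Subgroup G where
  carrier := {m | ∃ y ∈ S.D.Y, ∃ a ∈ S.Fld, a * S.ι z = S.ι z * a ∧ m = S.ι y * a}
  one_mem' := ⟨1, one_mem _, 1, one_mem _, by rw [one_mul, mul_one], by rw [map_one, one_mul]⟩
  mul_mem' := by
    rintro _ _ ⟨y, hy, a, ha, haz, rfl⟩ ⟨y', hy', a', ha', haz', rfl⟩
    obtain ⟨y'', hy'', e⟩ := S.F_Y ha hy'
    refine ⟨y * y'', mul_mem hy hy'', a * a', mul_mem ha ha', (Commute.mul_left haz haz').eq, ?_⟩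
    rw [map_mul, ← e]; group
  inv_mem' := by
    rintro _ ⟨y, hy, a, ha, haz, rfl⟩
    obtain ⟨y'', hy'', e⟩ := S.F_Y (inv_mem ha) (inv_mem hy)
    refine ⟨y'', hy'', a⁻¹, inv_mem ha, (show Commute a (S.ι z) from haz).inv_left.eq, ?_⟩
    rw [← e, map_inv]; group

theorem oddTorus_le {z : P} (hz : z ∈ S.D.Y) : S.oddTorus z ≤ centralizer ({S.ι z} : Set G) := by
  rintro _ ⟨y, hy, a, -, haz, rfl⟩
  exact mem_centralizer_singleton_iff.2 (Commute.mul_left (S.Y_comm hy hz) haz).eq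

theorem oddTorus_odd (z : P) : Odd (Nat.card ↥(S.oddTorus z)) := by
  refine Nat.odd_iff.2 (Nat.two_dvd_ne_zero.1 fun h2 => ?_)
  haveI : Fact (Nat.Prime 2) := ⟨Nat.prime_two⟩
  obtain ⟨⟨m, hmW⟩, hm⟩ := exists_prime_orderOf_dvd_card' 2 h2
  rw [orderOf_mk] at hm
  obtain ⟨y, hy, a, ha, -, e⟩ := hmW
  have key : ∀ n : ℕ, ∃ y' ∈ S.D.Y, m ^ n = S.ι y' * a ^ n := by
    intro n
    induction n with
    | zero => exact ⟨1, one_mem _, by rw [pow_zero, pow_zero, map_one, one_mul]⟩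
    | succ n ih =>
      obtain ⟨y', hy', e'⟩ := ih
      obtain ⟨y'', hy'', e''⟩ := S.F_Y (pow_mem ha n) hy
      exact ⟨y' * y'', mul_mem hy' hy'', by rw [pow_succ, e', e, map_mul, ← e'', pow_succ]; group⟩
  obtain ⟨y', hy', e'⟩ := key (Nat.card S.Fld)
  have h1 : m ^ (Nat.card S.Fld * S.D.r) = 1 := by
    rw [pow_mul, e', show a ^ Nat.card S.Fld = 1 from
      congrArg Subtype.val (pow_card_eq_one' (x := (⟨a, ha⟩ : S.Fld))), mul_one, ← map_pow, S.D.pow_r hy', map_one]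
  have h3 : Odd (orderOf m) := (S.F_odd.mul S.D.r_odd).of_dvd_nat (orderOf_dvd_of_pow_eq_one h1)
  rw [hm] at h3
  exact Nat.not_odd_iff_even.2 even_two h3

theorem not_five_dvd (hp : S.D.p = 3) (hδ : S.D.δ = -1) : ¬ 5 ∣ Nat.card P := by
  intro h
  have hq := S.D.hq
  rw [hδ] at hq
  have hf := S.D.hf
  rw [hp] at hf
  obtain ⟨j, hj | hj⟩ := Nat.even_or_odd' S.D.f
  · have h1 : S.D.q % 4 = 1 := by rw [hf, hj, pow_mul, Nat.pow_mod]; simp
    omega
  · have h1 : S.D.q % 5 = 3 ∨ S.D.q % 5 = 2 := by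
      rw [hf, hj]
      clear hj
      induction j with
      | zero => left; rfl
      | succ j ih => rw [show 2 * (j + 1) + 1 = 2 * j + 1 + 2 by ring, pow_add]; omega
    have hc := S.D.card_P
    have h5 : 5 ∣ S.D.q * ((S.D.q - 1) * (S.D.q + 1)) := hc ▸ h.mul_right 2
    rcases (Nat.Prime.dvd_mul (by norm_num : Nat.Prime 5)).1 h5 with h' | h'
    · omega
    · rcases (Nat.Prime.dvd_mul (by norm_num : Nat.Prime 5)).1 h' with h'' | h'' <;> omega

/-- The centraliser of an involution has no section isomorphic to the alternating group of degree five. -/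
theorem no_five_section (hp : S.D.p = 3) (hδ : S.D.δ = -1) {H : Type u} [Group H] [Finite H] (φ : H →* S.C)
    (hφ : Function.Injective φ) (f : H →* ↥(alternatingGroup (Fin 5))) : ¬ Function.Surjective f := by
  intro hf
  haveI : Fact (Nat.Prime 5) := ⟨by norm_num⟩
  set ψ : H →* S.Fld := (S.fp.comp S.κ).comp φ
  have h60 : Nat.card ↥(alternatingGroup (Fin 5)) = 60 := by
    rw [nat_card_alternatingGroup, Nat.card_fin]; rfl
  haveI : (ψ.ker.map f).Normal := Subgroup.Normal.map inferInstance f hf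
  rcases (show (ψ.ker.map f).Normal from inferInstance).eq_bot_or_eq_top with h | h
  · have hc : ∀ a b : ↥(alternatingGroup (Fin 5)), a * b = b * a := fun a b => by
      obtain ⟨x, rfl⟩ := hf a
      obtain ⟨y, rfl⟩ := hf b
      have hk : x * y * (y * x)⁻¹ ∈ ψ.ker := by
        haveI := S.F_cyclic
        rw [MonoidHom.mem_ker, map_mul, map_inv, map_mul, map_mul, mul_comm' (ψ y) (ψ x), mul_inv_cancel]
      have h1 := mem_map_of_mem f hk
      rw [h, mem_bot, map_mul, map_inv, map_mul, map_mul, mul_inv_eq_one] at h1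
      exact h1
    letI : CommGroup ↥(alternatingGroup (Fin 5)) :=
      { (inferInstance : Group ↥(alternatingGroup (Fin 5))) with mul_comm := hc }
    have := IsSimpleGroup.prime_card (α := ↥(alternatingGroup (Fin 5)))
    rw [h60] at this
    exact absurd this (by norm_num)
  · have h5 : 5 ∣ Nat.card ↥ψ.ker := by
      refine dvd_trans (show 5 ∣ Nat.card ↥(ψ.ker.map f) by rw [h, card_top, h60]; norm_num)
        (card_map_dvd ψ.ker f)
    obtain ⟨⟨x, hx⟩, hx5⟩ := exists_prime_orderOf_dvd_card' 5 h5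
    rw [orderOf_mk] at hx5
    obtain ⟨k, hk⟩ := S.fp_eq_one (x := S.κ (φ x)) hx
    obtain ⟨⟨b, y⟩, hby⟩ := S.pairMap_bijective.2 (φ x)
    rw [← hby, S.κ_pairMap] at hk
    have hk1 : k ≠ 1 := fun e => by
      have h2 : φ x ^ 2 = 1 := by
        rw [← hby, hk, e, map_one, pow_two, S.pairMap_mul, Bool.xor_self, one_mul]
        exact Subtype.ext (by simp [pairMap])
      have := orderOf_dvd_of_pow_eq_one h2
      rw [orderOf_injective φ hφ, hx5] at this
      norm_num at this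
    have hk5 : k ^ 5 = 1 := S.ιE_inj (by
      rw [map_pow, map_one, ← hk, ← S.κ_pairMap b y, ← map_pow, hby, ← map_pow, ← hx5, pow_orderOf_eq_one,
        map_one, map_one])
    exact S.not_five_dvd hp hδ (orderOf_eq_prime hk5 hk1 ▸ orderOf_dvd_natCard k)

/-- All involutions of the centraliser of a non-trivial element of the torus lie in `⟨t, u⟩`. -/
theorem invol_centralizer [IsSimpleGroup G] (A : Amb G) (L : ExtLocals S) (hp : S.D.p = 3) (hδ : S.D.δ = -1)
    {z : P} (hz : z ∈ S.D.Y) (hz1 : z ≠ 1) {i : G} (hi : i * i = 1) (hc : i * S.ι z = S.ι z * i) :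
    i = 1 ∨ i = S.t ∨ i = S.ι S.D.u ∨ i = S.t * S.ι S.D.u := by
  set X := centralizer ({S.ι z} : Set G)
  have hVX : S.tuGroup ≤ X := S.tuGroup_le hz
  have hWX : S.oddTorus z ≤ X := S.oddTorus_le hz
  have hgV : ∀ {v : G}, v ∈ S.tuGroup → L.g * v * L.g⁻¹ ∈ S.tuGroup := by
    intro v hv
    rcases hv with rfl | rfl | rfl | rfl
    · left; group
    · rw [L.gt]; exact Or.inr (Or.inr (Or.inl rfl))
    · rw [L.gu]; exact Or.inr (Or.inr (Or.inr rfl))
    · rw [← conj_mul, L.gt, L.gu, ← mul_assoc, S.tc, mul_assoc, ← map_mul, S.D.u2, map_one, mul_one]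
      exact Or.inr (Or.inl rfl)
  let Good : G → Prop := fun s => ∀ z : P, z ∈ S.D.Y → z ≠ 1 → ∀ m : G, m * S.ι z = S.ι z * m → m * s = s * m →
    ∃ w ∈ S.tuGroup, ∃ m' ∈ S.oddTorus z, m = w * m'
  have good_t : Good S.t := fun z hz hz1 m hm hs => by
    obtain ⟨v, hv, y, hy, a, ha, haz, e⟩ := S.cent_t_Y hz hz1 hm hs
    exact ⟨v, hv, _, ⟨y, hy, a, ha, haz, rfl⟩, e⟩
  have step : ∀ s, Good s → Good (L.g * s * L.g⁻¹) := by
    intro s hs z hz hz1 m hm hms
    obtain ⟨y1, hy1, e1⟩ := L.gY z hz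
    obtain ⟨z', hz', e2⟩ := L.gY y1 hy1
    have hgi : L.g⁻¹ = L.g * L.g := inv_eq_of_mul_eq_one_right (by rw [← mul_assoc, ← pow_three', L.g3])
    have hzz : S.ι z' = L.g⁻¹ * S.ι z * L.g := by
      rw [← e2, ← e1, show L.g * (L.g * S.ι z * L.g⁻¹) * L.g⁻¹ = L.g * L.g * S.ι z * (L.g * L.g)⁻¹ by group,
        ← hgi, inv_inv]
    have hz'1 : z' ≠ 1 := fun e => hz1 (S.inj (by
      rw [e, map_one, eq_comm, mul_eq_one_iff_eq_inv, inv_mul_eq_iff_eq_mul] at hzz
      rw [map_one, hzz, mul_inv_cancel]))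
    obtain ⟨w, hw, m', ⟨y, hy, a, ha, haz, rfl⟩, e⟩ := hs z' hz' hz'1 (L.g⁻¹ * m * L.g)
      (by rw [hzz, show L.g⁻¹ * m * L.g * (L.g⁻¹ * S.ι z * L.g) = L.g⁻¹ * (m * S.ι z) * L.g by group, hm]; group)
      (by
        calc L.g⁻¹ * m * L.g * s = L.g⁻¹ * (m * (L.g * s * L.g⁻¹)) * L.g := by group
          _ = L.g⁻¹ * (L.g * s * L.g⁻¹ * m) * L.g := by rw [hms]
          _ = s * (L.g⁻¹ * m * L.g) := by group)
    obtain ⟨y', hy', e'⟩ := L.gY y hy
    have hga : L.g * a * L.g⁻¹ = a := by rw [L.gF a ha, mul_inv_cancel_right]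
    have haz' : a * S.ι z = S.ι z * a := by
      have h1 : Commute a (S.ι z') := haz
      rw [hzz] at h1
      have h2 : Commute a L.g := (L.gF a ha).symm
      have h3 := (h2.mul_right h1).mul_right h2.inv_right
      rwa [show L.g * (L.g⁻¹ * S.ι z * L.g) * L.g⁻¹ = S.ι z by group] at h3
    refine ⟨_, hgV hw, _, ⟨y', hy', a, ha, haz', rfl⟩, ?_⟩
    rw [← e', show L.g * S.ι y * L.g⁻¹ * a = L.g * S.ι y * L.g⁻¹ * (L.g * a * L.g⁻¹) by rw [hga],
      conj_mul, conj_mul, ← e]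
    group
  have good : ∀ v ∈ S.tuGroup, v ≠ 1 → Good v := by
    intro v hv hv1
    have hU : Good (S.ι S.D.u) := L.gt ▸ step _ good_t
    rcases hv with rfl | rfl | rfl | rfl
    · exact absurd rfl hv1
    · exact good_t
    · exact hU
    · exact L.gu ▸ step _ hU
  let C4 : FourOdd ↥X :=
    { V := S.tuGroup.subgroupOf X
      W := (S.oddTorus z).subgroupOf X
      hV := by
        haveI := S.tuGroup_klein
        have e := subgroupOfEquivOfLe hVX
        exact ⟨by rw [Nat.card_congr e.toEquiv, IsKleinFour.card_four],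
          by rw [Monoid.exponent_eq_of_mulEquiv e]; exact IsKleinFour.exponent_two⟩
      hW := by rw [Nat.card_congr (subgroupOfEquivOfLe hWX).toEquiv]; exact S.oddTorus_odd z
      comm := fun v hv m hm => Subtype.ext (by
        obtain ⟨y, hy, a, ha, -, e⟩ := (show (m : G) ∈ S.oddTorus z from hm)
        show (v : G) * m = m * v
        refine (S.tuGroup_comm (show (v : G) ∈ S.tuGroup from hv) ?_ ?_).eq.symm
        · rw [e]; exact Commute.mul_left (S.tc y) (S.Ft a ha)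
        · rw [e]; exact ((show Commute S.D.u y from S.D.u_Y y hy).symm.map S.ι).mul_left (S.Fu a ha))
      cent := fun v hv hv1 m hm => by
        obtain ⟨w, hw, m', hm', e⟩ := good v hv (fun h => hv1 (Subtype.ext h)) z hz hz1 m
          (mem_centralizer_singleton_iff.1 m.2) (congrArg Subtype.val hm)
        exact ⟨⟨m', hWX hm'⟩, hm', ⟨w, hVX hw⟩, hw, Subtype.ext e⟩ }
  set ω := S.ι S.D.w
  have hω2 : ω * ω = 1 := by rw [← map_mul, S.D.w2, map_one]
  have hω : ∀ m, m ∈ X → ω * m * ω ∈ X := fun m hm => by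
    have hωi : ω⁻¹ = ω := inv_eq_of_mul_eq_one_right hω2
    have hc : Commute m (S.ι z) := mem_centralizer_singleton_iff.1 hm
    have hwz : ω * S.ι z * ω⁻¹ = (S.ι z)⁻¹ := by rw [← map_inv, ← map_mul, ← map_mul, S.D.w_Y z hz, map_inv]
    have h1 : Commute (ω * m * ω⁻¹) (S.ι z)⁻¹ := by
      rw [← hwz]
      show _ = _
      rw [conj_mul, conj_mul, hc.eq]
    have h2 := h1.inv_right
    rw [inv_inv, hωi] at h2
    exact mem_centralizer_singleton_iff.2 h2.eq
  let α : MulAut ↥X :=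
    { toFun := fun m => ⟨ω * m * ω, hω m m.2⟩
      invFun := fun m => ⟨ω * m * ω, hω m m.2⟩
      left_inv := fun m => Subtype.ext (by
        show ω * (ω * m * ω) * ω = m
        rw [show ω * (ω * (m : G) * ω) * ω = ω * ω * m * (ω * ω) by group, hω2, one_mul, mul_one])
      right_inv := fun m => Subtype.ext (by
        show ω * (ω * m * ω) * ω = m
        rw [show ω * (ω * (m : G) * ω) * ω = ω * ω * m * (ω * ω) by group, hω2, one_mul, mul_one])
      map_mul' := fun m m' => Subtype.ext (by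
        show ω * ((m : G) * m') * ω = ω * m * ω * (ω * m' * ω)
        rw [show ω * (m : G) * ω * (ω * m' * ω) = ω * m * (ω * ω) * m' * ω by group, hω2]
        group) }
  have hωt : Commute ω S.t := S.tc S.D.w
  have hωu : Commute ω (S.ι S.D.u) := (show Commute S.D.w S.D.u from S.D.comm.symm).map S.ι
  have hi' : (⟨i, mem_centralizer_singleton_iff.2 hc⟩ : ↥X) ∈ C4.V := by
    refine C4.invol_mem α (fun v hv => Subtype.ext ?_) (fun m => α.symm_apply_apply m) ?_ (Subtype.ext hi)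
    · show ω * (v : G) * ω = v
      rw [(S.tuGroup_comm (show (v : G) ∈ S.tuGroup from hv) hωt hωu).eq, mul_assoc, hω2, mul_one]
    · intro v hv H hH f
      set e : G := ω * (v : G) with he
      have hv' : (v : G) ∈ S.tuGroup := hv
      have hωv : Commute ω (v : G) := S.tuGroup_comm hv' hωt hωu
      have hv2 : (v : G) * v = 1 := four_sq S.tuGroup_klein hv'
      have he2 : e * e = 1 := by rw [he, hωv.symm.mul_mul_mul_comm, hω2, hv2, one_mul]
      have he1 : e ≠ 1 := by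
        intro h
        have h1 : ω = v := by rw [← mul_one ω, ← hv2, ← mul_assoc, ← he, h, one_mul]
        rw [← h1] at hv'
        rcases hv' with h2 | h2 | h2 | h2
        · exact S.D.w1 (S.inj (h2.trans (map_one _).symm))
        · exact S.t_not _ h2
        · exact S.D.uw (S.inj h2).symm
        · exact S.ι_ne_tι _ _ h2
      obtain ⟨d, hd⟩ := isConj_iff.1 (L.one_class e (orderOf_eq_prime (by rw [pow_two, he2]) he1))
      have hcomm : ∀ h ∈ H, d⁻¹ * (h : G) * d ∈ S.C := by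
        intro h hh
        have h1 : ω * ((v : G) * h * (v : G)⁻¹) * ω = h := congrArg Subtype.val (hH h hh)
        have h2 : e * (h : G) = h * e := by
          conv_rhs => rw [← h1]
          rw [show ω * ((v : G) * h * (v : G)⁻¹) * ω * e =
            ω * v * h * ((v : G)⁻¹ * (ω * ω) * v) by rw [he]; group, hω2, mul_one, inv_mul_cancel, mul_one]
        refine S.mem_C.2 ?_
        calc d⁻¹ * (h : G) * d * S.t = d⁻¹ * (h * (d * S.t * d⁻¹)) * d := by group
          _ = d⁻¹ * (e * h) * d := by rw [hd, h2]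
          _ = d⁻¹ * (d * S.t * d⁻¹ * h) * d := by rw [hd]
          _ = S.t * (d⁻¹ * h * d) := by group
      let φ : ↥H →* S.C := MonoidHom.mk' (fun h => ⟨d⁻¹ * ((h : ↥X) : G) * d, hcomm h h.2⟩) fun a b =>
        Subtype.ext (by
          show d⁻¹ * (((a * b : ↥H) : ↥X) : G) * d =
            d⁻¹ * ((a : ↥X) : G) * d * (d⁻¹ * ((b : ↥X) : G) * d)
          rw [Subgroup.coe_mul, Subgroup.coe_mul]
          group)
      exact S.no_five_section hp hδ φ (fun a b h => Subtype.ext (Subtype.ext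
        (mul_left_cancel (mul_right_cancel (congrArg Subtype.val h))))) f
  exact hi'

theorem irr_mul_of_eq_one {H : Type u} [Group H] [Finite H] (ξ : IrrCharacter H) {v : H}
    (hv : (ξ : H → ℂ) v = (ξ : H → ℂ) 1) (c : H) : (ξ : H → ℂ) (v * c) = (ξ : H → ℂ) c := by
  obtain ⟨n, ρ, -, e⟩ := ξ.2
  rw [← e] at hv ⊢
  rw [Representation.char_one] at hv
  have h1 := (Char.character_eq_finrank_iff ρ v).1 hv
  show LinearMap.trace ℂ _ (ρ (v * c)) = LinearMap.trace ℂ _ (ρ c)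
  rw [map_mul, h1]
  rfl

theorem section_cases [IsSimpleGroup G] (A : Amb G) (L : ExtLocals S) (hp : S.D.p = 3) (hδ : S.D.δ = -1)
    {s : ℕ} (hs : s.Prime) (hs2 : s ≠ 2) (χ : IrrCharacter G) :
    (∀ h, S.SPart s h → (χ : G → ℂ) (S.t * h) = (χ : G → ℂ) h ∧
      (χ : G → ℂ) (S.ι S.D.u * h) = (χ : G → ℂ) h ∧
      (χ : G → ℂ) (S.t * S.ι S.D.u * h) = (χ : G → ℂ) h) ∨
    (∀ h, S.SPart s h → (χ : G → ℂ) h + (χ : G → ℂ) (S.t * h) + (χ : G → ℂ) (S.ι S.D.u * h) +
      (χ : G → ℂ) (S.t * S.ι S.D.u * h) = 0) := by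
  haveI := Fact.mk hs
  obtain ⟨M, hM⟩ := Char.exists_isPModular s hs
  set B := blockOf M (χ : G → ℂ)
  have hB : IsPBlock M B := Block.isPBlock_blockOf χ
  have four : ¬ MemLocalIdeal M (4 : ℂ) := by
    rw [show (4 : ℂ) = ((4 : ℕ) : ℂ) by norm_num, Block.ideal_natCast_iff hM]
    exact fun h => hs2 ((Nat.prime_dvd_prime_iff_eq hs Nat.prime_two).1
      (hs.dvd_of_dvd_pow (show s ∣ 2 ^ 2 by simpa using h)))
  set cc := centralChar (χ : G → ℂ) S.t
  -- what happens in the centraliser of an element of the torus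
  suffices H : ∀ h, S.SPart s h →
      (MemLocalIdeal M (cc - 3) → (χ : G → ℂ) (S.t * h) = (χ : G → ℂ) h ∧
        (χ : G → ℂ) (S.ι S.D.u * h) = (χ : G → ℂ) h ∧
        (χ : G → ℂ) (S.t * S.ι S.D.u * h) = (χ : G → ℂ) h) ∧
      (¬ MemLocalIdeal M (cc - 3) → (χ : G → ℂ) h + (χ : G → ℂ) (S.t * h) + (χ : G → ℂ) (S.ι S.D.u * h) +
        (χ : G → ℂ) (S.t * S.ι S.D.u * h) = 0) by
    by_cases hcc : MemLocalIdeal M (cc - 3)
    · exact Or.inl fun h hh => (H h hh).1 hcc
    · exact Or.inr fun h hh => (H h hh).2 hcc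
  rintro h ⟨hht, hhu, z, hz, hz1, ⟨j, hzj⟩, hhz, hreg⟩
  set X := centralizer ({S.ι z} : Set G)
  have hVX : S.tuGroup ≤ X := S.tuGroup_le hz
  set V := S.tuGroup.subgroupOf X with hV
  have hinv : ∀ m : ↥X, m * m = 1 → m ∈ V := fun m hm =>
    S.invol_centralizer A L hp hδ hz hz1 (congrArg Subtype.val hm) (mem_centralizer_singleton_iff.1 m.2)
  have hsqV : ∀ m : ↥X, m ∈ V → m * m = 1 := fun m hm => Subtype.ext (four_sq S.tuGroup_klein hm)
  haveI : V.Normal := ⟨fun m hm c => hinv _ (by rw [conj_mul, hsqV m hm, mul_one, mul_inv_cancel])⟩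
  let tX : ↥X := ⟨S.t, hVX (Or.inr (Or.inl rfl))⟩
  let uX : ↥X := ⟨S.ι S.D.u, hVX (Or.inr (Or.inr (Or.inl rfl)))⟩
  have htV : tX ∈ V := Or.inr (Or.inl rfl)
  have huV : uX ∈ V := Or.inr (Or.inr (Or.inl rfl))
  have htu : tX * uX ∈ V := mul_mem htV huV
  have hne1 : tX ≠ 1 := fun e => S.t_ne (congrArg Subtype.val e)
  have hne2 : uX ≠ 1 := fun e => S.D.u1 (S.inj ((congrArg Subtype.val e).trans (map_one _).symm))
  have hne3 : tX ≠ uX := fun e => S.t_not _ (congrArg Subtype.val e).symm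
  have hne4 : tX * uX ≠ 1 := fun e => hne3 (by
    rw [mul_eq_one_iff_eq_inv.1 e, inv_eq_of_mul_eq_one_right (hsqV _ huV)])
  have hne5 : tX * uX ≠ tX := fun e => hne2 (mul_eq_left.1 e)
  have hne6 : tX * uX ≠ uX := fun e => hne1 (mul_eq_right.1 e)
  have hsum : ∀ F : ↥X → ℂ, ∑ v : ↥V, F v = F 1 + F tX + F uX + F (tX * uX) := by
    intro F
    have hmem : ∀ m : ↥X, m ∈ ({1, tX, uX, tX * uX} : Finset ↥X) ↔ m ∈ V := fun m => by
      simp only [Finset.mem_insert, Finset.mem_singleton]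
      constructor
      · rintro (rfl | rfl | rfl | rfl)
        exacts [one_mem _, htV, huV, htu]
      · rintro (e | e | e | e)
        exacts [Or.inl (Subtype.ext e), Or.inr (Or.inl (Subtype.ext e)),
          Or.inr (Or.inr (Or.inl (Subtype.ext e))), Or.inr (Or.inr (Or.inr (Subtype.ext e)))]
    rw [← Finset.sum_subtype ({1, tX, uX, tX * uX} : Finset ↥X) hmem F]
    rw [Finset.sum_insert (by simp [hne1.symm, hne2.symm, hne4.symm]), Finset.sum_insert (by simp [hne3, hne5.symm]),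
      Finset.sum_insert (by simp [hne6.symm]), Finset.sum_singleton]
    ring
  -- the blocks inducing the block of `χ`
  have hclass : {m : ↥X | IsConj S.t (m : G)} = ↑({tX, uX, tX * uX} : Finset ↥X) := by
    ext m
    simp only [Set.mem_ofPred_eq, Finset.coe_insert, Finset.coe_singleton, Set.mem_insert_iff, Set.mem_singleton_iff]
    constructor
    · intro hm
      obtain ⟨d, hd⟩ := isConj_iff.1 hm
      have h2 : (m : G) * m = 1 := by rw [← hd, conj_mul, S.tt, mul_one, mul_inv_cancel]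
      rcases hinv m (Subtype.ext h2) with e | e | e | e
      · exact absurd (by rwa [show (m : G) = 1 from e, conj_eq_one_iff] at hd) S.t_ne
      · exact Or.inl (Subtype.ext e)
      · exact Or.inr (Or.inl (Subtype.ext e))
      · exact Or.inr (Or.inr (Subtype.ext e))
    · intro hm
      have hm' : m ∈ V ∧ m ≠ 1 := by rcases hm with rfl | rfl | rfl <;> exact ⟨by assumption, by assumption⟩
      exact L.one_class _ (orderOf_eq_prime (congrArg Subtype.val ((pow_two m).trans (hsqV m hm'.1)))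
        fun e => hm'.2 (Subtype.ext e))
  have hind : ∀ ξ : IrrCharacter ↥X, IsInducedBlock M X (blockOf M (ξ : ↥X → ℂ)) B →
      ((∀ v ∈ V, (ξ : ↥X → ℂ) v = (ξ : ↥X → ℂ) 1) ↔ MemLocalIdeal M (cc - 3)) := by
    intro ξ hξ
    have h1 := hξ.2.2 ξ (Block.mem_blockOf_self hM ξ) χ (Block.mem_blockOf_self hM χ) S.t
    rw [inducedCentralChar, hclass, finsum_mem_coe_finset, Finset.sum_insert (by simp [hne3, hne5.symm]),
      Finset.sum_insert (by simp [hne6.symm]), Finset.sum_singleton] at h1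
    have hd : (ξ : ↥X → ℂ) 1 ≠ 0 := Char.IsIrr.one_ne_zero ξ.2
    constructor
    · intro hk
      rw [hk _ htV, hk _ huV, hk _ htu, div_self hd] at h1
      exact Block.ideal_sub_comm (by norm_num at h1; exact h1)
    · intro hcc
      by_contra hk
      have h0 := Block.sum_normal_mul_eq_zero V ξ hk 1
      simp only [mul_one] at h0
      rw [hsum fun m => (ξ : ↥X → ℂ) m] at h0
      have h2 : (ξ : ↥X → ℂ) tX / (ξ : ↥X → ℂ) 1 +
          ((ξ : ↥X → ℂ) uX / (ξ : ↥X → ℂ) 1 + (ξ : ↥X → ℂ) (tX * uX) / (ξ : ↥X → ℂ) 1) = -1 := by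
        field_simp
        linear_combination h0
      rw [h2] at h1
      have h3 := Block.ideal_neg (Block.ideal_add hM h1 hcc)
      refine four ?_
      rwa [show -(-1 - cc + (cc - 3)) = (4 : ℂ) by ring] at h3
  -- the section
  have hzs : ∃ k : ℕ, orderOf (S.ι z) = s ^ k := by
    obtain ⟨k, -, hk⟩ := (Nat.dvd_prime_pow hs).1 (orderOf_dvd_of_pow_eq_one hzj)
    exact ⟨k, by rw [orderOf_injective S.ι S.inj, hk]⟩
  have hy0 : (S.ι z)⁻¹ * h ∈ X := mem_centralizer_singleton_iff.2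
    ((Commute.refl (S.ι z)).inv_left.mul_left (show Commute (S.ι z) h from hhz).symm).eq
  set y0 : ↥X := ⟨_, hy0⟩ with hy0d
  have hyc : ∀ v : ↥X, v ∈ V → Commute v y0 := fun v hv => by
    refine Subtype.ext ?_
    show (v : G) * ((S.ι z)⁻¹ * h) = (S.ι z)⁻¹ * h * v
    refine (Commute.mul_left ?_ (S.tuGroup_comm hv hht hhu)).eq.symm
    exact (show Commute (v : G) (S.ι z) from mem_centralizer_singleton_iff.1 v.2).symm.inv_left
  have hregv : ∀ v : ↥X, v ∈ V → ¬ s ∣ orderOf (v * y0) := by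
    intro v hv hd
    rcases hs.dvd_mul.1 (hd.trans (hyc v hv).orderOf_mul_dvd_mul_orderOf) with h' | h'
    · exact hs2 ((Nat.prime_dvd_prime_iff_eq hs Nat.prime_two).1
        (h'.trans (orderOf_dvd_of_pow_eq_one ((pow_two v).trans (hsqV v hv)))))
    · exact hreg (by rwa [← orderOf_coe] at h')
  set a := fun ξ : IrrCharacter ↥X =>
    classInner (fun c : ↥X => (χ : G → ℂ) (S.ι z * (c : G))) (ξ : ↥X → ℂ)
  set F := Finset.univ.filter (fun ξ : IrrCharacter ↥X => IsInducedBlock M X (blockOf M (ξ : ↥X → ℂ)) B)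
  have hval : ∀ v : ↥X, v ∈ V → (χ : G → ℂ) ((v : G) * h) = ∑ ξ ∈ F, a ξ * (ξ : ↥X → ℂ) (v * y0) := by
    intro v hv
    rw [Block.value_eq_sum_inducing hM hzs hB (hregv v hv) χ, if_pos (Block.mem_blockOf_self hM χ)]
    refine congrArg (χ : G → ℂ) ?_
    show _ = S.ι z * ((v : G) * ((S.ι z)⁻¹ * h))
    rw [← mul_assoc, ← mem_centralizer_singleton_iff.1 v.2, mul_assoc, mul_inv_cancel_left]
  have hh0 : (χ : G → ℂ) h = ∑ ξ ∈ F, a ξ * (ξ : ↥X → ℂ) y0 := by
    have h1 := hval 1 (one_mem V)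
    rwa [OneMemClass.coe_one, one_mul, one_mul] at h1
  refine ⟨fun hcc => ?_, fun hcc => ?_⟩
  · have hconst : ∀ v : ↥X, v ∈ V → (χ : G → ℂ) ((v : G) * h) = (χ : G → ℂ) h := fun v hv => by
      rw [hval v hv, hh0]
      refine Finset.sum_congr rfl fun ξ hξ => ?_
      rw [irr_mul_of_eq_one ξ ((hind ξ (Finset.mem_filter.1 hξ).2).2 hcc v hv) y0]
    exact ⟨hconst tX htV, hconst uX huV, hconst (tX * uX) htu⟩
  · have h0 : ∑ v : ↥V, (χ : G → ℂ) (((v : ↥X) : G) * h) = 0 := by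
      rw [Finset.sum_congr rfl fun (v : ↥V) _ => hval (v : ↥X) v.2, Finset.sum_comm]
      refine Finset.sum_eq_zero fun ξ hξ => ?_
      rw [← Finset.mul_sum, Block.sum_normal_mul_eq_zero V ξ
        (fun hk => hcc ((hind ξ (Finset.mem_filter.1 hξ).2).1 hk)) y0, mul_zero]
    rw [hsum fun m => (χ : G → ℂ) ((m : G) * h)] at h0
    simpa [Subgroup.coe_mul, tX, uX] using h0

end Cfsg.Agent.Invol.JankoWard.ExtBase
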