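import Cfsg.Agent.Lib.Invol.JankoWard.ExtBlocks
import Cfsg.Agent.Lib.Invol.JankoWard.ExtSection
import Cfsg.Agent.Lib.Invol.JankoWard.ExtGlue

/-!
# The block configurations do not occur

`ExtBase.false_of_blocks` from the facts on the sections of `Y`; `fieldBlock` is `FieldBlock`.
-/

set_option autoImplicit false
set_option linter.unusedSectionVars false
set_option linter.style.haveILetI false

open scoped Classical

namespace Cfsg.Agent.Invol.JankoWard

open Cfsg

universe u v

namespace ExtBase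

variable {G : Type u} [Group G] [Fintype G] [IsSimpleGroup G] {P : Type v} [Group P] [Fintype P] (S : ExtBase G P)

/-- The facts on the sections of `Y`. -/
theorem secFacts (A : Amb G) (L : ExtLocals S) (hp : S.D.p = 3) (hδ : S.D.δ = -1) : S.SecFacts := by
  refine ⟨fun s _ _ y hy hy1 _ i hi hc => ?_, fun s hs hs2 χ => ?_⟩
  · rcases S.invol_centralizer A L hp hδ hy hy1 hi hc with h | h | h | h
    · exact ⟨0, h⟩
    · exact ⟨1, h⟩
    · exact ⟨2, h⟩
    · exact ⟨3, h⟩
  · exact (S.section_cases A L hp hδ hs hs2 χ).imp (fun H h h1 h2 h3 => H h ⟨h1, h2, h3⟩)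
      fun H h h1 h2 h3 => H h ⟨h1, h2, h3⟩

/-- The two configurations do not occur. -/
theorem false_of_blocks (L : ExtLocals S) (X : LChars S.D) (A : Amb G) (hδ : S.D.δ = -1) (T : ExtTable S.D)
    (hf : L.Free) (hp : S.D.p = 3) (hfo : Odd S.D.f) (he : 1 < Nat.card S.Fld)
    (H3 : ∀ l : ℕ, l.Prime → l ∣ Nat.card S.Fld → l = 3 ∨ l ∣ (3 ^ (S.D.f / l)) ^ 2 - 3 ^ (S.D.f / l) + 1)
    (hcase : 3 ≤ S.D.f / Nat.card S.Fld ∨ (S.D.f = Nat.card S.Fld ∧ ∃ l : ℕ, l.Prime ∧ l * l ∣ Nat.card S.Fld)) :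
    False :=
  S.false_of_blocks_of L X A hδ T hf hp (S.secFacts A L hp hδ) hfo he H3 hcase

end ExtBase

/-- The configurations treated with the principal block do not occur. -/
theorem fieldBlock : FieldBlock.{u} := by
  intro G _ _ hs _ F _ _ S A X L hq hp hfo he H3 hcase
  haveI := hs
  letI : Fintype G := Fintype.ofFinite G
  letI : Fintype (Matrix.ProjectiveSpecialLinearGroup (Fin 2) F) := Fintype.ofFinite _
  obtain ⟨hδ, ⟨T⟩, hf⟩ := ExtMain.block_data S A L hq hp hfo
  exact S.false_of_blocks L X A hδ T hf hp hfo he H3 hcase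

end Cfsg.Agent.Invol.JankoWard
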