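import Cfsg.Agent.Lib.Invol.JankoWard.LocalFour

/-!
# Involutions of a group with a four-group whose involutions have centralisers `V × W`, `W` of odd order

If the quotient by the core is not the alternating group of degree five, as is so when the centraliser of an
automorphism of order two centralising `V` has no such section, all involutions lie in `V`.
-/

set_option autoImplicit false
set_option linter.unusedSectionVars false
set_option linter.style.haveILetI false
set_option maxRecDepth 10000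

namespace Cfsg.Agent.Invol.JankoWard

open Subgroup

universe u

set_option synthInstance.maxSize 4096 in
set_option maxHeartbeats 1000000 in
theorem a5_four : ∀ a : alternatingGroup (Fin 5), a * a = 1 → a ≠ 1 → ∀ b : alternatingGroup (Fin 5),
    b * b = 1 → b ≠ 1 → a ≠ b → a * b = b * a → ∀ σ : Equiv.Perm (Fin 5),
      σ * (a : Equiv.Perm (Fin 5)) = (a : Equiv.Perm (Fin 5)) * σ →
      σ * (b : Equiv.Perm (Fin 5)) = (b : Equiv.Perm (Fin 5)) * σ →
      σ = 1 ∨ σ = (a : Equiv.Perm (Fin 5)) ∨ σ = (b : Equiv.Perm (Fin 5)) ∨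
        σ = (a : Equiv.Perm (Fin 5)) * (b : Equiv.Perm (Fin 5)) := by
  decide +kernel

/-- The configuration. -/
structure FourOdd (X : Type u) [Group X] where
  /-- the four-group -/
  V : Subgroup X
  /-- the subgroup of odd order -/
  W : Subgroup X
  hV : IsKleinFour V
  hW : Odd (Nat.card W)
  comm : ∀ v ∈ V, ∀ y ∈ W, v * y = y * v
  cent : ∀ v ∈ V, v ≠ 1 → ∀ x, x * v = v * x → ∃ y ∈ W, ∃ w ∈ V, x = w * y

namespace FourOdd

variable {X : Type u} [Group X] [Finite X] (C : FourOdd X)
include C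

theorem odd_pow {y : X} (hy : y ∈ C.W) : y ^ Nat.card C.W = 1 :=
  congrArg Subtype.val (pow_card_eq_one' (x := (⟨y, hy⟩ : ↥C.W)))

theorem mem_V_of_two {v x : X} (hv : v ∈ C.V) (hv1 : v ≠ 1) (hc : x * v = v * x)
    (h2 : ∃ k, x ^ 2 ^ k = 1) : x ∈ C.V := by
  obtain ⟨y, hy, w, hw, rfl⟩ := C.cent v hv hv1 x hc
  obtain ⟨k, hk⟩ := h2
  have h1 : y = 1 := by
    refine eq_one_of_two_odd ⟨k + 1, ?_⟩ C.hW (C.odd_pow hy)
    have h2 : (w * y) ^ 2 ^ (k + 1) = 1 := by rw [pow_succ, pow_mul, hk, one_pow]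
    rw [(show Commute w y from C.comm w hw y hy).mul_pow, pow_succ' 2 k, pow_mul, pow_two,
      four_sq C.hV hw, one_pow, one_mul] at h2
    rwa [pow_succ' 2 k]
  rw [h1, mul_one]
  exact hw

theorem eq_one_of_mem {x : X} (h1 : x ∈ C.V) (h2 : x ∈ C.W) : x = 1 :=
  eq_one_of_two_odd ⟨1, by rw [pow_one, pow_two, four_sq C.hV h1]⟩ C.hW (C.odd_pow h2)

theorem exists_ne : ∃ v ∈ C.V, v ≠ 1 := by
  haveI := C.hV
  haveI : Nontrivial ↥C.V := Finite.one_lt_card_iff_nontrivial.1 (by rw [IsKleinFour.card_four]; norm_num)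
  obtain ⟨v, hv⟩ := _root_.exists_ne (1 : ↥C.V)
  exact ⟨v, v.2, fun e => hv (Subtype.ext e)⟩

theorem exists_sylow : ∃ P : Sylow 2 X, (P : Subgroup X) = C.V := by
  haveI : Fact (Nat.Prime 2) := ⟨Nat.prime_two⟩
  haveI := C.hV
  have hp : IsPGroup 2 C.V := IsPGroup.of_card (n := 2) (by rw [IsKleinFour.card_four]; norm_num)
  obtain ⟨P, hP⟩ := hp.exists_le_sylow
  refine ⟨P, le_antisymm (fun x hx => ?_) hP⟩
  obtain ⟨v, hv, hv1⟩ := C.exists_ne
  haveI : Nontrivial ↥(P : Subgroup X) := ⟨⟨⟨v, hP hv⟩, 1, fun e => hv1 (congrArg Subtype.val e)⟩⟩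
  haveI := P.isPGroup'.center_nontrivial
  obtain ⟨z, hz⟩ := _root_.exists_ne (1 : ↥(center ↥(P : Subgroup X)))
  have hpow : ∀ a ∈ (P : Subgroup X), ∃ k, a ^ 2 ^ k = 1 := fun a ha => by
    obtain ⟨k, hk⟩ := P.isPGroup' ⟨a, ha⟩
    exact ⟨k, congrArg Subtype.val hk⟩
  have hzc : ∀ a ∈ (P : Subgroup X), a * ((z : ↥(P : Subgroup X)) : X) = ((z : ↥(P : Subgroup X)) : X) * a :=
    fun a ha => congrArg Subtype.val (mem_center_iff.1 z.2 ⟨a, ha⟩)
  have hzV : ((z : ↥(P : Subgroup X)) : X) ∈ C.V :=
    C.mem_V_of_two hv hv1 (hzc v (hP hv)).symm (hpow _ (z : ↥(P : Subgroup X)).2)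
  exact C.mem_V_of_two hzV (fun e => hz (Subtype.ext (Subtype.ext e))) (hzc x hx) (hpow x hx)

theorem exists_ne' {v : X} (hv : v ∈ C.V) (hv1 : v ≠ 1) : ∃ b ∈ C.V, b ≠ 1 ∧ b ≠ v := by
  by_contra h
  push Not at h
  haveI := C.hV
  have h2 : Nat.card ↥C.V ≤ 2 := by
    rw [show Nat.card ↥C.V = ((C.V : Subgroup X) : Set X).ncard from Nat.card_coe_set_eq _]
    refine le_trans (Set.ncard_le_ncard (t := {1, v}) fun b hb => ?_) ?_
    · by_cases hb1 : b = 1
      · exact Or.inl hb1
      · exact Or.inr (h b hb hb1)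
    · exact (Set.ncard_insert_le _ _).trans (by rw [Set.ncard_singleton])
  rw [IsKleinFour.card_four] at h2
  omega

theorem core_le : Cfsg.pPrimeCore 2 X ≤ C.W := by
  haveI := C.hV
  haveI : IsMulCommutative ↥C.V := IsKleinFour.isMulCommutative
  haveI := Grp.pPrimeCore_isNormal (p := 2) (G := X)
  set O := Cfsg.pPrimeCore 2 X
  have hodd : Odd (Nat.card ↥O) := Nat.coprime_two_right.1 Grp.pPrimeCore_coprime
  rw [← Grp.generated_by_centralizers C.V O IsKleinFour.not_isCyclic
    (by rw [Subgroup.normalizer_eq_top]; exact le_top)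
    (by rw [IsKleinFour.card_four, show (4 : ℕ) = 2 ^ 2 by norm_num]
        exact (Nat.coprime_two_left.2 hodd).pow_left 2)]
  refine iSup₂_le fun v hv x hx => ?_
  obtain ⟨y, hy, w, hw, rfl⟩ := C.cent v hv.1 hv.2 x (mem_centralizer_singleton_iff.1 hx.2)
  have hpow : (w * y) ^ Nat.card ↥O = 1 := congrArg Subtype.val (pow_card_eq_one' (x := (⟨_, hx.1⟩ : ↥O)))
  rw [(show Commute w y from C.comm w hw y hy).mul_pow] at hpow
  have hwY : w ^ Nat.card ↥O ∈ C.W := by
    rw [eq_inv_of_mul_eq_one_left hpow]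
    exact inv_mem (pow_mem hy _)
  have h1 : w ^ Nat.card ↥O = 1 := C.eq_one_of_mem (pow_mem hw _) hwY
  have hw1 : w = 1 := eq_one_of_two_odd ⟨1, by rw [pow_one, pow_two, four_sq C.hV hw]⟩ hodd h1
  rw [hw1, one_mul]
  exact hy

/-- All involutions lie in `V`, unless the centraliser of an automorphism centralising `V` has a section
isomorphic to the alternating group of degree five. -/
theorem invol_mem (α : MulAut X) (hα : ∀ v ∈ C.V, α v = v) (hα2 : ∀ x, α (α x) = x)
    (hno : ∀ v ∈ C.V, ∀ H : Subgroup X, (∀ h ∈ H, α (v * h * v⁻¹) = h) →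
      ∀ f : ↥H →* ↥(alternatingGroup (Fin 5)), ¬ Function.Surjective f)
    {i : X} (hi : i * i = 1) : i ∈ C.V := by
  classical
  haveI : Fact (Nat.Prime 2) := ⟨Nat.prime_two⟩
  haveI := C.hV
  haveI hOn := Grp.pPrimeCore_isNormal (p := 2) (G := X)
  set O := Cfsg.pPrimeCore 2 X with hO
  have hOY : O ≤ C.W := C.core_le
  have hOodd : Odd (Nat.card ↥O) := Nat.coprime_two_right.1 Grp.pPrimeCore_coprime
  set π := QuotientGroup.mk' O with hπ
  have hker : ∀ x, π x = 1 ↔ x ∈ O := fun x => QuotientGroup.eq_one_iff x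
  have hinj : ∀ v ∈ C.V, π v = 1 → v = 1 := fun v hv h => C.eq_one_of_mem hv (hOY ((hker v).1 h))
  set W := C.V.map π with hW
  -- centralisers of involutions in the quotient
  have hcentv : ∀ v ∈ C.V, v ≠ 1 → ∀ z, z * π v = π v * z → ∃ y ∈ C.W, ∃ w ∈ C.V, z = π (w * y) := by
    intro v hv hv1 z hz
    have hcop : (Nat.card ↥O).Coprime (Nat.card ↥(zpowers v)) := by
      rw [Nat.card_zpowers, orderOf_eq_prime (by rw [pow_two, four_sq C.hV hv]) hv1]
      exact Nat.coprime_two_right.2 hOodd
    have h1 : z ∈ centralizer (((zpowers v).map π : Subgroup (X ⧸ O)) : Set (X ⧸ O)) := by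
      rw [MonoidHom.map_zpowers]
      refine mem_centralizer_iff.2 fun a ha => ?_
      obtain ⟨i, rfl⟩ := mem_zpowers_iff.1 ha
      exact ((show Commute z (π v) from hz).zpow_right i).eq.symm
    rw [Grp.QuotNorm.centralizer_map O (zpowers v) hcop (Or.inr inferInstance)] at h1
    obtain ⟨x, hx, rfl⟩ := h1
    obtain ⟨y, hy, w, hw, rfl⟩ := C.cent v hv hv1 x
      (mem_centralizer_iff.1 hx v (mem_zpowers v)).symm
    exact ⟨y, hy, w, hw, rfl⟩
  -- a Sylow subgroup of the quotient
  obtain ⟨P, hP⟩ := C.exists_sylow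
  set Pb : Sylow 2 (X ⧸ O) := P.mapSurjective (QuotientGroup.mk'_surjective O) with hPb
  have hPW : (Pb : Subgroup (X ⧸ O)) = W := by rw [hPb, Sylow.coe_mapSurjective, hP]
  have hW4 : Nat.card ↥W = 4 := by
    have e : C.V ≃* ↥W := MulEquiv.ofBijective (π.subgroupMap C.V)
      ⟨(injective_iff_map_eq_one _).2 fun a ha => Subtype.ext (hinj a a.2 (congrArg Subtype.val ha)),
        π.subgroupMap_surjective C.V⟩
    rw [← Nat.card_congr e.toEquiv, IsKleinFour.card_four]
  haveI hWK : IsKleinFour ↥W := ⟨hW4, Nat.dvd_antisymm (Monoid.exponent_dvd_of_forall_pow_eq_one (by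
    rintro ⟨_, v, hv, rfl⟩
    refine Subtype.ext ?_
    show π v ^ 2 = 1
    rw [pow_two, ← map_mul, four_sq C.hV hv, map_one])) (by
    obtain ⟨v, hv, hv1⟩ := C.exists_ne
    have h2 : orderOf (⟨π v, mem_map_of_mem π hv⟩ : ↥W) = 2 := by
      rw [orderOf_mk]
      exact orderOf_eq_prime (by rw [pow_two, ← map_mul, four_sq C.hV hv, map_one]) fun e => hv1 (hinj v hv e)
    exact h2 ▸ Monoid.order_dvd_exponent _)⟩
  have hcoreQ : ∀ K : Subgroup (X ⧸ O), K.Normal → Odd (Nat.card ↥K) → K = ⊥ := by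
    intro K hK hodd
    haveI := hK
    have hle : K.comap π ≤ O := by
      refine Grp.le_pPrimeCore inferInstance (Nat.coprime_two_right.2 ?_)
      have h1 := Grp.SameOrder.card_map_mk O (K.comap π)
      rw [map_comap_eq_self_of_surjective (QuotientGroup.mk'_surjective O),
        inf_of_le_left (show O ≤ K.comap π from fun x hx => by
          rw [mem_comap, (hker x).2 hx]; exact one_mem _)] at h1
      rw [← h1]
      exact hodd.mul hOodd
    refine (eq_bot_iff).2 fun z hz => ?_
    obtain ⟨x, rfl⟩ := QuotientGroup.mk'_surjective O z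
    exact mem_bot.2 ((hker x).2 (hle hz))
  by_cases hWn : W.Normal
  · obtain ⟨c, hc⟩ := Invol.exists_conj_mem_sylow (n := orderOf (π i) - 1)
      (x := π i) (by
        have h2 : orderOf (π i) ∣ 2 := orderOf_dvd_of_pow_eq_one (by rw [pow_two, ← map_mul, hi, map_one])
        rcases (Nat.dvd_prime Nat.prime_two).1 h2 with e | e <;> simp [e]) Pb
    have h1 : π i ∈ W := by
      have h2 := hWn.conj_mem _ (hPW.le hc) c⁻¹
      simpa [mul_assoc] using h2
    obtain ⟨v, hv, hve⟩ := h1
    have ho : v⁻¹ * i ∈ C.W := hOY ((hker _).1 (by rw [map_mul, map_inv, hve, inv_mul_cancel]))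
    have hcm : Commute v (v⁻¹ * i) := C.comm v hv _ ho
    have h3 : (v⁻¹ * i) * (v⁻¹ * i) = 1 := by
      have h4 : i * i = (v * v) * ((v⁻¹ * i) * (v⁻¹ * i)) := by
        conv_lhs => rw [show i = v * (v⁻¹ * i) by group]
        rw [hcm.mul_mul_mul_comm]
      rw [hi, four_sq C.hV hv, one_mul] at h4
      exact h4.symm
    have h5 : v⁻¹ * i = 1 := eq_one_of_two_odd ⟨1, by rw [pow_one, pow_two, h3]⟩ C.hW (C.odd_pow ho)
    rw [← inv_mul_eq_one.1 h5]
    exact hv
  · exfalso
    set N := normalClosure (W : Set (X ⧸ O)) with hN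
    haveI hNn : N.Normal := normalClosure_normal
    have hWN : W ≤ N := le_normalClosure
    have hWPN : (Pb : Subgroup (X ⧸ O)) ≤ N := hPW ▸ hWN
    let PN : Sylow 2 ↥N := Pb.subtype hWPN
    have hPN : (PN : Subgroup ↥N) = W.subgroupOf N := by rw [Sylow.coe_subtype, hPW]
    have hNodd : ∀ K : Subgroup ↥N, K.Normal → Odd (Nat.card ↥K) → K = ⊥ := by
      intro K hK hodd
      haveI := Grp.pPrimeCore_isNormal (p := 2) (G := ↥N)
      haveI : (Cfsg.pPrimeCore 2 ↥N).Characteristic := Grp.instCharPPrimeCore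
      haveI : ((Cfsg.pPrimeCore 2 ↥N).map N.subtype).Normal := ConjAct.normal_of_characteristic_of_normal
      have h1 := hcoreQ _ inferInstance (by
        rw [card_map_of_injective N.subtype_injective]
        exact Nat.coprime_two_right.1 Grp.pPrimeCore_coprime)
      rw [eq_bot_iff]
      intro z hz
      have h2 : (z : X ⧸ O) ∈ (Cfsg.pPrimeCore 2 ↥N).map N.subtype :=
        mem_map_of_mem N.subtype (Grp.le_pPrimeCore hK (Nat.coprime_two_right.2 hodd) hz)
      rw [h1, mem_bot] at h2
      exact mem_bot.2 (Subtype.ext h2)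
    haveI hsimple : IsSimpleGroup ↥N := by
      haveI : Nontrivial ↥N := by
        haveI : Nontrivial ↥W := Finite.one_lt_card_iff_nontrivial.1 (by rw [hW4]; norm_num)
        exact Function.Injective.nontrivial (Subgroup.inclusion_injective hWN)
      refine ⟨fun K hK => or_iff_not_imp_left.2 fun hK0 => ?_⟩
      have heven : 2 ∣ Nat.card ↥K := by
        by_contra h
        exact hK0 (hNodd K hK (Nat.odd_iff.2 (Nat.two_dvd_ne_zero.1 h)))
      obtain ⟨k, hk⟩ := exists_prime_orderOf_dvd_card' 2 heven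
      have hkp : IsPGroup 2 (zpowers (k : ↥N)) := IsPGroup.of_card (n := 1) (by
        rw [Nat.card_zpowers, orderOf_coe, hk, pow_one])
      obtain ⟨Q, hQ⟩ := hkp.exists_le_sylow
      obtain ⟨c, hc⟩ := MulAction.exists_smul_eq ↥N Q PN
      have hk0 : c * k * c⁻¹ ∈ (PN : Subgroup ↥N) := by
        rw [← hc]
        exact ⟨k, hQ (mem_zpowers _), rfl⟩
      rw [hPN, mem_subgroupOf] at hk0
      obtain ⟨v, hv, hve⟩ := hk0
      have hv1 : v ≠ 1 := fun e => by
        rw [e, map_one] at hve
        have : (k : ↥N) = 1 := conj_eq_one_iff.1 (Subtype.ext hve.symm)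
        rw [show k = 1 from Subtype.ext this, orderOf_one] at hk
        omega
      have hKc : (⟨π v, hWN (mem_map_of_mem π hv)⟩ : ↥N) ∈ K := by
        rw [show (⟨π v, hWN (mem_map_of_mem π hv)⟩ : ↥N) = c * k * c⁻¹ from Subtype.ext hve]
        exact hK.conj_mem _ k.2 c
      by_cases hall : ∀ w ∈ C.V, ∀ hwN : π w ∈ N, (⟨π w, hwN⟩ : ↥N) ∈ K
      · -- all Sylow subgroups lie in `K`
        have hsyl : ∀ Q : Sylow 2 ↥N, (Q : Subgroup ↥N) ≤ K := fun Q => by
          obtain ⟨d, hd⟩ := MulAction.exists_smul_eq ↥N PN Q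
          rw [← hd]
          rintro _ ⟨z, hz, rfl⟩
          rw [hPN] at hz
          obtain ⟨w, hw, hwe⟩ := mem_subgroupOf.1 hz
          have := hall w hw (hwe ▸ z.2)
          rw [show (⟨π w, hwe ▸ z.2⟩ : ↥N) = z from Subtype.ext hwe] at this
          exact hK.conj_mem _ this d
        rw [eq_top_iff]
        intro z _
        have hle : N ≤ K.map N.subtype := by
          refine closure_le _ |>.2 ?_
          intro q hq
          obtain ⟨w, hwW, hq'⟩ := Group.mem_conjugatesOfSet_iff.1 hq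
          obtain ⟨d, hd⟩ := isConj_iff.1 hq'
          have hqN : q ∈ N := subset_closure hq
          have hwd : IsPGroup 2 (zpowers (⟨q, hqN⟩ : ↥N)) := by
            refine IsPGroup.of_card (n := Nat.log 2 (orderOf q)) ?_
            rw [Nat.card_zpowers, orderOf_mk]
            obtain ⟨j, -, hj⟩ := (Nat.dvd_prime_pow Nat.prime_two).1
              (show orderOf q ∣ 2 ^ 1 from orderOf_dvd_of_pow_eq_one (by
                rw [pow_one, ← hd, conj_pow, pow_two, four_sq hWK hwW, mul_one, mul_inv_cancel]))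
            rw [hj, Nat.log_pow (by norm_num)]
          obtain ⟨Q, hQ⟩ := hwd.exists_le_sylow
          exact ⟨_, hsyl Q (hQ (mem_zpowers _)), rfl⟩
        obtain ⟨z', hz', e⟩ := hle z.2
        rwa [show z = z' from Subtype.ext e.symm]
      · -- `K` has a Sylow subgroup of order two: then `W` is normal
        exfalso
        push Not at hall
        obtain ⟨w, hw, hwN, hwK⟩ := hall
        set u : ↥N := ⟨π v, hWN (mem_map_of_mem π hv)⟩ with hu
        have hu2 : orderOf u = 2 := by
          rw [hu, orderOf_mk]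
          exact orderOf_eq_prime (by rw [pow_two, ← map_mul, four_sq C.hV hv, map_one]) fun e => hv1 (hinj v hv e)
        have hKP : ∀ z ∈ K, z ∈ (PN : Subgroup ↥N) → z = 1 ∨ z = u := by
          intro z hzK hzP
          rw [hPN] at hzP
          obtain ⟨a, ha, hae⟩ := mem_subgroupOf.1 hzP
          have hav : v ≠ w := fun e => hwK (by subst e; exact hKc)
          have hw1 : w ≠ 1 := fun e => hwK (by
            subst e
            have : (⟨π (1 : X), hwN⟩ : ↥N) = 1 := Subtype.ext (map_one π)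
            rw [this]; exact one_mem _)
          rcases four_cases C.hV hv hw hv1 hw1 hav ha with rfl | rfl | rfl | rfl
          · exact Or.inl (Subtype.ext (hae.symm.trans (map_one π)))
          · exact Or.inr (Subtype.ext hae.symm)
          · exact absurd ((show (⟨π a, hwN⟩ : ↥N) = z from Subtype.ext hae) ▸ hzK) hwK
          · refine absurd ?_ hwK
            have h1 := mul_mem hKc hzK
            rwa [show u * z = (⟨π w, hwN⟩ : ↥N) from Subtype.ext (by
              show π v * (z : X ⧸ O) = π w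
              rw [← hae, ← map_mul, ← mul_assoc, four_sq C.hV hv, one_mul])] at h1
        -- the Sylow subgroup of `K`
        haveI := hK
        obtain ⟨R, hR⟩ : ∃ R : Sylow 2 ↥K, (R : Subgroup ↥K) = zpowers (⟨u, hKc⟩ : ↥K) := by
          have hup : IsPGroup 2 (zpowers (⟨u, hKc⟩ : ↥K)) := IsPGroup.of_card (n := 1) (by
            rw [Nat.card_zpowers, orderOf_mk, hu2, pow_one])
          obtain ⟨R, hR⟩ := hup.exists_le_sylow
          refine ⟨R, le_antisymm (fun z hz => ?_) hR⟩
          obtain ⟨Q, hQ⟩ := (R.isPGroup'.map K.subtype).exists_le_sylow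
          obtain ⟨d, hd⟩ := MulAction.exists_smul_eq ↥N Q PN
          have hcard : Nat.card ↥(R : Subgroup ↥K) ≤ 2 := by
            let fR : ↥(R : Subgroup ↥K) → ({1, u} : Set ↥N) := fun a =>
              ⟨d * ((a : ↥K) : ↥N) * d⁻¹, hKP _ (hK.conj_mem _ (a : ↥K).2 d)
                (by rw [← hd]; exact ⟨_, hQ (mem_map_of_mem _ a.2), rfl⟩)⟩
            refine (Nat.card_le_card_of_injective fR fun a b e => ?_).trans ?_
            · exact Subtype.ext (Subtype.ext (mul_left_cancel (mul_right_cancel (congrArg Subtype.val e :))))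
            · rw [Nat.card_coe_set_eq]
              exact (Set.ncard_insert_le _ _).trans (by rw [Set.ncard_singleton])
          have := eq_of_le_of_card_ge hR (hcard.trans (by rw [Nat.card_zpowers, orderOf_mk, hu2]))
          rwa [this]
        haveI hRc : IsMulCommutative ↥(R : Subgroup ↥K) := by rw [hR]; infer_instance
        have hcompl : Cfsg.HasNormalPComplement 2 ↥K := by
          refine Transfer.hasNormalPComplement_of_prime_elements R hRc fun q _ _ d hd _ z hz => ?_
          have hdu : d * ⟨u, hKc⟩ * d⁻¹ ∈ (R : Subgroup ↥K) :=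
            (mem_normalizer_iff.1 hd _).1 (hR.ge (mem_zpowers _))
          rw [hR] at hz hdu
          have hz' : ∀ a ∈ zpowers (⟨u, hKc⟩ : ↥K), a = 1 ∨ a = ⟨u, hKc⟩ := fun a ha => by
            obtain ⟨j, rfl⟩ := mem_zpowers_iff.1 ha
            rw [← zpow_mod_orderOf, orderOf_mk, hu2]
            rcases Int.emod_two_eq_zero_or_one j with e | e
            · left; simp [e]
            · right; simp [e]
          rcases hz' z hz with rfl | rfl
          · group
          · rcases hz' _ hdu with e | e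
            · exact absurd (conj_eq_one_iff.1 e) fun e' => by
                have : u = 1 := congrArg Subtype.val e'
                rw [this, orderOf_one] at hu2; omega
            · exact e
        obtain ⟨M, hMn, hM2, j, hj⟩ := Transfer.hasNormalPComplement_iff_exists.1 hcompl
        haveI := Grp.pPrimeCore_isNormal (p := 2) (G := ↥K)
        haveI : (Cfsg.pPrimeCore 2 ↥K).Characteristic := Grp.instCharPPrimeCore
        haveI : ((Cfsg.pPrimeCore 2 ↥K).map K.subtype).Normal := ConjAct.normal_of_characteristic_of_normal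
        have hM0 : M = ⊥ := by
          have h1 := hNodd _ inferInstance (by
            rw [card_map_of_injective K.subtype_injective]
            exact Nat.coprime_two_right.1 (Grp.pPrimeCore_coprime (G := ↥K)))
          rw [map_eq_bot_iff_of_injective _ K.subtype_injective] at h1
          rw [eq_bot_iff, ← h1]
          exact Grp.le_pPrimeCore hMn ((Nat.prime_two.coprime_iff_not_dvd.2 hM2).symm)
        rw [hM0, index_bot] at hj
        have hKsub : ∀ z ∈ K, z = 1 ∨ z = u := by
          intro z hz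
          have : (⟨z, hz⟩ : ↥K) ∈ (R : Subgroup ↥K) := by
            have htop : (R : Subgroup ↥K) = ⊤ := by
              obtain ⟨e, he⟩ := IsPGroup.iff_card.1 R.isPGroup'
              have : IsPGroup 2 ↥(⊤ : Subgroup ↥K) := IsPGroup.of_card (n := j) (by rw [card_top, hj])
              exact (R.is_maximal' this le_top).symm
            rw [htop]; exact mem_top _
          rw [hR] at this
          obtain ⟨i, hi⟩ := mem_zpowers_iff.1 this
          rw [← zpow_mod_orderOf, orderOf_mk, hu2] at hi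
          have h2 : (⟨u, hKc⟩ : ↥K) ^ (i % (2 : ℕ) : ℤ) = ⟨z, hz⟩ := hi
          rcases Int.emod_two_eq_zero_or_one i with e | e
          · left; simp [e] at h2; exact (congrArg Subtype.val h2).symm
          · right; simp [e] at h2; exact h2.symm
        -- `u` is central in `N`
        have huc : ∀ d : ↥N, d * u * d⁻¹ = u := fun d => by
          rcases hKsub _ (hK.conj_mem _ hKc d) with e | e
          · rw [conj_eq_one_iff.1 e, orderOf_one] at hu2; omega
          · exact e
        refine hWn ⟨fun z hz q => ?_⟩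
        have hzN : q * z * q⁻¹ ∈ N := hNn.conj_mem _ (hWN hz) q
        have hzc : q * z * q⁻¹ * π v = π v * (q * z * q⁻¹) :=
          mul_inv_eq_iff_eq_mul.1 (congrArg Subtype.val (huc ⟨_, hzN⟩))
        obtain ⟨y, hy, w', hw', e⟩ := hcentv v hv hv1 _ hzc
        have h1 : π y ^ 2 = 1 := by
          have h2 : (q * z * q⁻¹) ^ 2 = 1 := by
            rw [conj_pow, pow_two, four_sq hWK hz, mul_one, mul_inv_cancel]
          rw [e, ← map_pow, (show Commute w' y from C.comm w' hw' y hy).mul_pow, pow_two w',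
            four_sq C.hV hw', one_mul, map_pow] at h2
          exact h2
        have h3 : π y = 1 := eq_one_of_two_odd ⟨1, by rw [pow_one, h1]⟩ C.hW
          (by rw [← map_pow, C.odd_pow hy, map_one])
        rw [e, map_mul, h3, mul_one]
        exact mem_map_of_mem π hw'
    have hNna : ¬ IsMulCommutative ↥N := fun hc => by
      letI : CommGroup ↥N := { (inferInstance : Group ↥N) with mul_comm := hc.is_comm.comm }
      have hp : (Nat.card ↥N).Prime := IsSimpleGroup.prime_card
      have hd : 4 ∣ Nat.card ↥N := hW4 ▸ card_dvd_of_le hWN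
      rcases hp.eq_one_or_self_of_dvd 4 hd with h | h
      · omega
      · rw [← h] at hp; exact absurd hp (by norm_num)
    haveI hPNK : IsKleinFour ↥(PN : Subgroup ↥N) := by
      let e : ↥(PN : Subgroup ↥N) ≃* ↥W := (MulEquiv.subgroupCongr hPN).trans (subgroupOfEquivOfLe hWN)
      exact ⟨by rw [Nat.card_congr e.toEquiv, hW4],
        by rw [Monoid.exponent_eq_of_mulEquiv e]; exact hWK.exponent_two⟩
    obtain ⟨F, _, _, hFo, hF5, -, ⟨eF⟩⟩ := AbelTwo.exists_psl hNna PN hPNK
    -- the field has five elements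
    have hF : Fintype.card F = 5 := by
      obtain ⟨v, hv, hv1⟩ := C.exists_ne
      set u : ↥N := ⟨π v, hWN (mem_map_of_mem π hv)⟩ with hu
      have hord : ∀ w (hw : w ∈ C.V), w ≠ 1 → orderOf (eF ⟨π w, hWN (mem_map_of_mem π hw)⟩) = 2 := fun w hw hw1 => by
        rw [MulEquiv.orderOf_eq, orderOf_mk]
        exact orderOf_eq_prime (by rw [pow_two, ← map_mul, four_sq C.hV hw, map_one]) fun e => hw1 (hinj w hw e)
      obtain ⟨T, hTc, hTt, -, hTinv, hT1, hT3⟩ := GW.Klein.PSL.exists_torus hFo (hord v hv hv1)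
      obtain ⟨b, hbV, hb1, hbne⟩ := C.exists_ne' hv hv1
      have hbv : Commute (eF ⟨π b, hWN (mem_map_of_mem π (hbV))⟩) (eF u) := by
        haveI : IsMulCommutative ↥C.V := IsKleinFour.isMulCommutative
        refine Commute.map (f := eF.toMonoidHom) (x := (⟨π b, hWN (mem_map_of_mem π (hbV))⟩ : ↥N))
          (y := u) (Subtype.ext ?_)
        show π b * π v = π v * π b
        rw [← map_mul, ← map_mul, show b * v = v * b from
          congrArg Subtype.val (mul_comm' (⟨b, hbV⟩ : ↥C.V) ⟨v, hv⟩)]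
      have hne : eF ⟨π b, hWN (mem_map_of_mem π (hbV))⟩ ≠ eF u := fun e => by
        have h1 : π b = π v := congrArg Subtype.val (eF.injective e)
        have h2 : π (b * v⁻¹) = 1 := by rw [map_mul, map_inv, h1, mul_inv_cancel]
        exact hbne (mul_inv_eq_one.1 (hinj _ (mul_mem hbV (inv_mem hv)) h2))
      have hsq : ∀ x ∈ T, x ^ 2 = 1 := fun x hx => by
        have h1 := hTinv _ (hord b (hbV) hb1) hbv hne x hx
        have hcm : eF ⟨π b, hWN (mem_map_of_mem π (hbV))⟩ * x =
            x * eF ⟨π b, hWN (mem_map_of_mem π (hbV))⟩ := by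
          obtain ⟨x', rfl⟩ := eF.surjective x
          rw [← map_mul, ← map_mul]
          refine congrArg eF (Subtype.ext ?_)
          show π b * (x' : X ⧸ O) = (x' : X ⧸ O) * π b
          have hxv : (x' : X ⧸ O) * π v = π v * (x' : X ⧸ O) :=
            congrArg Subtype.val (eF.injective (by rw [map_mul, map_mul]; exact (hTt _ hx).eq) : x' * u = u * x')
          obtain ⟨y, hy, w', hw', e⟩ := hcentv v hv hv1 _ hxv
          haveI : IsMulCommutative ↥C.V := IsKleinFour.isMulCommutative
          have c1 : Commute b w' := congrArg Subtype.val (mul_comm' (⟨b, hbV⟩ : ↥C.V) ⟨w', hw'⟩)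
          rw [e, ← map_mul, ← map_mul, (c1.mul_right (C.comm b hbV y hy)).eq]
        rw [hcm, mul_inv_cancel_right] at h1
        rw [pow_two]
        nth_rewrite 1 [h1]
        exact inv_mul_cancel x
      have hT2 : Nat.card ↥T ≤ 2 := by
        obtain ⟨x, hx⟩ := IsCyclic.exists_ofOrder_eq_natCard (α := ↥T)
        rw [← hx]
        exact Nat.le_of_dvd two_pos (orderOf_dvd_of_pow_eq_one (Subtype.ext (hsq _ x.2)))
      obtain ⟨k, hk⟩ := hFo
      rcases (show Fintype.card F % 4 = 1 ∨ Fintype.card F % 4 = 3 by omega) with h | h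
      · have := hT1 h; omega
      · have := hT3 h; omega
    haveI := Classical.PSL_isSimple (F := F) (n := 2) le_rfl fun _ => by omega
    have h60 : Nat.card (Matrix.ProjectiveSpecialLinearGroup (Fin 2) F) = 60 := by
      have h := GW.Klein.PSL.card_mul hFo
      rw [hF] at h
      omega
    obtain ⟨e5⟩ := Fus.alternating_five_of_card h60
    let f : ↥N ≃* ↥(alternatingGroup (Fin 5)) := eF.trans e5
    have hN60 : Nat.card ↥N = 60 := by rw [Nat.card_congr eF.toEquiv, h60]
    -- the automorphism induced on the simple subgroup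
    have hαO : ∀ x, x ∈ O → α x ∈ O := by
      haveI : O.Characteristic := Grp.instCharPPrimeCore
      intro x hx
      exact (characteristic_iff_map_eq.1 inferInstance α).le (mem_map_of_mem α.toMonoidHom hx)
    let αq : X ⧸ O →* X ⧸ O := QuotientGroup.map O O α.toMonoidHom fun x hx => hαO x hx
    have hαq : ∀ x, αq (π x) = π (α x) := fun x => rfl
    have hαq2 : ∀ z, αq (αq z) = z := fun z => by
      obtain ⟨x, rfl⟩ := QuotientGroup.mk'_surjective O z
      rw [hαq, hαq, hα2]
    have hαN : ∀ z ∈ N, αq z ∈ N := by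
      intro z hz
      refine (show N ≤ N.comap αq from normalClosure_le_normal ?_) hz
      rintro _ ⟨v, hv, rfl⟩
      show αq (π v) ∈ N
      rw [hαq, hα v hv]
      exact hWN (mem_map_of_mem π hv)
    let αN : MulAut ↥N :=
      { toFun := fun z => ⟨αq z, hαN z z.2⟩
        invFun := fun z => ⟨αq z, hαN z z.2⟩
        left_inv := fun z => Subtype.ext (hαq2 z)
        right_inv := fun z => Subtype.ext (hαq2 z)
        map_mul' := fun a b => Subtype.ext (map_mul αq (a : X ⧸ O) b) }
    obtain ⟨σ, hσ⟩ := (S2119.result 5 (by norm_num) (by norm_num)).2 (MulAut.congr f αN)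
    have hfix : ∀ a ha, αN ⟨π a, hWN (mem_map_of_mem π ha)⟩ = ⟨π a, hWN (mem_map_of_mem π ha)⟩ :=
      fun a ha => Subtype.ext (by show αq (π a) = π a; rw [hαq, hα a ha])
    have hσc : ∀ a ha, σ * (f ⟨π a, hWN (mem_map_of_mem π ha)⟩ : Equiv.Perm (Fin 5)) =
        (f ⟨π a, hWN (mem_map_of_mem π ha)⟩ : Equiv.Perm (Fin 5)) * σ := fun a ha => by
      have h := congrArg (fun φ : MulAut ↥(alternatingGroup (Fin 5)) =>
        ((φ (f ⟨π a, hWN (mem_map_of_mem π ha)⟩) : ↥(alternatingGroup (Fin 5))) : Equiv.Perm (Fin 5))) hσ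
      simp only [MulAut.conjNormal_apply, MulAut.congr_apply, MulEquiv.trans_apply,
        MulEquiv.symm_apply_apply] at h
      rw [hfix a ha] at h
      exact mul_inv_eq_iff_eq_mul.1 h
    obtain ⟨v, hv, hv1⟩ := C.exists_ne
    obtain ⟨b, hbV, hb1, hbne⟩ := C.exists_ne' hv hv1
    have hne1 : ∀ a ha, a ≠ 1 → f ⟨π a, hWN (mem_map_of_mem π ha)⟩ ≠ 1 := fun a ha ha1 h =>
      ha1 (hinj a ha (congrArg Subtype.val (f.map_eq_one_iff.1 h)))
    have hsq : ∀ a ha, f ⟨π a, hWN (mem_map_of_mem π ha)⟩ * f ⟨π a, hWN (mem_map_of_mem π ha)⟩ = 1 := fun a ha => by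
      rw [← map_mul, show (⟨π a, hWN (mem_map_of_mem π ha)⟩ : ↥N) * ⟨π a, hWN (mem_map_of_mem π ha)⟩ = 1 from
        Subtype.ext (by show π a * π a = 1; rw [← map_mul, four_sq C.hV ha, map_one]), map_one]
    obtain ⟨w', hw', hσv⟩ : ∃ w', ∃ hw' : w' ∈ C.V,
        σ = (f ⟨π w', hWN (mem_map_of_mem π hw')⟩ : Equiv.Perm (Fin 5)) := by
      haveI : IsMulCommutative ↥C.V := IsKleinFour.isMulCommutative
      have hcm : v * b = b * v := congrArg Subtype.val (mul_comm' (⟨v, hv⟩ : ↥C.V) ⟨b, hbV⟩)
      rcases a5_four _ (hsq v hv) (hne1 v hv hv1) _ (hsq b hbV) (hne1 b hbV hb1)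
        (fun e => hbne (mul_inv_eq_one.1 (hinj _ (mul_mem hbV (inv_mem hv))
          (by
            have e' : π v = π b := congrArg Subtype.val (f.injective e)
            rw [map_mul, map_inv, ← e', mul_inv_cancel]))))
        (by rw [← map_mul, ← map_mul]; exact congrArg f (Subtype.ext (by
          show π v * π b = π b * π v; rw [← map_mul, ← map_mul, hcm]))) σ (hσc v hv) (hσc b hbV) with e | e | e | e
      · exact ⟨1, one_mem _, by
          rw [e, show (⟨π 1, hWN (mem_map_of_mem π (one_mem _))⟩ : ↥N) = 1 from Subtype.ext (map_one π), map_one]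
          rfl⟩
      · exact ⟨v, hv, e⟩
      · exact ⟨b, hbV, e⟩
      · exact ⟨v * b, mul_mem hv hbV, by
          rw [e, ← Subgroup.coe_mul, ← map_mul]
          exact congrArg Subtype.val (congrArg f (Subtype.ext (map_mul π v b).symm))⟩
    -- the fixed points of `α` times the inner part map onto `N`
    let β : MulAut X := (MulAut.conj w').trans α
    have hβ : ∀ x, β x = α (w' * x * w'⁻¹) := fun x => by simp [β]
    have hw'i : w'⁻¹ = w' := inv_eq_of_mul_eq_one_left (four_sq C.hV hw')
    have hβ2 : ∀ x, β (β x) = x := fun x => by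
      simp only [hβ, map_mul, map_inv, hα2, hα w' hw']
      rw [hw'i,
        show w' * (w' * x * w') * w' = (w' * w') * x * (w' * w') by group, four_sq C.hV hw', one_mul, mul_one]
    have hβN : ∀ x, π x ∈ N → π (β x) = π x := by
      intro x hx
      set z : ↥N := ⟨π x, hx⟩
      set d : ↥N := ⟨π w', hWN (mem_map_of_mem π hw')⟩
      suffices h : αN (d * z * d⁻¹) = z by
        rw [hβ, ← hαq]
        refine Eq.trans (congrArg αq ?_) (congrArg Subtype.val h)
        simp [z, d]
      refine f.injective ?_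
      have h := congrArg (fun φ : MulAut ↥(alternatingGroup (Fin 5)) => φ (f (d * z * d⁻¹))) hσ
      simp only [MulAut.congr_apply, MulEquiv.trans_apply, MulEquiv.symm_apply_apply] at h
      rw [← h]
      refine Subtype.ext ?_
      rw [MulAut.conjNormal_apply, hσv, map_mul, map_mul, map_inv]
      have hd : (f d : Equiv.Perm (Fin 5)) * (f d : Equiv.Perm (Fin 5)) = 1 := congrArg Subtype.val (hsq w' hw')
      simp only [Subgroup.coe_mul, Subgroup.coe_inv]
      show (f d : Equiv.Perm (Fin 5)) * ((f d : Equiv.Perm (Fin 5)) * (f z : Equiv.Perm (Fin 5)) * (f d : Equiv.Perm (Fin 5))⁻¹) *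
          (f d : Equiv.Perm (Fin 5))⁻¹ = (f z : Equiv.Perm (Fin 5))
      rw [inv_eq_of_mul_eq_one_left hd,
        show (f d : Equiv.Perm (Fin 5)) * ((f d : Equiv.Perm (Fin 5)) * (f z : Equiv.Perm (Fin 5)) *
          (f d : Equiv.Perm (Fin 5))) * (f d : Equiv.Perm (Fin 5)) =
          ((f d : Equiv.Perm (Fin 5)) * (f d : Equiv.Perm (Fin 5))) * (f z : Equiv.Perm (Fin 5)) *
          ((f d : Equiv.Perm (Fin 5)) * (f d : Equiv.Perm (Fin 5))) by group, hd, one_mul, mul_one]
    let H : Subgroup X :=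
      { carrier := {x | β x = x ∧ π x ∈ N}
        one_mem' := ⟨map_one _, by rw [map_one]; exact one_mem _⟩
        mul_mem' := fun {a c} ha hc => ⟨by rw [map_mul, ha.1, hc.1], by rw [map_mul]; exact mul_mem ha.2 hc.2⟩
        inv_mem' := fun {a} ha => ⟨by rw [map_inv, ha.1], by rw [map_inv]; exact inv_mem ha.2⟩ }
    let fH : ↥H →* ↥(alternatingGroup (Fin 5)) :=
      f.toMonoidHom.comp ((π.comp H.subtype).codRestrict N fun x => x.2.2)
    refine hno w' hw' H (fun h hh => (hβ h).symm.trans hh.1) fH ?_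
    intro a
    obtain ⟨x, hx⟩ := QuotientGroup.mk'_surjective O ((f.symm a : ↥N) : X ⧸ O)
    have hxN : π x ∈ N := by rw [show π x = _ from hx]; exact (f.symm a).2
    set o := x⁻¹ * β x with ho
    have hoO : o ∈ O := (hker _).1 (by rw [map_mul, map_inv, hβN x hxN, inv_mul_cancel])
    have hβo : β o = o⁻¹ := by rw [ho, map_mul, map_inv, hβ2, mul_inv_rev, inv_inv]
    obtain ⟨j, hj⟩ := hOodd
    have hon : o ^ Nat.card ↥O = 1 := congrArg Subtype.val (pow_card_eq_one' (x := (⟨o, hoO⟩ : ↥O)))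
    have hcc : o ^ (j + 1) * o ^ (j + 1) = o := by
      rw [← pow_add, show j + 1 + (j + 1) = Nat.card ↥O + 1 by omega, pow_succ, hon, one_mul]
    have hxc : β (x * o ^ (j + 1)) = x * o ^ (j + 1) := by
      rw [map_mul, map_pow, hβo, show β x = x * o by rw [ho]; group, mul_assoc, inv_pow]
      congr 1
      rw [mul_inv_eq_iff_eq_mul, hcc]
    have hπc : π (x * o ^ (j + 1)) = π x := by rw [map_mul, map_pow, (hker o).2 hoO, one_pow, mul_one]
    refine ⟨⟨x * o ^ (j + 1), hxc, by rw [hπc]; exact hxN⟩, ?_⟩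
    show f ⟨π (x * o ^ (j + 1)), _⟩ = a
    rw [show (⟨π (x * o ^ (j + 1)), _⟩ : ↥N) = f.symm a from Subtype.ext (hπc.trans hx), MulEquiv.apply_symm_apply]

end FourOdd

end Cfsg.Agent.Invol.JankoWard
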