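import Cfsg.Agent.Lib.Invol.JankoWard.LocalFree
import Cfsg.Agent.Lib.Invol.Bender.Tools
import Cfsg.Agent.Lib.Transfer.FrobeniusFormula
import Cfsg.Agent.Lib.Transfer.SmallTwoSylow
import Cfsg.Agent.Lib.Grp.SameOrderConj

/-!
# The fixed-point congruence in the centraliser of an element of order three

`FreeCore`: a finite group with a central element `g` of order three and an involution `x` with centraliser
`⟨x⟩ × U F` inverting an element `T` of prime order `l ≥ 5`. Then `|U|² ≡ 9k²` modulo `l` with `k = 1` or `k = 3`.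
-/

set_option autoImplicit false
set_option linter.unusedSectionVars false
set_option linter.style.haveILetI false

namespace Cfsg.Agent.Invol.JankoWard

open Subgroup

universe u

theorem commute_of_sq {X : Type u} [Group X] {a b : X} (h : Commute (a * a) b) {n : ℕ} (hn : Odd n)
    (ha : a ^ n = 1) : Commute a b := by
  obtain ⟨j, hj⟩ := hn
  have e : a = (a ^ 2) ^ (j + 1) := by
    rw [← pow_mul, show 2 * (j + 1) = n + 1 by omega, pow_succ, ha, one_mul]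
  rw [e]
  exact (show Commute (a ^ 2) b by rwa [pow_two]).pow_left _

theorem eq_one_of_coprime_pow {X : Type u} [Group X] {a : X} {m n : ℕ} (h : m.Coprime n) (hm : a ^ m = 1)
    (hn : a ^ n = 1) : a = 1 := by
  have h1 := Nat.eq_one_of_dvd_coprimes h (orderOf_dvd_of_pow_eq_one hm) (orderOf_dvd_of_pow_eq_one hn)
  exact orderOf_eq_one_iff.1 h1

theorem mem_of_coprime_pow {X : Type u} [Group X] (H : Subgroup X) {a : X} {m n : ℕ} (h : m.Coprime n)
    (hn : a ^ n = 1) (hm : a ^ m ∈ H) : a ∈ H := by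
  obtain ⟨j, hj⟩ := exists_pow_eq_self_of_coprime (h.coprime_dvd_right (orderOf_dvd_of_pow_eq_one hn))
  rw [← hj]
  exact pow_mem hm j

theorem conj_pow_of_central {X : Type u} [Group X] {a b c : X} (h : a * b * a⁻¹ = b * c)
    (hc : a * c * a⁻¹ = c) : ∀ i : ℕ, a ^ i * b * (a ^ i)⁻¹ = b * c ^ i := by
  intro i
  induction i with
  | zero => simp
  | succ i ih =>
    rw [show a ^ (i + 1) * b * (a ^ (i + 1))⁻¹ = a * (a ^ i * b * (a ^ i)⁻¹) * a⁻¹ by rw [pow_succ']; group, ih,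
      ← conj_mul, h, ← conj_pow, hc, mul_assoc, ← pow_succ']

theorem mem_zpowers_of_cyclic {X : Type u} [Group X] [Finite X] {H : Subgroup X} [IsCyclic H] {l : ℕ}
    (hl : l.Prime) {a b : X} (ha : a ∈ H) (hb : b ∈ H) (ho : orderOf a = l) (hb1 : b ^ l = 1) :
    b ∈ zpowers a := by
  have h1 : zpowers (⟨b, hb⟩ : ↥H) ≤ zpowers ⟨a, ha⟩ := by
    refine Grp.AbelianConjQuotient.le_of_card_dvd _ _ ?_
    rw [Nat.card_zpowers, Nat.card_zpowers, orderOf_mk, orderOf_mk, ho]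
    exact orderOf_dvd_of_pow_eq_one hb1
  obtain ⟨i, hi⟩ := mem_zpowers_iff.1 (h1 (mem_zpowers _))
  exact mem_zpowers_iff.2 ⟨i, congrArg Subtype.val hi⟩

/-- The configuration. -/
structure FreeCore (X : Type u) [Group X] (l : ℕ) where
  /-- the involution -/
  x : X
  /-- the inverted element -/
  T : X
  /-- the central element -/
  g : X
  /-- the field part -/
  F : Subgroup X
  /-- the elementary abelian part -/
  U : Subgroup X
  /-- the cyclic inverted subgroup -/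
  Y : Subgroup X
  hl : l.Prime
  l2 : l ≠ 2
  l3 : l ≠ 3
  hx : orderOf x = 2
  hTl : orderOf T = l
  xT : x * T * x⁻¹ = T⁻¹
  gc : ∀ m, g * m = m * g
  g3 : g ^ 3 = 1
  g1 : g ≠ 1
  gU : g ∈ U
  Fcyc : IsCyclic F
  Fodd : Odd (Nat.card F)
  xF : ∀ a ∈ F, a * x = x * a
  Fcent : ∀ a ∈ F, a * T = T * a → ∀ m, a * m = m * a
  Fl : ∀ a ∈ F, (∃ k, a ^ l ^ k = 1) → a * T = T * a
  Fpow : ∀ a ∈ F, a * T * a⁻¹ ∈ zpowers T
  Fnorm : ∀ a ∈ F, ∀ z ∈ U, a * z * a⁻¹ ∈ U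
  UF : ∀ z ∈ U, z ∈ F → z = 1
  xU : ∀ z ∈ U, z * x = x * z
  Ucomm : ∀ z ∈ U, ∀ z' ∈ U, z * z' = z' * z
  U3 : ∀ z ∈ U, z ^ 3 = 1
  Ycyc : IsCyclic Y
  Yodd : Odd (Nat.card Y)
  TY : T ∈ Y
  xY : ∀ y ∈ Y, x * y * x⁻¹ = y⁻¹
  cent_x : ∀ m, m * x = x * m → ∃ z ∈ U, ∃ a ∈ F, m = z * a ∨ m = x * (z * a)
  cent_T : ∀ m, m * T = T * m → ∃ y ∈ Y, ∃ a ∈ F, a * T = T * a ∧ ∃ i : ℕ, m = y * a * g ^ i

namespace FreeCore

variable {X : Type u} [Group X] {l : ℕ} (C : FreeCore X l)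
include C

theorem x_sq : C.x * C.x = 1 := by rw [← pow_two, ← C.hx, pow_orderOf_eq_one]

theorem x_ne : C.x ≠ 1 := fun e => by
  have := C.hx
  rw [e, orderOf_one] at this
  omega

theorem T_ne : C.T ≠ 1 := fun e => C.hl.ne_one (by rw [← C.hTl, e, orderOf_one])

theorem T_pow : C.T ^ l = 1 :=
  (congrArg (C.T ^ ·) C.hTl).symm.trans (pow_orderOf_eq_one C.T)

theorem T_sq_ne : C.T * C.T ≠ 1 := fun h =>
  C.T_ne (eq_one_of_two_odd ⟨1, by rw [pow_one, pow_two, h]⟩ (C.hl.odd_of_ne_two C.l2) C.T_pow)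

theorem g_notF : C.g ∉ C.F := fun h => C.g1 (C.UF _ C.gU h)

theorem F_pow {a : X} (ha : a ∈ C.F) : a ^ Nat.card C.F = 1 :=
  congrArg Subtype.val (pow_card_eq_one' (x := (⟨a, ha⟩ : ↥C.F)))

theorem cent_Tx {m : X} (hT : m * C.T = C.T * m) (hx : m * C.x = C.x * m) :
    ∃ a ∈ C.F, a * C.T = C.T * a ∧ ∃ i : ℕ, m = a * C.g ^ i := by
  obtain ⟨y, hy, a, ha, haT, i, e⟩ := C.cent_T m hT
  refine ⟨a, ha, haT, i, ?_⟩
  suffices y = 1 by rw [e, this, one_mul]
  have h2 : C.x * m * C.x⁻¹ = y⁻¹ * a * C.g ^ i := by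
    rw [e, ← conj_mul, ← conj_mul, C.xY y hy, ← C.xF a ha, mul_inv_cancel_right,
      ← ((show Commute C.g C.x from C.gc _).pow_left i).eq, mul_inv_cancel_right]
  rw [← hx, mul_inv_cancel_right, e] at h2
  have h3 : y = y⁻¹ := mul_right_cancel (mul_right_cancel h2)
  refine eq_one_of_two_odd ⟨1, ?_⟩ C.Yodd (congrArg Subtype.val (pow_card_eq_one' (x := (⟨y, hy⟩ : ↥C.Y))))
  rw [pow_one, pow_two]
  nth_rewrite 1 [h3]
  exact inv_mul_cancel y

/-- `U F`. -/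
def E : Subgroup X where
  carrier := {m | ∃ z ∈ C.U, ∃ a ∈ C.F, m = z * a}
  one_mem' := ⟨1, one_mem _, 1, one_mem _, (mul_one _).symm⟩
  mul_mem' := by
    rintro m m' ⟨z, hz, a, ha, rfl⟩ ⟨z', hz', a', ha', rfl⟩
    exact ⟨z * (a * z' * a⁻¹), mul_mem hz (C.Fnorm a ha z' hz'), a * a', mul_mem ha ha', by group⟩
  inv_mem' := by
    rintro m ⟨z, hz, a, ha, rfl⟩
    exact ⟨a⁻¹ * z⁻¹ * a⁻¹⁻¹, C.Fnorm _ (inv_mem ha) _ (inv_mem hz), a⁻¹, inv_mem ha, by group⟩

theorem decomp {z z' a a' : X} (hz : z ∈ C.U) (hz' : z' ∈ C.U) (ha : a ∈ C.F) (ha' : a' ∈ C.F)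
    (h : z * a = z' * a') : z = z' ∧ a = a' := by
  have h1 : z'⁻¹ * z = a' * a⁻¹ := by
    rw [eq_mul_inv_iff_mul_eq, mul_assoc, h, inv_mul_cancel_left]
  have h2 := C.UF _ (mul_mem (inv_mem hz') hz) (h1 ▸ mul_mem ha' (inv_mem ha))
  have h3 := (inv_mul_eq_one.1 h2).symm
  subst h3
  exact ⟨rfl, mul_left_cancel h⟩

theorem card_E : Nat.card C.E = Nat.card C.U * Nat.card C.F := by
  rw [← Nat.card_prod]
  refine (Nat.card_eq_of_bijective
    (fun p : ↥C.U × ↥C.F => (⟨(p.1 : X) * p.2, p.1, p.1.2, p.2, p.2.2, rfl⟩ : ↥C.E)) ⟨?_, ?_⟩).symm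
  · rintro ⟨z, a⟩ ⟨z', a'⟩ h
    obtain ⟨h1, h2⟩ := C.decomp z.2 z'.2 a.2 a'.2 (congrArg Subtype.val h)
    exact Prod.ext (Subtype.ext h1) (Subtype.ext h2)
  · rintro ⟨m, z, hz, a, ha, rfl⟩
    exact ⟨(⟨z, hz⟩, ⟨a, ha⟩), rfl⟩

theorem E_x {m : X} (hm : m ∈ C.E) : Commute m C.x := by
  obtain ⟨z, hz, a, ha, rfl⟩ := hm
  exact Commute.mul_left (C.xU z hz) (C.xF a ha)

theorem U_pGroup [Finite X] : IsPGroup 3 C.U := fun z => ⟨1, Subtype.ext (by
  rw [Subgroup.coe_pow, pow_one]; exact C.U3 z z.2)⟩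

theorem E_odd [Finite X] : Odd (Nat.card C.E) := by
  haveI : Fact (Nat.Prime 3) := ⟨Nat.prime_three⟩
  obtain ⟨n, hn⟩ := IsPGroup.iff_card.1 C.U_pGroup
  rw [C.card_E, hn]
  exact (Odd.pow (by decide)).mul C.Fodd

theorem E_pow [Finite X] {m : X} (hm : m ∈ C.E) : m ^ Nat.card C.E = 1 :=
  congrArg Subtype.val (pow_card_eq_one' (x := (⟨m, hm⟩ : ↥C.E)))

theorem cent_x' {m : X} (h : m * C.x = C.x * m) : m ∈ C.E ∨ C.x * m ∈ C.E := by
  obtain ⟨z, hz, a, ha, e | e⟩ := C.cent_x m h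
  · exact Or.inl ⟨z, hz, a, ha, e⟩
  · exact Or.inr ⟨z, hz, a, ha, by rw [e, ← mul_assoc, C.x_sq, one_mul]⟩

theorem two_cent [Finite X] {m : X} (h : m * C.x = C.x * m) (h2 : ∃ k, m ^ 2 ^ k = 1) : m = 1 ∨ m = C.x := by
  obtain ⟨k, hk⟩ := h2
  rcases C.cent_x' h with he | he
  · exact Or.inl (eq_one_of_two_odd ⟨k, hk⟩ C.E_odd (C.E_pow he))
  · right
    have h2' : (C.x * m) ^ 2 ^ (k + 1) = 1 := by
      rw [(show Commute C.x m from h.symm).mul_pow, pow_succ' 2 k, pow_mul, pow_two, C.x_sq, one_pow, one_mul,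
        mul_comm, pow_mul, hk, one_pow]
    have h1 := eq_one_of_two_odd ⟨k + 1, h2'⟩ C.E_odd (C.E_pow he)
    exact (eq_inv_of_mul_eq_one_right h1).trans (inv_eq_of_mul_eq_one_left C.x_sq)

theorem exists_sylow [Finite X] : ∃ R : Sylow 2 X, (R : Subgroup X) = zpowers C.x := by
  haveI : Fact (Nat.Prime 2) := ⟨Nat.prime_two⟩
  have hxp : IsPGroup 2 (zpowers C.x) := IsPGroup.of_card (n := 1) (by rw [Nat.card_zpowers, C.hx, pow_one])
  obtain ⟨R, hR⟩ := hxp.exists_le_sylow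
  refine ⟨R, le_antisymm (fun v hv => ?_) hR⟩
  haveI : Nontrivial ↥(R : Subgroup X) :=
    ⟨⟨⟨C.x, hR (mem_zpowers _)⟩, 1, fun e => C.x_ne (congrArg Subtype.val e)⟩⟩
  haveI := R.isPGroup'.center_nontrivial
  obtain ⟨z, hz⟩ := exists_ne (1 : ↥(center ↥(R : Subgroup X)))
  have hpow : ∀ a ∈ (R : Subgroup X), ∃ k, a ^ 2 ^ k = 1 := fun a ha => by
    obtain ⟨k, hk⟩ := R.isPGroup' ⟨a, ha⟩
    exact ⟨k, congrArg Subtype.val hk⟩
  have hzc : ∀ a ∈ (R : Subgroup X), a * ((z : ↥(R : Subgroup X)) : X) = ((z : ↥(R : Subgroup X)) : X) * a :=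
    fun a ha => congrArg Subtype.val (mem_center_iff.1 z.2 ⟨a, ha⟩)
  rcases C.two_cent (hzc _ (hR (mem_zpowers _))).symm (hpow _ (z : ↥(R : Subgroup X)).2) with e | e
  · exact absurd (Subtype.ext (Subtype.ext e)) hz
  · rcases C.two_cent (by rw [← e]; exact hzc v hv) (hpow v hv) with e' | e' <;> rw [e']
    exacts [one_mem _, mem_zpowers _]

theorem solvable [Finite X] : Group.IsSolvable X := by
  haveI : Fact (Nat.Prime 2) := ⟨Nat.prime_two⟩
  obtain ⟨R, hR⟩ := C.exists_sylow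
  refine Transfer.SmallTwo.isSolvable_of_not_four fun h => ?_
  have h1 := R.pow_dvd_card_of_pow_dvd_card (n := 2) h
  rw [hR, Nat.card_zpowers, C.hx] at h1
  exact absurd (Nat.le_of_dvd two_pos h1) (by norm_num)

theorem core_odd [Finite X] [Fact l.Prime] : Odd (Nat.card ↥(Cfsg.pPrimeCore l X)) := by
  haveI : Fact (Nat.Prime 2) := ⟨Nat.prime_two⟩
  haveI := Grp.pPrimeCore_isNormal (p := l) (G := X)
  set M := Cfsg.pPrimeCore l X with hM
  have hxM : C.x ∉ M := by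
    intro hx
    have h1 : C.T * C.x * C.T⁻¹ * C.x⁻¹ ∈ M :=
      mul_mem ((inferInstance : M.Normal).conj_mem _ hx C.T) (inv_mem hx)
    have h2 : C.x * C.T⁻¹ * C.x⁻¹ = C.T := by rw [← conj_inv, C.xT, inv_inv]
    rw [show C.T * C.x * C.T⁻¹ * C.x⁻¹ = C.T * (C.x * C.T⁻¹ * C.x⁻¹) by group, h2] at h1
    refine C.T_sq_ne (eq_one_of_coprime_pow (m := Nat.card ↥M) (n := l) Grp.pPrimeCore_coprime
      (congrArg Subtype.val (pow_card_eq_one' (x := (⟨_, h1⟩ : ↥M)))) ?_)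
    rw [← pow_two, ← pow_mul, mul_comm, pow_mul, C.T_pow, one_pow]
  refine Nat.odd_iff.2 (Nat.two_dvd_ne_zero.1 fun h => ?_)
  obtain ⟨⟨k, hk⟩, hk2⟩ := exists_prime_orderOf_dvd_card' 2 h
  rw [orderOf_mk] at hk2
  obtain ⟨R, hR⟩ := C.exists_sylow
  obtain ⟨c, hc⟩ := Invol.exists_conj_mem_sylow (n := 1) (x := k) (by rw [hk2, pow_one]) R
  replace hc := hR.le hc
  obtain ⟨i, hi⟩ := mem_zpowers_iff.1 hc
  rw [← zpow_mod_orderOf, C.hx] at hi
  have hck : c * k * c⁻¹ ∈ M := (inferInstance : M.Normal).conj_mem _ hk c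
  rcases Int.emod_two_eq_zero_or_one i with e | e <;> simp [e] at hi
  · rw [eq_comm, conj_eq_one_iff] at hi
    rw [hi, orderOf_one] at hk2
    omega
  · exact hxM (hi ▸ hck)

/-- The congruence. -/
theorem congruence [Finite X] :
    ∃ k : ℕ, (k = 1 ∨ k = 3) ∧ ((Nat.card C.U : ZMod l)) ^ 2 = 9 * (k : ZMod l) ^ 2 := by
  classical
  haveI : Fact l.Prime := ⟨C.hl⟩
  haveI : Fact (Nat.Prime 2) := ⟨Nat.prime_two⟩
  haveI : Fact (Nat.Prime 3) := ⟨Nat.prime_three⟩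
  haveI := C.solvable
  haveI hMn := Grp.pPrimeCore_isNormal (p := l) (G := X)
  set M := Cfsg.pPrimeCore l X with hMdef
  have hModd : Odd (Nat.card ↥M) := C.core_odd
  have hMl : (Nat.card ↥M).Coprime l := Grp.pPrimeCore_coprime
  set π := QuotientGroup.mk' M with hπ
  have hker : ∀ m, π m = 1 ↔ m ∈ M := fun m => QuotientGroup.eq_one_iff m
  haveI hLn : (Cfsg.pCore l (X ⧸ M)).Normal := Grp.pCore_isNormal
  set L := Cfsg.pCore l (X ⧸ M) with hLdef
  have hLcc : centralizer (L : Set (X ⧸ M)) ≤ L := Bender.centralizer_pCore_quotient_core M rfl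
  have hLp : ∀ v ∈ L, ∃ k, v ^ l ^ k = 1 := fun v hv => by
    obtain ⟨k, hk⟩ := Grp.pCore_isPGroup (p := l) (G := X ⧸ M) ⟨v, hv⟩
    exact ⟨k, congrArg Subtype.val hk⟩
  set Fc := C.F ⊓ centralizer ({C.T} : Set X) with hFc
  have hmemFc : ∀ a, a ∈ Fc ↔ a ∈ C.F ∧ a * C.T = C.T * a := fun a => by
    rw [hFc, mem_inf, mem_centralizer_singleton_iff]
  have hπc : ∀ a ∈ Fc, ∀ v, Commute (π a) v := fun a ha v => by
    obtain ⟨m, rfl⟩ := QuotientGroup.mk'_surjective M v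
    exact (show Commute a m from C.Fcent a ((hmemFc a).1 ha).1 ((hmemFc a).1 ha).2 m).map π
  have hcentL : ∀ v, (∀ w, Commute v w) → v ∈ L := fun v hv =>
    hLcc (mem_centralizer_iff.2 fun w _ => (hv w).eq.symm)
  set C0 := Fc.map π ⊓ L with hC0
  have hC0c : ∀ c ∈ C0, ∀ v, Commute c v := by
    rintro c ⟨⟨a, ha, rfl⟩, -⟩ v
    exact hπc a ha v
  haveI hC0n : C0.Normal := ⟨fun c hc v => by
    rw [(hC0c c hc v).symm.eq, mul_inv_cancel_right]; exact hc⟩
  haveI hC0cyc : IsCyclic ↥C0 := by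
    haveI := C.Fcyc
    haveI : IsCyclic ↥Fc := isCyclic_of_injective (inclusion (inf_le_left : Fc ≤ C.F)) (inclusion_injective _)
    haveI : IsCyclic ↥(Fc.map π) := isCyclic_of_surjective (π.subgroupMap Fc) (π.subgroupMap_surjective Fc)
    exact isCyclic_of_injective (inclusion (inf_le_left : C0 ≤ Fc.map π)) (inclusion_injective _)
  have hC0p : ∀ c ∈ C0, ∃ k, c ^ l ^ k = 1 := fun c hc => hLp c hc.2
  have hX2 : π C.x * π C.x = 1 := by rw [← map_mul, C.x_sq, map_one]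
  have hX2' : (π C.x)⁻¹ = π C.x := inv_eq_of_mul_eq_one_left hX2
  have hLodd : ∀ v ∈ L, ∀ c, v * v = 1 → c = v → c = 1 := fun v hv c h e => by
    obtain ⟨k, hk⟩ := hLp v hv
    rw [e]
    exact eq_one_of_two_odd ⟨1, by rw [pow_one, pow_two, h]⟩ ((C.hl.odd_of_ne_two C.l2).pow) hk
  -- the exponent of the field part
  obtain ⟨iF, e', he', hFe⟩ := Nat.exists_eq_pow_mul_and_not_dvd (Nat.card_pos (α := ↥C.F)).ne' l C.hl.ne_one
  have hcop' : ∀ k, e'.Coprime (l ^ k) := fun k =>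
    (Nat.Coprime.pow_left k ((C.hl.coprime_iff_not_dvd).2 he')).symm
  have hlFc : ∀ a ∈ C.F, a ^ e' ∈ Fc := fun a ha => (hmemFc _).2 ⟨pow_mem ha _, C.Fl _ (pow_mem ha _) ⟨iF, by
    rw [← pow_mul, mul_comm, ← hFe, C.F_pow ha]⟩⟩
  have hlC0 : ∀ a ∈ C.F, (π a) ^ e' ∈ C0 := fun a ha => by
    rw [← map_pow]
    exact ⟨mem_map_of_mem π (hlFc a ha), hcentL _ (hπc _ (hlFc a ha))⟩
  -- the centraliser of `x` in the radical
  have hxfix : ∀ v ∈ L, Commute v (π C.x) → v ∈ C0 := by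
    intro v hv hc
    have hcop : (Nat.card ↥M).Coprime (Nat.card ↥(zpowers C.x)) := by
      rw [Nat.card_zpowers, C.hx]; exact Nat.coprime_two_right.2 hModd
    have h1 : v ∈ centralizer (((zpowers C.x).map π : Subgroup (X ⧸ M)) : Set (X ⧸ M)) := by
      rw [MonoidHom.map_zpowers]
      refine mem_centralizer_iff.2 fun a ha => ?_
      obtain ⟨i, rfl⟩ := mem_zpowers_iff.1 ha
      exact (hc.zpow_right i).eq.symm
    rw [Grp.QuotNorm.centralizer_map M (zpowers C.x) hcop (Or.inr inferInstance)] at h1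
    obtain ⟨m, hm, rfl⟩ := h1
    have hmx : m * C.x = C.x * m := (mem_centralizer_iff.1 hm _ (mem_zpowers _)).symm
    obtain ⟨z, hz, a, ha, e⟩ := C.cent_x m hmx
    have hzn : ∀ n : ℕ, ∃ z' ∈ C.U, (z * a) ^ n = z' * a ^ n := by
      intro n
      induction n with
      | zero => exact ⟨1, one_mem _, by simp⟩
      | succ n ih =>
        obtain ⟨z', hz', e'⟩ := ih
        refine ⟨z' * (a ^ n * z * (a ^ n)⁻¹), mul_mem hz' (C.Fnorm _ (pow_mem ha n) z hz), ?_⟩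
        rw [pow_succ, pow_succ, e']; group
    have h6 : (z * a) ^ (e' * 6) = (a ^ e') ^ 6 := by
      obtain ⟨z', hz', e1⟩ := hzn e'
      have haFc := (hmemFc _).1 (hlFc a ha)
      rw [pow_mul, e1, (show Commute z' (a ^ e') from (C.Fcent _ haFc.1 haFc.2 z').symm).mul_pow,
        show (6 : ℕ) = 3 * 2 by norm_num, pow_mul z', C.U3 z' hz', one_pow, one_mul]
    have hm6 : m ^ (e' * 6) = (a ^ e') ^ 6 := by
      rcases e with e | e
      · rw [e, h6]
      · rw [e, (show Commute C.x (z * a) from (C.E_x ⟨z, hz, a, ha, rfl⟩).symm).mul_pow, h6,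
          show e' * 6 = 2 * (e' * 3) by ring, pow_mul, pow_two, C.x_sq, one_pow, one_mul]
    obtain ⟨k, hk⟩ := hLp _ hv
    refine mem_of_coprime_pow C0 (m := e' * 6) (n := l ^ k) ?_ hk ?_
    · refine (hcop' k).mul_left (Nat.Coprime.pow_right k ?_)
      rw [show (6 : ℕ) = 2 * 3 by norm_num]
      exact (((Nat.coprime_primes Nat.prime_two C.hl).2 C.l2.symm)).mul_left
        ((Nat.coprime_primes Nat.prime_three C.hl).2 C.l3.symm)
    · rw [← map_pow, hm6, map_pow, map_pow]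
      exact pow_mem (hlC0 a ha) 6
  -- `x` inverts the radical modulo `C0`
  set π₂ := QuotientGroup.mk' C0 with hπ₂
  have hker₂ : ∀ v, π₂ v = 1 ↔ v ∈ C0 := fun v => QuotientGroup.eq_one_iff v
  have hfix₂ : ∀ v ∈ L, π₂ (π C.x * v * (π C.x)⁻¹) = π₂ v → v ∈ C0 := by
    intro v hv e
    set c := v⁻¹ * (π C.x * v * (π C.x)⁻¹) with hcd
    have hc : c ∈ C0 := by rw [← hker₂, hcd, map_mul, map_inv, e, inv_mul_cancel]
    have e1 : π C.x * v * (π C.x)⁻¹ = v * c := by rw [hcd, mul_inv_cancel_left]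
    have e2 := conj_pow_of_central e1 (by rw [(hC0c c hc (π C.x)).symm.eq, mul_inv_cancel_right]) 2
    rw [pow_two, hX2, one_mul, inv_one, mul_one, left_eq_mul] at e2
    obtain ⟨k, hk⟩ := hC0p c hc
    have hc1 : c = 1 := eq_one_of_two_odd ⟨1, by rw [pow_one]; exact e2⟩ ((C.hl.odd_of_ne_two C.l2).pow) hk
    rw [hc1, mul_one] at e1
    exact hxfix v hv (mul_inv_eq_iff_eq_mul.1 e1).symm
  set Lb := L.map π₂ with hLb
  haveI hLbn : Lb.Normal := hLn.map π₂ (QuotientGroup.mk'_surjective C0)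
  have hinvb : ∀ w ∈ Lb, π₂ (π C.x) * w * (π₂ (π C.x))⁻¹ = w⁻¹ := fun w hw =>
    Grp.ThreeOrders.inverts_of_fpf Lb (by rw [← map_mul, hX2, map_one])
      (fun n hn => hLbn.conj_mem n hn _) (by
        rintro _ ⟨v, hv, rfl⟩ h
        refine (hker₂ v).2 (hfix₂ v hv ?_)
        rw [map_mul, map_mul, map_inv, h.symm.eq, mul_inv_cancel_right]) hw
  have hab : ∀ v ∈ L, ∀ w ∈ L, Commute (π₂ v) (π₂ w) := fun v hv w hw =>
    Grp.ThreeOrders.comm_of_inverted Lb hinvb (mem_map_of_mem π₂ hv) (mem_map_of_mem π₂ hw)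
  set T1 := π C.T with hT1
  have hxT1 : π C.x * T1 * (π C.x)⁻¹ = T1⁻¹ := by rw [hT1, ← map_inv, ← map_mul, ← map_mul, C.xT, map_inv]
  have hT1l : T1 ^ l = 1 := by rw [hT1, ← map_pow, C.T_pow, map_one]
  have hT2 : ∀ v ∈ L, Commute (π₂ T1) (π₂ v) := by
    intro v hv
    set a := π₂ T1
    set b := π₂ v
    set y := π₂ (π C.x)
    have hb : y * b * y⁻¹ = b⁻¹ := hinvb _ (mem_map_of_mem π₂ hv)
    have hab' : y * (a * b * a⁻¹) * y⁻¹ = (a * b * a⁻¹)⁻¹ :=
      hinvb _ (hLbn.conj_mem _ (mem_map_of_mem π₂ hv) a)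
    have ha : y * a * y⁻¹ = a⁻¹ := by rw [← map_inv, ← map_mul, ← map_mul, hxT1, map_inv]
    rw [← conj_mul, ← conj_mul, ha, hb, ← conj_inv, ha, inv_inv] at hab'
    have h1 : Commute (a * a) b⁻¹ := by
      show a * a * b⁻¹ = b⁻¹ * (a * a)
      calc a * a * b⁻¹ = a * (a * b * a⁻¹)⁻¹ * a := by group
        _ = a * (a⁻¹ * b⁻¹ * a) * a := by rw [hab']
        _ = b⁻¹ * (a * a) := by group
    exact commute_of_sq (Commute.inv_right_iff.1 h1) (C.hl.odd_of_ne_two C.l2) (by rw [← map_pow, hT1l, map_one])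
  -- `T` lies in the radical
  set D := (centralizer (Lb : Set ((X ⧸ M) ⧸ C0))).comap π₂ with hDdef
  have hDl : ∀ γ ∈ D, ¬ l ∣ orderOf γ → γ = 1 := by
    intro γ hγ hnd
    have hcn : ∀ k, (orderOf γ).Coprime (l ^ k) := fun k =>
      (Nat.Coprime.pow_left k ((C.hl.coprime_iff_not_dvd).2 hnd)).symm
    have hγc : γ ∈ centralizer (L : Set (X ⧸ M)) := by
      refine mem_centralizer_iff.2 fun v hv => ?_
      set c := v⁻¹ * (γ * v * γ⁻¹) with hcd
      have hc : c ∈ C0 := by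
        rw [← hker₂, hcd, map_mul, map_inv, map_mul, map_mul, map_inv,
          ← mem_centralizer_iff.1 (mem_comap.1 hγ) _ (mem_map_of_mem π₂ hv)]
        group
      have e1 : γ * v * γ⁻¹ = v * c := by rw [hcd, mul_inv_cancel_left]
      have e2 := conj_pow_of_central e1 (by rw [(hC0c c hc γ).symm.eq, mul_inv_cancel_right]) (orderOf γ)
      rw [pow_orderOf_eq_one, one_mul, inv_one, mul_one, left_eq_mul] at e2
      obtain ⟨k, hk⟩ := hC0p c hc
      rw [eq_one_of_coprime_pow (hcn k) e2 hk, mul_one] at e1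
      exact (mul_inv_eq_iff_eq_mul.1 e1).symm
    obtain ⟨k, hk⟩ := hLp γ (hLcc hγc)
    exact eq_one_of_coprime_pow (hcn k) (pow_orderOf_eq_one γ) hk
  have hDp : IsPGroup l ↥D := by
    rintro ⟨γ, hγ⟩
    obtain ⟨i, m, hm, e⟩ := Nat.exists_eq_pow_mul_and_not_dvd (orderOf_pos γ).ne' l C.hl.ne_one
    refine ⟨i, Subtype.ext (hDl _ (pow_mem hγ _) ?_)⟩
    have : orderOf (γ ^ l ^ i) ∣ m := orderOf_dvd_of_pow_eq_one (by rw [← pow_mul, ← e, pow_orderOf_eq_one])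
    exact fun h => hm (h.trans this)
  have hT1L : T1 ∈ L := by
    haveI : (centralizer (Lb : Set ((X ⧸ M) ⧸ C0))).Normal := inferInstance
    refine Grp.le_pCore (p := l) (this.comap π₂) hDp (mem_comap.2 (mem_centralizer_iff.2 ?_))
    rintro _ ⟨v, hv, rfl⟩
    exact (hT2 v hv).eq.symm
  have hT1C0 : T1 ∉ C0 := fun h => by
    have h1 := hxT1
    rw [(hC0c _ h (π C.x)).symm.eq, mul_inv_cancel_right] at h1
    have h2 : C.T * C.T ∈ M := by
      rw [← hker, map_mul, ← hT1]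
      nth_rewrite 1 [h1]
      exact inv_mul_cancel T1
    exact C.T_sq_ne (eq_one_of_coprime_pow hMl (congrArg Subtype.val (pow_card_eq_one' (x := (⟨_, h2⟩ : ↥M))))
      (by rw [← pow_two, ← pow_mul, mul_comm, pow_mul, C.T_pow, one_pow]))
  have hT1o : orderOf T1 = l := by
    refine orderOf_eq_prime hT1l fun e => hT1C0 ?_
    rw [e]; exact one_mem _
  -- the image of `g`
  have hg1 : π C.g = 1 := by
    obtain ⟨k, hk⟩ := hLp _ (hcentL (π C.g) fun v => by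
      obtain ⟨m, rfl⟩ := QuotientGroup.mk'_surjective M v
      exact (show Commute C.g m from C.gc m).map π)
    exact eq_one_of_coprime_pow (((Nat.coprime_primes Nat.prime_three C.hl).2 C.l3.symm).pow_right k)
      (by rw [← map_pow, C.g3, map_one]) hk
  -- the centraliser of `T` in the radical
  have hF2 : ∀ w ∈ L, Commute w T1 → w ^ l ∈ C0 → w ∈ zpowers T1 ⊔ C0 := by
    intro w hw hwT hwl
    have hcop : (Nat.card ↥M).Coprime (Nat.card ↥(zpowers C.T)) := by rw [Nat.card_zpowers, C.hTl]; exact hMl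
    have h1 : w ∈ centralizer (((zpowers C.T).map π : Subgroup (X ⧸ M)) : Set (X ⧸ M)) := by
      rw [MonoidHom.map_zpowers]
      refine mem_centralizer_iff.2 fun a ha => ?_
      obtain ⟨i, rfl⟩ := mem_zpowers_iff.1 ha
      exact (hwT.zpow_right i).eq.symm
    rw [Grp.QuotNorm.centralizer_map M (zpowers C.T) hcop (Or.inr inferInstance)] at h1
    obtain ⟨m, hm, hmw⟩ := h1
    obtain ⟨y, hy, a, ha, haT, i, e⟩ := C.cent_T m (mem_centralizer_iff.1 hm _ (mem_zpowers _)).symm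
    have hwe : w = π y * π a := by rw [← hmw, e, map_mul, map_mul, map_pow, hg1, one_pow, mul_one]
    have hca : Commute (π y) (π a) := (hπc a ((hmemFc a).2 ⟨ha, haT⟩) _).symm
    set z := π y ^ e' with hz
    have hz' : z = w ^ e' * ((π a) ^ e')⁻¹ := by rw [hz, hwe, hca.mul_pow, mul_inv_cancel_right]
    have hzl : z ^ l ∈ C0 := by
      rw [hz', (hC0c _ (inv_mem (hlC0 a ha)) (w ^ e')).symm.mul_pow, ← pow_mul, mul_comm, pow_mul]
      exact mul_mem (pow_mem hwl _) (pow_mem (inv_mem (hlC0 a ha)) _)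
    have hxz : π C.x * z * (π C.x)⁻¹ = z⁻¹ := by
      rw [hz, ← conj_pow, ← map_inv, ← map_mul, ← map_mul, C.xY y hy, map_inv, inv_pow]
    have hzl1 : z ^ l = 1 := by
      have h2 : π C.x * z ^ l * (π C.x)⁻¹ = (z ^ l)⁻¹ := by rw [← conj_pow, hxz, inv_pow]
      rw [(hC0c _ hzl (π C.x)).symm.eq, mul_inv_cancel_right] at h2
      refine hLodd _ hzl.2 _ ?_ rfl
      nth_rewrite 1 [h2]
      exact inv_mul_cancel _
    haveI := C.Ycyc
    haveI : IsCyclic ↥(C.Y.map π) := isCyclic_of_surjective (π.subgroupMap C.Y) (π.subgroupMap_surjective C.Y)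
    have hzT : z ∈ zpowers T1 := mem_zpowers_of_cyclic C.hl (mem_map_of_mem π C.TY)
      (by rw [hz, ← map_pow]; exact mem_map_of_mem π (pow_mem hy _)) hT1o hzl1
    have hwe' : w ^ e' ∈ zpowers T1 ⊔ C0 := by
      rw [show w ^ e' = z * (π a) ^ e' by rw [hz', inv_mul_cancel_right]]
      exact mul_mem (mem_sup_left hzT) (mem_sup_right (hlC0 a ha))
    obtain ⟨k, hk⟩ := hLp w hw
    exact mem_of_coprime_pow _ (hcop' k) hk hwe'
  -- the stabiliser of `T` in `U`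
  have hTX : zpowers C.x ≤ normalizer ((zpowers C.T : Subgroup X) : Set X) := by
    refine zpowers_le.2 (mem_normalizer_fintype fun a ha => ?_)
    obtain ⟨i, rfl⟩ := mem_zpowers_iff.1 ha
    rw [← conj_zpow, C.xT]
    exact zpow_mem (inv_mem (mem_zpowers _)) i
  have hcopTX : (Nat.card ↥M).Coprime (Nat.card ↥(zpowers C.T ⊔ zpowers C.x)) := by
    refine Nat.Coprime.symm ?_
    rw [sup_comm]
    refine Grp.card_sup_coprime_to hTX ?_ ?_
    · rw [Nat.card_zpowers, C.hx]; exact Nat.coprime_two_left.2 hModd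
    · rw [Nat.card_zpowers, C.hTl]; exact hMl.symm
  have hsolTX : Group.IsSolvable ↥M ∨ Group.IsSolvable ↥(zpowers C.T ⊔ zpowers C.x) := Or.inl inferInstance
  have hU3 : ∀ z ∈ C.U, π z ^ 3 = 1 := fun z hz => by rw [← map_pow, C.U3 z hz, map_one]
  have hstab : ∀ z ∈ C.U, Commute (π z) T1 → π z = 1 := by
    intro z hz hc
    have h1 : π z ∈ centralizer (((zpowers C.T ⊔ zpowers C.x).map π : Subgroup (X ⧸ M)) : Set (X ⧸ M)) := by
      rw [Subgroup.map_sup, MonoidHom.map_zpowers, MonoidHom.map_zpowers, Transfer.FrobFix.centralizer_sup]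
      refine ⟨mem_centralizer_iff.2 fun a ha => ?_, mem_centralizer_iff.2 fun a ha => ?_⟩ <;>
        obtain ⟨i, rfl⟩ := mem_zpowers_iff.1 ha
      · exact (hc.zpow_right i).eq.symm
      · exact (((show Commute z C.x from C.xU z hz).map π).zpow_right i).eq.symm
    rw [Grp.QuotNorm.centralizer_map M _ hcopTX hsolTX] at h1
    obtain ⟨m, hm, hmz⟩ := h1
    obtain ⟨a, ha, haT, i, e⟩ := C.cent_Tx (mem_centralizer_iff.1 hm _ (mem_sup_left (mem_zpowers _))).symm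
      (mem_centralizer_iff.1 hm _ (mem_sup_right (mem_zpowers _))).symm
    have hza : π z = π a := by rw [← hmz, e, map_mul, map_pow, hg1, one_pow, mul_one]
    obtain ⟨k, hk⟩ := hLp _ (hcentL (π z) (hza ▸ hπc a ((hmemFc a).2 ⟨ha, haT⟩)))
    exact eq_one_of_coprime_pow (((Nat.coprime_primes Nat.prime_three C.hl).2 C.l3.symm).pow_right k)
      (hU3 z hz) hk
  -- the fixed points of `U` on the radical
  have hK1 : ∀ z ∈ C.U, π z ≠ 1 → ∀ v ∈ L, Commute (π z) v → v ∈ C0 := by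
    intro z hz hz1
    suffices hbase : ∀ v ∈ L, Commute (π z) v → v ^ l ∈ C0 → v ∈ C0 by
      have hind : ∀ i : ℕ, ∀ v ∈ L, Commute (π z) v → v ^ l ^ i ∈ C0 → v ∈ C0 := by
        intro i
        induction i with
        | zero => intro v _ _ h; rwa [pow_zero, pow_one] at h
        | succ i ih =>
          intro v hv hc h
          exact hbase v hv hc (ih _ (pow_mem hv l) (hc.pow_right l) (by rwa [← pow_mul, ← pow_succ']))
      intro v hv hc
      obtain ⟨k, hk⟩ := hLp v hv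
      exact hind k v hv hc (by rw [hk]; exact one_mem _)
    intro v hv hzv hvl
    by_contra hv0
    have hnc : ¬ Commute (π z) T1 := fun h => hz1 (hstab z hz h)
    set Z := π z with hZ
    set γ := v * T1 * v⁻¹ * T1⁻¹ with hγd
    have hγ : γ ∈ C0 := by
      rw [← hker₂, hγd, map_mul, map_mul, map_mul, map_inv, map_inv, (hT2 v hv).symm.eq, mul_inv_cancel_right,
        mul_inv_cancel]
    have hvT : v * T1 * v⁻¹ = γ * T1 := by rw [hγd, inv_mul_cancel_right]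
    have hγl : γ ^ l = 1 := by
      have h1 := congrArg (· ^ l) hvT
      simp only [(hC0c γ hγ T1).mul_pow, conj_pow, hT1l, mul_one, mul_inv_cancel] at h1
      exact h1.symm
    by_cases hγ1 : γ = 1
    · have hc : Commute v T1 := by
        rw [hγ1, one_mul] at hvT
        exact mul_inv_eq_iff_eq_mul.1 hvT
      obtain ⟨a, ha, c, hc0, e⟩ := mem_sup_of_normal_right.1 (hF2 v hv hc hvl)
      refine hv0 ?_
      obtain ⟨n, rfl⟩ := mem_zpowers_iff.1 ha
      have hZa : Commute Z (T1 ^ n) := by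
        rw [show T1 ^ n = v * c⁻¹ by rw [← e, mul_inv_cancel_right]]
        exact hzv.mul_right (hC0c _ (inv_mem hc0) Z).symm
      by_cases hn : T1 ^ n = 1
      · rw [← e, hn, one_mul]; exact hc0
      · exfalso
        have hord : orderOf (T1 ^ n) = l :=
          orderOf_eq_prime (by rw [← zpow_natCast, ← zpow_mul, mul_comm, zpow_mul, zpow_natCast, hT1l, one_zpow]) hn
        have hmem : T1 ∈ zpowers (T1 ^ n) :=
          mem_zpowers_of_cyclic (H := zpowers T1) C.hl (zpow_mem (mem_zpowers _) n) (mem_zpowers _) hord hT1l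
        obtain ⟨j, hj⟩ := mem_zpowers_iff.1 hmem
        exact hnc (hj ▸ hZa.zpow_right j)
    have hγo : orderOf γ = l := orderOf_eq_prime hγl hγ1
    set w := Z * T1 * Z⁻¹ with hw
    have hwL : w ∈ L := hLn.conj_mem _ hT1L Z
    have hvw : v * w * v⁻¹ = γ * w := by
      have hZv : v * Z = Z * v := hzv.eq.symm
      calc v * w * v⁻¹ = (v * Z) * T1 * (v * Z)⁻¹ := by rw [hw]; group
        _ = Z * (v * T1 * v⁻¹) * Z⁻¹ := by rw [hZv]; group
        _ = (Z * γ) * T1 * Z⁻¹ := by rw [hvT]; group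
        _ = γ * w := by rw [(hC0c γ hγ Z).symm.eq, hw]; group
    set q := w * T1⁻¹ with hq
    have hqL : q ∈ L := mul_mem hwL (inv_mem hT1L)
    have hvq : v * q * v⁻¹ = q := by
      rw [hq, ← conj_mul, hvw, ← conj_inv, hvT, mul_inv_rev, mul_assoc γ, ← mul_assoc w,
        (hC0c _ (inv_mem hγ) (w * T1⁻¹)).symm.eq, mul_inv_cancel_left]
    set δ := T1 * q * T1⁻¹ * q⁻¹ with hδd
    have hδ : δ ∈ C0 := by
      rw [← hker₂, hδd, map_mul, map_mul, map_mul, map_inv, map_inv, (hT2 q hqL).eq, mul_inv_cancel_right,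
        mul_inv_cancel]
    have hTq : T1 * q * T1⁻¹ = q * δ := by
      rw [← (hC0c δ hδ q).eq, hδd, inv_mul_cancel_right]
    have hδl : δ ^ l = 1 := by
      have h1 := conj_pow_of_central hTq (by rw [(hC0c δ hδ T1).symm.eq, mul_inv_cancel_right]) l
      rw [hT1l, one_mul, inv_one, mul_one, left_eq_mul] at h1
      exact h1
    obtain ⟨b, hb⟩ := mem_zpowers_iff.1 (mem_zpowers_of_cyclic C.hl hγ hδ hγo hδl)
    have hTv : T1 * v * T1⁻¹ = γ⁻¹ * v := by
      calc T1 * v * T1⁻¹ = γ⁻¹ * (γ * T1) * v * T1⁻¹ := by group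
        _ = γ⁻¹ * (v * T1 * v⁻¹) * v * T1⁻¹ := by rw [hvT]
        _ = γ⁻¹ * v := by group
    have hTvb : T1 * v ^ b * T1⁻¹ = δ⁻¹ * v ^ b := by
      rw [← conj_zpow, hTv, (hC0c _ (inv_mem hγ) v).mul_zpow, inv_zpow, hb]
    set q' := q * v ^ b with hq'
    have hq'L : q' ∈ L := mul_mem hqL (zpow_mem hv b)
    have hq'T : Commute q' T1 := by
      refine (mul_inv_eq_iff_eq_mul.1 ?_).symm
      rw [hq', ← conj_mul, hTq, hTvb, mul_assoc, mul_inv_cancel_left]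
    have hq'l : q' ^ l ∈ C0 := by
      rw [← hker₂, map_pow, hq', map_mul, (hab q hqL _ (zpow_mem hv b)).mul_pow, hq, map_mul,
        (hab w hwL _ (inv_mem hT1L)).mul_pow, ← map_pow, ← map_pow, ← map_pow, inv_pow, hT1l, inv_one, map_one,
        mul_one, hw, conj_pow, hT1l, mul_one, mul_inv_cancel, map_one, one_mul,
        show (v ^ b) ^ l = (v ^ l) ^ b by rw [← zpow_natCast, ← zpow_mul, mul_comm, zpow_mul, zpow_natCast],
        hker₂]
      exact zpow_mem hvl b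
    obtain ⟨a, ha, c, hc0, e⟩ := mem_sup_of_normal_right.1 (hF2 q' hq'L hq'T hq'l)
    obtain ⟨n, rfl⟩ := mem_zpowers_iff.1 ha
    have hq'v : v * q' * v⁻¹ = q' := by
      rw [hq', ← conj_mul, hvq, (Commute.self_zpow v b).eq, mul_inv_cancel_right]
    have hTn : T1 ^ n = 1 := by
      have h1 : v * (T1 ^ n * c) * v⁻¹ = T1 ^ n * c := by rw [e]; exact hq'v
      rw [← conj_mul, ← conj_zpow, hvT, (hC0c c hc0 v).symm.eq, mul_inv_cancel_right,
        (hC0c γ hγ T1).mul_zpow] at h1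
      have h2 : γ ^ n = 1 := mul_eq_right.1 (mul_right_cancel h1)
      have h3 : (l : ℤ) ∣ n := hγo ▸ orderOf_dvd_iff_zpow_eq_one.2 h2
      obtain ⟨n', rfl⟩ := h3
      rw [zpow_mul, zpow_natCast, hT1l, one_zpow]
    rw [hTn, one_mul] at e
    have hwe : w = c * (v ^ b)⁻¹ * T1 := by
      rw [e, hq', mul_inv_cancel_right, hq, inv_mul_cancel_right]
    -- in the quotient
    set V := π₂ (v ^ b) with hV
    have hW : π₂ Z * π₂ T1 * (π₂ Z)⁻¹ = π₂ T1 * V⁻¹ := by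
      rw [← map_inv, ← map_mul, ← map_mul, ← hw, hwe, map_mul, map_mul, (hker₂ c).2 hc0, one_mul, map_inv,
        ← hV]
      exact ((hT2 _ (zpow_mem hv b)).symm.inv_left).eq
    have hZV : π₂ Z * V⁻¹ * (π₂ Z)⁻¹ = V⁻¹ := by
      rw [hV, ← map_inv, ← map_inv, ← map_mul, ← map_mul, ((hzv.zpow_right b).inv_right).eq, mul_inv_cancel_right]
    have h3 := conj_pow_of_central hW hZV 3
    rw [← map_pow, hZ, hU3 z hz, map_one, one_mul, inv_one, mul_one, left_eq_mul, inv_pow, inv_eq_one] at h3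
    have hVl : V ^ l = 1 := by
      rw [hV, ← map_pow, hker₂, show (v ^ b) ^ l = (v ^ l) ^ b by
        rw [← zpow_natCast, ← zpow_mul, mul_comm, zpow_mul, zpow_natCast]]
      exact zpow_mem hvl b
    have hvb : v ^ b ∈ C0 :=
      (hker₂ _).1 (eq_one_of_coprime_pow ((Nat.coprime_primes Nat.prime_three C.hl).2 C.l3.symm) h3 hVl)
    set c' := c * (v ^ b)⁻¹ with hc'd
    have hc' : c' ∈ C0 := mul_mem hc0 (inv_mem hvb)
    have hwc : Z * T1 * Z⁻¹ = T1 * c' := by rw [← hw, hwe, (hC0c c' hc' T1).eq]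
    have h4 := conj_pow_of_central hwc (by rw [(hC0c c' hc' Z).symm.eq, mul_inv_cancel_right]) 3
    rw [hZ, hU3 z hz, one_mul, inv_one, mul_one, left_eq_mul] at h4
    obtain ⟨k, hk⟩ := hC0p c' hc'
    rw [eq_one_of_coprime_pow (((Nat.coprime_primes Nat.prime_three C.hl).2 C.l3.symm).pow_right k) h4 hk,
      mul_one] at hwc
    exact hnc (mul_inv_eq_iff_eq_mul.1 hwc)
  -- the image of `U` has order at most three
  set Ub := C.U.map π with hUb
  have hUbp : IsPGroup 3 ↥Ub := C.U_pGroup.map π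
  haveI hUbc : IsMulCommutative ↥Ub := ⟨⟨fun a b => by
    obtain ⟨z, hz, ez⟩ := a.2
    obtain ⟨z', hz', ez'⟩ := b.2
    refine Subtype.ext ?_
    show (a : X ⧸ M) * b = b * a
    rw [← ez, ← ez', ← map_mul, ← map_mul, C.Ucomm z hz z' hz']⟩⟩
  have hUcyc : IsCyclic ↥Ub := by
    by_contra hnc
    refine hT1C0 ?_
    have hLC : L ≤ C0 := by
      rw [← Grp.generated_by_centralizers Ub L hnc (by rw [Subgroup.normalizer_eq_top]; exact le_top)
        (IsPGroup.coprime_card_of_ne 3 l (fun e => C.l3 e.symm) _ _ hUbp Grp.pCore_isPGroup)]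
      refine iSup₂_le fun a ha v hv => ?_
      obtain ⟨⟨z, hz, rfl⟩, ha1⟩ := ha
      exact hK1 z hz ha1 v hv.1 (show Commute v (π z) from mem_centralizer_singleton_iff.1 hv.2).symm
    exact hLC hT1L
  have hUb3 : Nat.card ↥Ub ≤ 3 := by
    obtain ⟨a, ha⟩ := hUcyc.exists_ofOrder_eq_natCard
    rw [← ha]
    refine Nat.le_of_dvd (by norm_num) (orderOf_dvd_of_pow_eq_one (Subtype.ext ?_))
    obtain ⟨z, hz, ez⟩ := a.2
    rw [Subgroup.coe_pow, ← ez]
    exact hU3 z hz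
  -- the fixed point formula
  have hUT : IsPGroup l ↥(zpowers C.T) := IsPGroup.of_card (n := 1) (by rw [Nat.card_zpowers, C.hTl, pow_one])
  have hfpf : ∀ e ∈ zpowers C.x, e ≠ 1 → ∀ u ∈ zpowers C.T, e * u = u * e → u = 1 := by
    intro e he he1 u hu hc
    have hex : e = C.x := by
      obtain ⟨i, rfl⟩ := mem_zpowers_iff.1 he
      rw [← zpow_mod_orderOf, C.hx] at he1 ⊢
      rcases Int.emod_two_eq_zero_or_one i with e | e
      · simp [e] at he1
      · simp [e]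
    rw [hex] at hc
    obtain ⟨i, rfl⟩ := mem_zpowers_iff.1 hu
    have h1 : C.x * C.T ^ i * C.x⁻¹ = (C.T ^ i)⁻¹ := by rw [← conj_zpow, C.xT, inv_zpow]
    rw [hc, mul_inv_cancel_right] at h1
    refine eq_one_of_two_odd ⟨1, ?_⟩ (C.hl.odd_of_ne_two C.l2) ?_
    · rw [pow_one, pow_two]; nth_rewrite 1 [h1]; exact inv_mul_cancel _
    · rw [← zpow_natCast, ← zpow_mul, mul_comm, zpow_mul, zpow_natCast, C.T_pow, one_zpow]
  have hMtop : ∀ H : Subgroup X, H ≤ normalizer (M : Set X) := fun H => by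
    rw [Subgroup.normalizer_eq_top]; exact le_top
  have hform := Transfer.FrobFix.fixed_formula (zpowers C.T) (zpowers C.x) M (hMtop _) hTX hfpf inferInstance
    inferInstance hcopTX
  have hEeq : M ⊓ centralizer ((zpowers C.x : Subgroup X) : Set X) = M ⊓ C.E := by
    ext m
    constructor
    · rintro ⟨hm, hc⟩
      refine ⟨hm, ?_⟩
      have hmx : m * C.x = C.x * m := (mem_centralizer_iff.1 hc _ (mem_zpowers _)).symm
      refine (C.cent_x' hmx).resolve_right fun he => C.x_ne ?_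
      have h1 : m ^ Nat.card ↥M = 1 := congrArg Subtype.val (pow_card_eq_one' (x := (⟨m, hm⟩ : ↥M)))
      have h2 : (C.x * m) ^ Nat.card ↥M = C.x := by
        obtain ⟨j, hj⟩ := hModd
        rw [(show Commute C.x m from hmx.symm).mul_pow, h1, mul_one, hj, pow_succ, pow_mul, pow_two, C.x_sq,
          one_pow, one_mul]
      exact eq_one_of_two_odd ⟨1, by rw [pow_one, pow_two, C.x_sq]⟩ C.E_odd
        (C.E_pow (h2 ▸ pow_mem he _))
    · rintro ⟨hm, he⟩
      refine ⟨hm, mem_centralizer_iff.2 fun e he' => ?_⟩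
      obtain ⟨i, rfl⟩ := mem_zpowers_iff.1 he'
      exact ((C.E_x he).zpow_right i).eq.symm
  have hgM : C.g ∈ M := (hker _).1 hg1
  have hgT : Commute C.g C.T := C.gc _
  have hgx : Commute C.g C.x := C.gc _
  have hgo : orderOf C.g = 3 := orderOf_eq_prime C.g3 C.g1
  have hA : Nat.card ↥(M ⊓ centralizer ((zpowers C.T ⊔ zpowers C.x : Subgroup X) : Set X)) =
      3 * Nat.card ↥(M ⊓ C.F) := by
    have hmem : ∀ p : ↥(zpowers C.g) × ↥(M ⊓ C.F), (p.1 : X) * (p.2 : X) ∈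
        M ⊓ centralizer ((zpowers C.T ⊔ zpowers C.x : Subgroup X) : Set X) := by
      rintro ⟨⟨h, hh⟩, ⟨a, haM, haF⟩⟩
      obtain ⟨i, rfl⟩ := mem_zpowers_iff.1 hh
      have haT : Commute a C.T := by
        obtain ⟨j, hj⟩ := mem_zpowers_iff.1 (C.Fpow a haF)
        have h1 : a * C.T * a⁻¹ * C.T⁻¹ ∈ M := by
          rw [show a * C.T * a⁻¹ * C.T⁻¹ = a * (C.T * a⁻¹ * C.T⁻¹) by group]
          exact mul_mem haM (hMn.conj_mem _ (inv_mem haM) C.T)
        have h2 : a * C.T * a⁻¹ * C.T⁻¹ = 1 := by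
          refine eq_one_of_coprime_pow hMl (congrArg Subtype.val (pow_card_eq_one' (x := (⟨_, h1⟩ : ↥M)))) ?_
          rw [← hj, show C.T ^ j * C.T⁻¹ = C.T ^ (j - 1) by rw [zpow_sub_one], ← zpow_natCast, ← zpow_mul, mul_comm,
            zpow_mul, zpow_natCast, C.T_pow, one_zpow]
        exact mul_inv_eq_iff_eq_mul.1 (mul_inv_eq_one.1 h2)
      refine ⟨mul_mem (zpow_mem hgM i) haM, ?_⟩
      rw [Transfer.FrobFix.centralizer_sup]
      refine ⟨mem_centralizer_iff.2 fun v hv => ?_, mem_centralizer_iff.2 fun v hv => ?_⟩ <;>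
        obtain ⟨n, rfl⟩ := mem_zpowers_iff.1 hv
      · exact (((hgT.zpow_left i).mul_left haT).zpow_right n).eq.symm
      · exact (((hgx.zpow_left i).mul_left (C.xF a haF)).zpow_right n).eq.symm
    rw [show (3 : ℕ) = Nat.card ↥(zpowers C.g) by rw [Nat.card_zpowers, hgo], ← Nat.card_prod]
    refine (Nat.card_eq_of_bijective (fun p => (⟨_, hmem p⟩ : ↥(M ⊓ centralizer _))) ⟨?_, ?_⟩).symm
    · rintro ⟨⟨h, hh⟩, ⟨a, haM, haF⟩⟩ ⟨⟨h', hh'⟩, ⟨a', haM', haF'⟩⟩ e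
      obtain ⟨h1, h2⟩ := C.decomp (zpowers_le.2 C.gU hh) (zpowers_le.2 C.gU hh') haF haF'
        (congrArg Subtype.val e)
      exact Prod.ext (Subtype.ext h1) (Subtype.ext h2)
    · rintro ⟨m, hm, hc⟩
      obtain ⟨a, ha, -, i, e⟩ := C.cent_Tx (mem_centralizer_iff.1 hc _ (mem_sup_left (mem_zpowers _))).symm
        (mem_centralizer_iff.1 hc _ (mem_sup_right (mem_zpowers _))).symm
      have haM : a ∈ M := by
        have h1 := M.mul_mem hm (M.inv_mem (M.pow_mem hgM i))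
        rwa [e, mul_inv_cancel_right] at h1
      refine ⟨(⟨C.g ^ i, npow_mem_zpowers _ _⟩, ⟨a, haM, ha⟩), Subtype.ext ?_⟩
      show C.g ^ i * a = m
      rw [e, ((show Commute C.g a from C.gc a).pow_left i).eq]
  have hEc := Grp.SameOrder.card_map_mk M C.E
  have hFc' := Grp.SameOrder.card_map_mk M C.F
  have hQR : C.F.map π ≤ C.E.map π := map_mono fun a ha => ⟨1, one_mem _, a, ha, (one_mul a).symm⟩
  obtain ⟨k, hk⟩ := card_dvd_of_le hQR
  have hk3 : k ≤ 3 := by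
    have hle : Nat.card ↥(C.E.map π) ≤ Nat.card ↥Ub * Nat.card ↥(C.F.map π) := by
      rw [← Nat.card_prod]
      refine Nat.card_le_card_of_surjective (fun p : ↥Ub × ↥(C.F.map π) =>
        (⟨(p.1 : X ⧸ M) * (p.2 : X ⧸ M), ?_⟩ : ↥(C.E.map π))) ?_
      · obtain ⟨z, hz, ez⟩ := p.1.2
        obtain ⟨a, ha, ea⟩ := p.2.2
        exact ⟨z * a, ⟨z, hz, a, ha, rfl⟩, by rw [map_mul, ez, ea]⟩
      · rintro ⟨_, _, ⟨z, hz, a, ha, rfl⟩, rfl⟩
        exact ⟨(⟨π z, mem_map_of_mem π hz⟩, ⟨π a, mem_map_of_mem π ha⟩), Subtype.ext (map_mul π z a).symm⟩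
    rw [hk, mul_comm (Nat.card ↥Ub)] at hle
    exact (Nat.le_of_mul_le_mul_left hle Nat.card_pos).trans hUb3
  have hkodd : Odd k := by
    have h1 : Odd (Nat.card ↥(C.E.map π)) := C.E_odd.of_dvd_nat (card_map_dvd _ _)
    rw [hk] at h1
    exact (Nat.odd_mul.1 h1).2
  refine ⟨k, by
    obtain ⟨j, rfl⟩ := hkodd
    omega, ?_⟩
  have hEeq' : Nat.card ↥(M ⊓ centralizer ((zpowers C.x : Subgroup X) : Set X)) = Nat.card ↥(M ⊓ C.E) := by
    rw [hEeq]
  rw [Nat.card_zpowers, C.hx, hA, hEeq'] at hform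
  have key : 3 * k * Nat.card ↥(M ⊓ C.E) = Nat.card C.U * (3 * Nat.card ↥(M ⊓ C.F)) := by
    refine Nat.eq_of_mul_eq_mul_left (Nat.card_pos (α := ↥(C.F.map π))) ?_
    rw [C.card_E, ← hFc', hk] at hEc
    calc Nat.card ↥(C.F.map π) * (3 * k * Nat.card ↥(M ⊓ C.E))
        = 3 * (Nat.card ↥(C.F.map π) * k * Nat.card ↥(M ⊓ C.E)) := by ring
      _ = _ := by rw [hEc]; ring
  have hmod := (ZMod.natCast_eq_natCast_iff _ _ _).2 (fixed_modEq hUT (hMtop _))
  have hcast := congrArg (Nat.cast : ℕ → ZMod l) hform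
  have hkey := congrArg (Nat.cast : ℕ → ZMod l) key
  simp only [Nat.cast_mul, Nat.cast_pow, Nat.cast_ofNat] at hcast hkey
  rw [← hmod] at hcast
  have hne : ∀ n : ℕ, n ∣ Nat.card ↥M → (n : ZMod l) ≠ 0 := fun n hn h =>
    C.hl.coprime_iff_not_dvd.1 hMl.symm (((ZMod.natCast_eq_zero_iff _ _).1 h).trans hn)
  have hsq := mul_right_cancel₀ (hne _ dvd_rfl) hcast
  have hB0 : ((Nat.card ↥(M ⊓ C.E) : ℕ) : ZMod l) ≠ 0 := hne _ (card_dvd_of_le inf_le_left)
  refine mul_right_cancel₀ (pow_ne_zero 2 hB0) ?_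
  calc ((Nat.card C.U : ZMod l)) ^ 2 * ((Nat.card ↥(M ⊓ C.E) : ZMod l)) ^ 2
      = ((Nat.card C.U : ZMod l) * (3 * (Nat.card ↥(M ⊓ C.F) : ZMod l))) ^ 2 := by rw [mul_pow, ← hsq]
    _ = _ := by rw [← hkey]; ring

end FreeCore

end Cfsg.Agent.Invol.JankoWard
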