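import Cfsg.Agent.Lib.Invol.JankoWard.ExtBasic
import Cfsg.Agent.Lib.Char.Induce
import Cfsg.Agent.Lib.Char.Constituent

/-!
Induction to the group of functions on the centralizer of the involution living on the coset of `t`, for the
centralizer `⟨t⟩ × (P ⋊ Fld)`.
-/

open scoped ComplexConjugate

set_option autoImplicit false
set_option linter.unusedSectionVars false
set_option linter.style.haveILetI false

open scoped Classical

namespace Cfsg.Agent.Invol.JankoWard.ExtBase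

open Cfsg Cfsg.Agent.Char

universe u v

variable {G : Type u} [Group G] [Fintype G] {P : Type v} [Group P] (S : ExtBase G P)
include S

/-- The function on the centralizer. -/
noncomputable def psi (Φ : S.EG → ℂ) : S.C → ℂ := fun c => (1 - (S.sgn c : ℂ)) * Φ (S.κ c)

/-- Its induced function. -/
noncomputable def Ind (Φ : S.EG → ℂ) : G → ℂ := indFun S.C (S.psi Φ)

/-- Restriction to the coset of `t`. -/
def fS (χ : G → ℂ) : S.EG → ℂ := fun k => χ (S.t * (k : G))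

theorem psi_false (Φ : S.EG → ℂ) (x : S.EG) : S.psi Φ (S.pairMap (false, x)) = 0 := by
  rw [psi, S.sgn_pairMap, if_neg Bool.false_ne_true, sub_self, zero_mul]

theorem psi_true (Φ : S.EG → ℂ) (x : S.EG) : S.psi Φ (S.pairMap (true, x)) = 2 * Φ x := by
  rw [psi, S.sgn_pairMap, S.κ_pairMap, if_pos rfl]; ring

theorem psi_class {Φ : S.EG → ℂ} (hΦ : IsClassFunction S.EG Φ) : IsClassFunction S.C (S.psi Φ) := by
  intro a b
  simp only [psi, map_mul, map_inv, mul_inv_cancel_comm, hΦ (S.κ a) (S.κ b)]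

theorem psi_gen {Φ : S.EG → ℂ} (hΦ : IsGeneralizedCharacter S.EG Φ) :
    IsGeneralizedCharacter S.C (S.psi Φ) := by
  have h1 : IsGeneralizedCharacter S.C (fun c => Φ (S.κ c)) := IsGenChar.comp S.κ hΦ
  have h2 := IsGenChar.mul (IsGenChar.of_isCharacter (IsIrr.isCharacter (isIrr_linear S.sgn))) h1
  have e : S.psi Φ = (fun c => Φ (S.κ c)) - ((fun c => (S.sgn c : ℂ)) * fun c => Φ (S.κ c)) := by
    funext c; simp [psi, sub_mul]
  rw [e]
  exact IsGenChar.sub h1 h2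

theorem Ind_gen {Φ : S.EG → ℂ} (hΦ : IsGeneralizedCharacter S.EG Φ) :
    IsGeneralizedCharacter G (S.Ind Φ) := IsGenChar.ind S.C (S.psi_gen hΦ)

theorem Ind_class (Φ : S.EG → ℂ) : IsClassFunction G (S.Ind Φ) := indFun_classFun _ _

theorem fS_class {χ : G → ℂ} (hχ : IsClassFunction G χ) : IsClassFunction S.EG (S.fS χ) := by
  intro a b
  have h := hχ (S.t * (a : G)) (b : G)
  simp only [fS, Subgroup.coe_mul, Subgroup.coe_inv]
  rw [← h]
  congr 1
  rw [← mul_assoc (b : G) S.t, S.EG_t b]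
  group

theorem psi_ne {Φ : S.EG → ℂ} (hs : ∀ a, Φ a ≠ 0 → a ^ S.EE = 1) {c : S.C} (h : S.psi Φ c ≠ 0) :
    ∃ k : S.EG, k ^ S.EE = 1 ∧ (c : G) = S.t * (k : G) := by
  obtain ⟨⟨b, x⟩, rfl⟩ := S.pairMap_bijective.2 c
  cases b
  · exact absurd (S.psi_false Φ x) h
  · refine ⟨x, hs _ fun h0 => h ?_, by simp [pairMap_coe]⟩
    rw [S.psi_true, h0, mul_zero]

theorem pow_EE_t' {k : S.EG} (hk : k ^ S.EE = 1) {x : G} : (x * (S.t * (k : G)) * x⁻¹) ^ S.EE = x * S.t * x⁻¹ := by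
  rw [conj_pow, S.pow_EE_t hk]

/-- The value on the coset of `t`. -/
theorem Ind_val {Φ : S.EG → ℂ} (hΦ : IsClassFunction S.EG Φ) (hs : ∀ a, Φ a ≠ 0 → a ^ S.EE = 1)
    {k : S.EG} (hk : k ^ S.EE = 1) : S.Ind Φ (S.t * (k : G)) = 2 * Φ k := by
  set g := S.t * (k : G) with hg
  have hgC : g ∈ S.C := mul_mem S.t_mem (S.EG_C k.2)
  have hgp : (⟨g, hgC⟩ : S.C) = S.pairMap (true, k) := Subtype.ext (by simp [pairMap_coe, g])
  have hval : ∀ x : G, extendByZero S.C (S.psi Φ) (x⁻¹ * g * x) =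
      if x ∈ S.C then 2 * Φ k else 0 := by
    intro x
    split_ifs with hx
    · rw [extendByZero_of_mem _ (mul_mem (mul_mem (inv_mem hx) hgC) hx)]
      have h := S.psi_class hΦ ⟨g, hgC⟩ (⟨x, hx⟩⁻¹)
      rw [inv_inv] at h
      exact h.trans (by rw [hgp, S.psi_true])
    · by_cases hm : x⁻¹ * g * x ∈ S.C
      · rw [extendByZero_of_mem _ hm]
        by_contra hne
        obtain ⟨k', hk', he⟩ := S.psi_ne hs hne
        have h : (x⁻¹ * g * x⁻¹⁻¹) ^ S.EE = (S.t * (k' : G)) ^ S.EE := by rw [inv_inv]; exact congrArg (· ^ S.EE) he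
        rw [S.pow_EE_t hk', hg, S.pow_EE_t' hk, inv_inv] at h
        refine hx (S.mem_C.2 ?_)
        calc x * S.t = x * (x⁻¹ * S.t * x) := by rw [h]
          _ = S.t * x := by group
      · exact extendByZero_not_mem _ hm
  simp only [Ind, indFun, hval]
  rw [← Finset.sum_filter, Finset.sum_const, nsmul_eq_mul, ← Fintype.card_subtype,
    ← Nat.card_eq_fintype_card, ← mul_assoc,
    inv_mul_cancel₀ (Nat.cast_ne_zero.2 Nat.card_pos.ne'), one_mul]

theorem Ind_ne {Φ : S.EG → ℂ} (hs : ∀ a, Φ a ≠ 0 → a ^ S.EE = 1) {g : G} (h : S.Ind Φ g ≠ 0) :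
    ∃ (x : G) (k : S.EG), k ^ S.EE = 1 ∧ x⁻¹ * g * x = S.t * (k : G) := by
  by_contra hno
  push Not at hno
  refine h ?_
  simp only [Ind, indFun]
  rw [Finset.sum_eq_zero, mul_zero]
  intro x _
  by_cases hm : x⁻¹ * g * x ∈ S.C
  · rw [extendByZero_of_mem _ hm]
    by_contra hne
    obtain ⟨k, hk, he⟩ := S.psi_ne hs hne
    exact hno x k hk he
  · exact extendByZero_not_mem _ hm

/-- It vanishes on elements of odd order. -/
theorem Ind_odd {Φ : S.EG → ℂ} (hs : ∀ a, Φ a ≠ 0 → a ^ S.EE = 1) {g : G} {n : ℕ} (hn : Odd n)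
    (hg : g ^ n = 1) : S.Ind Φ g = 0 := by
  by_contra h
  obtain ⟨x, k, hk, he⟩ := S.Ind_ne hs h
  have h1 : (S.t * (k : G)) ^ (S.EE * n) = 1 := by
    rw [← he, show x⁻¹ * g * x = x⁻¹ * g * x⁻¹⁻¹ by rw [inv_inv], conj_pow, mul_comm, pow_mul, hg,
      one_pow]
    group
  rw [pow_mul, S.pow_EE_t hk] at h1
  obtain ⟨j, hj⟩ := hn
  rw [hj, pow_succ, pow_mul, pow_two, S.tt, one_pow, one_mul] at h1
  exact S.t_ne h1

theorem sum_C (F : S.C → ℂ) :
    ∑ c : S.C, F c = (∑ k : S.EG, F (S.pairMap (true, k))) + ∑ k : S.EG, F (S.pairMap (false, k)) := by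
  rw [← Fintype.sum_bijective _ S.pairMap_bijective _ _ fun _ => rfl, Fintype.sum_prod_type, Fintype.sum_bool]

theorem classInner_Ind (Φ : S.EG → ℂ) {χ : G → ℂ} (hχ : IsClassFunction G χ) :
    classInner (S.Ind Φ) χ = classInner Φ (S.fS χ) := by
  rw [Ind, classInner_indFun _ _ hχ]
  simp only [classInner, S.card_C, S.sum_C, psi_true, psi_false, zero_mul, Finset.sum_const_zero, add_zero,
    mul_assoc, ← Finset.mul_sum, pairMap_coe, fS, cond_true]
  push_cast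
  have h2 : (Nat.card S.EG : ℂ) ≠ 0 := Nat.cast_ne_zero.2 Nat.card_pos.ne'
  field_simp

theorem isometry {Φ Φ' : S.EG → ℂ} (hs : ∀ a, Φ a ≠ 0 → a ^ S.EE = 1) (hΦ' : IsClassFunction S.EG Φ')
    (hs' : ∀ a, Φ' a ≠ 0 → a ^ S.EE = 1) :
    classInner (S.Ind Φ) (S.Ind Φ') = 2 * classInner Φ Φ' := by
  rw [S.classInner_Ind Φ (S.Ind_class Φ')]
  simp only [classInner, fS]
  rw [mul_left_comm, Finset.mul_sum _ _ (2 : ℂ)]
  congr 1
  refine Finset.sum_congr rfl fun k _ => ?_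
  by_cases hk : Φ k = 0
  · rw [hk]; ring
  · rw [S.Ind_val hΦ' hs' (hs k hk), map_mul, Complex.conj_ofNat]; ring

end Cfsg.Agent.Invol.JankoWard.ExtBase
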