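import Cfsg.Agent.Lib.Char.PairBlock
import Cfsg.Agent.Lib.Char.SectionRank

/-!
# A block of full defect is induced by one block of the centraliser of an involution

The Sylow 2-subgroup is abelian and its normaliser fixes the elements of odd order of its centraliser.
-/

set_option autoImplicit false
set_option linter.unusedSectionVars false
set_option linter.style.haveILetI false

namespace Cfsg.Agent.Invol.JankoWard

open Cfsg Cfsg.Agent.Char Cfsg.Agent.Block Cfsg.Agent.Char.BP Cfsg.Agent.Char.Spec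

universe u

variable {G : Type u} [Group G] [Fintype G] {p : ℕ} [Fact p.Prime] {M : Ideal AlgInt}

/-- An element fixing the regular elements of the centraliser fixes every pair. -/
theorem cfun_be_of_regular (hM : IsPModular p M) {x : BrauerPairIdx G} (hx : IsPr p M x) {n : G}
    (hn : n ∈ Subgroup.normalizer (x.1 : Set G))
    (hreg : ∀ c ∈ CG x.1, ¬ p ∣ orderOf c → n * c = c * n) : cfun n (be x) = be x := by
  funext g
  show be x (n⁻¹ * g * n) = be x g
  by_cases hg : g ∈ CG x.1
  · by_cases hp : p ∣ orderOf g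
    · have hg' : n⁻¹ * g * n ∈ CG x.1 := by
        simpa using cg_normalizer (inv_mem hn) g |>.1 hg
      have e1 : ∀ c ∈ CG x.1, p ∣ orderOf c → be x c = 0 := fun c hc hpc => by
        show bc (CG x.1) x.2 c = 0
        have := bc_coe (CG x.1) x.2 ⟨c, hc⟩
        rw [this]
        exact blockCoeff_singular hM hx.2 (by rwa [← Subgroup.orderOf_coe])
      rw [e1 g hg hp, e1 _ hg' ?_]
      rwa [show n⁻¹ * g * n = MulAut.conj n⁻¹ g by simp, MulEquiv.orderOf_eq]
    · rw [mul_assoc, ← hreg g hg hp, inv_mul_cancel_left]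
  · have hg' : n⁻¹ * g * n ∉ CG x.1 := fun h => hg (by
      have := cg_normalizer hn _ |>.1 h
      simpa [mul_assoc] using this)
    show bc (CG x.1) x.2 _ = bc (CG x.1) x.2 g
    rw [bc_supp _ _ g hg, bc_supp _ _ _ hg']

/-- A block with an abelian Sylow defect group is induced by one block of the centraliser of an element of it. -/
theorem eq_of_induced (hM : IsPModular p M) (T : Sylow p G)
    (hTc : ∀ a ∈ (T : Subgroup G), ∀ b ∈ (T : Subgroup G), a * b = b * a)
    (hN : ∀ n ∈ Subgroup.normalizer ((T : Subgroup G) : Set G), ∀ c ∈ CG (T : Subgroup G),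
      ¬ p ∣ orderOf c → n * c = c * n)
    {t : G} (ht : t ∈ (T : Subgroup G)) {B : Set (IrrCharacter G)}
    (hfull : ∃ D, IsDefectGroup p M B D ∧ Nat.card (T : Subgroup G) ≤ Nat.card D)
    {b b' : Set (IrrCharacter (CG (Subgroup.zpowers t)))}
    (hb : IsInducedBlock M (CG (Subgroup.zpowers t)) b B)
    (hb' : IsInducedBlock M (CG (Subgroup.zpowers t)) b' B) : b = b' := by
  obtain ⟨k, hk⟩ := pPow_of_mem (p := p) T.2 ht
  have hx : ∃ k, orderOf t = p ^ k := ⟨k, hk⟩
  have key : ∀ b, IsInducedBlock M (CG (Subgroup.zpowers t)) b B →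
      ∃ e, LE p M (⟨Subgroup.zpowers t, b⟩ : BrauerPairIdx G) ⟨(T : Subgroup G), e⟩ ∧
        IsMx p M B ⟨(T : Subgroup G), e⟩ := by
    intro b hb
    obtain ⟨y, hay, hy⟩ := exists_max_above hM ((ofB_iff_induced hM hb.2.1 hx b).2 hb)
    obtain ⟨D, hD, hcard⟩ := hfull
    have hyD := defect_of_max hM hy
    obtain ⟨Y, hY⟩ := hy.1.1.1.exists_le_sylow
    have hYeq : y.1 = (Y : Subgroup G) := by
      refine Subgroup.eq_of_le_of_card_ge hY (le_trans ?_ (le_trans hcard ?_))
      · rw [Y.card_eq_multiplicity, ← T.card_eq_multiplicity]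
      · obtain ⟨g, hg⟩ := defectGroup_conj hM hb.2.1 hyD hD
        rw [← hg, card_map_conj]
    have hty : t ∈ (Y : Subgroup G) := hYeq ▸ le_subgroup hay (Subgroup.mem_zpowers t)
    have hYc : ∀ a ∈ (Y : Subgroup G), ∀ c ∈ (Y : Subgroup G), a * c = c * a := by
      obtain ⟨g, hg⟩ := MulAction.exists_smul_eq G T Y
      intro a ha c hc
      rw [← hg, Sylow.coe_subgroup_smul, Subgroup.mem_pointwise_smul_iff_inv_smul_mem, MulAut.smul_def,
        ← map_inv, MulAut.conj_apply, inv_inv] at ha hc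
      calc a * c = g * ((g⁻¹ * a * g) * (g⁻¹ * c * g)) * g⁻¹ := by group
        _ = g * ((g⁻¹ * c * g) * (g⁻¹ * a * g)) * g⁻¹ := by rw [hTc _ ha _ hc]
        _ = c * a := by group
    have hmemC : ∀ g, g ∈ (CG (Subgroup.zpowers t)) ↔ g * t = t * g := fun g => by
      show g ∈ CG (Subgroup.zpowers t) ↔ _
      rw [cg_zpowers, Subgroup.mem_centralizer_singleton_iff]
    have hTC : (T : Subgroup G) ≤ (CG (Subgroup.zpowers t)) := fun a ha => (hmemC a).2 (hTc a ha t ht)
    have hYC : (Y : Subgroup G) ≤ (CG (Subgroup.zpowers t)) := fun a ha => (hmemC a).2 (hYc a ha t hty)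
    obtain ⟨c, hc⟩ := MulAction.exists_smul_eq (CG (Subgroup.zpowers t)) (Y.subtype hYC) (T.subtype hTC)
    obtain ⟨e, he⟩ : ∃ e, cjI (c : G) y = ⟨(T : Subgroup G), e⟩ := by
      have h1 : (cjI (c : G) y).1 = (T : Subgroup G) := by
        show y.1.map (MulAut.conj (c : G)).toMonoidHom = _
        rw [hYeq]
        refine Subgroup.eq_of_le_of_card_ge ?_ ?_
        · rintro _ ⟨a, ha, rfl⟩
          have hmem : c * ⟨a, hYC ha⟩ * c⁻¹ ∈ ((c • Y.subtype hYC : Sylow p (CG (Subgroup.zpowers t))) : Subgroup (CG (Subgroup.zpowers t))) := by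
            rw [Sylow.coe_subgroup_smul]
            exact ⟨⟨a, hYC ha⟩, Subgroup.mem_subgroupOf.2 ha, rfl⟩
          rw [hc] at hmem
          exact Subgroup.mem_subgroupOf.1 hmem
        · rw [card_map_conj, Y.card_eq_multiplicity, T.card_eq_multiplicity]
      generalize cjI (c : G) y = z at h1
      obtain ⟨Q, e⟩ := z
      obtain rfl : Q = (T : Subgroup G) := h1
      exact ⟨e, rfl⟩
    have hfix : cjI (c : G) (⟨Subgroup.zpowers t, b⟩ : BrauerPairIdx G) = ⟨Subgroup.zpowers t, b⟩ :=
      cjI_fix (cg_le_normalizer _ c.2) (funext fun g => by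
        show be (⟨Subgroup.zpowers t, b⟩ : BrauerPairIdx G) ((c : G)⁻¹ * g * c) = _
        have := be_inv_cg (⟨Subgroup.zpowers t, b⟩ : BrauerPairIdx G) (c : G)⁻¹ (inv_mem c.2) g
        rw [inv_inv] at this
        exact this)
    have h2 := le_cjI hM (c : G) hay
    rw [hfix, he] at h2
    exact ⟨e, h2, he ▸ isMx_cjI hM hy _⟩
  obtain ⟨e, he, hex⟩ := key b hb
  obtain ⟨e', he', hex'⟩ := key b' hb'
  obtain ⟨g, hg⟩ := max_conj hM hex hex'
  have hgN : g ∈ Subgroup.normalizer ((T : Subgroup G) : Set G) := by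
    refine Subgroup.mem_normalizer_fintype fun a ha => ?_
    show g * a * g⁻¹ ∈ (T : Subgroup G)
    rw [show (T : Subgroup G) = ((T : Subgroup G)).map (MulAut.conj g).toMonoidHom from congrArg Sigma.fst hg]
    exact Subgroup.mem_map_of_mem _ ha
  rw [cjI_fix (a := (⟨(T : Subgroup G), e⟩ : BrauerPairIdx G)) hgN
    (cfun_be_of_regular hM hex.1.1 hgN (fun c hc hp => hN g hgN c hc hp))] at hg
  rw [hg] at he'
  have := le_unique hM he he' rfl
  exact eq_of_heq (Sigma.mk.inj_iff.1 this).2

/-- The same for any name of the centraliser. -/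
theorem eq_of_induced' (hM : IsPModular p M) (T : Sylow p G)
    (hTc : ∀ a ∈ (T : Subgroup G), ∀ b ∈ (T : Subgroup G), a * b = b * a)
    (hN : ∀ n ∈ Subgroup.normalizer ((T : Subgroup G) : Set G), ∀ c ∈ CG (T : Subgroup G),
      ¬ p ∣ orderOf c → n * c = c * n)
    {t : G} (ht : t ∈ (T : Subgroup G)) {B : Set (IrrCharacter G)}
    (hfull : ∃ D, IsDefectGroup p M B D ∧ Nat.card (T : Subgroup G) ≤ Nat.card D)
    {H : Subgroup G} (hH : H = Subgroup.centralizer ({t} : Set G)) {b b' : Set (IrrCharacter H)}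
    (hb : IsInducedBlock M H b B) (hb' : IsInducedBlock M H b' B) : b = b' := by
  rw [← cg_zpowers] at hH
  subst hH
  exact eq_of_induced hM T hTc hN ht hfull hb hb'

end Cfsg.Agent.Invol.JankoWard
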