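import Cfsg.Agent.Lib.Invol.JankoWard.ExtE
import Cfsg.Agent.Lib.Invol.JankoWard.ExtInd
import Cfsg.Agent.Lib.Invol.JankoWard.ExtSylow
import Cfsg.Agent.Lib.Invol.JankoWard.ExtUnique
import Cfsg.Agent.Lib.Block.QuotientBlocks
import Mathlib.Tactic.LinearCombination

/-!
# The twisted 2-blocks in the section of the involution

`gb l`: the block of `G` induced by the block `cb l` of the centraliser that contains the linear character of the
field part; it is induced by no other block.  `vE l i`: the coordinates of the three projectives; `value_v`: the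
values on the section of `t`.
-/

open scoped ComplexConjugate

set_option autoImplicit false
set_option linter.unusedSectionVars false
set_option linter.style.haveILetI false

open scoped Classical

namespace Cfsg.Agent.Invol.JankoWard.ExtBase

open Cfsg Cfsg.Agent.Char Cfsg.Agent.Block

universe u v

variable {G : Type u} [Group G] [Fintype G] {P : Type v} [Group P] [Fintype P] (S : ExtBase G P)

/-- A lift of a character of `EG` to the centraliser, with a sign on `t`. -/
noncomputable def liftE (s : Bool) (ψ : S.EG → ℂ) : S.C → ℂ := fun c =>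
  (if s then (S.sgn c : ℂ) else 1) * ψ (S.κ c)

theorem liftE_false (s : Bool) (ψ : S.EG → ℂ) (k : S.EG) : S.liftE s ψ (S.pairMap (false, k)) = ψ k := by
  cases s <;> simp [liftE, S.κ_pairMap, S.sgn_pairMap]

theorem liftE_true (s : Bool) (ψ : S.EG → ℂ) (k : S.EG) :
    S.liftE s ψ (S.pairMap (true, k)) = (if s then -1 else 1) * ψ k := by
  cases s <;> simp [liftE, S.κ_pairMap, S.sgn_pairMap]

theorem κ_surjective : Function.Surjective S.κ := fun x => ⟨S.pairMap (false, x), S.κ_pairMap _ _⟩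

theorem liftE_irr (s : Bool) (ψ : IrrCharacter S.EG) : IsIrrCharacter S.C (S.liftE s (ψ : S.EG → ℂ)) := by
  cases s
  · have e : S.liftE false (ψ : S.EG → ℂ) = fun c => (ψ : S.EG → ℂ) (S.κ c) := by funext c; simp [liftE]
    rw [e]
    exact IsIrr.comp_surjective S.κ S.κ_surjective ψ.2
  · have e : S.liftE true (ψ : S.EG → ℂ) = fun c => (S.sgn c : ℂ) * (ψ : S.EG → ℂ) (S.κ c) := by
      funext c; simp [liftE]
    rw [e]
    exact IsIrr.mul_linear (IsIrr.comp_surjective S.κ S.κ_surjective ψ.2) S.sgn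

/-- The lift as a character. -/
noncomputable def liftIrrE (p : Bool × IrrCharacter S.EG) : IrrCharacter S.C := ⟨_, S.liftE_irr p.1 p.2⟩

theorem liftIrrE_injective : Function.Injective S.liftIrrE := by
  rintro ⟨s, ψ⟩ ⟨s', ψ'⟩ h
  have h' : S.liftE s (ψ : S.EG → ℂ) = S.liftE s' (ψ' : S.EG → ℂ) := congrArg Subtype.val h
  have hψ : ψ = ψ' := Subtype.ext (funext fun k => by
    have := congrFun h' (S.pairMap (false, k))
    rwa [liftE_false, liftE_false] at this)
  subst hψ
  refine Prod.ext ?_ rfl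
  have h1 := congrFun h' (S.pairMap (true, 1))
  rw [liftE_true, liftE_true] at h1
  have h2 := mul_right_cancel₀ (IsIrr.one_ne_zero ψ.2) h1
  cases s <;> cases s' <;> norm_num at h2 <;> rfl

theorem inner_liftE (ξ : S.C → ℂ) (ψ : S.EG → ℂ) :
    classInner ξ (S.liftE false ψ) + classInner ξ (S.liftE true ψ) =
      classInner (fun k => ξ (S.pairMap (false, k))) ψ := by
  have h2 : (Nat.card S.EG : ℂ) ≠ 0 := Nat.cast_ne_zero.2 Nat.card_pos.ne'
  simp only [classInner, S.sum_C, liftE_false, liftE_true, S.card_C, if_true, if_false, Bool.false_eq_true,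
    one_mul, neg_mul, map_neg, mul_neg, Finset.sum_neg_distrib]
  push_cast
  field_simp
  ring

theorem pairMap_false_coe (k : S.EG) : ((S.pairMap (false, k) : S.C) : G) = (k : G) := one_mul _

theorem orderOf_pairMap (k : S.EG) : orderOf (S.pairMap (false, k)) = orderOf k := by
  rw [← Subgroup.orderOf_coe, pairMap_false_coe, Subgroup.orderOf_coe]

theorem pairMap_one : S.pairMap (false, 1) = 1 := Subtype.ext (by simp [pairMap_coe])

theorem exists_liftE (ξ : IrrCharacter S.C) : ∃ p : Bool × IrrCharacter S.EG, ξ = S.liftIrrE p := by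
  let φ : S.EG →* S.C := MonoidHom.mk' (fun k => S.pairMap (false, k)) fun a b => by rw [S.pairMap_mul]; rfl
  have hc : IsCharacter S.EG (fun k => (ξ : S.C → ℂ) (S.pairMap (false, k))) :=
    IsChar.comp φ (IsIrr.isCharacter ξ.2)
  obtain ⟨ψ, hψ⟩ := IsChar.exists_constituent' hc (by rw [S.pairMap_one]; exact IsIrr.one_ne_zero ξ.2)
  rw [← S.inner_liftE] at hψ
  by_contra hno
  push Not at hno
  refine hψ ?_
  rw [classInner_irr_ne ξ.2 (S.liftE_irr false ψ) (fun e => hno (false, ψ) (Subtype.ext e)),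
    classInner_irr_ne ξ.2 (S.liftE_irr true ψ) (fun e => hno (true, ψ) (Subtype.ext e)), add_zero]

theorem odd_pairMap {c : S.C} (h : ¬ 2 ∣ orderOf c) :
    ∃ k : S.EG, ¬ 2 ∣ orderOf k ∧ c = S.pairMap (false, k) := by
  obtain ⟨⟨b, k⟩, rfl⟩ := S.pairMap_bijective.2 c
  cases b
  · exact ⟨k, by rwa [S.orderOf_pairMap] at h, rfl⟩
  · exfalso
    rw [← even_iff_two_dvd, Nat.not_even_iff_odd] at h
    have h1 : (S.pairMap (true, k)) ^ orderOf (S.pairMap (true, k)) = 1 := pow_orderOf_eq_one _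
    obtain ⟨j, hj⟩ := h
    rw [hj] at h1
    have h2 := congrArg Subtype.val h1
    rw [Subgroup.coe_pow, pairMap_coe, cond_true, (show Commute S.t (k : G) from (S.EG_t k).symm).mul_pow,
      pow_succ, pow_mul, pow_two, S.tt, one_pow, one_mul, ← Subgroup.coe_pow, OneMemClass.coe_one] at h2
    exact S.t_mul_notMem (pow_mem k.2 _) (h2 ▸ one_mem _)

theorem regTot_liftE (s : Bool) (ψ : S.EG → ℂ) :
    PrinCol.regTot 2 (S.liftE s ψ) = PrinCol.regTot 2 ψ := by
  symm
  refine Finset.sum_bij (fun k _ => S.pairMap (false, k)) (fun k hk => ?_) (fun a _ b _ h => ?_)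
    (fun c hc => ?_) fun k _ => (S.liftE_false s ψ k).symm
  · simpa [S.orderOf_pairMap] using hk
  · exact congrArg Prod.snd (S.pairMap_bijective.1 h)
  · obtain ⟨k, hk, rfl⟩ := S.odd_pairMap (Finset.mem_filter.1 hc).2
    exact ⟨k, by simpa using hk, rfl⟩

/-- A linear character of the field part on the centraliser. -/
noncomputable def lamC (l : S.Fld →* ℂˣ) : S.C →* ℂˣ := (S.lamE l).comp S.κ

theorem sameBlock_mul_linear {M : Ideal AlgInt} {p : ℕ} (hM : IsPModular p M) {H : Type u} [Group H] [Finite H]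
    (ν : H →* ℂˣ) {χ ψ : H → ℂ} (h : SameBlock M χ ψ) :
    SameBlock M (fun x => (ν x : ℂ) * χ x) (fun x => (ν x : ℂ) * ψ x) := by
  intro g
  have e : ∀ φ : H → ℂ, centralChar (fun x => (ν x : ℂ) * φ x) g = (ν g : ℂ) * centralChar φ g := fun φ => by
    simp only [centralChar, map_one, Units.val_one, one_mul]
    ring
  rw [e, e, ← mul_sub]
  exact ideal_mul_left hM (ring_of_integral hM (IsChar.isIntegral (IsIrr.isCharacter (isIrr_linear ν)) g)) (h g)

variable (X : LChars S.D) {M : Ideal AlgInt} (hM : IsPModular 2 M)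
include hM

theorem principal_C (ξ : IrrCharacter S.C) :
    ξ ∈ principalBlock M S.C ↔ ∃ p : Bool × Fin 4, ξ = S.liftIrrE (p.1, S.hat X hM p.2) := by
  haveI : Fact (Nat.Prime 2) := ⟨Nat.prime_two⟩
  have key : ∀ p : Bool × IrrCharacter S.EG,
      S.liftIrrE p ∈ principalBlock M S.C ↔ p.2 ∈ principalBlock M S.EG := fun p => by
    rw [PrinCol.mem_principal_iff hM, PrinCol.mem_principal_iff hM]
    show PrinCol.regTot 2 (S.liftE p.1 (p.2 : S.EG → ℂ)) ≠ 0 ↔ _
    rw [regTot_liftE]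
  constructor
  · intro h
    obtain ⟨p, rfl⟩ := S.exists_liftE ξ
    obtain ⟨i, hi⟩ := (S.principal_EG X hM p.2).1 ((key p).1 h)
    exact ⟨(p.1, i), congrArg _ (Prod.ext rfl hi)⟩
  · rintro ⟨p, rfl⟩
    exact (key _).2 ((S.principal_EG X hM _).2 ⟨_, rfl⟩)

/-- The twisted block of the centraliser. -/
noncomputable def cb (_X : LChars S.D) (_hM : IsPModular 2 M) (l : S.Fld →* ℂˣ) : Set (IrrCharacter S.C) :=
  blockOf M fun c => (S.lamC l c : ℂ)

theorem cb_isBlock (l : S.Fld →* ℂˣ) : IsPBlock M (S.cb X hM l) := ⟨⟨_, isIrr_linear (S.lamC l)⟩, rfl⟩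

theorem liftE_tw (s : Bool) (l : S.Fld →* ℂˣ) (i : Fin 4) :
    (S.liftIrrE (s, S.tw X hM l i) : S.C → ℂ) =
      fun c => (S.lamC l c : ℂ) * (S.liftIrrE (s, S.hat X hM i) : S.C → ℂ) c := by
  funext c
  show S.liftE s (S.tw X hM l i : S.EG → ℂ) c = (S.lamC l c : ℂ) * S.liftE s (S.hat X hM i : S.EG → ℂ) c
  simp only [liftE, S.tw_apply]
  show _ = (l (S.fp (S.κ c)) : ℂ) * _
  ring

theorem mem_cb (l : S.Fld →* ℂˣ) (ξ : IrrCharacter S.C) :
    ξ ∈ S.cb X hM l ↔ ∃ p : Bool × Fin 4, ξ = S.liftIrrE (p.1, S.tw X hM l p.2) := by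
  constructor
  · intro h
    have h' := sameBlock_mul_linear hM (S.lamC l)⁻¹ (show SameBlock M (fun c => (S.lamC l c : ℂ)) (ξ : S.C → ℂ) from h)
    simp only [MonoidHom.inv_apply, Units.inv_mul] at h'
    obtain ⟨p, hp⟩ := (S.principal_C X hM ⟨_, IsIrr.mul_linear ξ.2 (S.lamC l)⁻¹⟩).1 h'
    refine ⟨p, Subtype.ext (funext fun c => ?_)⟩
    rw [liftE_tw, ← hp]
    simp
  · rintro ⟨p, rfl⟩
    have h := sameBlock_mul_linear hM (S.lamC l) (show SameBlock M (fun _ => (1 : ℂ))
      (S.liftIrrE (p.1, S.hat X hM p.2) : S.C → ℂ) from (S.principal_C X hM _).2 ⟨p, rfl⟩)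
    simp only [mul_one] at h
    show SameBlock M _ _
    rw [liftE_tw]
    exact h

theorem cb_injective {l l' : S.Fld →* ℂˣ} (h : S.cb X hM l = S.cb X hM l') : l = l' := by
  obtain ⟨p, hp⟩ := (S.mem_cb X hM l' _).1 (h ▸ (S.mem_cb X hM l _).2 ⟨(false, 0), rfl⟩)
  exact (S.tw_injective X hM (congrArg Prod.snd (S.liftIrrE_injective hp))).1

theorem exists_gb (l : S.Fld →* ℂˣ) : InducedBlockDefined M S.C (S.cb X hM l) := by
  haveI : Fact (Nat.Prime 2) := ⟨Nat.prime_two⟩
  have hP : IsPGroup 2 (Subgroup.zpowers S.t) :=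
    IsPGroup.of_card (n := 1) (by rw [Nat.card_zpowers, S.ht, pow_one])
  refine inducedBlockDefined_brauer hM hP (Subgroup.zpowers_le.2 S.t_mem) ?_ ?_ (S.cb_isBlock X hM l)
  · exact Subgroup.centralizer_le (Set.singleton_subset_iff.2 (Subgroup.mem_zpowers S.t))
  · refine le_trans ?_ (Subgroup.centralizer_le_normalizer _)
    intro c hc
    rw [Subgroup.mem_centralizer_iff]
    intro w hw
    obtain ⟨i, rfl⟩ := Subgroup.mem_zpowers_iff.1 hw
    exact ((show Commute c S.t from S.mem_C.1 hc).zpow_right i).eq.symm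

/-- The twisted block. -/
noncomputable def gb (l : S.Fld →* ℂˣ) : Set (IrrCharacter G) := (S.exists_gb X hM l).choose

theorem gb_induced (l : S.Fld →* ℂˣ) : IsInducedBlock M S.C (S.cb X hM l) (S.gb X hM l) :=
  (S.exists_gb X hM l).choose_spec

theorem gb_isBlock (l : S.Fld →* ℂˣ) : IsPBlock M (S.gb X hM l) := (S.gb_induced X hM l).2.1

theorem gb_full (A : Amb G) (l : S.Fld →* ℂˣ) :
    ∃ D, IsDefectGroup 2 M (S.gb X hM l) D ∧ 8 ≤ Nat.card D := by
  haveI : Fact (Nat.Prime 2) := ⟨Nat.prime_two⟩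
  obtain ⟨D, hD⟩ := exists_isDefectGroup hM (S.cb_isBlock X hM l)
  obtain ⟨E, hE, hle⟩ := exists_defectGroup_ge_map hM (S.gb_induced X hM l) hD
  refine ⟨E, hE, le_trans ?_ (Subgroup.card_le_of_le hle)⟩
  rw [Nat.card_congr (Subgroup.equivMapOfInjective _ _ (Subgroup.subtype_injective _)).symm.toEquiv,
    card_defectGroup hM (S.cb_isBlock X hM l) hD]
  set ξ : IrrCharacter S.C := ⟨_, isIrr_linear (S.lamC l)⟩
  have h := le_defect_add hM (S.cb_isBlock X hM l) (χ := ξ) (mem_blockOf_self hM ξ)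
  have h1 : charDegree (ξ : S.C → ℂ) = 1 := by simp [ξ, charDegree]
  rw [h1, Nat.factorization_one, Finsupp.coe_zero, Pi.zero_apply, add_zero] at h
  refine le_trans ?_ (Nat.pow_le_pow_right two_pos h)
  rw [S.card_C, S.card_EG', ← mul_assoc, Nat.factorization_mul (by norm_num) S.EE_odd.pos.ne',
    Finsupp.add_apply, Nat.factorization_eq_zero_of_not_dvd (n := S.EE) (by
      rw [← even_iff_two_dvd, Nat.not_even_iff_odd]; exact S.EE_odd), show 2 * 4 = 2 ^ 3 by norm_num,
    Nat.Prime.factorization_pow Nat.prime_two]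
  simp

theorem inducing_unique (A : Amb G) (L : ExtLocals S) {l : S.Fld →* ℂˣ} {b : Set (IrrCharacter S.C)}
    (hb : IsInducedBlock M S.C b (S.gb X hM l)) : b = S.cb X hM l := by
  haveI : Fact (Nat.Prime 2) := ⟨Nat.prime_two⟩
  obtain ⟨T, hT⟩ := S.exists_sylow A
  set K := fourSub S.D.u S.D.w S.D.u2 S.D.w2 S.D.comm
  have htT : S.t ∈ (T : Subgroup G) := (hT _).2 ⟨1, one_mem _, Or.inr (by rw [map_one, mul_one])⟩
  have hι : ∀ v ∈ K, S.ι v ∈ (T : Subgroup G) := fun v hv => (hT _).2 ⟨v, hv, Or.inl rfl⟩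
  have hsq : ∀ a ∈ (T : Subgroup G), a * a = 1 := fun a ha => by
    obtain ⟨k, hk⟩ := T.isPGroup' ⟨a, ha⟩
    exact A.sq2 a ⟨k, congrArg Subtype.val hk⟩
  have hTc : ∀ a ∈ (T : Subgroup G), ∀ b ∈ (T : Subgroup G), a * b = b * a := fun a ha b hb => by
    have h1 := hsq _ (mul_mem ha hb)
    rw [← inv_eq_of_mul_eq_one_left h1, mul_inv_rev, inv_eq_of_mul_eq_one_left (hsq a ha),
      inv_eq_of_mul_eq_one_left (hsq b hb)]
  have hN : ∀ n ∈ Subgroup.normalizer ((T : Subgroup G) : Set G), ∀ c ∈ BP.CG (T : Subgroup G),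
      ¬ 2 ∣ orderOf c → n * c = c * n := by
    intro n hn c hc hodd
    rw [← even_iff_two_dvd, Nat.not_even_iff_odd] at hodd
    have hcom : ∀ a ∈ (T : Subgroup G), c * a = a * c := fun a ha =>
      (Subgroup.mem_centralizer_iff.1 hc a ha).symm
    suffices hcF : c ∈ S.Fld from S.normS_F A L T hT hn hcF
    obtain ⟨k, a, ha, e⟩ := S.cover c (hcom _ htT)
    have hk : k ∈ K := by
      have h : ∀ v ∈ K, k * v = v * k := by
        intro v hv
        have h1 := hcom _ (hι v hv)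
        have h2 := S.F_four ha hv
        refine S.inj ?_
        rw [map_mul, map_mul]
        rcases e with rfl | rfl
        · rw [mul_assoc, h2, ← mul_assoc, ← mul_assoc] at h1
          exact mul_right_cancel h1
        · rw [← mul_assoc (S.ι v), S.tc v, mul_assoc, mul_assoc, h2, mul_assoc] at h1
          have h3 := mul_left_cancel h1
          rw [← mul_assoc, ← mul_assoc] at h3
          exact mul_right_cancel h3
      exact S.D.comm_uw (h _ (Or.inr (Or.inl rfl))) (h _ (Or.inr (Or.inr (Or.inl rfl))))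
    obtain ⟨x, hx, hxe⟩ : ∃ x ∈ (T : Subgroup G), c = x * a := by
      rcases e with e | e
      · exact ⟨_, hι k hk, e⟩
      · exact ⟨_, mul_mem htT (hι k hk), by rw [e, mul_assoc]⟩
    have hxa : Commute x a := by
      obtain ⟨v, hv, rfl | rfl⟩ := (hT x).1 hx
      · exact (S.F_four ha hv).symm
      · exact Commute.mul_left (show Commute S.t a from (S.Ft a ha).symm) (S.F_four ha hv).symm
    obtain ⟨j, hj⟩ := hodd.mul S.F_odd
    have hc1 : c ^ (orderOf c * Nat.card S.Fld) = 1 := by rw [pow_mul, pow_orderOf_eq_one, one_pow]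
    rw [hxe, hxa.mul_pow, ← hxe,
      show a ^ (orderOf c * Nat.card S.Fld) = 1 by
        rw [mul_comm, pow_mul, show a ^ Nat.card S.Fld = 1 from
          congrArg Subtype.val (pow_card_eq_one' (x := (⟨a, ha⟩ : S.Fld))), one_pow],
      mul_one, hj, pow_succ, pow_mul, pow_two, hsq x hx, one_pow, one_mul] at hc1
    rw [hxe, hc1, one_mul]
    exact ha
  obtain ⟨D, hD, h8⟩ := S.gb_full X hM A l
  exact eq_of_induced' hM T hTc hN htT ⟨D, hD, by rw [A.eight T]; exact h8⟩ rfl hb (S.gb_induced X hM l)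

theorem gb_injective (A : Amb G) (L : ExtLocals S) {l l' : S.Fld →* ℂˣ}
    (h : S.gb X hM l = S.gb X hM l') : l = l' :=
  (S.cb_injective X hM (S.inducing_unique X hM A L (h ▸ S.gb_induced X hM l'))).symm

/-- The projection on a twisted block in the section of `t`. -/
theorem value_t (A : Amb G) (L : ExtLocals S) (l : S.Fld →* ℂˣ) (χ : IrrCharacter G) {k : S.EG}
    (hk : Odd (orderOf k)) :
    ∑ i : Fin 4, classInner (S.fS (χ : G → ℂ)) (S.tw X hM l i : S.EG → ℂ) * (S.tw X hM l i : S.EG → ℂ) k =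
      if χ ∈ S.gb X hM l then (χ : G → ℂ) (S.t * (k : G)) else 0 := by
  haveI : Fact (Nat.Prime 2) := ⟨Nat.prime_two⟩
  have hz : ∃ j : ℕ, orderOf S.t = 2 ^ j := ⟨1, by rw [S.ht, pow_one]⟩
  set y : S.C := S.pairMap (false, k) with hy
  have hyo : ¬ 2 ∣ orderOf y := by
    rw [S.orderOf_pairMap, ← even_iff_two_dvd, Nat.not_even_iff_odd]; exact hk
  have hfilter : (Finset.univ.filter fun ξ : IrrCharacter S.C =>
      IsInducedBlock M S.C (blockOf M (ξ : S.C → ℂ)) (S.gb X hM l)) =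
      Finset.univ.image fun p : Bool × Fin 4 => S.liftIrrE (p.1, S.tw X hM l p.2) := by
    ext ξ
    simp only [Finset.mem_filter, Finset.mem_univ, true_and, Finset.mem_image]
    constructor
    · intro h
      obtain ⟨p, hp⟩ := (S.mem_cb X hM l ξ).1 (S.inducing_unique X hM A L h ▸ mem_blockOf_self hM ξ)
      exact ⟨p, hp.symm⟩
    · rintro ⟨p, rfl⟩
      rw [← pblock_eq_blockOf hM (S.cb_isBlock X hM l) ((S.mem_cb X hM l _).2 ⟨p, rfl⟩)]
      exact S.gb_induced X hM l
  have hinj : Function.Injective fun p : Bool × Fin 4 => S.liftIrrE (p.1, S.tw X hM l p.2) := fun p p' h => by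
    have h' := S.liftIrrE_injective h
    exact Prod.ext (Prod.mk.inj h').1 (S.tw_injective X hM (Prod.mk.inj h').2).2
  have h := value_eq_sum_inducing hM hz (S.gb_isBlock X hM l) (y := y) hyo χ
  rw [hfilter, Finset.sum_image fun a _ b _ e => hinj e, Fintype.sum_prod_type, Fintype.sum_bool] at h
  rw [show ((y : S.C) : G) = (k : G) from S.pairMap_false_coe k] at h
  rw [← h]
  simp only [liftIrrE, hy, liftE_false]
  rw [← Finset.sum_add_distrib]
  refine Finset.sum_congr rfl fun i _ => ?_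
  rw [← add_mul, add_comm, S.inner_liftE]
  congr 2
  funext j
  simp [fS, pairMap_coe]

/-- The relation between the four extensions on the elements of odd order. -/
theorem hat_relation {k : S.EG} (hk : Odd (orderOf k)) :
    (S.hat X hM 1 : S.EG → ℂ) k = (S.hat X hM 2 : S.EG → ℂ) k + (S.hat X hM 3 : S.EG → ℂ) k - (S.D.δ : ℂ) := by
  have h := weak_orth hM (isPBlock_principalBlock (G := S.EG) (M := M)) (x := k) (y := S.ιE S.D.u)
    (by rw [← even_iff_two_dvd, Nat.not_even_iff_odd]; exact hk)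
    (by rw [orderOf_injective _ S.ιE_inj, S.D.orderOf_u])
  have hB : Finset.univ.filter (fun χ : IrrCharacter S.EG => χ ∈ principalBlock M S.EG) =
      Finset.univ.image (S.hat X hM) := by
    ext χ
    simp [S.principal_EG X hM, eq_comm]
  rw [finsum_mem_block, hB, Finset.sum_image fun a _ b _ e => S.hat_injective X hM e] at h
  have hu : 2 ∣ orderOf S.D.u := by rw [S.D.orderOf_u]
  simp only [Fin.sum_univ_four, S.hat_ι, LChars.four, Matrix.cons_val_zero, Matrix.cons_val_one,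
    Matrix.cons_val_two, Matrix.cons_val_three, Matrix.head_cons, Matrix.tail_cons, trivialIrr, map_one,
    X.St_even _ hu, X.e1_even _ hu, X.e2_even _ hu, mul_one, map_neg, map_intCast] at h
  rw [S.hat_zero X hM] at h
  simp only [trivialIrr] at h
  have hd : (S.D.δ : ℂ) * S.D.δ = 1 := by rcases S.D.hδ with e | e <;> simp [e]
  linear_combination (S.D.δ : ℂ) * h - (((S.hat X hM 1 : S.EG → ℂ) k) -
    (S.hat X hM 2 : S.EG → ℂ) k - (S.hat X hM 3 : S.EG → ℂ) k) * hd

/-- The three functions on `G`. -/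
noncomputable def PsiE (l : S.Fld →* ℂˣ) (i : Fin 3) : G → ℂ := S.Ind (S.PhiE X hM l i)

theorem exists_vE (l : S.Fld →* ℂˣ) (i : Fin 3) :
    ∃ a : IrrCharacter G → ℤ, ∀ χ : IrrCharacter G, classInner (S.PsiE X hM l i) (χ : G → ℂ) = a χ :=
  (IsGenChar.exists_decomp (S.Ind_gen (S.PhiE_gen X hM l i))).imp fun _ h => h.1

/-- The coordinates. -/
noncomputable def vE (l : S.Fld →* ℂˣ) (i : Fin 3) : IrrCharacter G → ℤ := (S.exists_vE X hM l i).choose

theorem vE_spec (l : S.Fld →* ℂˣ) (i : Fin 3) (χ : IrrCharacter G) :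
    classInner (S.PsiE X hM l i) (χ : G → ℂ) = S.vE X hM l i χ :=
  (S.exists_vE X hM l i).choose_spec χ

theorem inner_PsiE (A : Amb G) (l l' : S.Fld →* ℂˣ) (i i' : Fin 3) :
    classInner (S.PsiE X hM l i) (S.PsiE X hM l' i') =
      if l = l' then ((2 * ∑ j, X.coef i j * X.coef i' j : ℤ) : ℂ) else 0 := by
  rw [PsiE, PsiE, S.isometry (fun a => S.PhiE_supp X hM A) (IsGenChar.classFun (S.PhiE_gen X hM l' i'))
    (fun a => S.PhiE_supp X hM A), S.inner_PhiE]
  split_ifs <;> push_cast <;> ring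

theorem sum_vE_mul (A : Amb G) (l l' : S.Fld →* ℂˣ) (i i' : Fin 3) :
    ∑ χ : IrrCharacter G, S.vE X hM l i χ * S.vE X hM l' i' χ =
      if l = l' then 2 * ∑ j, X.coef i j * X.coef i' j else 0 := by
  have h := S.inner_PsiE X hM A l l' i i'
  rw [classFunction_expansion (IsGenChar.classFun (S.Ind_gen (S.PhiE_gen X hM l' i')) :
    IsClassFunction G (S.PsiE X hM l' i')), classInner_sum_right] at h
  simp only [classInner_smul_right, vE_spec] at h
  have h2 : ((∑ χ : IrrCharacter G, S.vE X hM l i χ * S.vE X hM l' i' χ : ℤ) : ℂ) =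
      (((if l = l' then 2 * ∑ j, X.coef i j * X.coef i' j else 0) : ℤ) : ℂ) := by
    rw [apply_ite (fun z : ℤ => (z : ℂ)), Int.cast_zero, ← h, Int.cast_sum]
    refine Finset.sum_congr rfl fun χ _ => ?_
    push_cast
    rw [map_intCast]
    ring
  exact_mod_cast h2

theorem sum_vE_one (A : Amb G) (l : S.Fld →* ℂˣ) (i : Fin 3) :
    ∑ χ : IrrCharacter G, (S.vE X hM l i χ : ℂ) * (χ : G → ℂ) 1 = 0 := by
  have h1 : S.PsiE X hM l i 1 = 0 :=
    S.Ind_odd (fun a => S.PhiE_supp X hM A) (n := 1) odd_one (one_pow 1)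
  have h2 := congrFun (classFunction_expansion
    (IsGenChar.classFun (S.Ind_gen (S.PhiE_gen X hM l i)) : IsClassFunction G (S.PsiE X hM l i))) 1
  rw [h1, Finset.sum_apply] at h2
  rw [h2]
  refine Finset.sum_congr rfl fun χ _ => ?_
  rw [Pi.smul_apply, smul_eq_mul]
  congr 1
  exact (S.vE_spec X hM l i χ).symm

/-- The coordinate as an inner product on `EG`. -/
theorem vE_eq (l : S.Fld →* ℂˣ) (i : Fin 3) (χ : IrrCharacter G) :
    (S.vE X hM l i χ : ℂ) = classInner (S.fS (χ : G → ℂ)) (S.PhiE X hM l i) := by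
  rw [← classInner_conj_symm, ← S.classInner_Ind _ (IsIrr.classFun χ.2)]
  rw [show classInner (S.Ind (S.PhiE X hM l i)) (χ : G → ℂ) = (S.vE X hM l i χ : ℂ) from S.vE_spec X hM l i χ,
    map_intCast]

theorem trivial_vE (l : S.Fld →* ℂˣ) (i : Fin 3) :
    (S.vE X hM l i (trivialIrr G) : ℤ) = if l = 1 then X.coef i 0 else 0 := by
  have h := S.vE_eq X hM l i (trivialIrr G)
  have e : S.fS ((trivialIrr G : IrrCharacter G) : G → ℂ) = (S.tw X hM 1 0 : S.EG → ℂ) := by
    funext x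
    simp [S.tw_apply, S.hat_zero X hM, fS, trivialIrr]
  rw [e, S.inner_PhiE_tw] at h
  simp only [eq_comm (a := (1 : S.Fld →* ℂˣ))] at h
  split_ifs with hl
  · rw [if_pos hl] at h; exact_mod_cast h
  · rw [if_neg hl] at h; exact_mod_cast h

theorem vE_sum (l : S.Fld →* ℂˣ) (i : Fin 3) (χ : IrrCharacter G) :
    (S.vE X hM l i χ : ℂ) = ∑ j, classInner (S.fS (χ : G → ℂ)) (S.tw X hM l j : S.EG → ℂ) * (X.coef i j : ℂ) := by
  rw [S.vE_eq X hM l i χ, S.PhiE_eq, classInner_sum_right]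
  exact Finset.sum_congr rfl fun j _ => by rw [classInner_smul_right, map_intCast]; ring

theorem vE_eq_zero (A : Amb G) (L : ExtLocals S) (l : S.Fld →* ℂˣ) (i : Fin 3) {χ : IrrCharacter G}
    (hχ : χ ∉ S.gb X hM l) : S.vE X hM l i χ = 0 := by
  have h : classInner (∑ j, classInner (S.fS (χ : G → ℂ)) (S.tw X hM l j : S.EG → ℂ) •
      (S.tw X hM l j : S.EG → ℂ)) (S.PhiE X hM l i) = 0 := by
    rw [classInner]
    rw [Finset.sum_eq_zero, mul_zero]
    intro k _
    by_cases hk : Odd (orderOf k)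
    · have := S.value_t X hM A L l χ hk
      rw [if_neg hχ] at this
      simp only [Finset.sum_apply, Pi.smul_apply, smul_eq_mul]
      rw [show (∑ j, classInner (S.fS (χ : G → ℂ)) (S.tw X hM l j : S.EG → ℂ) *
        (S.tw X hM l j : S.EG → ℂ) k) = 0 from this, zero_mul]
    · rw [S.PhiE_even X hM A (even_iff_two_dvd.1 (Nat.not_odd_iff_even.1 hk))]; simp
  rw [classInner_sum_left] at h
  simp only [classInner_smul_left, S.inner_PhiE_tw, if_true] at h
  rw [← S.vE_sum X hM l i χ] at h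
  exact_mod_cast h

theorem mem_of_vE (A : Amb G) (L : ExtLocals S) {l : S.Fld →* ℂˣ} {i : Fin 3} {χ : IrrCharacter G}
    (h : S.vE X hM l i χ ≠ 0) : χ ∈ S.gb X hM l := by
  by_contra hno
  exact h (S.vE_eq_zero X hM A L l i hno)

/-- The values on the section of `t` of a character of a twisted block. -/
theorem value_v (A : Amb G) (L : ExtLocals S) {l : S.Fld →* ℂˣ} {χ : IrrCharacter G}
    (hχ : χ ∈ S.gb X hM l) {k : S.EG} (hk : Odd (orderOf k)) :
    (χ : G → ℂ) (S.t * (k : G)) = (l (S.fp k) : ℂ) * (S.vE X hM l 0 χ +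
      S.vE X hM l 1 χ * ((S.hat X hM 2 : S.EG → ℂ) k - S.D.cc) +
      S.vE X hM l 2 χ * ((S.hat X hM 3 : S.EG → ℂ) k - S.D.cc)) := by
  have h := S.value_t X hM A L l χ hk
  rw [if_pos hχ] at h
  rw [← h, S.vE_sum X hM l 0, S.vE_sum X hM l 1, S.vE_sum X hM l 2]
  simp only [Fin.sum_univ_four, S.tw_apply, S.hat_relation X hM hk, S.hat_zero X hM]
  simp [LChars.coef, trivialIrr]
  have h2 : (2 : ℂ) * S.D.cc = 1 + S.D.δ := by exact_mod_cast congrArg (Int.cast : ℤ → ℂ) S.D.two_cc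
  linear_combination (l (S.fp k) : ℂ) *
    classInner (S.fS (χ : G → ℂ)) (S.tw X hM l 1 : S.EG → ℂ) * h2

theorem hat_one (i : Fin 4) : (S.hat X hM i : S.EG → ℂ) 1 = (X.four i : P → ℂ) 1 := by
  rw [← S.hat_ι X hM i 1, map_one]

/-- The value at `t`. -/
theorem value_one (A : Amb G) (L : ExtLocals S) {l : S.Fld →* ℂˣ} {χ : IrrCharacter G}
    (hχ : χ ∈ S.gb X hM l) : (χ : G → ℂ) S.t =
      S.vE X hM l 0 χ + ((S.vE X hM l 1 χ : ℂ) + S.vE X hM l 2 χ) * (((S.D.q : ℂ) - 1) / 2) := by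
  have h := S.value_v X hM A L hχ (k := 1) (by simp)
  rw [OneMemClass.coe_one, mul_one, map_one, map_one, Units.val_one, one_mul, S.hat_one, S.hat_one] at h
  have h2 : (2 : ℂ) * S.D.cc = 1 + S.D.δ := by exact_mod_cast congrArg (Int.cast : ℤ → ℂ) S.D.two_cc
  simp [LChars.four, X.e1_one, X.e2_one] at h
  rw [h]
  linear_combination (-((S.vE X hM l 1 χ : ℂ) + S.vE X hM l 2 χ) / 2) * h2

end Cfsg.Agent.Invol.JankoWard.ExtBase
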