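import Cfsg.Agent.Lib.Invol.JankoWard.Shape
import Cfsg.Agent.Lib.Invol.JankoWard.CaseDR

/-!
# A group with one class of involutions and centraliser `⟨t⟩ × E`, `E` almost simple of type `L2(q)`

`NoField`: the statement proved by induction (the field part is trivial).  `simple_part`: the involutions generate a
simple group.  `invol_count`: their number, for `q ≥ 5`, if `NoField` holds for that group.
-/

set_option autoImplicit false
set_option linter.unusedSectionVars false
set_option linter.style.haveILetI false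

open scoped Classical Pointwise

namespace Cfsg.Agent.Invol.JankoWard

open Subgroup

universe u

/-- In a simple group with elementary Sylow 2-subgroups of order eight the second factor of an involution
centraliser has no field part. -/
def NoField (G : Type u) [Group G] : Prop :=
  IsSimpleGroup G → Amb G → ∀ t : G, orderOf t = 2 → ∀ E : Subgroup G,
    Cfsg.IsInternalDirectProduct (zpowers t) E (centralizer ({t} : Set G)) →
      ∀ (F : Type) [Field F] [Fintype F], Odd (Fintype.card F) → 3 < Fintype.card F →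
        ∀ N : Subgroup ↥E, N.Normal → Nonempty (↥N ≃* Matrix.ProjectiveSpecialLinearGroup (Fin 2) F) →
          centralizer (N : Set ↥E) = ⊥ → N = ⊤

namespace QuotGroup

variable {R : Type u} [Group R] [Finite R] {t : R}

/-- The set of involutions. -/
def invols (R : Type u) [Group R] : Set R := {x | x * x = 1 ∧ x ≠ 1}

theorem card_class (ht : orderOf t = 2) (hone : ∀ x : R, orderOf x = 2 → IsConj t x) :
    Nat.card ↥(invols R) * Nat.card ↥(centralizer ({t} : Set R)) = Nat.card R := by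
  have h1 : Nat.card ↥(invols R) = (centralizer ({t} : Set R)).index := by
    symm
    rw [Subgroup.index_eq_card]
    refine Nat.card_eq_of_bijective (fun q => ⟨q.out * t * q.out⁻¹, ?_, ?_⟩) ⟨?_, ?_⟩
    · rw [conj_mul, ← pow_two t, ← ht, pow_orderOf_eq_one, mul_one, mul_inv_cancel]
    · exact fun e => by rw [conj_eq_one_iff.1 e, orderOf_one] at ht; omega
    · intro a b h
      have h' : a.out * t * a.out⁻¹ = b.out * t * b.out⁻¹ := congrArg Subtype.val h
      rw [← QuotientGroup.out_eq' a, ← QuotientGroup.out_eq' b, QuotientGroup.eq, mem_centralizer_singleton_iff]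
      calc a.out⁻¹ * b.out * t = a.out⁻¹ * (b.out * t * b.out⁻¹) * b.out := by group
        _ = a.out⁻¹ * (a.out * t * a.out⁻¹) * b.out := by rw [h']
        _ = t * (a.out⁻¹ * b.out) := by group
    · rintro ⟨x, hx, hx1⟩
      obtain ⟨c, rfl⟩ := isConj_iff.1 (hone x (orderOf_eq_prime (by rw [pow_two]; exact hx) hx1))
      refine ⟨(c : R ⧸ centralizer ({t} : Set R)), Subtype.ext ?_⟩
      obtain ⟨k, hk⟩ := QuotientGroup.mk_out_eq_mul (centralizer ({t} : Set R)) c
      show (c : R ⧸ centralizer ({t} : Set R)).out * t * (c : R ⧸ centralizer ({t} : Set R)).out⁻¹ = c * t * c⁻¹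
      rw [hk, mul_inv_rev, ← mul_assoc, mul_assoc c, mem_centralizer_singleton_iff.1 k.2]
      group
  rw [h1, mul_comm, Subgroup.card_mul_index]

/-- An odd normal subgroup is trivial. -/
theorem odd_normal_eq_bot (ht : orderOf t = 2) (hone : ∀ x : R, orderOf x = 2 → IsConj t x) {E : Subgroup R}
    (hE : Cfsg.IsInternalDirectProduct (zpowers t) E (centralizer ({t} : Set R))) (N : Subgroup ↥E) [N.Normal]
    [IsSimpleGroup ↥N] (hcN : centralizer (N : Set ↥E) = ⊥) (h2N : 2 ∣ Nat.card N)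
    (K : Subgroup R) [hK : K.Normal] (hKodd : Odd (Nat.card K)) : K = ⊥ := by
  have htt : t * t = 1 := by rw [← pow_two, ← ht, pow_orderOf_eq_one]
  have hcomm : ∀ x ∈ E, x * t = t * x := fun x hx => (hE.2.2.1 t (mem_zpowers t) x hx).symm
  -- the fixed points of `t`
  have hfixt : ∀ c ∈ K, Commute t c → c = 1 := by
    intro c hc htc
    have hcE : c ∈ E := by
      have hcC : c ∈ zpowers t ⊔ E := hE.2.2.2.2.symm ▸ mem_centralizer_singleton_iff.2 htc.eq.symm
      have hnorm : E ≤ normalizer ((zpowers t : Subgroup R) : Set R) := fun x hx => centralizer_le_normalizer _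
        (mem_centralizer_iff.2 fun d hd => hE.2.2.1 d hd x hx)
      have hmem : c ∈ ((zpowers t : Subgroup R) : Set R) * (E : Set R) := by
        rw [← Subgroup.coe_mul_of_right_le_normalizer_left (zpowers t) E hnorm]; exact hcC
      obtain ⟨a, ha, b, hb, rfl⟩ := Set.mem_mul.1 hmem
      obtain ⟨i, rfl⟩ := mem_zpowers_iff.1 ha
      have ht2 : t ^ (2 : ℤ) = 1 := by rw [zpow_two, htt]
      rcases Int.even_or_odd i with ⟨m, rfl⟩ | ⟨m, rfl⟩
      · rw [← two_mul, zpow_mul, ht2, one_zpow, one_mul]; exact hb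
      · exfalso
        rw [zpow_add, zpow_one, zpow_mul, ht2, one_zpow, one_mul] at hc htc
        obtain ⟨k, hk⟩ := hKodd
        have h1 : (t * b) ^ Nat.card K = 1 :=
          congrArg Subtype.val (pow_card_eq_one' (x := (⟨t * b, hc⟩ : ↥K)))
        rw [(show Commute t b from (hcomm b hb).symm).mul_pow, hk, pow_succ t, pow_mul, pow_two, htt, one_pow,
          one_mul] at h1
        have h2 : t ∈ zpowers t ⊓ E := ⟨mem_zpowers t, by
          rw [eq_inv_of_mul_eq_one_left h1]; exact E.inv_mem (E.pow_mem hb _)⟩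
        rw [hE.2.2.2.1, mem_bot] at h2
        rw [h2, orderOf_one] at ht
        omega
    set KE : Subgroup ↥E := K.subgroupOf E
    haveI : KE.Normal := Subgroup.normal_subgroupOf
    have hKN : KE ⊓ N = ⊥ := by
      have hd : Nat.card ↥(KE ⊓ N) ∣ Nat.card K := by
        refine (Subgroup.card_dvd_of_le inf_le_left).trans ?_
        exact Subgroup.card_comap_dvd_of_injective K E.subtype E.subtype_injective
      rcases IsSimpleGroup.eq_bot_or_eq_top_of_normal ((KE ⊓ N).subgroupOf N) inferInstance with h | h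
      · rwa [subgroupOf_eq_bot, disjoint_iff, inf_assoc, inf_idem] at h
      · exfalso
        rw [subgroupOf_eq_top] at h
        have h3 := (h2N.trans (Subgroup.card_dvd_of_le h)).trans hd
        rw [Nat.odd_iff] at hKodd
        omega
    have hmem : (⟨c, hcE⟩ : ↥E) ∈ centralizer (N : Set ↥E) := mem_centralizer_iff.2 fun n hn =>
      (Subgroup.commute_of_normal_of_disjoint N KE inferInstance inferInstance
        (disjoint_iff.2 (by rw [inf_comm, hKN])) n ⟨c, hcE⟩ hn hc).eq
    rw [hcN, mem_bot] at hmem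
    exact congrArg Subtype.val hmem
  have hfix : ∀ v : R, v * v = 1 → v ≠ 1 → ∀ c ∈ K, Commute v c → c = 1 := by
    intro v hv hv1 c hc hvc
    obtain ⟨g, rfl⟩ := isConj_iff.1 (hone v (orderOf_eq_prime (by rw [pow_two]; exact hv) hv1))
    have h1 : Commute t (g⁻¹ * c * g) := by
      have h := hvc.map (MulAut.conj g⁻¹).toMonoidHom
      simpa [mul_assoc] using h
    have h2 := hfixt _ (by simpa using hK.conj_mem c hc g⁻¹) h1
    have h3 : c = g * (g⁻¹ * c * g) * g⁻¹ := by group
    rw [h2, mul_one, mul_inv_cancel] at h3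
    exact h3
  haveI : Fact (Nat.Prime 2) := ⟨Nat.prime_two⟩
  obtain ⟨⟨⟨b, hbE⟩, hbN⟩, hbo⟩ := exists_prime_orderOf_dvd_card' (G := ↥N) 2 h2N
  rw [Subgroup.orderOf_mk, Subgroup.orderOf_mk] at hbo
  have hbb : b * b = 1 := by rw [← pow_two, ← hbo, pow_orderOf_eq_one]
  have hb1 : b ≠ 1 := fun e => by rw [e, orderOf_one] at hbo; omega
  have hbt := hcomm b hbE
  have htb : t * b * (t * b) = 1 := by
    rw [(show Commute b t from hbt).mul_mul_mul_comm, htt, hbb, one_mul]
  refine CaseD.eq_bot_of_three K hKodd htt hbb (fun x => ?_) hfixt (hfix b hbb hb1) (hfix _ htb ?_)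
  · rw [normalizer_eq_top_iff.2 hK]; exact mem_top x
  · intro e
    have h1 : t = b := by rw [eq_inv_of_mul_eq_one_left e, inv_eq_of_mul_eq_one_right hbb]
    have h2 : t ∈ zpowers t ⊓ E := ⟨mem_zpowers t, h1 ▸ hbE⟩
    rw [hE.2.2.2.1, mem_bot] at h2
    rw [h2, orderOf_one] at ht
    omega

/-- The simple normal subgroup, and the number of involutions. -/
theorem invol_count (A : Amb R) (ht : orderOf t = 2) (hone : ∀ x : R, orderOf x = 2 → IsConj t x)
    {E : Subgroup R} (hE : Cfsg.IsInternalDirectProduct (zpowers t) E (centralizer ({t} : Set R)))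
    {F : Type} [Field F] [Fintype F] (hF : 5 ≤ Fintype.card F) (hodd : Odd (Fintype.card F))
    (N : Subgroup ↥E) [N.Normal] (e : ↥N ≃* Matrix.ProjectiveSpecialLinearGroup (Fin 2) F)
    (hcN : centralizer (N : Set ↥E) = ⊥) (ih : ∀ M : Subgroup R, NoField ↥M) :
    ∃ M : Subgroup R, M.Normal ∧ IsSimpleGroup ↥M ∧ t ∈ M ∧ N.map E.subtype ≤ M ∧
      (∀ x ∈ invols R, x ∈ M) ∧
      ((Fintype.card F = 5 ∧ Nat.card ↥M = 175560 ∧ Nat.card ↥(invols R) = 1463) ∨
        ∃ m : ℕ, 1 ≤ m ∧ Fintype.card F = 3 ^ (2 * m + 1) ∧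
          Nat.card ↥M = Fintype.card F ^ 3 * (Fintype.card F ^ 3 + 1) * (Fintype.card F - 1) ∧
          Nat.card ↥(invols R) = Fintype.card F ^ 2 * (Fintype.card F ^ 2 - Fintype.card F + 1)) := by
  haveI : Fact (Nat.Prime 2) := ⟨Nat.prime_two⟩
  set PS := Matrix.ProjectiveSpecialLinearGroup (Fin 2) F with hPS
  haveI hPsimp : IsSimpleGroup PS := Classical.PSL_isSimple le_rfl fun _ => by omega
  haveI : IsSimpleGroup ↥N :=
    haveI : Nontrivial ↥N := e.toEquiv.nontrivial
    IsSimpleGroup.isSimpleGroup_of_surjective e.symm.toMonoidHom e.symm.surjective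
  obtain ⟨h4, h3, -⟩ := psl_card_facts F (by omega)
  have h2N : 2 ∣ Nat.card N := by
    rw [Nat.card_congr e.toEquiv]; exact (show 2 ∣ 4 by norm_num).trans h4
  have htt : t * t = 1 := by rw [← pow_two, ← ht, pow_orderOf_eq_one]
  have ht1 : t ≠ 1 := fun h => by rw [h, orderOf_one] at ht; omega
  set M := normalClosure ({t} : Set R) with hM
  haveI hMn : M.Normal := normalClosure_normal
  have htM : t ∈ M := subset_normalClosure rfl
  have hinv : ∀ x ∈ invols R, x ∈ M := by
    rintro x ⟨hx, hx1⟩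
    obtain ⟨c, rfl⟩ := isConj_iff.1 (hone x (orderOf_eq_prime (by rw [pow_two]; exact hx) hx1))
    exact hMn.conj_mem t htM c
  have hNM : N.map E.subtype ≤ M := by
    obtain ⟨⟨b, hbN⟩, hbo⟩ := exists_prime_orderOf_dvd_card' (G := ↥N) 2 h2N
    rw [Subgroup.orderOf_mk, ← Subgroup.orderOf_coe] at hbo
    have hbM : (b : R) ∈ M := hinv _ ⟨by rw [← pow_two, ← hbo, pow_orderOf_eq_one],
      fun e0 => by rw [e0, orderOf_one] at hbo; omega⟩
    haveI : ((M.subgroupOf E).subgroupOf N).Normal := inferInstance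
    rcases IsSimpleGroup.eq_bot_or_eq_top_of_normal ((M.subgroupOf E).subgroupOf N) inferInstance with h | h
    · exfalso
      have h1 : (⟨b, hbN⟩ : ↥N) = 1 := mem_bot.1 (h ▸ (show (⟨b, hbN⟩ : ↥N) ∈ (M.subgroupOf E).subgroupOf N from hbM))
      rw [show (b : R) = 1 from congrArg (fun z : ↥N => ((z : ↥E) : R)) h1, orderOf_one] at hbo
      omega
    · rintro _ ⟨n, hn, rfl⟩
      exact (h ▸ mem_top (⟨n, hn⟩ : ↥N) : (⟨n, hn⟩ : ↥N) ∈ (M.subgroupOf E).subgroupOf N)
  -- a Sylow subgroup in `M`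
  obtain ⟨T, htT⟩ : ∃ T : Sylow 2 R, t ∈ (T : Subgroup R) := by
    obtain ⟨T, hT⟩ := (IsPGroup.of_card (p := 2) (n := 1) (G := ↥(zpowers t))
      (by rw [Nat.card_zpowers, ht, pow_one])).exists_le_sylow
    exact ⟨T, hT (mem_zpowers t)⟩
  have hTsq : ∀ x ∈ (T : Subgroup R), x * x = 1 := fun x hx => by
    obtain ⟨k, hk⟩ := T.isPGroup' ⟨x, hx⟩
    exact A.sq2 x ⟨k, congrArg Subtype.val hk⟩
  have hTc : IsMulCommutative ↥(T : Subgroup R) := ⟨⟨fun a b => Subtype.ext (by
    show (a : R) * b = b * a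
    rw [← inv_eq_of_mul_eq_one_right (hTsq _ (mul_mem a.2 b.2)), mul_inv_rev,
      inv_eq_of_mul_eq_one_right (hTsq _ a.2), inv_eq_of_mul_eq_one_right (hTsq _ b.2)])⟩⟩
  have hTM : (T : Subgroup R) ≤ M := fun x hx => by
    by_cases hx1 : x = 1
    · rw [hx1]; exact one_mem _
    · exact hinv x ⟨hTsq x hx, hx1⟩
  -- the classes of `M` on the involutions
  have honeM : ∀ x ∈ invols R, ∃ m ∈ M, m * t * m⁻¹ = x := by
    let Tn := {x : ↥(T : Subgroup R) // x ≠ 1}
    haveI : Fintype Tn := Fintype.ofFinite _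
    have hc7 : Fintype.card Tn = 7 := by
      haveI : Fintype ↥(T : Subgroup R) := Fintype.ofFinite _
      rw [Fintype.card_subtype_compl, Fintype.card_subtype_eq, ← Nat.card_eq_fintype_card, A.eight T]
    have hmove : ∀ a b : Tn, ∃ n ∈ normalizer ((T : Subgroup R) : Set R), n * (a.1 : R) * n⁻¹ = b.1 := by
      intro a b
      have ha1 : (a.1 : R) ≠ 1 := fun h => a.2 (Subtype.ext h)
      have hb1 : (b.1 : R) ≠ 1 := fun h => b.2 (Subtype.ext h)
      have ha2 : orderOf (a.1 : R) = 2 := orderOf_eq_prime (by rw [pow_two]; exact hTsq _ a.1.2) ha1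
      have hb2 : orderOf (b.1 : R) = 2 := orderOf_eq_prime (by rw [pow_two]; exact hTsq _ b.1.2) hb1
      obtain ⟨g, hg⟩ := isConj_iff.1 ((hone _ ha2).symm.trans (hone _ hb2))
      obtain ⟨n, hn, hne⟩ := Transfer.exists_normalizer_conj_of_abelian T hTc (x := (a.1 : R)) (g := g)
        a.1.2 (hg ▸ b.1.2)
      exact ⟨n, hn, hne.trans hg⟩
    let Rel : Tn → Tn → Prop := fun a b => ∃ m ∈ M, m * (a.1 : R) * m⁻¹ = b.1
    have hsymm : ∀ a b, Rel a b → Rel b a := by
      rintro a b ⟨m, hm, h⟩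
      exact ⟨m⁻¹, inv_mem hm, by rw [← h]; group⟩
    have htrans : ∀ a b c, Rel a b → Rel b c → Rel a c := by
      rintro a b c ⟨m, hm, h⟩ ⟨m', hm', h'⟩
      exact ⟨m' * m, mul_mem hm' hm, by rw [← h', ← h]; group⟩
    let cls : Tn → Finset Tn := fun a => Finset.univ.filter (Rel a)
    have hself : ∀ a, a ∈ cls a := fun a => Finset.mem_filter.2 ⟨Finset.mem_univ a, 1, one_mem M, by group⟩
    have hfib : ∀ a, Finset.univ.filter (fun b => cls b = cls a) = cls a := by
      intro a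
      ext b
      simp only [Finset.mem_filter, Finset.mem_univ, true_and, cls]
      constructor
      · intro h
        have h1 : b ∈ cls a := by
          show b ∈ Finset.univ.filter (Rel a)
          rw [← h]
          exact hself b
        exact (Finset.mem_filter.1 h1).2
      · intro h
        ext c
        simp only [Finset.mem_filter, Finset.mem_univ, true_and]
        exact ⟨fun h' => htrans _ _ _ h h', fun h' => htrans _ _ _ (hsymm _ _ h) h'⟩
    have hsize : ∀ a b, (cls a).card = (cls b).card := by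
      intro a b
      obtain ⟨n, hn, hnab⟩ := hmove a b
      have hmap : ∀ c : Tn, n * (c.1 : R) * n⁻¹ ∈ (T : Subgroup R) := fun c =>
        (mem_normalizer_iff.1 hn _).1 c.1.2
      let f : Tn → Tn := fun c => ⟨⟨n * (c.1 : R) * n⁻¹, hmap c⟩, fun h =>
        c.2 (Subtype.ext (conj_eq_one_iff.1 (congrArg Subtype.val h)))⟩
      have hf : Function.Injective f := fun c d h => Subtype.ext (Subtype.ext
        ((MulAut.conj n).injective (congrArg (fun z : Tn => (z.1 : R)) h)))
      refine Finset.card_bij (fun c _ => f c) (fun c hc => ?_) (fun c _ d _ h => hf h) fun c hc => ?_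
      · obtain ⟨-, m, hm, h⟩ := Finset.mem_filter.1 hc
        refine Finset.mem_filter.2 ⟨Finset.mem_univ _, n * m * n⁻¹, hMn.conj_mem m hm n, ?_⟩
        show n * m * n⁻¹ * (b.1 : R) * (n * m * n⁻¹)⁻¹ = n * (c.1 : R) * n⁻¹
        rw [← hnab, ← h]; group
      · obtain ⟨d, rfl⟩ := (Finite.injective_iff_surjective.1 hf) c
        refine ⟨d, Finset.mem_filter.2 ⟨Finset.mem_univ _, ?_⟩, rfl⟩
        obtain ⟨-, m, hm, h⟩ := Finset.mem_filter.1 hc
        have h' : m * (b.1 : R) * m⁻¹ = n * (d.1 : R) * n⁻¹ := h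
        refine ⟨n⁻¹ * m * n, by simpa using hMn.conj_mem m hm n⁻¹, ?_⟩
        rw [show (d.1 : R) = n⁻¹ * (n * (d.1 : R) * n⁻¹) * n by group, ← h', ← hnab]; group
    have htn : (⟨t, htT⟩ : ↥(T : Subgroup R)) ≠ 1 := fun h => ht1 (congrArg Subtype.val h)
    set t0 : Tn := ⟨⟨t, htT⟩, htn⟩
    have hdvd : (cls t0).card ∣ 7 := by
      have hsum := Finset.card_eq_sum_card_image cls (Finset.univ : Finset Tn)
      rw [Finset.card_univ, hc7] at hsum
      rw [hsum]
      refine Finset.dvd_sum fun s hs => ?_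
      obtain ⟨a, -, rfl⟩ := Finset.mem_image.1 hs
      rw [hfib, hsize a t0]
    have hone' : 1 < (cls t0).card := by
      by_contra hle
      have hle1 : ∀ a b : Tn, Rel a b → a = b := fun a b h => Finset.card_le_one.1
        (by rw [hsize a t0]; omega) a (hself a) b (Finset.mem_filter.2 ⟨Finset.mem_univ b, h⟩)
      -- two conjugate involutions of `N` in a common Sylow subgroup
      haveI : Finite ↥N := inferInstance
      obtain ⟨Q, hQ⟩ : ∃ Q : Sylow 2 ↥N, True := ⟨default, trivial⟩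
      obtain ⟨k, hk⟩ := IsPGroup.iff_card.1 Q.isPGroup'
      have h4N : 4 ∣ Nat.card N := by rw [Nat.card_congr e.toEquiv]; exact h4
      have hQ4 : 4 ≤ Nat.card ↥(Q : Subgroup ↥N) := by
        have h5 := (Nat.prime_two.pow_dvd_iff_le_factorization (k := 2) Nat.card_pos.ne').1 (by simpa using h4N)
        rw [Q.card_eq_multiplicity]
        calc 4 = 2 ^ 2 := by norm_num
          _ ≤ _ := Nat.pow_le_pow_right two_pos h5
      haveI : Fintype ↥(Q : Subgroup ↥N) := Fintype.ofFinite _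
      have h1lt : 1 < (Finset.univ.erase (1 : ↥(Q : Subgroup ↥N))).card := by
        rw [Finset.card_erase_of_mem (Finset.mem_univ _), Finset.card_univ, ← Nat.card_eq_fintype_card]
        omega
      obtain ⟨a, ha, b, hb, hab⟩ := Finset.one_lt_card.1 h1lt
      let φ : ↥(Q : Subgroup ↥N) →* R := (E.subtype.comp N.subtype).comp (Q : Subgroup ↥N).subtype
      have hφ : Function.Injective φ :=
        (E.subtype_injective.comp N.subtype_injective).comp (Q : Subgroup ↥N).subtype_injective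
      have hsq : ∀ c, φ c * φ c = 1 := fun c => by
        obtain ⟨j, hj⟩ := Q.isPGroup' c
        exact A.sq2 _ ⟨j, by rw [← map_pow, hj, map_one]⟩
      have hqq : ∀ c : ↥(Q : Subgroup ↥N), c ≠ 1 → ((c : ↥N) * (c : ↥N) = 1 ∧ (c : ↥N) ≠ 1) := fun c hc =>
        ⟨(N.subtype_injective (E.subtype_injective (by rw [map_mul, map_mul, map_one, map_one]; exact hsq c))),
          fun h => hc (Subtype.ext h)⟩
      obtain ⟨ha2, ha1⟩ := hqq a (Finset.ne_of_mem_erase ha)
      obtain ⟨hb2, hb1⟩ := hqq b (Finset.ne_of_mem_erase hb)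
      -- conjugate in `N`
      have hab' : IsConj (a : ↥N) (b : ↥N) := by
        obtain ⟨D, -⟩ : ∃ D : Unit, True := ⟨(), trivial⟩
        have hP : ∀ x y : PS, x * x = 1 → x ≠ 1 → y * y = 1 → y ≠ 1 → IsConj x y := fun x y hx hx1 hy hy1 =>
          Fus.PSLTwo.involutions_conj (Nat.odd_iff.1 hodd) (orderOf_eq_prime (by rw [pow_two]; exact hx) hx1)
            (orderOf_eq_prime (by rw [pow_two]; exact hy) hy1)
        have := hP (e (a : ↥N)) (e (b : ↥N)) (by rw [← map_mul, ha2, map_one])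
          (fun h => ha1 (e.map_eq_one_iff.1 h)) (by rw [← map_mul, hb2, map_one]) (fun h => hb1 (e.map_eq_one_iff.1 h))
        simpa using MonoidHom.map_isConj e.symm.toMonoidHom this
      obtain ⟨c, hc⟩ := isConj_iff.1 hab'
      have hQT : IsPGroup 2 ↥φ.range := by
        rw [MonoidHom.range_eq_map]
        exact (IsPGroup.of_card (n := k) (by rw [Subgroup.card_top, hk])).map φ
      obtain ⟨T', hT'⟩ := hQT.exists_le_sylow
      obtain ⟨g, hg⟩ := MulAction.exists_smul_eq R T' T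
      have hin : ∀ d, g * φ d * g⁻¹ ∈ (T : Subgroup R) := fun d => by
        rw [← hg, Sylow.coe_subgroup_smul]
        exact ⟨φ d, hT' ⟨d, rfl⟩, rfl⟩
      have hne : ∀ d, d ≠ 1 → (⟨g * φ d * g⁻¹, hin d⟩ : ↥(T : Subgroup R)) ≠ 1 := fun d hd h =>
        hd (hφ ((conj_eq_one_iff.1 (congrArg Subtype.val h)).trans (map_one φ).symm))
      have hrel := hle1 ⟨⟨_, hin a⟩, hne a (Finset.ne_of_mem_erase ha)⟩ ⟨⟨_, hin b⟩, hne b (Finset.ne_of_mem_erase hb)⟩
        ⟨g * ((c : ↥E) : R) * g⁻¹, hMn.conj_mem _ (hNM ⟨_, c.2, rfl⟩) g, by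
          show g * ((c : ↥E) : R) * g⁻¹ * (g * φ a * g⁻¹) * (g * ((c : ↥E) : R) * g⁻¹)⁻¹ = g * φ b * g⁻¹
          have hc' : ((c : ↥E) : R) * φ a * ((c : ↥E) : R)⁻¹ = φ b :=
            congrArg (fun z : ↥N => ((z : ↥E) : R)) hc
          rw [← hc']; group⟩
      exact hab (hφ ((MulAut.conj g).injective (congrArg (fun z : Tn => (z.1 : R)) hrel)))
    have hall : cls t0 = Finset.univ := by
      refine Finset.eq_univ_of_card _ ?_
      rw [hc7]
      rcases (Nat.dvd_prime (by norm_num : Nat.Prime 7)).1 hdvd with h | h <;> omega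
    rintro x ⟨hx, hx1⟩
    have hxo : orderOf x = 2 ^ 1 := by rw [pow_one]; exact orderOf_eq_prime (by rw [pow_two]; exact hx) hx1
    let TM : Sylow 2 ↥M := T.subtype hTM
    have hxM := hinv x ⟨hx, hx1⟩
    obtain ⟨d, hd⟩ := Invol.exists_conj_mem_sylow (x := (⟨x, hxM⟩ : ↥M)) (by rw [Subgroup.orderOf_mk]; exact hxo) TM
    have hdT : (d : R) * x * (d : R)⁻¹ ∈ (T : Subgroup R) := hd
    have hmem : (⟨⟨_, hdT⟩, fun h => hx1 (conj_eq_one_iff.1 (congrArg Subtype.val h))⟩ : Tn) ∈ cls t0 := by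
      rw [hall]; exact Finset.mem_univ _
    obtain ⟨-, m, hm, h⟩ := Finset.mem_filter.1 hmem
    have h' : m * t * m⁻¹ = (d : R) * x * (d : R)⁻¹ := h
    refine ⟨(d : R)⁻¹ * m, mul_mem (inv_mem d.2) hm, ?_⟩
    rw [show (d : R)⁻¹ * m * t * ((d : R)⁻¹ * m)⁻¹ = (d : R)⁻¹ * (m * t * m⁻¹) * d by group, h']
    group
  -- `M` is simple
  haveI : Nontrivial ↥M := ⟨⟨⟨t, htM⟩, 1, fun h => ht1 (congrArg Subtype.val h)⟩⟩
  have hMsimp : IsSimpleGroup ↥M := by
    refine ⟨fun K hK => ?_⟩
    rcases Nat.even_or_odd (Nat.card K) with hev | hodd'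
    · refine Or.inr ?_
      haveI : Fact (Nat.Prime 2) := ⟨Nat.prime_two⟩
      obtain ⟨⟨⟨v, hvM⟩, hvK⟩, hvo⟩ := exists_prime_orderOf_dvd_card' (G := ↥K) 2 (even_iff_two_dvd.1 hev)
      rw [Subgroup.orderOf_mk, Subgroup.orderOf_mk] at hvo
      obtain ⟨m, hm, rfl⟩ := honeM v ⟨by rw [← pow_two, ← hvo, pow_orderOf_eq_one],
        fun h => by rw [h, orderOf_one] at hvo; omega⟩
      have htK : (⟨t, htM⟩ : ↥M) ∈ K := by
        have h := hK.conj_mem _ hvK (⟨m, hm⟩ : ↥M)⁻¹
        convert h using 1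
        refine Subtype.ext ?_
        show t = m⁻¹ * (m * t * m⁻¹) * m⁻¹⁻¹
        group
      refine eq_top_iff.2 fun y _ => ?_
      have hle : M ≤ K.map M.subtype := by
        show normalClosure ({t} : Set R) ≤ _
        refine (Subgroup.closure_le _).2 ?_
        intro z hz
        obtain ⟨z', hz', hconj⟩ := Group.mem_conjugatesOfSet_iff.1 hz
        obtain rfl : z' = t := hz'
        obtain ⟨c, rfl⟩ := isConj_iff.1 hconj
        have hz1 : c * z' * c⁻¹ ∈ invols R := ⟨by rw [conj_mul, htt, mul_one, mul_inv_cancel],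
          fun h => ht1 (conj_eq_one_iff.1 h)⟩
        obtain ⟨n, hn, hne⟩ := honeM _ hz1
        exact ⟨⟨n, hn⟩ * ⟨z', htM⟩ * (⟨n, hn⟩ : ↥M)⁻¹, hK.conj_mem _ htK _, hne⟩
      obtain ⟨z, hz, hzy⟩ := hle y.2
      rwa [show y = z from Subtype.ext hzy.symm]
    · refine Or.inl ?_
      have hle : K ≤ Cfsg.pPrimeCore 2 ↥M := Grp.le_pPrimeCore ‹_› (Nat.coprime_two_right.2 hodd')
      haveI : (Cfsg.pPrimeCore 2 ↥M).Characteristic := Grp.instCharPPrimeCore
      refine eq_bot_iff.2 (hle.trans (eq_bot_iff.1 ?_))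
      rw [← Subgroup.map_eq_bot_iff_of_injective _ M.subtype_injective]
      refine odd_normal_eq_bot ht hone hE N hcN h2N _ ?_
      rw [Subgroup.card_map_of_injective M.subtype_injective]
      exact Nat.coprime_two_right.1 (Grp.pPrimeCore_coprime (p := 2))
  haveI := hMsimp
  -- the centraliser in `M`
  set t' : ↥M := ⟨t, htM⟩ with ht'
  have ht'o : orderOf t' = 2 := (Subgroup.orderOf_mk t htM).trans ht
  set E' : Subgroup ↥M := E.subgroupOf M with hE'
  have hIE : Cfsg.IsInternalDirectProduct (zpowers t') E' (centralizer ({t'} : Set ↥M)) := by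
    refine ⟨zpowers_le.2 (mem_centralizer_singleton_iff.2 rfl), fun x hx => ?_, fun a ha b hb => ?_, ?_, ?_⟩
    · exact mem_centralizer_singleton_iff.2 (Subtype.ext (mem_centralizer_singleton_iff.1 (hE.2.1 hx)))
    · obtain ⟨i, rfl⟩ := mem_zpowers_iff.1 ha
      exact Subtype.ext (hE.2.2.1 _ (by rw [SubgroupClass.coe_zpow]; exact zpow_mem (mem_zpowers t) i) _ hb)
    · refine (eq_bot_iff_forall _).2 fun x ⟨hx1, hx2⟩ => Subtype.ext ?_
      obtain ⟨i, rfl⟩ := mem_zpowers_iff.1 hx1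
      have h : (t' ^ i : ↥M).1 ∈ zpowers t ⊓ E := ⟨by rw [SubgroupClass.coe_zpow]; exact zpow_mem (mem_zpowers t) i, hx2⟩
      rwa [hE.2.2.2.1, mem_bot] at h
    · refine le_antisymm (sup_le (zpowers_le.2 (mem_centralizer_singleton_iff.2 rfl)) fun x hx =>
        mem_centralizer_singleton_iff.2 (Subtype.ext (mem_centralizer_singleton_iff.1 (hE.2.1 hx)))) fun x hx => ?_
      have hxC : (x : R) ∈ zpowers t ⊔ E :=
        hE.2.2.2.2.symm ▸ mem_centralizer_singleton_iff.2 (congrArg Subtype.val (mem_centralizer_singleton_iff.1 hx))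
      have hnorm : E ≤ normalizer ((zpowers t : Subgroup R) : Set R) := fun z hz => centralizer_le_normalizer _
        (mem_centralizer_iff.2 fun d hd => hE.2.2.1 d hd z hz)
      have hmem : (x : R) ∈ ((zpowers t : Subgroup R) : Set R) * (E : Set R) := by
        rw [← Subgroup.coe_mul_of_right_le_normalizer_left (zpowers t) E hnorm]; exact hxC
      obtain ⟨a, ha, b, hb, hab⟩ := Set.mem_mul.1 hmem
      obtain ⟨i, rfl⟩ := mem_zpowers_iff.1 ha
      have hbM : b ∈ M := by
        have : b = (t ^ i)⁻¹ * x := by rw [← hab, inv_mul_cancel_left]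
        rw [this]; exact mul_mem (inv_mem (zpow_mem htM i)) x.2
      rw [show x = t' ^ i * ⟨b, hbM⟩ from Subtype.ext (by rw [Subgroup.coe_mul, SubgroupClass.coe_zpow]; exact hab.symm)]
      exact mul_mem (mem_sup_left (zpow_mem (mem_zpowers t') i)) (mem_sup_right hb)
  let ρ : ↥E' →* ↥E :=
    { toFun := fun x => ⟨((x : ↥M) : R), x.2⟩, map_one' := rfl, map_mul' := fun _ _ => rfl }
  have hρ : Function.Injective ρ := fun x y h => Subtype.ext (Subtype.ext (congrArg (fun z : ↥E => (z : R)) h))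
  set N' : Subgroup ↥E' := N.comap ρ with hN'
  haveI : N'.Normal := inferInstance
  have hNρ : N ≤ ρ.range := fun n hn => ⟨⟨⟨(n : R), hNM ⟨n, hn, rfl⟩⟩, n.2⟩, rfl⟩
  have e' : ↥N' ≃* PS := ((N'.equivMapOfInjective ρ hρ).trans
    (MulEquiv.subgroupCongr (Subgroup.map_comap_eq_self hNρ))).trans e
  have hcN' : centralizer (N' : Set ↥E') = ⊥ := (eq_bot_iff_forall _).2 fun x hx => hρ (by
    have h : ρ x ∈ centralizer (N : Set ↥E) := mem_centralizer_iff.2 fun n hn => by
      obtain ⟨y, rfl⟩ := hNρ hn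
      rw [← map_mul, ← map_mul, mem_centralizer_iff.1 hx y hn]
    rw [hcN, mem_bot] at h
    rw [h, map_one])
  have hPna : ¬ IsMulCommutative PS := by
    intro hc
    letI : CommGroup PS := { (inferInstance : Group PS) with mul_comm := hc.is_comm.comm }
    have hp : (Nat.card PS).Prime := IsSimpleGroup.prime_card
    rcases hp.eq_one_or_self_of_dvd 4 h4 with h | h
    · omega
    · rw [← h] at hp; norm_num at hp
  have hMna : ¬ IsMulCommutative ↥M := fun hc => hPna ⟨⟨fun a b => by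
    have hab : ((e'.symm a : ↥E') : ↥M) * (e'.symm b : ↥E') = (e'.symm b : ↥E') * (e'.symm a : ↥E') :=
      hc.is_comm.comm _ _
    exact e'.symm.injective (by rw [map_mul, map_mul]; exact Subtype.ext (Subtype.ext hab))⟩⟩
  have hAM : Amb ↥M := by
    refine ⟨hMna, fun T' => ?_, fun x ⟨k, hk⟩ => Subtype.ext (A.sq2 (x : R) ⟨k, congrArg Subtype.val hk⟩)⟩
    rw [T'.card_eq_multiplicity, ← (T.subtype hTM).card_eq_multiplicity, Sylow.coe_subtype,
      Nat.card_congr (Subgroup.subgroupOfEquivOfLe hTM).toEquiv, A.eight T]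
  have hN'top : N' = ⊤ := ih M hMsimp hAM t' ht'o E' hIE F hodd (by omega) N' inferInstance ⟨e'⟩ hcN'
  obtain ⟨g⟩ := AbelTwo.prod_equiv ht'o hIE
  let g' : ↥(centralizer ({t'} : Set ↥M)) ≃* Multiplicative (ZMod 2) × PS :=
    g.trans (MulEquiv.prodCongr (MulEquiv.refl _)
      (((MulEquiv.subgroupCongr hN'top).trans Subgroup.topEquiv).symm.trans e'))
  have hab : ∀ P : Sylow 2 ↥M, ∀ a b : P, a * b = b * a := fun P a b => by
    have hsq : ∀ c : P, c * c = 1 := fun c => by
      obtain ⟨k, hk⟩ := P.isPGroup' c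
      exact Subtype.ext (hAM.sq2 _ ⟨k, congrArg Subtype.val hk⟩)
    rw [← inv_eq_of_mul_eq_one_right (hsq (a * b)), mul_inv_rev, inv_eq_of_mul_eq_one_right (hsq a),
      inv_eq_of_mul_eq_one_right (hsq b)]
  have hcases := shape_cases hab (F := F) (by omega) ht'o g'
  -- the count
  have hcardC : Nat.card ↥(centralizer ({t'} : Set ↥M)) = 2 * Nat.card PS := by
    rw [Nat.card_congr g'.toEquiv, Nat.card_prod, Nat.card_congr Multiplicative.toAdd, Nat.card_zmod]
  have hinvM : Nat.card ↥(invols R) = Nat.card ↥(invols ↥M) := by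
    refine Nat.card_congr
      { toFun := fun x => ⟨⟨x.1, hinv _ x.2⟩, Subtype.ext x.2.1, fun h => x.2.2 (congrArg Subtype.val h)⟩
        invFun := fun x => ⟨x.1.1, congrArg Subtype.val x.2.1, fun h => x.2.2 (Subtype.ext h)⟩
        left_inv := fun _ => rfl
        right_inv := fun _ => rfl }
  have honeM' : ∀ x : ↥M, orderOf x = 2 → IsConj t' x := fun x hx => by
    obtain ⟨m, hm, h⟩ := honeM (x : R) ⟨by rw [← pow_two, ← Subgroup.coe_pow, ← hx, pow_orderOf_eq_one]; rfl,
      fun h => by rw [Subtype.ext (a2 := (1 : ↥M)) h, orderOf_one] at hx; omega⟩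
    exact isConj_iff.2 ⟨⟨m, hm⟩, Subtype.ext h⟩
  have hcount := card_class ht'o honeM'
  rw [hcardC, ← hinvM, hPS, Invol.GW.card_PSLTwo hodd] at hcount
  refine ⟨M, hMn, hMsimp, htM, hNM, hinv, ?_⟩
  rcases hcases with ⟨m, hm, hq, hord⟩ | ⟨hq, hj⟩
  · refine Or.inr ⟨m, hm, hq, ?_, ?_⟩
    · rw [hord, hq]
    rw [hord, ← hq] at hcount
    set q := Fintype.card F
    obtain ⟨a, ha⟩ : ∃ a, q = a + 2 := ⟨q - 2, by omega⟩
    have h1 : q * ((q - 1) * (q + 1)) * (q ^ 2 * (q ^ 2 - q + 1)) = q ^ 3 * (q ^ 3 + 1) * (q - 1) := by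
      rw [ha, show a + 2 - 1 = a + 1 by omega,
        show (a + 2) ^ 2 - (a + 2) = (a + 2) * (a + 1) by
          rw [Nat.sub_eq_iff_eq_add (Nat.le_self_pow two_ne_zero _)]; ring]
      ring
    rw [← h1, mul_comm (q * ((q - 1) * (q + 1))) (q ^ 2 * _)] at hcount
    exact Nat.eq_of_mul_eq_mul_right (Nat.mul_pos (by omega) (Nat.mul_pos (by omega) (by omega))) hcount
  · have h5 : Fintype.card F = 5 := hq.resolve_left fun h => by rw [h] at hodd; exact absurd hodd (by decide)
    refine Or.inl ⟨h5, hj.2, ?_⟩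
    rw [hj.2, h5] at hcount
    omega

end QuotGroup

end Cfsg.Agent.Invol.JankoWard
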