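import Mathlib.Algebra.BigOperators.Fin
import Mathlib.Data.Fintype.BigOperators
import Mathlib.Data.Fintype.Prod
import Mathlib.Algebra.Order.BigOperators.Group.Finset
import Mathlib.Algebra.Order.BigOperators.Ring.Finset
import Mathlib.Tactic.FinCases
import Mathlib.Tactic.IntervalCases
import Mathlib.Tactic.LinearCombination
import Mathlib.Tactic.Linarith

/-!
# The integer rows of a twisted block

Three columns with the Gram matrix `[[4,2,2],[2,4,2],[2,2,4]]`, all orthogonal to a vector of positive entries: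
up to signs of the rows the shape is `rowS` (eight rows), `rowT` (seven rows) or `rowU` (six rows).
-/

set_option autoImplicit false
set_option linter.unusedSectionVars false

open scoped Classical

namespace Cfsg.Agent.Invol.JankoWard.ExtShape

universe u

/-- Eight rows: `z a b b' c c' d d'`. -/
def rowS : Fin 8 → Fin 3 → ℤ :=
  ![![1, 0, 0], ![1, 0, 0], ![1, 1, 1], ![1, 1, 1], ![0, 1, 0], ![0, 1, 0], ![0, 0, 1], ![0, 0, 1]]

/-- Seven rows: `z p p' b h c c'`. -/
def rowT : Fin 7 → Fin 3 → ℤ :=
  ![![1, 0, 0], ![1, 1, 0], ![1, 0, 1], ![1, 1, 1], ![0, 1, 1], ![0, 1, 0], ![0, 0, 1]]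

/-- Six rows. -/
def rowU : Fin 6 → Fin 3 → ℤ :=
  ![![1, 1, 0], ![1, 1, 0], ![1, 0, 1], ![1, 0, 1], ![0, 1, 1], ![0, 1, 1]]

/-- The Gram matrix. -/
def gram (a b : Fin 3) : ℤ := if a = b then 4 else 2

/-- The rows. -/
structure Sys (ι : Type u) [Fintype ι] where
  /-- the entries -/
  w : Fin 3 → ι → ℤ
  /-- the degrees -/
  d : ι → ℤ
  pos : ∀ i, 0 < d i
  gram_eq : ∀ a b, ∑ i, w a i * w b i = gram a b
  orth : ∀ a, ∑ i, w a i * d i = 0

variable {ι : Type u} [Fintype ι]

namespace Sys

variable (L : Sys ι)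

/-- The rows are the given pattern up to signs. -/
def Shape {n : ℕ} (row : Fin n → Fin 3 → ℤ) (x : Fin n → ι) (s : Fin n → ℤ) : Prop :=
  Function.Injective x ∧ (∀ k, s k * s k = 1) ∧ (∀ k j, L.w j (x k) = s k * row k j) ∧
    ∀ i, i ∉ Set.range x → ∀ j, L.w j i = 0

theorem unit (a : Fin 3) (i : ι) : L.w a i = 0 ∨ L.w a i * L.w a i = 1 := by
  have h4 : ∑ j, L.w a j * L.w a j = 4 := by rw [L.gram_eq]; simp [gram]
  have hle : L.w a i * L.w a i ≤ 4 := h4 ▸ Finset.single_le_sum (f := fun j => L.w a j * L.w a j)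
    (fun j _ => mul_self_nonneg _) (Finset.mem_univ i)
  have h1 : -2 ≤ L.w a i := by nlinarith
  have h2 : L.w a i ≤ 2 := by nlinarith
  by_cases hb : L.w a i * L.w a i = 4
  · exfalso
    have hs := Finset.add_sum_erase Finset.univ (fun j => L.w a j * L.w a j) (Finset.mem_univ i)
    rw [h4] at hs
    have hzero : ∀ j, j ≠ i → L.w a j = 0 := fun j hj => mul_self_eq_zero.1
      ((Finset.sum_eq_zero_iff_of_nonneg fun j _ => mul_self_nonneg (L.w a j)).1
        (show ∑ j ∈ Finset.univ.erase i, L.w a j * L.w a j = 0 by omega) j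
        (Finset.mem_erase.2 ⟨hj, Finset.mem_univ j⟩))
    have h := L.orth a
    rw [Finset.sum_eq_single i (fun j _ hj => by rw [hzero j hj, zero_mul])
      (fun h => absurd (Finset.mem_univ i) h)] at h
    rcases mul_eq_zero.1 h with h' | h'
    · rw [h'] at hb; norm_num at hb
    · have := L.pos i; omega
  · interval_cases hv : L.w a i <;> first | (left; rfl) | (right; norm_num; done) | exact absurd (by norm_num) hb

theorem cases (a : Fin 3) (i : ι) : L.w a i = 0 ∨ L.w a i = 1 ∨ L.w a i = -1 := by
  rcases L.unit a i with h | h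
  · exact Or.inl h
  · exact Or.inr (mul_self_eq_one_iff.1 h)

/-- Two entries of a row never have opposite signs. -/
theorem same_sign (a b : Fin 3) (i : ι) : 0 ≤ L.w a i * L.w b i := by
  rcases eq_or_ne a b with rfl | hab
  · exact mul_self_nonneg _
  by_contra hneg
  have hprod : ∀ j, -1 ≤ L.w a j * L.w b j ∧ L.w a j * L.w b j ≤ 1 := fun j => by
    rcases L.cases a j with h | h | h <;> rcases L.cases b j with h' | h' | h' <;> rw [h, h'] <;> norm_num
  -- the difference of the columns has norm four, so `i` is all of it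
  have hd : ∑ j, (L.w a j - L.w b j) * (L.w a j - L.w b j) = 4 := by
    simp only [sub_mul, mul_sub, Finset.sum_sub_distrib, L.gram_eq, mul_comm (L.w b _) (L.w a _)]
    simp [gram, hab]
  have hi : (L.w a i - L.w b i) * (L.w a i - L.w b i) = 4 := by
    rcases L.cases a i with h | h | h <;> rcases L.cases b i with h' | h' | h' <;> rw [h, h'] at hneg ⊢ <;>
      revert hneg <;> norm_num
  have hs := Finset.add_sum_erase Finset.univ (fun j => (L.w a j - L.w b j) * (L.w a j - L.w b j)) (Finset.mem_univ i)
  rw [hd] at hs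
  have hzero : ∀ j, j ≠ i → L.w a j - L.w b j = 0 := fun j hj => mul_self_eq_zero.1
    ((Finset.sum_eq_zero_iff_of_nonneg fun j _ => mul_self_nonneg (L.w a j - L.w b j)).1
      (show ∑ j ∈ Finset.univ.erase i, (L.w a j - L.w b j) * (L.w a j - L.w b j) = 0 by omega) j
      (Finset.mem_erase.2 ⟨hj, Finset.mem_univ j⟩))
  have h : ∑ j, (L.w a j - L.w b j) * L.d j = 0 := by
    simp only [sub_mul, Finset.sum_sub_distrib, L.orth, sub_self]
  rw [Finset.sum_eq_single i (fun j _ hj => by rw [hzero j hj, zero_mul])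
    (fun h => absurd (Finset.mem_univ i) h)] at h
  rcases mul_eq_zero.1 h with h' | h'
  · rw [h'] at hi; norm_num at hi
  · have := L.pos i; omega

/-- The pattern of a row. -/
def pat (i : ι) : Bool × Bool × Bool := (decide (L.w 0 i ≠ 0), decide (L.w 1 i ≠ 0), decide (L.w 2 i ≠ 0))

/-- The sign of a row. -/
def sgn (i : ι) : ℤ := if L.w 0 i < 0 ∨ L.w 1 i < 0 ∨ L.w 2 i < 0 then -1 else 1

/-- The entries of a pattern. -/
def ent (v : Bool × Bool × Bool) : Fin 3 → ℤ :=
  ![if v.1 then 1 else 0, if v.2.1 then 1 else 0, if v.2.2 then 1 else 0]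

theorem sgn_sq (i : ι) : L.sgn i * L.sgn i = 1 := by unfold sgn; split_ifs <;> norm_num

theorem w_eq (j : Fin 3) (i : ι) : L.w j i = L.sgn i * ent (L.pat i) j := by
  have s01 := L.same_sign 0 1 i
  have s02 := L.same_sign 0 2 i
  have s12 := L.same_sign 1 2 i
  rcases L.cases 0 i with h0 | h0 | h0 <;> rcases L.cases 1 i with h1 | h1 | h1 <;>
    rcases L.cases 2 i with h2 | h2 | h2 <;> rw [h0, h1] at s01 <;> rw [h0, h2] at s02 <;> rw [h1, h2] at s12 <;>
    first
      | (norm_num at s01; done)
      | (norm_num at s02; done)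
      | (norm_num at s12; done)
      | (fin_cases j <;> simp [sgn, pat, ent, h0, h1, h2])

theorem count (a b : Fin 3) :
    ∑ v : Bool × Bool × Bool, ((Finset.univ.filter fun i => L.pat i = v).card : ℤ) * (ent v a * ent v b) = gram a b := by
  rw [← L.gram_eq a b, ← Finset.sum_fiberwise_of_maps_to (g := L.pat) (t := Finset.univ) fun i _ => Finset.mem_univ _]
  refine Finset.sum_congr rfl fun v _ => ?_
  rw [Finset.sum_congr rfl (g := fun _ => ent v a * ent v b) fun i hi => by
    rw [L.w_eq a i, L.w_eq b i, (Finset.mem_filter.1 hi).2]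
    linear_combination (ent v a * ent v b) * L.sgn_sq i]
  rw [Finset.sum_const, nsmul_eq_mul]

theorem mk_shape {n : ℕ} (row : Fin n → Fin 3 → ℤ) (v : Fin n → Bool × Bool × Bool) (x : Fin n → ι)
    (hx : Function.Injective x) (hrow : ∀ k, row k = ent (v k)) (hv : ∀ k, L.pat (x k) = v k)
    (hall : ∀ i, L.pat i ≠ (false, false, false) → ∃ k, x k = i) : L.Shape row x fun k => L.sgn (x k) := by
  refine ⟨hx, fun k => L.sgn_sq _, fun k j => by rw [L.w_eq, hv, hrow], fun i hi j => ?_⟩
  by_contra h
  refine hi ?_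
  refine hall i fun e => h ?_
  rw [L.w_eq, e]
  fin_cases j <;> simp [ent]

/-- The three shapes. -/
theorem shapes : (∃ x s, L.Shape rowS x s) ∨ (∃ x s, L.Shape rowT x s) ∨ ∃ x s, L.Shape rowU x s := by
  set N := fun v => (Finset.univ.filter fun i => L.pat i = v).card with hN
  have e00 := L.count 0 0
  have e11 := L.count 1 1
  have e22 := L.count 2 2
  have e01 := L.count 0 1
  have e02 := L.count 0 2
  have e12 := L.count 1 2
  simp [Fintype.sum_prod_type, ent, gram] at e00 e11 e22 e01 e02 e12
  have mem : ∀ {v : Bool × Bool × Bool} {A : Finset ι}, (Finset.univ.filter fun i => L.pat i = v) = A →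
      ∀ i, L.pat i = v ↔ i ∈ A := fun h i => by rw [← h]; simp
  have hN' : ∀ v, (Finset.univ.filter fun i => L.pat i = v).card = N v := fun v => rfl
  simp only [hN'] at e00 e11 e22 e01 e02 e12
  have ht : N (true, true, true) = 0 ∨ N (true, true, true) = 1 ∨ N (true, true, true) = 2 := by omega
  have two : ∀ v, N v = 2 → ∃ a b, a ≠ b ∧ ∀ i, L.pat i = v ↔ (i = a ∨ i = b) := fun v hv => by
    obtain ⟨a, b, hab, h⟩ := Finset.card_eq_two.1 hv
    exact ⟨a, b, hab, fun i => by rw [mem h i]; simp⟩
  have one : ∀ v, N v = 1 → ∃ a, ∀ i, L.pat i = v ↔ i = a := fun v hv => by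
    obtain ⟨a, h⟩ := Finset.card_eq_one.1 hv
    exact ⟨a, fun i => by rw [mem h i]; simp⟩
  have zero : ∀ v, N v = 0 → ∀ i, L.pat i ≠ v := fun v hv i h => by
    have := (Finset.card_eq_zero.1 hv)
    exact absurd ((mem this i).1 h) (Finset.notMem_empty i)
  have inj : ∀ {n : ℕ} (x : Fin n → ι) (v : Fin n → Bool × Bool × Bool), (∀ k, L.pat (x k) = v k) →
      (∀ k l, v k = v l → x k = x l → k = l) → Function.Injective x := fun x v hv h k l e =>
    h k l (by rw [← hv, e, hv]) e
  rcases ht with ht | ht | ht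
  · right; right
    obtain ⟨a, a', ha, hA⟩ := two (true, true, false) (by omega)
    obtain ⟨b, b', hb, hB⟩ := two (true, false, true) (by omega)
    obtain ⟨c, c', hc, hC⟩ := two (false, true, true) (by omega)
    have z1 := zero (true, false, false) (by omega)
    have z2 := zero (false, true, false) (by omega)
    have z3 := zero (false, false, true) (by omega)
    have z7 := zero _ ht
    let v : Fin 6 → Bool × Bool × Bool := ![(true, true, false), (true, true, false), (true, false, true),
      (true, false, true), (false, true, true), (false, true, true)]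
    have hv : ∀ k, L.pat (![a, a', b, b', c, c'] k) = v k := fun k => by
      fin_cases k
      exacts [(hA _).2 (Or.inl rfl), (hA _).2 (Or.inr rfl), (hB _).2 (Or.inl rfl), (hB _).2 (Or.inr rfl),
        (hC _).2 (Or.inl rfl), (hC _).2 (Or.inr rfl)]
    refine ⟨_, _, L.mk_shape rowU v ![a, a', b, b', c, c'] (inj _ v hv fun k l e e' => ?_)
      (fun k => by fin_cases k <;> decide) hv fun i hi => ?_⟩
    · fin_cases k <;> fin_cases l <;> first
        | rfl | exact absurd e' ha | exact absurd e'.symm ha | exact absurd e' hb | exact absurd e'.symm hb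
        | exact absurd e' hc | exact absurd e'.symm hc | exact absurd e (by simp [v])
    · rcases hp : L.pat i with ⟨p, q, r⟩
      cases p <;> cases q <;> cases r
      · exact absurd hp hi
      · exact absurd hp (z3 i)
      · exact absurd hp (z2 i)
      · rcases (hC i).1 hp with rfl | rfl
        exacts [⟨4, rfl⟩, ⟨5, rfl⟩]
      · exact absurd hp (z1 i)
      · rcases (hB i).1 hp with rfl | rfl
        exacts [⟨2, rfl⟩, ⟨3, rfl⟩]
      · rcases (hA i).1 hp with rfl | rfl
        exacts [⟨0, rfl⟩, ⟨1, rfl⟩]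
      · exact absurd hp (z7 i)
  · right; left
    obtain ⟨p₁, hP1⟩ := one (true, true, false) (by omega)
    obtain ⟨p₂, hP2⟩ := one (true, false, true) (by omega)
    obtain ⟨h, hH⟩ := one (false, true, true) (by omega)
    obtain ⟨z, hZ⟩ := one (true, false, false) (by omega)
    obtain ⟨c, hC⟩ := one (false, true, false) (by omega)
    obtain ⟨c', hC'⟩ := one (false, false, true) (by omega)
    obtain ⟨b, hB⟩ := one _ ht
    let v : Fin 7 → Bool × Bool × Bool := ![(true, false, false), (true, true, false), (true, false, true),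
      (true, true, true), (false, true, true), (false, true, false), (false, false, true)]
    have hv : ∀ k, L.pat (![z, p₁, p₂, b, h, c, c'] k) = v k := fun k => by
      fin_cases k
      exacts [(hZ _).2 rfl, (hP1 _).2 rfl, (hP2 _).2 rfl, (hB _).2 rfl, (hH _).2 rfl, (hC _).2 rfl, (hC' _).2 rfl]
    refine ⟨_, _, L.mk_shape rowT v ![z, p₁, p₂, b, h, c, c'] (inj _ v hv fun k l e e' => ?_)
      (fun k => by fin_cases k <;> decide) hv fun i hi => ?_⟩
    · fin_cases k <;> fin_cases l <;> first
        | rfl | exact absurd e (by simp [v])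
    · rcases hp : L.pat i with ⟨p, q, r⟩
      cases p <;> cases q <;> cases r
      · exact absurd hp hi
      · exact ⟨6, ((hC' i).1 hp).symm⟩
      · exact ⟨5, ((hC i).1 hp).symm⟩
      · exact ⟨4, ((hH i).1 hp).symm⟩
      · exact ⟨0, ((hZ i).1 hp).symm⟩
      · exact ⟨2, ((hP2 i).1 hp).symm⟩
      · exact ⟨1, ((hP1 i).1 hp).symm⟩
      · exact ⟨3, ((hB i).1 hp).symm⟩
  · left
    obtain ⟨z, a, hza, hZ⟩ := two (true, false, false) (by omega)
    obtain ⟨b, b', hb, hB⟩ := two _ ht
    obtain ⟨c, c', hc, hC⟩ := two (false, true, false) (by omega)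
    obtain ⟨d, d', hd, hD⟩ := two (false, false, true) (by omega)
    have z1 := zero (true, true, false) (by omega)
    have z2 := zero (true, false, true) (by omega)
    have z3 := zero (false, true, true) (by omega)
    let v : Fin 8 → Bool × Bool × Bool := ![(true, false, false), (true, false, false), (true, true, true),
      (true, true, true), (false, true, false), (false, true, false), (false, false, true), (false, false, true)]
    have hv : ∀ k, L.pat (![z, a, b, b', c, c', d, d'] k) = v k := fun k => by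
      fin_cases k
      exacts [(hZ _).2 (Or.inl rfl), (hZ _).2 (Or.inr rfl), (hB _).2 (Or.inl rfl), (hB _).2 (Or.inr rfl),
        (hC _).2 (Or.inl rfl), (hC _).2 (Or.inr rfl), (hD _).2 (Or.inl rfl), (hD _).2 (Or.inr rfl)]
    refine ⟨_, _, L.mk_shape rowS v ![z, a, b, b', c, c', d, d'] (inj _ v hv fun k l e e' => ?_)
      (fun k => by fin_cases k <;> decide) hv fun i hi => ?_⟩
    · fin_cases k <;> fin_cases l <;> first
        | rfl | exact absurd e' hza | exact absurd e'.symm hza | exact absurd e' hb | exact absurd e'.symm hb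
        | exact absurd e' hc | exact absurd e'.symm hc | exact absurd e' hd | exact absurd e'.symm hd | exact absurd e (by simp [v])
    · rcases hp : L.pat i with ⟨p, q, r⟩
      cases p <;> cases q <;> cases r
      · exact absurd hp hi
      · rcases (hD i).1 hp with rfl | rfl
        exacts [⟨6, rfl⟩, ⟨7, rfl⟩]
      · rcases (hC i).1 hp with rfl | rfl
        exacts [⟨4, rfl⟩, ⟨5, rfl⟩]
      · exact absurd hp (z3 i)
      · rcases (hZ i).1 hp with rfl | rfl
        exacts [⟨0, rfl⟩, ⟨1, rfl⟩]
      · exact absurd hp (z2 i)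
      · exact absurd hp (z1 i)
      · rcases (hB i).1 hp with rfl | rfl
        exacts [⟨2, rfl⟩, ⟨3, rfl⟩]

end Sys

end Cfsg.Agent.Invol.JankoWard.ExtShape
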