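import Cfsg.Agent.Lib.Invol.JankoWard.ExtCount
import Cfsg.Agent.Lib.Invol.JankoWard.ExtShape
import Cfsg.Agent.Lib.Invol.JankoWard.ExtBound
import Cfsg.Agent.Lib.Invol.JankoWard.ExtDegree

/-!
# The rows of a twisted block as real equations
-/

open scoped ComplexConjugate

set_option autoImplicit false
set_option linter.unusedSectionVars false
set_option linter.style.haveILetI false

open scoped Classical

namespace Cfsg.Agent.Invol.JankoWard.ExtBase

open Cfsg Cfsg.Agent.Char Cfsg.Agent.Block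

universe u v

variable {G : Type u} [Group G] [Fintype G] {P : Type v} [Group P] [Fintype P] (S : ExtBase G P)

/-- `κ / (e r)`. -/
noncomputable def Kr : ℝ :=
  (Nat.card S.C : ℝ) ^ 2 / (Nat.card G : ℝ) / ((Nat.card S.Fld : ℝ) * (S.D.r : ℝ))

theorem Kr_pos : 0 < S.Kr := by
  have h1 : (0 : ℝ) < Nat.card S.C := by exact_mod_cast Nat.card_pos
  have h2 : (0 : ℝ) < Nat.card G := by exact_mod_cast Nat.card_pos
  have h3 : (0 : ℝ) < Nat.card S.Fld := by exact_mod_cast Nat.card_pos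
  have h4 : (0 : ℝ) < S.D.r := by have := S.D.r3; exact_mod_cast (by omega : 0 < S.D.r)
  exact div_pos (div_pos (pow_pos h1 2) h2) (mul_pos h3 h4)

theorem kap_eq : S.kap = (Nat.card S.Fld : ℂ) * (S.D.r : ℂ) * (S.Kr : ℂ) := by
  have h3 : (Nat.card S.Fld : ℂ) ≠ 0 := Nat.cast_ne_zero.2 Nat.card_pos.ne'
  have h4 : (S.D.r : ℂ) ≠ 0 := Nat.cast_ne_zero.2 (by have := S.D.r3; omega)
  simp only [kap, Kr]
  push_cast
  field_simp

/-- The value of a row at the involution. -/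
def tau {n : ℕ} (row : Fin n → Fin 3 → ℤ) (k : Fin n) : ℝ :=
  (row k 0 : ℝ) + ((row k 1 : ℝ) + (row k 2 : ℝ)) * (2 * (S.D.r : ℝ) - 1)

variable (L : ExtLocals S) (X : LChars S.D) {M : Ideal AlgInt} (hM : IsPModular 2 M) (A : Amb G)
  (hδ : S.D.δ = -1)
include L X hM A hδ

/-- The rows of a twisted block. -/
noncomputable def sysE (l : S.Fld →* ℂˣ) : ExtShape.Sys (IrrCharacter G) where
  w j χ := S.vE X hM l j χ
  d χ := (charDegree (χ : G → ℂ) : ℤ)
  pos χ := by exact_mod_cast charDeg_pos χ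
  gram_eq a b := by
    have hc : S.D.cc = 0 := by have := S.D.two_cc; rw [hδ] at this; omega
    rw [S.sum_vE_mul X hM A l l a b, if_pos rfl]
    fin_cases a <;> fin_cases b <;> simp [Fin.sum_univ_four, LChars.coef, ExtShape.gram, hc]
  orth a := by
    have h : ((∑ χ : IrrCharacter G, S.vE X hM l a χ * (charDegree (χ : G → ℂ) : ℤ) : ℤ) : ℂ) = 0 := by
      rw [← S.sum_vE_one X hM A l a]
      push_cast
      exact Finset.sum_congr rfl fun χ _ => by rw [charDeg_spec']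
    exact_mod_cast h

/-- The data of a shape. -/
theorem row_facts {l : S.Fld →* ℂˣ} {n : ℕ} {row : Fin n → Fin 3 → ℤ} (hrow : ∀ k, ∃ j, row k j ≠ 0)
    {x : Fin n → IrrCharacter G} {s : Fin n → ℤ} (hS : (S.sysE X hM A hδ l).Shape row x s) :
    let D : Fin n → ℝ := fun k => (s k : ℝ) * (charDegree ((x k : IrrCharacter G) : G → ℂ) : ℝ)
    (∀ k, x k ∈ S.gb X hM l ∧ D k ≠ 0 ∧ ((x k : IrrCharacter G) : G → ℂ) S.t = (((s k : ℝ) * S.tau row k : ℝ) : ℂ)) ∧
    (∀ j, ∑ k, (row k j : ℝ) * D k = 0) ∧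
    ∑ k, (row k 0 : ℝ) * S.tau row k ^ 2 / D k = 2 * (2 * (S.D.r : ℝ) - 1) * S.D.r * S.Kr ∧
    ∑ k, (row k 1 : ℝ) * S.tau row k ^ 2 / D k = (3 * (S.D.r : ℝ) - 1) * S.Kr ∧
    ∑ k, (row k 2 : ℝ) * S.tau row k ^ 2 / D k = (3 * (S.D.r : ℝ) - 1) * S.Kr := by
  obtain ⟨hinj, hs, hw, hout⟩ := hS
  intro D
  have hs0 : ∀ k, s k ≠ 0 := fun k e => by have := hs k; rw [e] at this; norm_num at this
  have hw' : ∀ k j, S.vE X hM l j (x k) = s k * row k j := fun k j => hw k j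
  have hmem : ∀ k, x k ∈ S.gb X hM l := fun k => by
    obtain ⟨j, hj⟩ := hrow k
    exact S.mem_of_vE X hM A L (i := j) (by rw [hw']; exact mul_ne_zero (hs0 k) hj)
  have hq : (S.D.q : ℂ) = 4 * (S.D.r : ℂ) - 1 := by
    have h : (S.D.q : ℂ) = 4 * (S.D.r : ℂ) + S.D.δ := by exact_mod_cast congrArg (Int.cast : ℤ → ℂ) S.D.hq
    rw [h, hδ]; push_cast; ring
  have hval : ∀ k, ((x k : IrrCharacter G) : G → ℂ) S.t = (((s k : ℝ) * S.tau row k : ℝ) : ℂ) := fun k => by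
    rw [S.value_one X hM A L (hmem k), hw', hw', hw', hq, tau]
    push_cast; ring
  refine ⟨fun k => ⟨hmem k, mul_ne_zero (Int.cast_ne_zero.2 (hs0 k)) (Nat.cast_ne_zero.2 (charDeg_pos _).ne'), hval k⟩,
    fun j => ?_, ?_⟩
  · have h := (S.sysE X hM A hδ l).orth j
    rw [← Finset.sum_subset (Finset.subset_univ (Finset.univ.image x)) fun χ _ hχ => by
      rw [hout χ (fun ⟨k, hk⟩ => hχ (Finset.mem_image.2 ⟨k, Finset.mem_univ _, hk⟩)) j, zero_mul],
      Finset.sum_image fun a _ b _ e => hinj e] at h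
    have h2 : ((∑ k, (S.sysE X hM A hδ l).w j (x k) * (S.sysE X hM A hδ l).d (x k) : ℤ) : ℝ) = 0 := by
      rw [h]; simp
    rw [← h2, Int.cast_sum]
    refine Finset.sum_congr rfl fun k _ => ?_
    show _ = ((S.vE X hM l j (x k) * (charDegree ((x k : IrrCharacter G) : G → ℂ) : ℤ) : ℤ) : ℝ)
    rw [hw']; simp only [D]; push_cast; ring
  have key : ∀ (j : Fin 3) (V : ℝ), ∑ χ : IrrCharacter G, (S.vE X hM l j χ : ℂ) * S.wt χ = (V : ℂ) →
      ∑ k, (row k j : ℝ) * S.tau row k ^ 2 / D k = V := by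
    intro j V h
    rw [← Finset.sum_subset (Finset.subset_univ (Finset.univ.image x)) fun χ _ hχ => by
      rw [show S.vE X hM l j χ = 0 from hout χ (fun ⟨k, hk⟩ => hχ (Finset.mem_image.2 ⟨k, Finset.mem_univ _, hk⟩)) j,
        Int.cast_zero, zero_mul], Finset.sum_image fun a _ b _ e => hinj e] at h
    have h2 : ((∑ k, (row k j : ℝ) * S.tau row k ^ 2 / D k : ℝ) : ℂ) = (V : ℂ) := by
      rw [← h]
      push_cast
      refine Finset.sum_congr rfl fun k _ => ?_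
      rw [hw', wt, hval, charDeg_spec']
      simp only [D]
      push_cast
      have hs2 : (s k : ℂ) * (s k : ℂ) = 1 := by exact_mod_cast hs k
      have hd : (charDegree ((x k : IrrCharacter G) : G → ℂ) : ℂ) ≠ 0 := Nat.cast_ne_zero.2 (charDeg_pos _).ne'
      have hs' : (s k : ℂ) ≠ 0 := Int.cast_ne_zero.2 (hs0 k)
      field_simp
      linear_combination (-(row k j : ℂ) * (S.tau row k : ℂ) ^ 2 * (1 + (s k : ℂ) ^ 2)) * hs2
    exact_mod_cast h2
  obtain ⟨h0, h1, h2⟩ := S.count_E L.one_class X hM A l hδ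
  have hF : (Nat.card S.Fld : ℂ) ≠ 0 := Nat.cast_ne_zero.2 Nat.card_pos.ne'
  have hr : (S.D.r : ℂ) ≠ 0 := Nat.cast_ne_zero.2 (by have := S.D.r3; omega)
  have hm : (S.D.m : ℂ) = 2 * (S.D.r : ℂ) - 1 := by
    exact_mod_cast congrArg (Int.cast : ℤ → ℂ)
      (show S.D.m = 2 * (S.D.r : ℤ) - 1 by simp only [LData.m, hδ]; ring)
  refine ⟨key 0 _ ?_, key 1 _ ?_, key 2 _ ?_⟩
  · rw [h0, S.kap_eq, hm]; push_cast; field_simp
  · refine mul_left_cancel₀ hr ?_
    rw [h1, S.kap_eq]; push_cast; field_simp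
  · refine mul_left_cancel₀ hr ?_
    rw [h2, S.kap_eq]; push_cast; field_simp

/-- The lower bounds for the signed degrees. -/
theorem row_bound (T : ExtTable S.D) (hf : L.Free) (hp : S.D.p = 3) (hR : 1000 ≤ (S.D.r : ℝ)) {l : S.Fld →* ℂˣ}
    {n : ℕ} {row : Fin n → Fin 3 → ℤ} {x : Fin n → IrrCharacter G} {s : Fin n → ℤ}
    (hS : (S.sysE X hM A hδ l).Shape row x s) (k : Fin n) (h0 : |row k 0| ≤ 1)
    (c : ℤ) (hc : 1 ≤ c) (hc2 : c ≤ |row k 1 + row k 2|) :
    13 * (c : ℝ) * (S.D.r : ℝ) ^ 2 ≤ |(s k : ℝ) * (charDegree ((x k : IrrCharacter G) : G → ℂ) : ℝ)| := by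
  obtain ⟨hinj, hs, hw, -⟩ := hS
  have hw' : ∀ j, S.vE X hM l j (x k) = s k * row k j := fun j => hw k j
  have hW : row k 1 + row k 2 ≠ 0 := by intro e; rw [e, abs_zero] at hc2; omega
  have hmem : x k ∈ S.gb X hM l := by
    by_cases h1 : row k 1 = 0
    · exact S.mem_of_vE X hM A L (i := 2) (by
        rw [hw']; exact mul_ne_zero (fun e => by have := hs k; rw [e] at this; norm_num at this) (fun e => hW (by omega)))
    · exact S.mem_of_vE X hM A L (i := 1) (by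
        rw [hw']; exact mul_ne_zero (fun e => by have := hs k; rw [e] at this; norm_num at this) h1)
  have hb := S.degree_bound L X hM A T hf hp hδ hmem
  have habs : |(s k : ℝ)| = 1 := by
    rcases Int.eq_one_or_neg_one_of_mul_eq_one (hs k) with e | e <;> simp [e]
  rw [hw', hw', hw'] at hb
  push_cast at hb
  rw [← mul_add, abs_mul, abs_mul, habs, one_mul, one_mul] at hb
  rw [abs_mul, habs, one_mul, Nat.abs_cast]
  have h0' : |(row k 0 : ℝ)| ≤ 1 := by exact_mod_cast h0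
  have hc' : (c : ℝ) ≤ |(row k 1 : ℝ) + (row k 2 : ℝ)| := by exact_mod_cast hc2
  have hc1 : (1 : ℝ) ≤ (c : ℝ) := by exact_mod_cast hc
  set R : ℝ := (S.D.r : ℝ)
  have hA : 0 ≤ 40 * R ^ 2 - 82 * R + 21 := by nlinarith
  nlinarith [mul_le_mul_of_nonneg_left hc' hA, mul_le_mul_of_nonneg_left h0' (show 0 ≤ 40 * R - 3 by linarith),
    mul_nonneg (show 0 ≤ R ^ 2 - 82 * R + 21 by nlinarith) (show 0 ≤ (c : ℝ) - 1 by linarith)]

end Cfsg.Agent.Invol.JankoWard.ExtBase
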