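import Cfsg.Agent.Lib.Invol.JankoWard.ExtRows
import Cfsg.Agent.Lib.Invol.JankoWard.ExtArith
import Cfsg.Agent.Lib.Invol.JankoWard.ExtGal
import Cfsg.Agent.Lib.Invol.JankoWard.Rows
import Cfsg.Agent.Lib.Invol.JankoWard.ExtFibre

/-!
# The two sides of the contradiction: the trivial twist and a faithful one

With `K0 = 2 (2r-1) r K`: `block_one` gives `K0 ≥ .645`, `block_twist` gives `K0 ≤ .64`.
-/

open scoped ComplexConjugate

set_option autoImplicit false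
set_option linter.unusedSectionVars false
set_option linter.style.haveILetI false

open scoped Classical

namespace Cfsg.Agent.Invol.JankoWard.ExtBase

open Cfsg Cfsg.Agent.Char Cfsg.Agent.Block

universe u v

variable {G : Type u} [Group G] [Fintype G] [IsSimpleGroup G] {P : Type v} [Group P] [Fintype P] (S : ExtBase G P)
  (L : ExtLocals S) (X : LChars S.D) {M : Ideal AlgInt} (hM : IsPModular 2 M) (A : Amb G) (hδ : S.D.δ = -1)
  (T : ExtTable S.D) (hf : L.Free) (hp : S.D.p = 3) (hR : 1000 ≤ (S.D.r : ℝ))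

omit [Fintype G] [IsSimpleGroup G] [Fintype P] in
theorem tau_S :
    S.tau ExtShape.rowS 0 = 1 ∧ S.tau ExtShape.rowS 1 = 1 ∧ S.tau ExtShape.rowS 2 = 4 * (S.D.r : ℝ) - 1 ∧
      S.tau ExtShape.rowS 3 = 4 * (S.D.r : ℝ) - 1 ∧ S.tau ExtShape.rowS 4 = 2 * (S.D.r : ℝ) - 1 ∧
      S.tau ExtShape.rowS 5 = 2 * (S.D.r : ℝ) - 1 ∧ S.tau ExtShape.rowS 6 = 2 * (S.D.r : ℝ) - 1 ∧
      S.tau ExtShape.rowS 7 = 2 * (S.D.r : ℝ) - 1 := by
  refine ⟨?_, ?_, ?_, ?_, ?_, ?_, ?_, ?_⟩ <;>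
    simp only [ExtBase.tau, ExtShape.rowS, Matrix.cons_val, Fin.isValue] <;> norm_num <;> ring

omit [Fintype G] [IsSimpleGroup G] [Fintype P] in
theorem tau_U :
    S.tau ExtShape.rowU 0 = 2 * (S.D.r : ℝ) ∧ S.tau ExtShape.rowU 1 = 2 * (S.D.r : ℝ) ∧
      S.tau ExtShape.rowU 2 = 2 * (S.D.r : ℝ) ∧ S.tau ExtShape.rowU 3 = 2 * (S.D.r : ℝ) ∧
      S.tau ExtShape.rowU 4 = 2 * (2 * (S.D.r : ℝ) - 1) ∧ S.tau ExtShape.rowU 5 = 2 * (2 * (S.D.r : ℝ) - 1) := by
  refine ⟨?_, ?_, ?_, ?_, ?_, ?_⟩ <;>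
    simp only [ExtBase.tau, ExtShape.rowU, Matrix.cons_val, Fin.isValue] <;> norm_num <;> ring

include L X hM A hδ T hf hp hR

omit L X hM A hf in
theorem deg_big (χ : IrrCharacter G) (hne : χ ≠ trivialIrr G) {s : ℤ} (hs : s * s = 1) :
    1000 ≤ |(s : ℝ) * (charDegree (χ : G → ℂ) : ℝ)| := by
  have h := S.deg_ge T hp hδ χ hne
  have hq : (S.D.q : ℤ) = 4 * (S.D.r : ℤ) - 1 := by have := S.D.hq; rw [hδ] at this; linarith
  have h' : S.D.r ≤ charDegree (χ : G → ℂ) := by omega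
  have h'' : (S.D.r : ℝ) ≤ (charDegree (χ : G → ℂ) : ℝ) := by exact_mod_cast h'
  rw [abs_mul, Nat.abs_cast,
    show |(s : ℝ)| = 1 by rcases Int.eq_one_or_neg_one_of_mul_eq_one hs with e | e <;> simp [e], one_mul]
  linarith

theorem rowU_false {l : S.Fld →* ℂˣ} {x : Fin 6 → IrrCharacter G} {s : Fin 6 → ℤ}
    (hS : (S.sysE X hM A hδ l).Shape ExtShape.rowU x s) : False := by
  obtain ⟨-, ho', e0', -, -⟩ := S.row_facts L X hM A hδ
    (fun k => by fin_cases k <;> first | exact ⟨0, by decide⟩ | exact ⟨1, by decide⟩) hS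
  set D : Fin 6 → ℝ := fun k => (s k : ℝ) * (charDegree ((x k : IrrCharacter G) : G → ℂ) : ℝ)
  have h0 : ∑ k, (ExtShape.rowU k 0 : ℝ) * D k = 0 := ho' 0
  have h1 : ∑ k, (ExtShape.rowU k 1 : ℝ) * D k = 0 := ho' 1
  have h2 : ∑ k, (ExtShape.rowU k 2 : ℝ) * D k = 0 := ho' 2
  have e0 : ∑ k, (ExtShape.rowU k 0 : ℝ) * S.tau ExtShape.rowU k ^ 2 / D k
      = 2 * (2 * (S.D.r : ℝ) - 1) * S.D.r * S.Kr := e0'
  obtain ⟨t0, t1, t2, t3, -, -⟩ := S.tau_U
  simp only [Fin.sum_univ_six, t0, t1, t2, t3] at e0 h0 h1 h2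
  simp only [ExtShape.rowU, Matrix.cons_val, Fin.isValue, Int.cast_one, Int.cast_zero, zero_mul, one_mul, zero_div,
    add_zero, zero_add] at e0 h0 h1 h2
  have q1 : D 1 = -D 0 := by linarith
  have q2 : D 3 = -D 2 := by linarith
  rw [q1, q2] at e0
  simp only [div_neg] at e0
  have : 0 < 2 * (2 * (S.D.r : ℝ) - 1) * S.D.r * S.Kr :=
    mul_pos (mul_pos (by linarith) (by linarith)) S.Kr_pos
  linarith

/-- The shape with eight rows. -/
theorem rowS_bound {l : S.Fld →* ℂˣ} {x : Fin 8 → IrrCharacter G} {s : Fin 8 → ℤ}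
    (hS : (S.sysE X hM A hδ l).Shape ExtShape.rowS x s) :
    let D : Fin 8 → ℝ := fun k => (s k : ℝ) * (charDegree ((x k : IrrCharacter G) : G → ℂ) : ℝ)
    |2 * (2 * (S.D.r : ℝ) - 1) * S.D.r * S.Kr - (1 / D 0 + 1 / D 1)| ≤ 35 / 100 := by
  intro D
  obtain ⟨-, ho', e0', e1', -⟩ := S.row_facts L X hM A hδ
    (fun k => by fin_cases k <;> first | exact ⟨0, by decide⟩ | exact ⟨1, by decide⟩ | exact ⟨2, by decide⟩) hS
  have h1 : ∑ k, (ExtShape.rowS k 1 : ℝ) * D k = 0 := ho' 1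
  have e0 : ∑ k, (ExtShape.rowS k 0 : ℝ) * S.tau ExtShape.rowS k ^ 2 / D k
      = 2 * (2 * (S.D.r : ℝ) - 1) * S.D.r * S.Kr := e0'
  have e1 : ∑ k, (ExtShape.rowS k 1 : ℝ) * S.tau ExtShape.rowS k ^ 2 / D k
      = (3 * (S.D.r : ℝ) - 1) * S.Kr := e1'
  have hb : ∀ k, |ExtShape.rowS k 0| ≤ 1 → ∀ c : ℤ, 1 ≤ c → c ≤ |ExtShape.rowS k 1 + ExtShape.rowS k 2| →
      13 * (c : ℝ) * (S.D.r : ℝ) ^ 2 ≤ |D k| :=
    fun k h0 c hc hc2 => S.row_bound L X hM A hδ T hf hp hR hS k h0 c hc hc2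
  have b2 : 26 * (S.D.r : ℝ) ^ 2 ≤ |D 2| :=
    le_trans (le_of_eq (by push_cast; ring)) (hb 2 (by decide) 2 (by norm_num) (by decide))
  have b3 : 26 * (S.D.r : ℝ) ^ 2 ≤ |D 3| :=
    le_trans (le_of_eq (by push_cast; ring)) (hb 3 (by decide) 2 (by norm_num) (by decide))
  have b4 : 13 * (S.D.r : ℝ) ^ 2 ≤ |D 4| :=
    le_trans (le_of_eq (by push_cast; ring)) (hb 4 (by decide) 1 le_rfl (by decide))
  have b5 : 13 * (S.D.r : ℝ) ^ 2 ≤ |D 5| :=
    le_trans (le_of_eq (by push_cast; ring)) (hb 5 (by decide) 1 le_rfl (by decide))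
  have one_le : ∀ k, 1 ≤ |D k| := fun k => by
    have h1 : (1 : ℝ) ≤ (charDegree ((x k : IrrCharacter G) : G → ℂ) : ℝ) := by exact_mod_cast charDeg_pos (x k)
    obtain ⟨-, hs, -, -⟩ := hS
    simp only [D]
    rw [abs_mul, Nat.abs_cast]
    rcases Int.eq_one_or_neg_one_of_mul_eq_one (hs k) with e | e <;> simp [e, h1]
  obtain ⟨t0, t1, t2, t3, t4, t5, t6, t7⟩ := S.tau_S
  simp only [Fin.sum_univ_eight, t0, t1, t2, t3, t4, t5, t6, t7] at h1 e0 e1
  simp only [ExtShape.rowS, Matrix.cons_val, Fin.isValue, Int.cast_one, Int.cast_zero] at h1 e0 e1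
  exact ExtArith.shapeS hR S.Kr_pos (one_le 0) (one_le 1) b2 b3 b4 b5
    (by linear_combination h1) (by linear_combination e0) (by linear_combination e1)

/-- The trivial twist. -/
theorem block_one : 645 / 1000 ≤ 2 * (2 * (S.D.r : ℝ) - 1) * S.D.r * S.Kr := by
  have htriv : ∀ {n : ℕ} {row : Fin n → Fin 3 → ℤ} {x : Fin n → IrrCharacter G} {s : Fin n → ℤ},
      (S.sysE X hM A hδ 1).Shape row x s → ∃ k, x k = trivialIrr G ∧ ∀ j, s k * row k j = ![1, 0, 0] j := by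
    rintro n row x s ⟨-, hs, hw, hout⟩
    have hv : ∀ j, (S.sysE X hM A hδ 1).w j (trivialIrr G) = ![1, 0, 0] j := fun j => by
      show S.vE X hM 1 j (trivialIrr G) = _
      rw [S.trivial_vE X hM 1 j, if_pos rfl]
      fin_cases j <;> simp [LChars.coef]
    obtain ⟨k, hk⟩ : trivialIrr G ∈ Set.range x := by
      by_contra hno
      have := hout _ hno 0
      rw [hv] at this
      simp at this
    exact ⟨k, hk, fun j => by rw [← hw, hk, hv]⟩
  rcases (S.sysE X hM A hδ 1).shapes with ⟨x, s, hS⟩ | ⟨x, s, hS⟩ | ⟨x, s, hS⟩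
  · obtain ⟨k, hk, hrow⟩ := htriv hS
    have hb := S.rowS_bound L X hM A hδ T hf hp hR hS
    simp only at hb
    obtain ⟨hinj, hs, -, -⟩ := hS
    have hd : charDegree (((trivialIrr G : IrrCharacter G)) : G → ℂ) = 1 := by simp [trivialIrr, charDegree]
    have other : ∀ i, i ≠ k → |1 / ((s i : ℝ) * (charDegree ((x i : IrrCharacter G) : G → ℂ) : ℝ))| ≤ 1 / 1000 :=
      fun i hi => ExtArith.abs_div_le zero_le_one (by norm_num)
        (S.deg_big hδ T hp hR _ (fun e => hi (hinj (e.trans hk.symm))) (hs i))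
    have r0 := hrow 0
    have r1 := hrow 1
    have r2 := hrow 2
    obtain ⟨hk01, hsk⟩ : (k = 0 ∨ k = 1) ∧ s k = 1 := by
      fin_cases k <;> simp [ExtShape.rowS] at r0 r1 r2 ⊢ <;> omega
    rcases hk01 with rfl | rfl
    · rw [hsk, hk, hd] at hb
      have := abs_le.1 (other 1 (by decide))
      simp only [Int.cast_one, Nat.cast_one, mul_one, div_one] at hb
      linarith [(abs_le.1 hb).1, this.1]
    · rw [hsk, hk, hd] at hb
      have := abs_le.1 (other 0 (by decide))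
      simp only [Int.cast_one, Nat.cast_one, mul_one, div_one] at hb
      linarith [(abs_le.1 hb).1, this.1]
  · obtain ⟨k, hk, hrow⟩ := htriv hS
    obtain ⟨hfs, ho, e0, -, -⟩ := S.row_facts L X hM A hδ
      (fun k => by fin_cases k <;> first | exact ⟨0, by decide⟩ | exact ⟨1, by decide⟩ | exact ⟨2, by decide⟩) hS
    have hb := fun k h0 c hc hc2 => S.row_bound L X hM A hδ T hf hp hR hS k h0 c hc hc2
    have b1 := hb 1 (by decide) 1 le_rfl (by decide)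
    have b3 := hb 3 (by decide) 2 (by norm_num) (by decide)
    obtain ⟨hinj, hs, hw, hout⟩ := hS
    have r0 := hrow 0
    have r1 := hrow 1
    have r2 := hrow 2
    obtain ⟨rfl, hsk⟩ : k = 0 ∧ s k = 1 := by
      fin_cases k <;> simp [ExtShape.rowT] at r0 r1 r2 ⊢ <;> omega
    have hd : charDegree (((trivialIrr G : IrrCharacter G)) : G → ℂ) = 1 := by simp [trivialIrr, charDegree]
    set D : Fin 7 → ℝ := fun k => (s k : ℝ) * (charDegree ((x k : IrrCharacter G) : G → ℂ) : ℝ)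
    have hZ : D 0 = 1 := by simp [D, hsk, hk, hd]
    obtain ⟨σ, hσ⟩ := S.swap_one X hM
    have hP : D 1 = D 2 := by
      set χ' := PrinCol.galIrr σ (x 1)
      have v0 := hσ 0 (x 1)
      have v1 := hσ 1 (x 1)
      have v2 := hσ 2 (x 1)
      simp only [sw, Matrix.cons_val_zero, Matrix.cons_val_one, Matrix.cons_val] at v0 v1 v2
      have u0 : S.vE X hM 1 0 χ' = s 1 := by
        rw [v0]; exact (hw 1 0).trans (by simp [ExtShape.rowT])
      have u2 : S.vE X hM 1 2 χ' = s 1 := by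
        rw [v1]; exact (hw 1 1).trans (by simp [ExtShape.rowT])
      have u1 : S.vE X hM 1 1 χ' = 0 := by
        rw [v2]; exact (hw 1 2).trans (by simp [ExtShape.rowT])
      have hs1 : s 1 ≠ 0 := fun e => by have := hs 1; rw [e] at this; norm_num at this
      obtain ⟨i, hi⟩ : χ' ∈ Set.range x := by
        by_contra hno
        have : S.vE X hM 1 0 χ' = 0 := hout _ hno 0
        exact hs1 (u0 ▸ this)
      have w0 : S.vE X hM 1 0 χ' = s i * ExtShape.rowT i 0 := by rw [← hi]; exact hw i 0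
      have w1 : S.vE X hM 1 1 χ' = s i * ExtShape.rowT i 1 := by rw [← hi]; exact hw i 1
      have w2 : S.vE X hM 1 2 χ' = s i * ExtShape.rowT i 2 := by rw [← hi]; exact hw i 2
      rw [u0] at w0; rw [u1] at w1; rw [u2] at w2
      have hi2 : i = 2 ∧ s i = s 1 := by
        have := hs i
        fin_cases i <;> simp [ExtShape.rowT] at w0 w1 w2 ⊢ <;> omega
      obtain ⟨rfl, hsi⟩ := hi2
      simp only [D]
      rw [hsi, hi, Base.gal_deg]
    have h0 : ∑ k, (ExtShape.rowT k 0 : ℝ) * D k = 0 := ho 0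
    have e0' : ∑ k, (ExtShape.rowT k 0 : ℝ) * S.tau ExtShape.rowT k ^ 2 / D k
        = 2 * (2 * (S.D.r : ℝ) - 1) * S.D.r * S.Kr := e0
    have b1' : 13 * (S.D.r : ℝ) ^ 2 ≤ |D 1| := le_trans (le_of_eq (by push_cast; ring)) b1
    have b3' : 26 * (S.D.r : ℝ) ^ 2 ≤ |D 3| := le_trans (le_of_eq (by push_cast; ring)) b3
    obtain ⟨t0, t1, t2, t3, t4, t5, t6⟩ := Exc.tau_T (S := S) (S.D.r : ℝ) rfl
    simp only [Fin.sum_univ_seven, t0, t1, t2, t3, t4, t5, t6] at h0 e0'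
    simp only [ExtShape.rowT, Matrix.cons_val, Fin.isValue, Int.cast_one, Int.cast_zero] at h0 e0'
    rw [← hP, hZ] at h0 e0'
    have := ExtArith.shapeT_one (K := S.Kr) hR b1' b3' (by linear_combination h0) (by linear_combination e0')
    linarith
  · exact (S.rowU_false L X hM A hδ T hf hp hR hS).elim

/-- A twist whose seven rows satisfy the relations of the exceptional functions. -/
theorem block_twist {l : S.Fld →* ℂˣ} (hl : l ≠ 1)
    (hT : ∀ (x : Fin 7 → IrrCharacter G) (s : Fin 7 → ℤ), (S.sysE X hM A hδ l).Shape ExtShape.rowT x s →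
      let D : Fin 7 → ℝ := fun a => (s a : ℝ) * (charDegree ((x a : IrrCharacter G) : G → ℂ) : ℝ)
      (D 5 = D 6 ∧ D 5 * ((4 * (S.D.r : ℝ) - 1) * S.Kr) = -(8 * (2 * (S.D.r : ℝ) - 1) ^ 2)) ∨
        (D 3 = (4 * (S.D.r : ℝ) - 1) * D 0 ∧
          D 0 * ((4 * (S.D.r : ℝ) - 1) * S.Kr) = -(8 * (2 * (S.D.r : ℝ) - 1)))) :
    2 * (2 * (S.D.r : ℝ) - 1) * S.D.r * S.Kr ≤ 64 / 100 := by
  have hne : ∀ {n : ℕ} {row : Fin n → Fin 3 → ℤ} {x : Fin n → IrrCharacter G} {s : Fin n → ℤ},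
      (S.sysE X hM A hδ l).Shape row x s → ∀ k, row k 0 ≠ 0 →
        1000 ≤ |(s k : ℝ) * (charDegree ((x k : IrrCharacter G) : G → ℂ) : ℝ)| := by
    rintro n row x s ⟨-, hs, hw, -⟩ k hk
    refine S.deg_big hδ T hp hR _ (fun e => ?_) (hs k)
    have h : S.vE X hM l 0 (x k) = s k * row k 0 := hw k 0
    rw [e, S.trivial_vE X hM l 0, if_neg hl] at h
    exact mul_ne_zero (fun e => by have := hs k; rw [e] at this; norm_num at this) hk h.symm
  rcases (S.sysE X hM A hδ l).shapes with ⟨x, s, hS⟩ | ⟨x, s, hS⟩ | ⟨x, s, hS⟩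
  · have hb := S.rowS_bound L X hM A hδ T hf hp hR hS
    simp only at hb
    have a0 := abs_le.1 (ExtArith.abs_div_le zero_le_one (by norm_num) (hne hS 0 (by decide)))
    have a1 := abs_le.1 (ExtArith.abs_div_le zero_le_one (by norm_num) (hne hS 1 (by decide)))
    linarith [(abs_le.1 hb).2, a0.2, a1.2]
  · obtain ⟨hfs, ho, e0, e1, -⟩ := S.row_facts L X hM A hδ
      (fun k => by fin_cases k <;> first | exact ⟨0, by decide⟩ | exact ⟨1, by decide⟩ | exact ⟨2, by decide⟩) hS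
    have hb := fun k h0 c hc hc2 => S.row_bound L X hM A hδ T hf hp hR hS k h0 c hc hc2
    have b1 := hb 1 (by decide) 1 le_rfl (by decide)
    have b2 := hb 2 (by decide) 1 le_rfl (by decide)
    have b3 := hb 3 (by decide) 2 (by norm_num) (by decide)
    set D : Fin 7 → ℝ := fun k => (s k : ℝ) * (charDegree ((x k : IrrCharacter G) : G → ℂ) : ℝ)
    have hZ : 1000 ≤ |D 0| := hne hS 0 (by decide)
    have h0 : ∑ k, (ExtShape.rowT k 0 : ℝ) * D k = 0 := ho 0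
    have h1 : ∑ k, (ExtShape.rowT k 1 : ℝ) * D k = 0 := ho 1
    have h2 : ∑ k, (ExtShape.rowT k 2 : ℝ) * D k = 0 := ho 2
    have f0 : ∑ k, (ExtShape.rowT k 0 : ℝ) * S.tau ExtShape.rowT k ^ 2 / D k
        = 2 * (2 * (S.D.r : ℝ) - 1) * S.D.r * S.Kr := e0
    have f1 : ∑ k, (ExtShape.rowT k 1 : ℝ) * S.tau ExtShape.rowT k ^ 2 / D k
        = (3 * (S.D.r : ℝ) - 1) * S.Kr := e1
    have b1' : 13 * (S.D.r : ℝ) ^ 2 ≤ |D 1| := le_trans (le_of_eq (by push_cast; ring)) b1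
    have b2' : 13 * (S.D.r : ℝ) ^ 2 ≤ |D 2| := le_trans (le_of_eq (by push_cast; ring)) b2
    have b3' : 26 * (S.D.r : ℝ) ^ 2 ≤ |D 3| := le_trans (le_of_eq (by push_cast; ring)) b3
    obtain ⟨t0, t1, t2, t3, t4, t5, t6⟩ := Exc.tau_T (S := S) (S.D.r : ℝ) rfl
    simp only [Fin.sum_univ_seven, t0, t1, t2, t3, t4, t5, t6] at h0 h1 h2 f0 f1
    simp only [ExtShape.rowT, Matrix.cons_val, Fin.isValue, Int.cast_one, Int.cast_zero] at h0 h1 h2 f0 f1
    rcases hT x s hS with ⟨(hcc : D 5 = D 6), (hC : D 5 * _ = _)⟩ | ⟨(hbz : D 3 = _ * D 0), (hZe : D 0 * _ = _)⟩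
    · exact ExtArith.shapeT_cc (H := D 4) hR S.Kr_pos hZ b1' b2' b3' (by linear_combination h1)
        (by linear_combination h2 + hcc) hC (by linear_combination f0) (by linear_combination f1)
    · exact ExtArith.shapeT_zb hR S.Kr_pos hZ b1' b2' b3' (by linear_combination h0) hbz hZe
        (by linear_combination f0)
  · exact (S.rowU_false L X hM A hδ T hf hp hR hS).elim

end Cfsg.Agent.Invol.JankoWard.ExtBase
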