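import Cfsg.Agent.Lib.Invol.JankoWard.LocalFree

/-!
# The centraliser of the preimage of the element of order three has odd order, or `g` is free

If an element of order three of `Y` is conjugate to the cycling element, then `g` fixes it, its centraliser is
`3 × A5`, and a normalising element of the common Sylow 3-subgroup has order divisible by four.
-/

set_option autoImplicit false
set_option linter.unusedSectionVars false
set_option linter.style.haveILetI false
set_option maxRecDepth 10000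

namespace Cfsg.Agent.Invol.JankoWard

open Subgroup

universe u v

/-- The subgroup generated by two commuting elements of order three. -/
def nineSub {X : Type u} [Group X] (a b : X) (ha : a ^ 3 = 1) (hb : b ^ 3 = 1) (hc : a * b = b * a) : Subgroup X where
  carrier := {x | ∃ i j : Fin 3, x = a ^ (i : ℕ) * b ^ (j : ℕ)}
  one_mem' := ⟨0, 0, by simp⟩
  mul_mem' := by
    rintro x y ⟨i, j, rfl⟩ ⟨i', j', rfl⟩
    refine ⟨i + i', j + j', ?_⟩
    rw [((show Commute b a from hc.symm).pow_pow (j : ℕ) (i' : ℕ)).mul_mul_mul_comm, ← pow_add, ← pow_add,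
      Fin.val_add, Fin.val_add, ← pow_eq_pow_mod _ ha, ← pow_eq_pow_mod _ hb]
  inv_mem' := by
    rintro x ⟨i, j, rfl⟩
    refine ⟨-i, -j, ?_⟩
    rw [mul_inv_rev, ((show Commute a b from hc).pow_pow _ _).inv_inv.symm.eq]
    have key : ∀ (z : X), z ^ 3 = 1 → ∀ k : Fin 3, (z ^ (k : ℕ))⁻¹ = z ^ ((-k : Fin 3) : ℕ) := by
      intro z hz k
      refine inv_eq_of_mul_eq_one_right ?_
      rw [← pow_add, pow_eq_pow_mod _ hz,
        show ((k : ℕ) + ((-k : Fin 3) : ℕ)) % 3 = 0 by revert k; decide, pow_zero]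
    rw [key a ha, key b hb]

theorem mem_nineSub {X : Type u} [Group X] {a b : X} {ha : a ^ 3 = 1} {hb : b ^ 3 = 1} {hc : a * b = b * a} {x : X} :
    x ∈ nineSub a b ha hb hc ↔ ∃ i j : Fin 3, x = a ^ (i : ℕ) * b ^ (j : ℕ) := Iff.rfl

namespace Cyc

variable {G : Type u} [Group G] [Finite G] {P : Type v} [Group P] [Finite P] {S : Base G P} (C : Cyc S)
include C

theorem not_even (A : Amb G) (heven : ¬ Odd (Nat.card ↥(centralizer ({C.d} : Set P)))) : False := by
  classical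
  haveI : Fact (Nat.Prime 2) := ⟨Nat.prime_two⟩
  haveI : Fact (Nat.Prime 3) := ⟨Nat.prime_three⟩
  set D := S.D
  have hd1 : C.d ≠ 1 := fun e => C.g_ne (by rw [C.hg, e, map_one]; group)
  have hd3 : C.d ^ 3 = 1 := by
    refine S.inj ?_
    have h := C.g3
    rw [C.hg, conj_pow] at h
    rw [map_pow, map_one]
    exact conj_eq_one_iff.1 h
  obtain ⟨⟨i0, hi0C⟩, hi0⟩ := exists_prime_orderOf_dvd_card' (G := ↥(centralizer ({C.d} : Set P))) 2
    (even_iff_two_dvd.1 (Nat.not_odd_iff_even.1 heven))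
  rw [orderOf_mk] at hi0
  obtain ⟨p, hp⟩ := isConj_iff.1 (D.one_class i0
    (by rw [← pow_two, ← hi0, pow_orderOf_eq_one]) (fun e => by rw [e, orderOf_one] at hi0; omega))
  set y3 := p⁻¹ * C.d * p with hy3d
  have hy33 : y3 ^ 3 = 1 := by
    rw [hy3d, show p⁻¹ * C.d * p = p⁻¹ * C.d * p⁻¹⁻¹ by group, conj_pow, hd3]; group
  have hy31 : y3 ≠ 1 := fun e => hd1 (by
    rw [show C.d = p * y3 * p⁻¹ by rw [hy3d]; group, e]; group)
  have hy3Y : y3 ∈ D.Y := by
    refine D.odd_mem_Y ?_ (o := 3) (by decide) hy33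
    rw [hy3d]
    have h := mem_centralizer_singleton_iff.1 hi0C
    calc p⁻¹ * C.d * p * D.u = p⁻¹ * (C.d * (p * D.u * p⁻¹)) * p := by group
      _ = p⁻¹ * (p * D.u * p⁻¹ * C.d) * p := by rw [hp, h]
      _ = D.u * (p⁻¹ * C.d * p) := by group
  set k := C.c * S.ι p with hk
  set T := S.ι y3 with hT
  have hkT : k * T * k⁻¹ = C.g := by
    rw [hk, hT, hy3d, C.hg, map_mul, map_mul, map_inv]; group
  have hkt : k * S.t * k⁻¹ = C.x := by
    rw [hk, x, show C.c * S.ι p * S.t * (C.c * S.ι p)⁻¹ = C.c * (S.ι p * S.t * (S.ι p)⁻¹) * C.c⁻¹ by group, S.tc,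
      mul_inv_cancel_right]
  have hT1 : T ≠ 1 := fun e => hy31 (S.inj (e.trans (map_one _).symm))
  have hT3 : T ^ 3 = 1 := by rw [hT, ← map_pow, hy33, map_one]
  have hTY : T ∈ S.YG := S.mem_YG hy3Y
  haveI := S.YG_cyclic
  letI := Fintype.ofFinite ↥S.YG
  -- `g` fixes the element
  have hg : C.g * T = T * C.g := by
    have h1 : ∀ z ∈ S.YG, z ^ 3 = 1 → z = 1 ∨ z = T ∨ z = T ^ 2 := by
      intro z hz hz3
      have hsub : (({1, T, T ^ 2} : Finset G).subtype fun a => a ∈ S.YG) ⊆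
          (Finset.univ : Finset ↥S.YG).filter fun a => a ^ 3 = 1 := by
        intro a ha
        simp only [Finset.mem_subtype, Finset.mem_insert, Finset.mem_singleton] at ha
        refine Finset.mem_filter.2 ⟨Finset.mem_univ _, Subtype.ext ?_⟩
        rw [Subgroup.coe_pow, Subgroup.coe_one]
        rcases ha with e | e | e <;> rw [e]
        · exact one_pow 3
        · exact hT3
        · rw [← pow_mul, pow_mul', hT3, one_pow]
      have hc : (({1, T, T ^ 2} : Finset G).subtype fun a => a ∈ S.YG).card = 3 := by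
        rw [Finset.card_subtype, Finset.filter_true_of_mem, Finset.card_insert_of_notMem, Finset.card_insert_of_notMem,
          Finset.card_singleton]
        · rw [Finset.mem_singleton, pow_two]
          exact fun e => hT1 (left_eq_mul.1 e)
        · simp only [Finset.mem_insert, Finset.mem_singleton]
          rintro (e | e)
          · exact hT1 e.symm
          · refine hT1 ?_
            rw [pow_succ, ← e, one_mul] at hT3
            exact hT3
        · simp only [Finset.mem_insert, Finset.mem_singleton]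
          rintro a (rfl | rfl | rfl)
          exacts [one_mem _, hTY, pow_mem hTY _]
      have heq := Finset.eq_of_subset_of_card_le hsub (by rw [hc]; exact IsCyclic.card_pow_eq_one_le (by norm_num))
      have hzm : (⟨z, hz⟩ : ↥S.YG) ∈ (Finset.univ : Finset ↥S.YG).filter fun a => a ^ 3 = 1 :=
        Finset.mem_filter.2 ⟨Finset.mem_univ _, Subtype.ext hz3⟩
      rw [← heq] at hzm
      simpa using hzm
    rcases h1 _ (C.g_YG hTY) (by rw [conj_pow, hT3, mul_one, mul_inv_cancel]) with e | e | e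
    · exact absurd (conj_eq_one_iff.1 e) hT1
    · exact mul_inv_eq_iff_eq_mul.1 e
    · exfalso
      have h2 : C.g * (C.g * T * C.g⁻¹) * C.g⁻¹ = T := by
        rw [e, ← conj_pow, e, ← pow_mul, pow_eq_pow_mod _ hT3, pow_one]
      have h3 : C.g * (C.g * (C.g * T * C.g⁻¹) * C.g⁻¹) * C.g⁻¹ = T := by
        rw [show C.g * (C.g * (C.g * T * C.g⁻¹) * C.g⁻¹) * C.g⁻¹ = C.g ^ 3 * T * (C.g ^ 3)⁻¹ by
          simp [pow_succ, mul_assoc], C.g3]; group
      rw [h2, e, pow_two] at h3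
      exact hT1 (mul_eq_left.1 h3)
  set F := C.cfg hy3Y hy31 hg with hF
  obtain ⟨hFn, hFg, hF3⟩ := F.structure_quotient
  have hFcyc : IsCyclic ↥F.Y := by
    haveI := S.YG_cyclic
    exact isCyclic_of_surjective (subgroupOfEquivOfLe (S.Y_le_cent hy3Y)).symm.toMonoidHom
      (subgroupOfEquivOfLe (S.Y_le_cent hy3Y)).symm.surjective
  -- conjugates of `Y` in the centraliser
  have hz : ∀ z ∈ S.YG, z * C.g = C.g * z → (k⁻¹ * z * k) * T = T * (k⁻¹ * z * k) ∧
      S.t * (k⁻¹ * z * k) * S.t⁻¹ = (k⁻¹ * z * k)⁻¹ := by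
    intro z hz h
    constructor
    · calc k⁻¹ * z * k * T = k⁻¹ * (z * (k * T * k⁻¹)) * k := by group
        _ = k⁻¹ * (k * T * k⁻¹ * z) * k := by rw [hkT, h]
        _ = T * (k⁻¹ * z * k) := by group
    · calc S.t * (k⁻¹ * z * k) * S.t⁻¹ = k⁻¹ * ((k * S.t * k⁻¹) * z * (k * S.t * k⁻¹)⁻¹) * k := by group
        _ = k⁻¹ * z⁻¹ * k := by rw [hkt, C.x_inv_YG hz]
        _ = (k⁻¹ * z * k)⁻¹ := by group
  have hoddY : ∀ z ∈ S.YG, z ^ D.r = 1 := by
    rintro _ ⟨y, hy, rfl⟩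
    rw [← map_pow, D.Y_pow hy, map_one]
  -- central case
  have hzY1 : ∀ z' : G, z' ∈ S.YG → S.t * z' * S.t⁻¹ = z'⁻¹ → z' = 1 := by
    intro z' hz' h
    rw [S.comm_V4_Y S.t_mem_V4 hz', mul_inv_cancel_right] at h
    exact eq_one_of_two_odd ⟨1, by rw [pow_one, pow_two]; nth_rewrite 1 [h]; exact inv_mul_cancel z'⟩ D.r_odd
      (hoddY _ hz')
  obtain ⟨hcardX, hcentral, hexp⟩ : Nat.card ↥(centralizer ({T} : Set G)) = 60 * Nat.card ↥F.Y ∧
      (∀ a : ↥(centralizer ({T} : Set G)), ∀ z ∈ F.Y, a * z = z * a) ∧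
      ∀ a : ↥(centralizer ({T} : Set G)), a ^ 2 ∈ F.Y ∨ a ^ 3 ∈ F.Y ∨ a ^ 5 ∈ F.Y := by
    refine (fun h => ⟨h.1, h.2.1 hFcyc, h.2.2⟩) (hF3.resolve_left fun h => ?_)
    obtain ⟨hc, hi⟩ := hz T hTY hg.symm
    have hv : (⟨S.t, S.V_le_cent hy3Y S.t_mem_V4⟩ : ↥(centralizer ({T} : Set G))) ∈ F.V := S.t_mem_V4
    have hb := h ⟨_, mem_centralizer_singleton_iff.2 hc⟩ _ hv (fun e => S.t1 (congrArg Subtype.val e))
      (by
        rw [orderOf_mk, show k⁻¹ * T * k = (MulAut.conj k⁻¹).toMonoidHom T by simp,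
          orderOf_injective _ (MulAut.conj k⁻¹).injective, orderOf_eq_prime hT3 hT1]
        decide)
      (Subtype.ext hi)
    have h1 := hzY1 _ hb hi
    exact hT1 (conj_eq_one_iff.1 (show k⁻¹ * T * k⁻¹⁻¹ = 1 by rw [inv_inv]; exact h1))
  have hgX : C.g ∈ centralizer ({T} : Set G) := mem_centralizer_singleton_iff.2 hg
  have hgY : ∀ z ∈ S.YG, C.g * z = z * C.g := fun z hz =>
    congrArg Subtype.val (hcentral ⟨C.g, hgX⟩ ⟨z, S.Y_le_cent hy3Y hz⟩ hz)
  -- `r = 3`
  have hpow : ∀ z ∈ S.YG, z ^ 3 = 1 ∨ z ^ 5 = 1 := by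
    intro z hz'
    obtain ⟨hc, hi⟩ := hz z hz' (hgY z hz').symm
    have hconj : ∀ j : ℕ, (k⁻¹ * z * k) ^ j ∈ S.YG → z ^ j = 1 := by
      intro j hj
      have h1 : (k⁻¹ * z * k) ^ j = 1 := by
        refine hzY1 _ hj ?_
        rw [← conj_pow, hi, inv_pow]
      rw [show k⁻¹ * z * k = k⁻¹ * z * k⁻¹⁻¹ by group, conj_pow] at h1
      exact conj_eq_one_iff.1 h1
    rcases hexp ⟨_, mem_centralizer_singleton_iff.2 hc⟩ with h | h | h
    · left
      rw [eq_one_of_two_odd ⟨1, by rw [pow_one]; exact hconj 2 h⟩ D.r_odd (hoddY z hz'), one_pow]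
    · exact Or.inl (hconj 3 h)
    · exact Or.inr (hconj 5 h)
  have hY3 : ∀ z ∈ S.YG, z ^ 3 = 1 := by
    intro z hz'
    by_contra h
    have h5 := (hpow z hz').resolve_left h
    have hTz : Commute T z := congrArg Subtype.val (mul_comm' (⟨T, hTY⟩ : ↥S.YG) ⟨z, hz'⟩)
    rcases hpow (T * z) (mul_mem hTY hz') with e | e <;> rw [hTz.mul_pow] at e
    · rw [hT3, one_mul] at e; exact h e
    · rw [h5, mul_one, pow_eq_pow_mod _ hT3] at e
      refine hT1 ?_
      rw [show (5 : ℕ) % 3 = 2 by norm_num, pow_two] at e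
      rw [← hT3, pow_succ, pow_two, e, one_mul]
  have hr3 : D.r = 3 := by
    have hle : D.r ≤ 3 := by
      rw [← S.card_YG, Nat.card_eq_fintype_card, ← Finset.card_univ,
        ← Finset.filter_true_of_mem (s := (Finset.univ : Finset ↥S.YG)) (p := fun a => a ^ 3 = 1)
          (fun a _ => Subtype.ext (hY3 a a.2))]
      exact IsCyclic.card_pow_eq_one_le (by norm_num)
    have := D.r3
    omega
  -- the Sylow subgroup of order nine
  set E9 := nineSub T C.g hT3 C.g3 hg.symm with hE9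
  have hEmem : ∀ a, a ∈ E9 ↔ ∃ i j : Fin 3, a = T ^ (i : ℕ) * C.g ^ (j : ℕ) := fun _ => Iff.rfl
  have hE9c : Nat.card ↥E9 = 9 := by
    let f : Fin 3 × Fin 3 → ↥E9 := fun q => ⟨T ^ (q.1 : ℕ) * C.g ^ (q.2 : ℕ), q.1, q.2, rfl⟩
    have hf : Function.Bijective f := by
      refine ⟨?_, fun a => ?_⟩
      · rintro ⟨i, j⟩ ⟨i', j'⟩ e
        have e' : T ^ (i : ℕ) * C.g ^ (j : ℕ) = T ^ (i' : ℕ) * C.g ^ (j' : ℕ) := congrArg Subtype.val e
        have hj : j = j' := by
          have h1 : C.g ^ ((j : ℕ) + (3 - (j' : ℕ))) ∈ S.YG := by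
            rw [pow_add, show C.g ^ (j : ℕ) = (T ^ (i : ℕ))⁻¹ * T ^ (i' : ℕ) * C.g ^ (j' : ℕ) by
              rw [mul_assoc, ← e', inv_mul_cancel_left], mul_assoc, ← pow_add,
              show (j' : ℕ) + (3 - (j' : ℕ)) = 3 by omega, C.g3, mul_one]
            exact mul_mem (inv_mem (pow_mem hTY _)) (pow_mem hTY _)
          have h2 := orderOf_dvd_of_pow_eq_one (C.g_not_YG h1)
          rw [orderOf_eq_prime C.g3 C.g_ne] at h2
          exact Fin.ext (by omega)
        subst hj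
        have e2 : T ^ (i : ℕ) = T ^ (i' : ℕ) := mul_right_cancel e'
        rw [pow_inj_mod, orderOf_eq_prime hT3 hT1] at e2
        exact Prod.ext (Fin.ext (by simpa [Nat.mod_eq_of_lt i.2, Nat.mod_eq_of_lt i'.2] using e2)) rfl
      · obtain ⟨i, j, e⟩ := a.2
        exact ⟨(i, j), Subtype.ext e.symm⟩
    rw [← Nat.card_congr (Equiv.ofBijective f hf)]
    simp [Nat.card_eq_fintype_card]
  set Cg := centralizer ({C.g} : Set G) with hCg
  have hEC : E9 ≤ Cg := by
    rintro a ⟨i, j, rfl⟩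
    rw [mem_centralizer_singleton_iff]
    exact (((show Commute T C.g from hg.symm).pow_left _).mul_left ((Commute.refl C.g).pow_left _)).eq
  have hEX : E9 ≤ centralizer ({T} : Set G) := by
    rintro a ⟨i, j, rfl⟩
    rw [mem_centralizer_singleton_iff]
    exact (((Commute.refl T).pow_left _).mul_left ((show Commute C.g T from hg).pow_left _)).eq
  have hkEC : E9.map (MulAut.conj k).toMonoidHom ≤ Cg := by
    rintro _ ⟨a, ha, rfl⟩
    rw [mem_centralizer_singleton_iff]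
    show k * a * k⁻¹ * C.g = C.g * (k * a * k⁻¹)
    rw [← hkT, conj_mul, conj_mul, mem_centralizer_singleton_iff.1 (hEX ha)]
  have hCcard : Nat.card ↥Cg = 180 := by
    have e : Cg = (centralizer ({T} : Set G)).map (MulAut.conj k).toMonoidHom := by
      ext a
      rw [Subgroup.mem_map]
      constructor
      · intro ha
        refine ⟨k⁻¹ * a * k, mem_centralizer_singleton_iff.2 ?_, by simp [mul_assoc]⟩
        calc k⁻¹ * a * k * T = k⁻¹ * (a * (k * T * k⁻¹)) * k := by group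
          _ = k⁻¹ * (k * T * k⁻¹ * a) * k := by rw [hkT, mem_centralizer_singleton_iff.1 ha]
          _ = T * (k⁻¹ * a * k) := by group
      · rintro ⟨b, hb, rfl⟩
        rw [mem_centralizer_singleton_iff]
        show k * b * k⁻¹ * C.g = C.g * (k * b * k⁻¹)
        rw [← hkT, conj_mul, conj_mul, mem_centralizer_singleton_iff.1 hb]
    rw [e]
    refine (card_map_of_injective (MulAut.conj k).injective).trans ?_
    rw [hcardX, show Nat.card ↥F.Y = Nat.card ↥S.YG from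
      Nat.card_congr (subgroupOfEquivOfLe (S.Y_le_cent hy3Y)).toEquiv, S.card_YG, hr3]
  have hfac : 3 ^ (Nat.card ↥Cg).factorization 3 = 9 := by
    rw [hCcard, show (180 : ℕ).factorization 3 = 2 by
      rw [Nat.factorization_def _ Nat.prime_three, show (180 : ℕ) = 3 ^ 2 * 20 by norm_num,
        padicValNat.mul (by norm_num) (by norm_num), padicValNat.prime_pow,
        padicValNat.eq_zero_of_not_dvd (by norm_num)]]
    norm_num
  obtain ⟨j, hj⟩ := MulAction.exists_smul_eq ↥Cg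
    (Sylow.ofCard ((E9.map (MulAut.conj k).toMonoidHom).subgroupOf Cg) (by
      rw [hfac, Nat.card_congr (subgroupOfEquivOfLe hkEC).toEquiv]
      exact (card_map_of_injective (MulAut.conj k).injective).trans hE9c))
    (Sylow.ofCard (E9.subgroupOf Cg) (by rw [hfac, Nat.card_congr (subgroupOfEquivOfLe hEC).toEquiv, hE9c]))
  set n := (j : G) * k with hn
  have hnT : n * T * n⁻¹ = C.g := by
    rw [hn, show (j : G) * k * T * ((j : G) * k)⁻¹ = (j : G) * (k * T * k⁻¹) * (j : G)⁻¹ by group, hkT,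
      mem_centralizer_singleton_iff.1 j.2, mul_inv_cancel_right]
  have hnE : n * C.g * n⁻¹ ∈ E9 := by
    have h0 : C.g ∈ E9 := ⟨0, 1, by simp⟩
    have h1 : j * ⟨k * C.g * k⁻¹, hkEC ⟨_, h0, rfl⟩⟩ * j⁻¹ ∈
        (E9.subgroupOf Cg : Subgroup ↥Cg) := by
      have := congrArg (fun R : Sylow 3 ↥Cg => (R : Subgroup ↥Cg)) hj
      simp only [Sylow.coe_ofCard] at this
      rw [← this, Sylow.coe_subgroup_smul]
      exact ⟨⟨k * C.g * k⁻¹, hkEC ⟨_, h0, rfl⟩⟩, ⟨_, h0, rfl⟩, rfl⟩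
    have h2 : (j : G) * (k * C.g * k⁻¹) * (j : G)⁻¹ ∈ E9 := h1
    convert h2 using 1
    rw [hn]; group
  obtain ⟨a, b, hab⟩ := hnE
  have ha0 : a ≠ 0 := by
    rintro rfl
    simp only [Fin.val_zero, pow_zero, one_mul] at hab
    have h1 : n * C.g * n⁻¹ = n * T ^ (b : ℕ) * n⁻¹ := by rw [hab, ← conj_pow, hnT]
    have h2 := mul_left_cancel (mul_right_cancel h1)
    exact C.g_ne (by simpa using C.g_not_YG (i := 1) (by rw [pow_one, h2]; exact pow_mem hTY _))
  have hxT : C.x * T * C.x⁻¹ = T⁻¹ := C.x_inv_YG hTY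
  have hxg : C.x * C.g * C.x⁻¹ = C.g := by rw [← C.x_g, mul_inv_cancel_right]
  have hTi : T⁻¹ = T ^ 2 := inv_eq_of_mul_eq_one_left (by rw [← pow_succ, hT3])
  -- a square inverts `T`, its root
  have key : ∀ f : G, f ^ 2 * T * (f ^ 2)⁻¹ = T⁻¹ → False := by
    intro f hf
    obtain ⟨s, o, ho, hso⟩ := Nat.exists_eq_two_pow_mul_odd (orderOf_pos f).ne'
    have he := A.sq2 (f ^ o) ⟨s, by rw [← pow_mul, mul_comm, ← hso, pow_orderOf_eq_one]⟩
    rw [← pow_two, ← pow_mul, mul_comm, pow_mul] at he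
    have hj : ∀ j : ℕ, (f ^ 2) ^ j * T * ((f ^ 2) ^ j)⁻¹ = if Even j then T else T⁻¹ := by
      intro j
      induction j with
      | zero => simp
      | succ j ih =>
        rw [show (f ^ 2) ^ (j + 1) * T * ((f ^ 2) ^ (j + 1))⁻¹ =
          f ^ 2 * ((f ^ 2) ^ j * T * ((f ^ 2) ^ j)⁻¹) * (f ^ 2)⁻¹ by rw [pow_succ']; group, ih]
        by_cases h : Even j
        · rw [if_pos h, if_neg (by simpa [Nat.even_add_one] using h), hf]
        · rw [if_neg h, if_pos (Nat.even_add_one.2 h)]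
          calc f ^ 2 * T⁻¹ * (f ^ 2)⁻¹ = (f ^ 2 * T * (f ^ 2)⁻¹)⁻¹ := by group
            _ = T := by rw [hf, inv_inv]
    have h2 := hj o
    rw [he, if_neg (Nat.not_even_iff_odd.2 ho), one_mul, inv_one, mul_one] at h2
    exact hT1 (eq_one_of_two_odd ⟨1, by rw [pow_one, pow_two]; nth_rewrite 1 [h2]; exact inv_mul_cancel T⟩
      (o := 3) (by decide) hT3)
  -- an element with `T ↦ z ↦ T z^b` or `T ↦ z ↦ T⁻¹`
  have hzero : ∀ f z : G, f * T * f⁻¹ = z → f * z * f⁻¹ = T⁻¹ → False := fun f z h1 h2 =>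
    key f (by rw [show f ^ 2 * T * (f ^ 2)⁻¹ = f * (f * T * f⁻¹) * f⁻¹ by rw [pow_two]; group, h1, h2])
  have hnonz : ∀ (f z : G) (b : Fin 3), b ≠ 0 → Commute T z → f * T * f⁻¹ = z →
      f * z * f⁻¹ = T * z ^ (b : ℕ) → False := by
    intro f z b hb hc h1 h2
    have hz3 : z ^ 3 = 1 := by rw [← h1, conj_pow, hT3, mul_one, mul_inv_cancel]
    have step : ∀ i j : ℕ, f * (T ^ i * z ^ j) * f⁻¹ = T ^ j * z ^ (i + (b : ℕ) * j) := by
      intro i j
      rw [← conj_mul, ← conj_pow, ← conj_pow, h1, h2, hc.pow_right _ |>.mul_pow, ← pow_mul, ← mul_assoc,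
        ((hc.symm.pow_pow i j)).eq, mul_assoc, ← pow_add]
    refine key (f ^ 2) ?_
    rw [show (f ^ 2) ^ 2 * T * ((f ^ 2) ^ 2)⁻¹ = f * (f * (f * (f * T * f⁻¹) * f⁻¹) * f⁻¹) * f⁻¹ by
      simp [pow_succ, mul_assoc]]
    rw [show T = T ^ 1 * z ^ 0 by simp, step, step, step, step, pow_one, pow_zero, mul_one, hTi,
      pow_eq_pow_mod _ hT3, pow_eq_pow_mod (_ + (b : ℕ) * _) hz3]
    fin_cases b
    · exact absurd rfl hb
    · norm_num
    · norm_num
  have hnx1 : n * C.x * T * (n * C.x)⁻¹ = C.g⁻¹ := by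
    rw [show n * C.x * T * (n * C.x)⁻¹ = n * (C.x * T * C.x⁻¹) * n⁻¹ by group, hxT, ← hnT]; group
  have hnx2 : n * C.x * C.g⁻¹ * (n * C.x)⁻¹ = (T ^ (a : ℕ) * C.g ^ (b : ℕ))⁻¹ := by
    rw [show n * C.x * C.g⁻¹ * (n * C.x)⁻¹ = (n * (C.x * C.g * C.x⁻¹) * n⁻¹)⁻¹ by group, hxg, hab]
  have hc : Commute T C.g := hg.symm
  have hgi : C.g⁻¹ ^ (b : ℕ) = (C.g ^ (b : ℕ))⁻¹ := inv_pow _ _
  by_cases hb : b = 0
  · subst hb
    simp only [Fin.val_zero, pow_zero, mul_one] at hab hnx2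
    fin_cases a
    · exact ha0 rfl
    · exact hzero (n * C.x) _ hnx1 (by simpa using hnx2)
    · exact hzero n _ hnT (by rw [hab, hTi])
  · fin_cases a
    · exact ha0 rfl
    · exact hnonz n _ b hb hc hnT (by simpa using hab)
    · refine hnonz (n * C.x) _ b hb hc.inv_right hnx1 ?_
      rw [hnx2, hgi, mul_inv_rev]
      rw [show (((⟨2, by norm_num⟩ : Fin 3) : ℕ)) = 2 from rfl, ← hTi, inv_inv]
      exact ((hc.pow_right _).inv_right).eq.symm

end Cyc

end Cfsg.Agent.Invol.JankoWard
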