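import Cfsg.Agent.Lib.Invol.JankoWard.LocalBase
import Cfsg.Agent.Lib.Invol.Bender.Tools
import Cfsg.Agent.Lib.Grp.Coprime
import Cfsg.Agent.Lib.Grp.AbelianConjQuotient
import Cfsg.Agent.Lib.Transfer.FrobeniusFormula
import Cfsg.Agent.Lib.Grp.ThreeOrders.SEBasic

/-!
# The element of order three acts freely on `Y`

If it fixes `t0 ∈ Y` of prime order `l`, then either the fixed-point formula for `⟨t0⟩⟨x⟩` on the normal
`l`-complement of the odd part of its centraliser gives `l ∣ 8`, or the centraliser of an element of order three of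
`Y` is `3 × A5`, and then some element has order divisible by four.
-/

set_option autoImplicit false
set_option linter.unusedSectionVars false
set_option linter.style.haveILetI false
set_option maxRecDepth 10000

namespace Cfsg.Agent.Invol.JankoWard

open Subgroup

universe u v

/-- A `p`-group acting on a subgroup: the fixed points have the same order modulo `p`. -/
theorem fixed_modEq {G : Type u} [Group G] [Finite G] {p : ℕ} [Fact p.Prime] {U M : Subgroup G}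
    (hU : IsPGroup p U) (hn : U ≤ normalizer (M : Set G)) :
    Nat.card ↥M ≡ Nat.card ↥(M ⊓ centralizer (U : Set G)) [MOD p] := by
  let φ : ↥U →* MulAut ↥M := M.normalizerMonoidHom.comp (inclusion hn)
  letI : MulAction ↥U ↥M :=
    { smul := fun g k => φ g k
      one_smul := fun k => by show φ 1 k = k; rw [map_one]; rfl
      mul_smul := fun g g' k => by show φ (g * g') k = φ g (φ g' k); rw [map_mul]; rfl }
  have h1 := hU.card_modEq_card_fixedPoints ↥M
  refine h1.trans ?_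
  rw [Nat.card_congr (show ↥(MulAction.fixedPoints ↥U ↥M) ≃ ↥(M ⊓ centralizer (U : Set G)) from
    { toFun := fun k => ⟨(k : ↥M), (k : ↥M).2, mem_centralizer_iff.2 fun a ha =>
        mul_inv_eq_iff_eq_mul.1 (congrArg Subtype.val (k.2 ⟨a, ha⟩))⟩
      invFun := fun k => ⟨⟨k, k.2.1⟩, fun a => Subtype.ext (by
        show (a : G) * k * (a : G)⁻¹ = k
        rw [mem_centralizer_iff.1 k.2.2 a a.2, mul_inv_cancel_right])⟩
      left_inv := fun _ => rfl
      right_inv := fun _ => rfl })]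

/-- An element of order prime to `p` lies in a normal subgroup of `p`-power index. -/
theorem mem_of_prime_power_index {X : Type u} [Group X] [Finite X] {N : Subgroup X} [N.Normal] {p k : ℕ}
    (hp : p.Prime) (hi : N.index = p ^ k) {a : X} (ha : ¬ p ∣ orderOf a) : a ∈ N := by
  rw [← QuotientGroup.eq_one_iff, ← orderOf_eq_one_iff]
  refine Nat.eq_one_of_dvd_coprimes ((hp.coprime_iff_not_dvd.2 ha).pow_left k) ?_ ?_
  · rw [← hi, Subgroup.index_eq_card]
    exact orderOf_dvd_natCard _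
  · exact orderOf_map_dvd (QuotientGroup.mk' N) a

namespace Base

variable {G : Type u} [Group G] [Finite G] {P : Type v} [Group P] [Finite P] (S : Base G P)

/-- The four-group `⟨t, u⟩`. -/
def V4 : Subgroup G :=
  fourSub S.t (S.ι S.D.u) S.tt (by rw [← map_mul, S.D.u2, map_one]) (S.tc _).symm

/-- The image of `Y`. -/
def YG : Subgroup G := S.D.Y.map S.ι

theorem mem_YG {y : P} (hy : y ∈ S.D.Y) : S.ι y ∈ S.YG := mem_map_of_mem _ hy

theorem V4_klein : IsKleinFour ↥S.V4 :=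
  fourSub_klein S.t1 (fun e => S.D.u1 (S.inj (e.trans (map_one _).symm))) (fun e => S.t_not _ e.symm)

theorem card_YG : Nat.card ↥S.YG = S.D.r := by
  rw [YG, card_map_of_injective S.inj, S.D.card_Y]

theorem YG_cyclic : IsCyclic ↥S.YG :=
  haveI := S.D.Y_cyclic
  isCyclic_of_surjective (equivMapOfInjective S.D.Y S.ι S.inj).toMonoidHom
    (equivMapOfInjective S.D.Y S.ι S.inj).surjective

theorem comm_V4_Y {v z : G} (hv : v ∈ S.V4) (hz : z ∈ S.YG) : v * z = z * v := by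
  obtain ⟨y, hy, rfl⟩ := hz
  have hu : S.ι S.D.u * S.ι y = S.ι y * S.ι S.D.u := by rw [← map_mul, ← map_mul, S.D.u_Y y hy]
  rcases hv with rfl | rfl | rfl | rfl
  · rw [one_mul, mul_one]
  · exact (S.tc y).symm
  · exact hu
  · rw [mul_assoc, hu, ← mul_assoc, ← S.tc, mul_assoc]

theorem Y_le_cent {y : P} (hy : y ∈ S.D.Y) : S.YG ≤ centralizer ({S.ι y} : Set G) := by
  rintro _ ⟨a, ha, rfl⟩
  rw [mem_centralizer_singleton_iff, ← map_mul, ← map_mul, S.D.Y_mul_comm ha hy]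

theorem V_le_cent {y : P} (hy : y ∈ S.D.Y) : S.V4 ≤ centralizer ({S.ι y} : Set G) := fun _ hv =>
  mem_centralizer_singleton_iff.2 (S.comm_V4_Y hv (S.mem_YG hy))

theorem t_mem_V4 : S.t ∈ S.V4 := Or.inr (Or.inl rfl)

theorem u_mem_V4 : S.ι S.D.u ∈ S.V4 := Or.inr (Or.inr (Or.inl rfl))

/-- The centraliser of `t` and of an element of `Y`. -/
theorem cent_t_y {y : P} (hy : y ∈ S.D.Y) (hy1 : y ≠ 1) {x : G} (hxt : x * S.t = S.t * x)
    (hxy : x * S.ι y = S.ι y * x) : ∃ z ∈ S.YG, ∃ w ∈ S.V4, x = w * z := by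
  obtain ⟨k, hk⟩ := S.cover x hxt
  have hky : k * y = y * k := by
    refine S.inj ?_
    rw [map_mul, map_mul]
    rcases hk with rfl | rfl
    · exact hxy
    · rw [mul_assoc, ← mul_assoc (S.ι y) S.t, S.tc, mul_assoc] at hxy
      exact mul_left_cancel hxy
  obtain ⟨y', hy', hk'⟩ := S.D.cent_Y y hy hy1 k hky
  refine ⟨S.ι y', S.mem_YG hy', ?_⟩
  rcases hk with rfl | rfl <;> rcases hk' with rfl | rfl
  · exact ⟨1, one_mem _, (one_mul _).symm⟩
  · exact ⟨_, S.u_mem_V4, map_mul _ _ _⟩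
  · exact ⟨_, S.t_mem_V4, rfl⟩
  · exact ⟨_, mul_mem S.t_mem_V4 S.u_mem_V4, by rw [map_mul, mul_assoc]⟩

end Base

namespace Cyc

variable {G : Type u} [Group G] [Finite G] {P : Type v} [Group P] [Finite P] {S : Base G P} (C : Cyc S)
include C

/-- The involution inverting `Y`. -/
def x : G := C.c * S.t * C.c⁻¹

theorem x_sq : C.x * C.x = 1 := by rw [x, conj_mul, S.tt, mul_one, mul_inv_cancel]

theorem x_inv_YG {z : G} (hz : z ∈ S.YG) : C.x * z * C.x⁻¹ = z⁻¹ := by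
  obtain ⟨y, hy, rfl⟩ := hz
  exact C.inv y hy

theorem x_g : C.g * C.x = C.x * C.g := by rw [C.hg, x, conj_mul, conj_mul, S.tc]

theorem g_inv : C.g⁻¹ = C.g * C.g := inv_eq_of_mul_eq_one_left (by rw [← pow_three']; exact C.g3)

theorem g_inv_t : C.g⁻¹ * S.ι S.D.u * C.g = S.t := by rw [← C.gt]; group

theorem g_inv_tu : C.g⁻¹ * (S.t * S.ι S.D.u) * C.g = S.ι S.D.u := by rw [← C.gu]; group

theorem gV {v : G} (hv : v ∈ S.V4) : C.g * v * C.g⁻¹ ∈ S.V4 := by
  rcases hv with rfl | rfl | rfl | rfl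
  · left; group
  · rw [C.gt]; exact S.u_mem_V4
  · rw [C.gu]; exact mul_mem S.t_mem_V4 S.u_mem_V4
  · rw [← conj_mul, C.gt, C.gu]
    exact mul_mem S.u_mem_V4 (mul_mem S.t_mem_V4 S.u_mem_V4)

theorem gmove {v : G} (hv : v ∈ S.V4) (hv1 : v ≠ 1) : C.g * v * C.g⁻¹ ≠ v := by
  intro e
  rcases hv with rfl | rfl | rfl | rfl
  · exact hv1 rfl
  · exact S.t_not _ (C.gt.symm.trans e)
  · exact S.t1 (mul_eq_right.1 (C.gu.symm.trans e))
  · rw [← conj_mul, C.gt, C.gu, ← mul_assoc, S.tc, mul_assoc] at e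
    refine S.D.u1 (S.inj ?_)
    have e' : S.t * (S.ι S.D.u * S.ι S.D.u) = S.t * S.ι S.D.u := e
    have h := mul_left_cancel e'
    rw [map_one]
    exact mul_eq_left.1 h

/-- `g` normalises the image of `Y`. -/
theorem gY {y : P} (hy : y ∈ S.D.Y) : ∃ y' ∈ S.D.Y, C.g * S.ι y * C.g⁻¹ = S.ι y' := by
  set X := C.g * S.ι y * C.g⁻¹ with hX
  have hu : X * S.ι S.D.u = S.ι S.D.u * X := by
    rw [hX, ← C.gt, conj_mul, conj_mul, S.tc]
  have hutu : X * (S.t * S.ι S.D.u) = S.t * S.ι S.D.u * X := by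
    rw [hX, ← C.gu, conj_mul, conj_mul, ← map_mul, ← map_mul, S.D.u_Y y hy]
  have hXt : X * S.t = S.t * X := by
    rw [← mul_assoc, mul_assoc S.t, ← hu, ← mul_assoc] at hutu
    exact mul_right_cancel hutu
  have hpow : X ^ S.D.r = 1 := by
    rw [hX, conj_pow, ← map_pow, S.D.Y_pow hy, map_one, mul_one, mul_inv_cancel]
  obtain ⟨k, hk | hk⟩ := S.cover X hXt
  · refine ⟨k, S.D.odd_mem_Y (S.inj ?_) S.D.r_odd (S.inj ?_), hk⟩
    · rw [map_mul, map_mul, ← hk]; exact hu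
    · rw [map_pow, map_one, ← hk]; exact hpow
  · exfalso
    rw [hk, (S.commute k).mul_pow] at hpow
    have ht : S.t ^ S.D.r = S.t := by
      obtain ⟨j, hj⟩ := S.D.r_odd
      rw [hj, pow_succ, pow_mul, pow_two, S.tt, one_pow, one_mul]
    rw [ht, ← map_pow] at hpow
    exact S.t_mul_ne _ _ (hpow.trans (map_one S.ι).symm)

theorem g_YG {z : G} (hz : z ∈ S.YG) : C.g * z * C.g⁻¹ ∈ S.YG := by
  obtain ⟨y, hy, rfl⟩ := hz
  obtain ⟨y', hy', e⟩ := C.gY hy
  exact e ▸ S.mem_YG hy'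

theorem g_inv_YG {z : G} (hz : z ∈ S.YG) : C.g⁻¹ * z * C.g ∈ S.YG := by
  have := C.g_YG (C.g_YG hz)
  rwa [show C.g * (C.g * z * C.g⁻¹) * C.g⁻¹ = (C.g * C.g) * z * (C.g * C.g)⁻¹ by group, ← C.g_inv, inv_inv] at this

theorem g_inv_V4 {v : G} (hv : v ∈ S.V4) : C.g⁻¹ * v * C.g ∈ S.V4 := by
  have := C.gV (C.gV hv)
  rwa [show C.g * (C.g * v * C.g⁻¹) * C.g⁻¹ = (C.g * C.g) * v * (C.g * C.g)⁻¹ by group, ← C.g_inv, inv_inv] at this

theorem g_ne : C.g ≠ 1 := fun e => S.t_not S.D.u (by rw [← C.gt, e]; group)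

theorem g_not_YG {i : ℕ} (h : C.g ^ i ∈ S.YG) : C.g ^ i = 1 := by
  have ho : orderOf C.g = 3 := orderOf_eq_prime C.g3 C.g_ne
  rw [← pow_mod_orderOf, ho] at h ⊢
  have hc : C.g ^ (i % 3) * S.t * (C.g ^ (i % 3))⁻¹ = S.t := by
    rw [show C.g ^ (i % 3) * S.t = S.t * C.g ^ (i % 3) from (S.comm_V4_Y S.t_mem_V4 h).symm, mul_inv_cancel_right]
  rcases (show i % 3 = 0 ∨ i % 3 = 1 ∨ i % 3 = 2 by omega) with e | e | e <;> rw [e] at hc ⊢
  · rw [pow_zero]
  · rw [pow_one] at hc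
    exact absurd hc (C.gmove S.t_mem_V4 S.t1)
  · rw [show C.g ^ 2 * S.t * (C.g ^ 2)⁻¹ = C.g * (C.g * S.t * C.g⁻¹) * C.g⁻¹ by rw [pow_two]; group, C.gt,
      C.gu] at hc
    exact absurd (mul_eq_left.1 hc) fun e => S.D.u1 (S.inj (e.trans (map_one _).symm))

/-- The configuration at an element of `Y` fixed by `g`. -/
def cfg {y : P} (hy : y ∈ S.D.Y) (hy1 : y ≠ 1) (hg : C.g * S.ι y = S.ι y * C.g) :
    FourCfg ↥(centralizer ({S.ι y} : Set G)) where
  V := S.V4.subgroupOf _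
  Y := S.YG.subgroupOf _
  g := ⟨C.g, mem_centralizer_singleton_iff.2 hg⟩
  hV := by
    haveI := S.V4_klein
    have e := subgroupOfEquivOfLe (S.V_le_cent hy)
    exact ⟨by rw [Nat.card_congr e.toEquiv, IsKleinFour.card_four],
      by rw [Monoid.exponent_eq_of_mulEquiv e]; exact IsKleinFour.exponent_two⟩
  hY := by
    rw [Nat.card_congr (subgroupOfEquivOfLe (S.Y_le_cent hy)).toEquiv, S.card_YG]
    exact S.D.r_odd
  Ycomm := fun z hz z' hz' => by
    haveI := S.YG_cyclic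
    exact Subtype.ext (congrArg Subtype.val (mul_comm' (⟨(z : G), hz⟩ : ↥S.YG) ⟨(z' : G), hz'⟩) :)
  comm := fun v hv z hz => Subtype.ext (S.comm_V4_Y hv hz)
  g3 := Subtype.ext C.g3
  gV := fun v hv => C.gV hv
  gmove := fun v hv hv1 e => C.gmove hv (fun h => hv1 (Subtype.ext h)) (congrArg Subtype.val e)
  cent := by
    intro v hv hv1 x hx
    have hx' : (x : G) * v = v * x := congrArg Subtype.val hx
    have hxy : (x : G) * S.ι y = S.ι y * x := mem_centralizer_singleton_iff.1 x.2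
    suffices ∃ z ∈ S.YG, ∃ w ∈ S.V4, (x : G) = w * z by
      obtain ⟨z, hz, w, hw, e⟩ := this
      exact ⟨⟨z, S.Y_le_cent hy hz⟩, hz, ⟨w, S.V_le_cent hy hw⟩, hw, Subtype.ext e⟩
    have hback : ∀ x' : G, x' * S.ι y = S.ι y * x' → (C.g⁻¹ * x' * C.g) * S.ι y = S.ι y * (C.g⁻¹ * x' * C.g) := by
      intro x' h
      have hc : C.g⁻¹ * S.ι y * C.g = S.ι y := by rw [mul_assoc, ← hg, inv_mul_cancel_left]
      rw [← hc]
      calc C.g⁻¹ * x' * C.g * (C.g⁻¹ * S.ι y * C.g) = C.g⁻¹ * (x' * S.ι y) * C.g := by group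
        _ = C.g⁻¹ * S.ι y * C.g * (C.g⁻¹ * x' * C.g) := by rw [h]; group
    have hlift : ∀ x' : G, (∃ z ∈ S.YG, ∃ w ∈ S.V4, C.g⁻¹ * x' * C.g = w * z) →
        ∃ z ∈ S.YG, ∃ w ∈ S.V4, x' = w * z := by
      rintro x' ⟨z, hz, w, hw, e⟩
      refine ⟨_, C.g_YG hz, _, C.gV hw, ?_⟩
      rw [conj_mul, ← e]; group
    have hU : ∀ x' : G, x' * S.ι S.D.u = S.ι S.D.u * x' → x' * S.ι y = S.ι y * x' →
        ∃ z ∈ S.YG, ∃ w ∈ S.V4, x' = w * z := by
      intro x' h1 h2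
      refine hlift x' (S.cent_t_y hy hy1 ?_ (hback x' h2))
      rw [← C.g_inv_t]
      calc C.g⁻¹ * x' * C.g * (C.g⁻¹ * S.ι S.D.u * C.g) = C.g⁻¹ * (x' * S.ι S.D.u) * C.g := by group
        _ = C.g⁻¹ * S.ι S.D.u * C.g * (C.g⁻¹ * x' * C.g) := by rw [h1]; group
    rcases (show (v : G) ∈ S.V4 from hv) with e | e | e | e <;> rw [e] at hx'
    · exact absurd (Subtype.ext e) hv1
    · exact S.cent_t_y hy hy1 hx' hxy
    · exact hU _ hx' hxy
    · refine hlift _ (hU _ ?_ (hback _ hxy))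
      rw [← C.g_inv_tu]
      calc C.g⁻¹ * ↑x * C.g * (C.g⁻¹ * (S.t * S.ι S.D.u) * C.g) = C.g⁻¹ * (↑x * (S.t * S.ι S.D.u)) * C.g := by
            group
        _ = C.g⁻¹ * (S.t * S.ι S.D.u) * C.g * (C.g⁻¹ * ↑x * C.g) := by rw [hx']; group

/-- An element of odd order which maps a fixed `t0` into the image of `Y` fixes it. -/
theorem odd_fix (A : Amb G) {l : ℕ} (hl : l.Prime) {t0 : P} (ht0 : t0 ∈ S.D.Y) (hord : orderOf t0 = l)
    (hg : C.g * S.ι t0 = S.ι t0 * C.g) {n : G} (hn : Odd (orderOf n)) (hm : n * S.ι t0 * n⁻¹ ∈ S.YG) :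
    n * S.ι t0 * n⁻¹ = S.ι t0 := by
  classical
  haveI : Fact (Nat.Prime 2) := ⟨Nat.prime_two⟩
  haveI := S.YG_cyclic
  haveI := S.V4_klein
  set T0 := S.ι t0 with hT0
  have ht1 : t0 ≠ 1 := fun e => hl.ne_one (by rw [← hord, e, orderOf_one])
  have hT0ord : orderOf T0 = l := by rw [hT0, orderOf_injective S.ι S.inj, hord]
  have hzeq : zpowers (n * T0 * n⁻¹) = zpowers T0 := by
    have hle1 : zpowers T0 ≤ S.YG := zpowers_le.2 (S.mem_YG ht0)
    have hle2 : zpowers (n * T0 * n⁻¹) ≤ S.YG := zpowers_le.2 hm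
    have hc : Nat.card ↥((zpowers (n * T0 * n⁻¹)).subgroupOf S.YG) = Nat.card ↥((zpowers T0).subgroupOf S.YG) := by
      rw [Nat.card_congr (subgroupOfEquivOfLe hle2).toEquiv, Nat.card_congr (subgroupOfEquivOfLe hle1).toEquiv,
        Nat.card_zpowers, Nat.card_zpowers]
      exact (orderOf_injective (MulAut.conj n).toMonoidHom (MulAut.conj n).injective T0)
    have := le_antisymm (Grp.AbelianConjQuotient.le_of_card_dvd _ _ hc.dvd) (Grp.AbelianConjQuotient.le_of_card_dvd _ _ hc.symm.dvd)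
    rw [← map_subgroupOf_eq_of_le hle2, ← map_subgroupOf_eq_of_le hle1, this]
  have hX : ∀ z, z ∈ centralizer ({T0} : Set G) ↔ z * (n * T0 * n⁻¹) = n * T0 * n⁻¹ * z := by
    intro z
    rw [mem_centralizer_singleton_iff]
    constructor <;> intro h
    · have : n * T0 * n⁻¹ ∈ zpowers T0 := hzeq ▸ mem_zpowers _
      obtain ⟨i, hi⟩ := mem_zpowers_iff.1 this
      rw [← hi]; exact ((show Commute z T0 from h).zpow_right i).eq
    · have : T0 ∈ zpowers (n * T0 * n⁻¹) := hzeq ▸ mem_zpowers _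
      obtain ⟨i, hi⟩ := mem_zpowers_iff.1 this
      rw [← hi]; exact ((show Commute z (n * T0 * n⁻¹) from h).zpow_right i).eq
  -- the image of the four-group
  set Xc := centralizer ({T0} : Set G) with hXc
  obtain ⟨R, hR'⟩ : ∃ R : Sylow 2 ↥Xc, (R : Subgroup ↥Xc) = S.V4.subgroupOf Xc :=
    (C.cfg ht0 ht1 hg).exists_sylow
  have hnV : S.V4.map (MulAut.conj n).toMonoidHom ≤ Xc := by
    rintro _ ⟨v, hv, rfl⟩
    refine (hX _).2 ?_
    show n * v * n⁻¹ * (n * T0 * n⁻¹) = n * T0 * n⁻¹ * (n * v * n⁻¹)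
    rw [conj_mul, conj_mul, S.comm_V4_Y hv (S.mem_YG ht0)]
  have hc4 : Nat.card ↥((S.V4.map (MulAut.conj n).toMonoidHom).subgroupOf Xc) = Nat.card ↥(R : Subgroup ↥Xc) := by
    rw [Nat.card_congr (subgroupOfEquivOfLe hnV).toEquiv, hR']
    exact (card_map_of_injective (MulAut.conj n).injective).trans
      (Nat.card_congr (subgroupOfEquivOfLe (S.V_le_cent ht0)).toEquiv).symm
  obtain ⟨j, hj⟩ := MulAction.exists_smul_eq ↥Xc R
    (Sylow.ofCard ((S.V4.map (MulAut.conj n).toMonoidHom).subgroupOf Xc) (by rw [hc4, R.card_eq_multiplicity]))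
  set n' := (j : G)⁻¹ * n with hn'
  have hn'V : ∀ v ∈ S.V4, n' * v * n'⁻¹ ∈ S.V4 := by
    intro v hv
    have h1 : (⟨n * v * n⁻¹, hnV ⟨v, hv, rfl⟩⟩ : ↥Xc) ∈ ((j • R : Sylow 2 ↥Xc) : Subgroup ↥Xc) := by
      rw [hj]; exact ⟨v, hv, rfl⟩
    rw [Grp.ThreeOrders.mem_smul_sylow] at h1
    have h2 : (j : G)⁻¹ * (n * v * n⁻¹) * j ∈ S.V4 := (le_of_eq hR') h1
    rw [hn']
    convert h2 using 1
    group
  have hsame : n' * T0 * n'⁻¹ = n * T0 * n⁻¹ := by
    rw [hn', show (j : G)⁻¹ * n * T0 * ((j : G)⁻¹ * n)⁻¹ = (j : G)⁻¹ * (n * T0 * n⁻¹) * j by group, mul_assoc,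
      ← (hX j).1 j.2, inv_mul_cancel_left]
  -- the automiser of `V`
  have htwo : ∀ e : G, (∃ k, e ^ 2 ^ k = 1) → (∀ v ∈ S.V4, e * v * e⁻¹ ∈ S.V4) → ∀ v ∈ S.V4, e * v * e⁻¹ = v := by
    intro e he hev v hv
    have he2 := A.sq2 e he
    have hei : e⁻¹ = e := inv_eq_of_mul_eq_one_left he2
    have h2 : (v * e) ^ 2 = v * (e * v * e⁻¹) := by rw [pow_two, hei]; group
    have h4 : (v * e) ^ 2 ^ 2 = 1 := by
      rw [show (2 : ℕ) ^ 2 = 2 * 2 by norm_num, pow_mul, h2, pow_two]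
      exact four_sq S.V4_klein (mul_mem hv (hev v hv))
    have h3 := A.sq2 _ ⟨2, h4⟩
    rw [← pow_two, h2] at h3
    exact (eq_inv_of_mul_eq_one_right h3).trans (inv_eq_of_mul_eq_one_left (four_sq S.V4_klein hv))
  obtain ⟨i, -, hi⟩ := norm_action S.V4_klein C.g3 (fun v hv => C.gV hv) (fun v hv => C.gmove hv) htwo hn'V
  set m := (C.g ^ i)⁻¹ * n' with hm'
  have hmT : m * T0 * m⁻¹ = n * T0 * n⁻¹ := by
    have hgc : C.g * (n * T0 * n⁻¹) = n * T0 * n⁻¹ * C.g := (hX C.g).1 (mem_centralizer_singleton_iff.2 hg)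
    rw [hm', show (C.g ^ i)⁻¹ * n' * T0 * ((C.g ^ i)⁻¹ * n')⁻¹ = (C.g ^ i)⁻¹ * (n' * T0 * n'⁻¹) * C.g ^ i by group,
      hsame, mul_assoc, ← ((show Commute C.g (n * T0 * n⁻¹) from hgc).pow_left i).eq, inv_mul_cancel_left]
  have hmv : ∀ v ∈ S.V4, m * v = v * m := fun v hv => mul_inv_eq_iff_eq_mul.1 (hi v hv)
  obtain ⟨k, hk⟩ := S.cover m (hmv _ S.t_mem_V4)
  have hku : k * S.D.u = S.D.u * k := by
    refine S.inj ?_
    rw [map_mul, map_mul]
    have := hmv _ S.u_mem_V4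
    rcases hk with e | e <;> rw [e] at this
    · exact this
    · rw [mul_assoc, ← mul_assoc (S.ι S.D.u) S.t, S.tc, mul_assoc] at this
      exact mul_left_cancel this
  have hkt : k * t0 * k⁻¹ = t0 ∨ k * t0 * k⁻¹ = t0⁻¹ := by
    obtain ⟨y, hy, hk'⟩ := S.D.cent_u k hku
    have h0 : y * t0 * y⁻¹ = t0 := by rw [S.D.Y_mul_comm hy ht0, mul_inv_cancel_right]
    have h1 : S.D.u * t0 * S.D.u⁻¹ = t0 := by rw [S.D.u_Y _ ht0, mul_inv_cancel_right]
    rcases hk' with rfl | rfl | rfl | rfl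
    · exact Or.inl h0
    · left; rw [show S.D.u * y * t0 * (S.D.u * y)⁻¹ = S.D.u * (y * t0 * y⁻¹) * S.D.u⁻¹ by group, h0, h1]
    · right
      rw [show S.D.w * y * t0 * (S.D.w * y)⁻¹ = S.D.w * (y * t0 * y⁻¹) * S.D.w⁻¹ by group, h0, S.D.w_Y _ ht0]
    · right
      rw [show S.D.u * S.D.w * y * t0 * (S.D.u * S.D.w * y)⁻¹ = S.D.u * (S.D.w * (y * t0 * y⁻¹) * S.D.w⁻¹) *
        S.D.u⁻¹ by group, h0, S.D.w_Y _ ht0]
      calc S.D.u * t0⁻¹ * S.D.u⁻¹ = (S.D.u * t0 * S.D.u⁻¹)⁻¹ := by group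
        _ = t0⁻¹ := by rw [h1]
  have hnT : n * T0 * n⁻¹ = T0 ∨ n * T0 * n⁻¹ = T0⁻¹ := by
    rw [← hmT]
    have hmk : m * T0 * m⁻¹ = S.ι (k * t0 * k⁻¹) := by
      rcases hk with e | e <;> rw [e]
      · rw [hT0, map_mul, map_mul, map_inv]
      · rw [hT0, map_mul, map_mul, map_inv, show S.t * S.ι k * S.ι t0 * (S.t * S.ι k)⁻¹ =
          S.t * (S.ι k * S.ι t0 * (S.ι k)⁻¹) * S.t⁻¹ by group, ← map_inv, ← map_mul, ← map_mul, ← S.tc,
          mul_inv_cancel_right]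
    rw [hmk]
    rcases hkt with e | e <;> rw [e]
    · exact Or.inl rfl
    · exact Or.inr (map_inv _ _)
  have h2 : n ^ 2 * T0 = T0 * n ^ 2 := by
    refine mul_inv_eq_iff_eq_mul.1 ?_
    rw [show n ^ 2 * T0 * (n ^ 2)⁻¹ = n * (n * T0 * n⁻¹) * n⁻¹ by rw [pow_two]; group]
    rcases hnT with e | e <;> rw [e]
    · exact e
    · calc n * T0⁻¹ * n⁻¹ = (n * T0 * n⁻¹)⁻¹ := by group
        _ = T0 := by rw [e, inv_inv]
  obtain ⟨j, hj⟩ := hn
  have hn1 : n = (n ^ 2) ^ (j + 1) := by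
    rw [← pow_mul, show 2 * (j + 1) = orderOf n + 1 by omega, pow_succ, pow_orderOf_eq_one, one_mul]
  rw [hn1, ((show Commute (n ^ 2) T0 from h2).pow_left (j + 1)).eq, mul_inv_cancel_right]

theorem not_fix_odd (A : Amb G) (hodd : Odd (Nat.card ↥(centralizer ({C.d} : Set P)))) {l : ℕ} (hl : l.Prime)
    {t0 : P} (ht0 : t0 ∈ S.D.Y) (hord : orderOf t0 = l) (hg : C.g * S.ι t0 = S.ι t0 * C.g) : False := by
  classical
  haveI : Fact (Nat.Prime 2) := ⟨Nat.prime_two⟩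
  haveI : Fact l.Prime := ⟨hl⟩
  set D := S.D
  set T0 := S.ι t0 with hT0
  have ht1 : t0 ≠ 1 := fun e => hl.ne_one (by rw [← hord, e, orderOf_one])
  have hT0Y : T0 ∈ S.YG := S.mem_YG ht0
  have hT0ord : orderOf T0 = l := by rw [hT0, orderOf_injective S.ι S.inj, hord]
  have hlr : l ∣ D.r := hord ▸ orderOf_dvd_of_pow_eq_one (D.Y_pow ht0)
  have hl2 : l ≠ 2 := fun e => D.not_two_dvd_r (e ▸ hlr)
  have hd1 : C.d ≠ 1 := fun e => C.g_ne (by rw [C.hg, e, map_one]; group)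
  have hd3 : C.d ^ 3 = 1 := by
    refine S.inj ?_
    have h := C.g3
    rw [C.hg, conj_pow] at h
    rw [map_pow, map_one]
    exact conj_eq_one_iff.1 h
  set cd := Nat.card ↥(centralizer ({C.d} : Set P)) with hcd
  have h3c : 3 ∣ cd := by
    rw [← orderOf_eq_prime hd3 hd1, ← orderOf_mk C.d (mem_centralizer_singleton_iff.2 rfl :
      C.d ∈ centralizer ({C.d} : Set P))]
    exact orderOf_dvd_natCard _
  have hc2 : ((cd : ZMod l)) ^ 2 = 1 := by
    have hr0 : ((D.r : ℤ) : ZMod l) = 0 := by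
      rw [Int.cast_natCast, ZMod.natCast_eq_zero_iff] ; exact hlr
    have hδ2 : ((D.δ : ZMod l)) ^ 2 = 1 := by rcases D.hδ with e | e <;> simp [e]
    rcases D.cent_odd C.d hd1 hodd with e | e
    · have h1 : ((cd : ℤ) : ZMod l) = ((2 * (D.r : ℤ) + D.δ : ℤ) : ZMod l) := by rw [hcd, e]
      push_cast at h1
      rw [h1]; simp only [Int.cast_natCast] at hr0; rw [hr0]; simpa using hδ2
    · have h1 : ((cd : ℤ) : ZMod l) = ((4 * (D.r : ℤ) + D.δ : ℤ) : ZMod l) := by rw [hcd, e, D.hq]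
      push_cast at h1
      rw [h1]; simp only [Int.cast_natCast] at hr0; rw [hr0]; simpa using hδ2
  have hlc : ¬ l ∣ cd := fun h => by
    rw [(ZMod.natCast_eq_zero_iff _ _).2 h] at hc2
    simp at hc2
  have hl3 : l ≠ 3 := fun e => hlc (e ▸ h3c)
  -- the centraliser of `g` in that of `x`
  set S' := S.conjBase C.c with hS'
  have hS't : S'.t = C.x := rfl
  have hS'd : S'.ι C.d = C.g := C.hg.symm
  set Cg := centralizer ({C.g} : Set G) with hCg
  have hmemCg : ∀ a : G, a ∈ Cg ↔ a * C.g = C.g * a := fun a => mem_centralizer_singleton_iff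
  have hxCg : C.x ∈ Cg := (hmemCg _).2 C.x_g.symm
  have hφC : ∀ k ∈ centralizer ({C.d} : Set P), S'.ι k ∈ Cg := fun k hk => by
    rw [hmemCg, ← hS'd, ← map_mul, ← map_mul, mem_centralizer_singleton_iff.1 hk]
  have hsplit : ∀ a ∈ Cg, a * C.x = C.x * a →
      ∃ k ∈ centralizer ({C.d} : Set P), a = S'.ι k ∨ a = C.x * S'.ι k := by
    intro a ha hax
    obtain ⟨k, hk⟩ := S'.cover a hax
    refine ⟨k, mem_centralizer_singleton_iff.2 (S'.inj ?_), hk⟩
    rw [map_mul, map_mul, hS'd]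
    have := (hmemCg a).1 ha
    rcases hk with rfl | rfl
    · exact this
    · rw [hS't, mul_assoc, ← mul_assoc C.g, C.x_g, mul_assoc] at this
      exact mul_left_cancel this
  have hx1 : C.x ≠ 1 := S'.t1
  have hxord : orderOf C.x = 2 := orderOf_eq_prime (by rw [pow_two]; exact C.x_sq) hx1
  have hxi : C.x⁻¹ = C.x := inv_eq_of_mul_eq_one_left C.x_sq
  -- the Sylow subgroup of `C(g)`
  have hxp : IsPGroup 2 (zpowers (⟨C.x, hxCg⟩ : ↥Cg)) := IsPGroup.of_card (n := 1) (by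
    rw [Nat.card_zpowers, orderOf_mk, hxord, pow_one])
  obtain ⟨R, hR⟩ := hxp.exists_le_sylow
  have hRsq : ∀ a ∈ (R : Subgroup ↥Cg), (a : G) * a = 1 := fun a ha => by
    obtain ⟨k, hk⟩ := R.isPGroup' ⟨a, ha⟩
    exact A.sq2 _ ⟨k, congrArg Subtype.val (congrArg Subtype.val hk)⟩
  have hR2 : ∀ a ∈ (R : Subgroup ↥Cg), (a : G) = 1 ∨ (a : G) = C.x := by
    intro a ha
    have hax : (a : G) * C.x = C.x * a := by
      have h1 : (a : G) * C.x * ((a : G) * C.x) = 1 := hRsq _ (mul_mem ha (hR (mem_zpowers _)))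
      rw [← inv_eq_of_mul_eq_one_left h1, mul_inv_rev, hxi, inv_eq_of_mul_eq_one_left (hRsq a ha)]
    have h1 := hRsq a ha
    obtain ⟨k, hk, e⟩ := hsplit a a.2 hax
    have hk1 : k = 1 := by
      have hk2 : k * k = 1 := by
        refine S'.inj ?_
        rw [map_mul, map_one]
        rcases e with e | e <;> rw [e] at h1
        · exact h1
        · rwa [← hS't, show S'.t * S'.ι k * (S'.t * S'.ι k) = S'.t * (S'.ι k * S'.t) * S'.ι k by group, S'.tc,
            ← mul_assoc S'.t, S'.tt, one_mul] at h1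
      refine eq_one_of_two_odd ⟨1, by rw [pow_one, pow_two, hk2]⟩ hodd ?_
      exact congrArg Subtype.val (pow_card_eq_one' (x := (⟨k, hk⟩ : ↥(centralizer ({C.d} : Set P)))))
    rw [hk1, map_one, mul_one] at e
    exact e
  haveI hRc : IsMulCommutative ↥(R : Subgroup ↥Cg) := ⟨⟨fun a b => Subtype.ext (Subtype.ext (by
    show (a : G) * (b : G) = (b : G) * (a : G)
    rcases hR2 a a.2 with e | e <;> rcases hR2 b b.2 with e' | e' <;> rw [e, e'] <;> simp))⟩⟩
  obtain ⟨N, hNn, hN2, kN, hkN⟩ := Transfer.hasNormalPComplement_iff_exists.1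
    (Transfer.hasNormalPComplement_of_prime_elements R hRc fun q _ _ b hb _ a ha => by
      refine Subtype.ext ?_
      show (b : G) * a * (b : G)⁻¹ = a
      have hba : b * a * b⁻¹ ∈ (R : Subgroup ↥Cg) := (mem_normalizer_iff.1 hb a).1 ha
      rcases hR2 a ha with e | e
      · rw [e]; group
      · rcases hR2 _ hba with e' | e'
        · have e'' : (b : G) * a * (b : G)⁻¹ = 1 := e'
          rw [conj_eq_one_iff.1 e''] at e
          exact absurd e.symm hx1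
        · rw [e]
          have e'' : (b : G) * a * (b : G)⁻¹ = C.x := e'
          rwa [e] at e'')
  haveI := hNn
  set O := N.map Cg.subtype with hO
  have hOodd : Odd (Nat.card ↥O) := by
    rw [hO, card_map_of_injective Cg.subtype_injective]
    exact Nat.odd_iff.2 (Nat.two_dvd_ne_zero.1 hN2)
  have hOle : O ≤ Cg := map_subtype_le N
  have hmemO : ∀ a ∈ Cg, Odd (orderOf a) → a ∈ O := fun a ha ho => by
    refine ⟨⟨a, ha⟩, mem_of_prime_power_index Nat.prime_two hkN ?_, rfl⟩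
    rw [orderOf_mk]
    exact fun h => (Nat.not_even_iff_odd.2 ho) (even_iff_two_dvd.2 h)
  have hoddO : ∀ a ∈ O, Odd (orderOf a) := fun a ha =>
    hOodd.of_dvd_nat (orderOf_mk a ha ▸ orderOf_dvd_natCard _)
  have hxO : ∀ a ∈ O, C.x * a * C.x⁻¹ ∈ O := by
    rintro _ ⟨a, ha, rfl⟩
    exact ⟨_, hNn.conj_mem _ ha ⟨C.x, hxCg⟩, rfl⟩
  have hxN : zpowers C.x ≤ normalizer (O : Set G) := zpowers_le.2 (mem_normalizer_fintype hxO)
  have hgO : C.g ∈ O := hmemO _ ((hmemCg _).2 rfl) (by rw [orderOf_eq_prime C.g3 C.g_ne]; decide)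
  have hT0O : T0 ∈ O := hmemO _ ((hmemCg _).2 hg.symm) (by rw [hT0ord]; exact hl.odd_of_ne_two hl2)
  have hφO : ∀ k ∈ centralizer ({C.d} : Set P), S'.ι k ∈ O := fun k hk => hmemO _ (hφC k hk) (by
    rw [orderOf_injective S'.ι S'.inj, ← orderOf_mk k hk]
    exact hodd.of_dvd_nat (orderOf_dvd_natCard _))
  have hOx : ∀ a ∈ O, a * C.x = C.x * a → ∃ k ∈ centralizer ({C.d} : Set P), a = S'.ι k := by
    intro a ha hax
    obtain ⟨k, hk, rfl | rfl⟩ := hsplit a (hOle ha) hax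
    · exact ⟨k, hk, rfl⟩
    · exfalso
      have h1 : C.x ∈ O := by simpa using mul_mem ha (inv_mem (hφO k hk))
      have := hoddO _ h1
      rw [hxord] at this
      exact (Nat.not_odd_iff_even.2 even_two) this
  -- an invariant Sylow subgroup
  have hUp : IsPGroup l (zpowers T0) := IsPGroup.of_card (n := 1) (by rw [Nat.card_zpowers, hT0ord, pow_one])
  have hUx : zpowers C.x ≤ normalizer ((zpowers T0 : Subgroup G) : Set G) := by
    refine zpowers_le.2 (mem_normalizer_fintype fun a ha => ?_)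
    have haY : a ∈ S.YG := (zpowers_le.2 hT0Y) ha
    rw [C.x_inv_YG haY]
    exact inv_mem ha
  have hcop2 : (Nat.card ↥(zpowers C.x)).Coprime (Nat.card ↥O) := by
    rw [Nat.card_zpowers, hxord]; exact Nat.coprime_two_left.2 hOodd
  obtain ⟨Q, hQ, hxQ, hUQ⟩ := Grp.exists_invariant_sylow_ge (zpowers C.x) O hxN hcop2 (Or.inl inferInstance)
    (zpowers_le.2 hT0O) hUp hUx
  have hxQ' : ∀ a ∈ Q, C.x * a * C.x⁻¹ ∈ Q := fun a ha =>
    (mem_normalizer_iff.1 (hxQ (mem_zpowers _)) a).1 ha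
  have hQfpf : ∀ a ∈ Q, Commute a C.x → a = 1 := by
    intro a ha hc
    obtain ⟨k, hk, rfl⟩ := hOx a (hQ.1 ha) hc
    obtain ⟨j, hj⟩ := hQ.2.1 ⟨_, ha⟩
    have hj' : S'.ι k ^ l ^ j = 1 := congrArg Subtype.val hj
    rw [← map_pow] at hj'
    have h1 : k ^ l ^ j = 1 := S'.inj (hj'.trans (map_one _).symm)
    have h2 : k ^ cd = 1 := congrArg Subtype.val (pow_card_eq_one' (x := (⟨k, hk⟩ : ↥(centralizer ({C.d} : Set P)))))
    have h3 : k = 1 := orderOf_eq_one_iff.1 (Nat.eq_one_of_dvd_coprimes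
      ((hl.coprime_iff_not_dvd.2 hlc).pow_left j) (orderOf_dvd_of_pow_eq_one h1) (orderOf_dvd_of_pow_eq_one h2))
    rw [h3, map_one]
  have hQinv : ∀ a ∈ Q, C.x * a * C.x⁻¹ = a⁻¹ := fun a ha =>
    Grp.ThreeOrders.inverts_of_fpf Q C.x_sq hxQ' hQfpf ha
  set F := C.cfg ht0 ht1 hg with hF
  have hCgX : ∀ a ∈ Cg, a * T0 = T0 * a → ∃ y ∈ S.YG, ∃ i : ℕ, a = y * C.g ^ i := by
    intro a ha haT
    obtain ⟨y, hy, i, e⟩ := F.structure_quotient.2.1 ⟨a, mem_centralizer_singleton_iff.2 haT⟩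
      (Subtype.ext ((hmemCg a).1 ha))
    exact ⟨y, hy, i, congrArg Subtype.val e⟩
  have hT0Q : T0 ∈ Q := hUQ (mem_zpowers _)
  have hQY : Q ≤ S.YG := by
    intro a ha
    obtain ⟨y, hy, i, e⟩ := hCgX a (hOle (hQ.1 ha))
      (Grp.ThreeOrders.comm_of_inverted Q hQinv ha hT0Q)
    obtain ⟨j, hj⟩ := hQ.2.1 ⟨_, ha⟩
    have hj' : a ^ l ^ j = 1 := congrArg Subtype.val hj
    have hc : Commute y (C.g ^ i) := by
      have h1 : a * C.g = C.g * a := (hmemCg a).1 (hOle (hQ.1 ha))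
      have h2 : y = a * (C.g ^ i)⁻¹ := by rw [e, mul_inv_cancel_right]
      rw [h2]
      exact ((show Commute a C.g from h1).pow_right i).mul_left ((Commute.refl _).inv_left)
    rw [e, hc.mul_pow, ← pow_mul] at hj'
    have h2 : C.g ^ (i * l ^ j) = 1 := C.g_not_YG (by rw [eq_inv_of_mul_eq_one_right hj']; exact inv_mem (pow_mem hy _))
    have h3 : C.g ^ i = 1 := by
      refine orderOf_eq_one_iff.1 (Nat.eq_one_of_dvd_coprimes
        (((Nat.coprime_primes hl Nat.prime_three).2 hl3).pow_left j)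
        (orderOf_dvd_of_pow_eq_one (by rw [← pow_mul, h2]))
        (orderOf_dvd_of_pow_eq_one (by rw [← pow_mul, mul_comm, pow_mul, C.g3, one_pow])))
    rw [e, h3, mul_one]
    exact hy
  -- the normal `l`-complement
  obtain ⟨RQ, hRQ⟩ := Grp.isSylowIn_iff.1 hQ
  have hmemRQ : ∀ a : ↥O, a ∈ (RQ : Subgroup ↥O) ↔ (a : G) ∈ Q := fun a => by
    rw [← hRQ]
    exact ⟨fun h => mem_map_of_mem _ h, fun ⟨b, hb, e⟩ => by rwa [← Subtype.ext e (a1 := b) (a2 := a)]⟩
  haveI hRQc : IsMulCommutative ↥(RQ : Subgroup ↥O) := ⟨⟨fun a b => Subtype.ext (Subtype.ext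
    (Grp.ThreeOrders.comm_of_inverted Q hQinv ((hmemRQ a).1 a.2) ((hmemRQ b).1 b.2)))⟩⟩
  obtain ⟨M0, hMn, hMl, kM, hkM⟩ := Transfer.hasNormalPComplement_iff_exists.1
    (Transfer.hasNormalPComplement_of_prime_elements RQ hRQc fun q _ _ b hb _ a ha => by
      refine Subtype.ext ?_
      show (b : G) * a * (b : G)⁻¹ = a
      have hT : (⟨T0, hT0O⟩ : ↥O) ∈ (RQ : Subgroup ↥O) := (hmemRQ _).2 hT0Q
      have hbT : (b : G) * T0 * (b : G)⁻¹ ∈ Q := (hmemRQ _).1 ((mem_normalizer_iff.1 hb _).1 hT)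
      have hfix := C.odd_fix A hl ht0 hord hg (hoddO _ b.2) (hQY hbT)
      obtain ⟨y, hy, i, e⟩ := hCgX b (hOle b.2) (mul_inv_eq_iff_eq_mul.1 hfix)
      have haY : (a : G) ∈ S.YG := hQY ((hmemRQ a).1 ha)
      have hag : (a : G) * C.g = C.g * a := (hmemCg _).1 (hOle a.2)
      have hya : Commute y (a : G) := by
        haveI := S.YG_cyclic
        exact congrArg Subtype.val (mul_comm' (⟨y, hy⟩ : ↥S.YG) ⟨a, haY⟩)
      have : Commute (b : G) (a : G) := by
        rw [e]; exact hya.mul_left ((show Commute (a : G) C.g from hag).symm.pow_left i)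
      rw [this.eq, mul_inv_cancel_right])
  haveI := hMn
  set M := M0.map O.subtype with hM
  have hMO : M ≤ O := map_subtype_le M0
  have hcardM : ¬ l ∣ Nat.card ↥M := by rwa [hM, card_map_of_injective O.subtype_injective]
  have hmemM : ∀ a ∈ O, ¬ l ∣ orderOf a → a ∈ M := fun a ha ho =>
    ⟨⟨a, ha⟩, mem_of_prime_power_index hl hkM (by rwa [orderOf_mk]), rfl⟩
  have hnM : ∀ a ∈ M, ¬ l ∣ orderOf a := fun a ha h =>
    hcardM (h.trans (orderOf_mk a ha ▸ orderOf_dvd_natCard _))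
  have hMnorm : ∀ b : G, (∀ a ∈ O, b * a * b⁻¹ ∈ O) → b ∈ normalizer (M : Set G) := fun b hb =>
    mem_normalizer_fintype fun a ha => hmemM _ (hb a (hMO ha)) (by
      rw [show b * a * b⁻¹ = (MulAut.conj b).toMonoidHom a from rfl,
        orderOf_injective _ (MulAut.conj b).injective]
      exact hnM a ha)
  have hUM : zpowers T0 ≤ normalizer (M : Set G) :=
    zpowers_le.2 (hMnorm _ fun a ha => mul_mem (mul_mem hT0O ha) (inv_mem hT0O))
  have hEM : zpowers C.x ≤ normalizer (M : Set G) := zpowers_le.2 (hMnorm _ hxO)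
  have hfpf : ∀ e ∈ zpowers C.x, e ≠ 1 → ∀ u ∈ zpowers T0, e * u = u * e → u = 1 := by
    intro e he he1 u hu hc
    have hex : e = C.x := by
      obtain ⟨i, rfl⟩ := mem_zpowers_iff.1 he
      rw [← zpow_mod_orderOf, hxord] at he1 ⊢
      rcases Int.emod_two_eq_zero_or_one i with e | e
      · simp [e] at he1
      · simp [e]
    rw [hex] at hc
    have huY : u ∈ S.YG := zpowers_le.2 hT0Y hu
    have h1 := C.x_inv_YG huY
    rw [hc, mul_inv_cancel_right] at h1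
    exact eq_one_of_two_odd ⟨1, by rw [pow_one, pow_two]; nth_rewrite 1 [h1]; exact inv_mul_cancel u⟩
      (hl.odd_of_ne_two hl2) (by
        obtain ⟨i, rfl⟩ := mem_zpowers_iff.1 hu
        rw [← zpow_natCast, ← zpow_mul, mul_comm, zpow_mul, zpow_natCast, ← hT0ord, pow_orderOf_eq_one, one_zpow])
  have hcopM : (Nat.card ↥M).Coprime (Nat.card ↥(zpowers T0 ⊔ zpowers C.x)) := by
    refine Nat.Coprime.symm ?_
    rw [sup_comm]
    refine Grp.card_sup_coprime_to hUx ?_ ?_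
    · rw [Nat.card_zpowers, hxord]
      exact Nat.coprime_two_left.2 (hOodd.of_dvd_nat (card_dvd_of_le hMO))
    · rw [Nat.card_zpowers, hT0ord]
      exact hl.coprime_iff_not_dvd.2 hcardM
  have hform := Transfer.FrobFix.fixed_formula (zpowers T0) (zpowers C.x) M (sup_le hUM hEM) hUx hfpf inferInstance
    (Invol.Bender.solvable_of_odd (hOodd.of_dvd_nat (card_dvd_of_le hMO))) hcopM
  have hEeq : M ⊓ centralizer ((zpowers C.x : Subgroup G) : Set G) = (centralizer ({C.d} : Set P)).map S'.ι := by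
    ext a
    constructor
    · rintro ⟨ha, hc⟩
      obtain ⟨k, hk, rfl⟩ := hOx a (hMO ha) (mem_centralizer_iff.1 hc _ (mem_zpowers _)).symm
      exact mem_map_of_mem _ hk
    · rintro ⟨k, hk, rfl⟩
      refine ⟨hmemM _ (hφO k hk) ?_, ?_⟩
      · rw [orderOf_injective S'.ι S'.inj, ← orderOf_mk k hk]
        exact fun h => hlc (h.trans (orderOf_dvd_natCard _))
      · refine mem_centralizer_iff.2 fun e he => ?_
        obtain ⟨i, rfl⟩ := mem_zpowers_iff.1 he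
        exact ((show Commute (S'.ι k) C.x from S'.tc k).zpow_right i).eq.symm
  have hUEeq : M ⊓ centralizer ((zpowers T0 ⊔ zpowers C.x : Subgroup G) : Set G) = zpowers C.g := by
    refine le_antisymm ?_ (zpowers_le.2 ⟨hmemM _ hgO ?_, ?_⟩)
    · rintro a ⟨ha, hc⟩
      obtain ⟨y, hy, i, e⟩ := hCgX a (hOle (hMO ha))
        (mem_centralizer_iff.1 hc _ (mem_sup_left (mem_zpowers _))).symm
      have hax : C.x * a * C.x⁻¹ = a := by
        rw [mem_centralizer_iff.1 hc _ (mem_sup_right (mem_zpowers _)), mul_inv_cancel_right]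
      have hyi : y⁻¹ = y := by
        have h1 : C.x * C.g ^ i * C.x⁻¹ = C.g ^ i := by
          rw [((show Commute C.x C.g from C.x_g.symm).pow_right i).eq, mul_inv_cancel_right]
        rw [e, ← conj_mul, C.x_inv_YG hy, h1] at hax
        exact mul_right_cancel hax
      have hy1 : y = 1 := by
        refine eq_one_of_two_odd ⟨1, by rw [pow_one, pow_two]; nth_rewrite 1 [← hyi]; exact inv_mul_cancel y⟩
          D.r_odd ?_
        obtain ⟨y', hy', rfl⟩ := hy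
        rw [← map_pow, D.Y_pow hy', map_one]
      rw [e, hy1, one_mul]
      exact npow_mem_zpowers _ _
    · rw [orderOf_eq_prime C.g3 C.g_ne]
      exact fun h => hl3 ((Nat.prime_dvd_prime_iff_eq hl Nat.prime_three).1 h)
    · rw [Transfer.FrobFix.centralizer_sup]
      refine ⟨mem_centralizer_iff.2 fun e he => ?_, mem_centralizer_iff.2 fun e he => ?_⟩ <;>
        obtain ⟨i, rfl⟩ := mem_zpowers_iff.1 he
      · exact ((show Commute C.g T0 from hg).zpow_right i).eq.symm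
      · exact ((show Commute C.g C.x from C.x_g).zpow_right i).eq.symm
  rw [hEeq, hUEeq, card_map_of_injective S'.inj, Nat.card_zpowers, orderOf_eq_prime C.g3 C.g_ne, Nat.card_zpowers,
    hxord, ← hcd] at hform
  have hmod := (ZMod.natCast_eq_natCast_iff _ _ _).2 (fixed_modEq hUp hUM)
  have hz : ((Nat.card ↥M : ℕ) : ZMod l) ≠ 0 := fun h => hcardM ((ZMod.natCast_eq_zero_iff _ _).1 h)
  have h9 : ((9 : ℕ) : ZMod l) * (Nat.card ↥M : ZMod l) = (cd : ZMod l) ^ 2 * (Nat.card ↥M : ZMod l) := by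
    nth_rewrite 2 [hmod]
    have := congrArg (Nat.cast : ℕ → ZMod l) hform
    simp only [Nat.cast_mul, Nat.cast_pow] at this
    rw [← this]
    norm_num
  rw [hc2] at h9
  have h8 : ((8 : ℕ) : ZMod l) = 0 := by
    have := mul_right_cancel₀ hz h9
    push_cast at this ⊢
    linear_combination this
  have h82 : l ∣ 2 ^ 3 := (ZMod.natCast_eq_zero_iff _ _).1 h8
  exact hl2 ((Nat.prime_dvd_prime_iff_eq hl Nat.prime_two).1 (hl.dvd_of_dvd_pow h82))

end Cyc

end Cfsg.Agent.Invol.JankoWard
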