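import Cfsg.Agent.Lib.Invol.JankoWard.Ind
import Cfsg.Agent.Lib.Block.KleinFour
import Cfsg.Agent.Lib.Block.PrincipalColumn
import Cfsg.Agent.Lib.Block.SecondMain
import Cfsg.Agent.Lib.Char.Complete

/-!
# The principal 2-block in the section of the involution

`value_t`: on `t · ι k`, `k` of odd order, a character is the combination of the four characters of the principal
block of `P` given by its inner products with them, if it lies in the principal block, and that combination is
zero otherwise.
-/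

open scoped ComplexConjugate

set_option autoImplicit false
set_option linter.unusedSectionVars false
set_option linter.style.haveILetI false

open scoped Classical

namespace Cfsg.Agent.Invol.JankoWard

open Cfsg Cfsg.Agent.Char Cfsg.Agent.Block

universe u v

namespace LChars

variable {P : Type v} [Group P] [Fintype P] {D : LData P} (X : LChars D)
include X

/-- The four characters of the principal block. -/
def four : Fin 4 → IrrCharacter P := ![trivialIrr P, X.St, X.e1, X.e2]

theorem four_zero : (X.four 0 : P → ℂ) = fun _ => 1 := rfl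

theorem q_ne (n : ℕ) (hn : n < 11) : (D.q : ℂ) ≠ n := by
  have := D.q_ge
  exact_mod_cast (show D.q ≠ n by omega)

theorem four_injective : Function.Injective X.four := by
  have hq := D.q_ge
  have h1 : (trivialIrr P : P → ℂ) 1 = ((1 : ℤ) : ℂ) := by norm_num [trivialIrr]
  have hS : (X.St : P → ℂ) 1 = ((D.q : ℤ) : ℂ) := by rw [X.St_one]; norm_num
  have he : ∀ z : ℤ, 2 * z ≠ (D.q : ℤ) + D.δ → ((D.q : ℂ) + D.δ) / 2 ≠ (z : ℂ) := by
    intro z hz h
    rw [div_eq_iff two_ne_zero] at h
    refine hz ?_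
    have : ((2 * z : ℤ) : ℂ) = (((D.q : ℤ) + D.δ : ℤ) : ℂ) := by push_cast; rw [h]; ring
    exact_mod_cast this
  have e11 : X.e1 ≠ trivialIrr P := fun e => he 1 (by rcases D.hδ with d | d <;> omega) (by
    rw [← X.e1_one, e, h1])
  have e21 : X.e2 ≠ trivialIrr P := fun e => he 1 (by rcases D.hδ with d | d <;> omega) (by
    rw [← X.e2_one, e, h1])
  have e1S : X.e1 ≠ X.St := fun e => he D.q (by rcases D.hδ with d | d <;> omega) (by
    rw [← X.e1_one, e, hS])
  have e2S : X.e2 ≠ X.St := fun e => he D.q (by rcases D.hδ with d | d <;> omega) (by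
    rw [← X.e2_one, e, hS])
  have eS1 : X.St ≠ trivialIrr P := fun e => by
    rw [e, h1] at hS
    have : (1 : ℤ) = (D.q : ℤ) := by exact_mod_cast hS
    omega
  intro i j
  fin_cases i <;> fin_cases j <;> simp [four, e11, e11.symm, e21, e21.symm, e1S, e1S.symm, e2S, e2S.symm,
    eS1, eS1.symm, X.ne, X.ne.symm]

theorem regTot_of_const {ψ : IrrCharacter P} (hψ : ψ ≠ trivialIrr P) {c : ℂ} (hc : c ≠ 0)
    (h : ∀ x : P, 2 ∣ orderOf x → (ψ : P → ℂ) x = c) : PrinCol.regTot 2 (ψ : P → ℂ) ≠ 0 := by
  have hall : ∑ x : P, (ψ : P → ℂ) x = 0 := by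
    have h0 := classInner_irr_ne ψ.2 (trivialIrr P).2 (fun e => hψ (Subtype.ext e))
    simp only [classInner, trivialIrr, map_one, mul_one, mul_eq_zero, inv_eq_zero] at h0
    exact h0.resolve_left (Nat.cast_ne_zero.2 Nat.card_pos.ne')
  intro h0
  rw [PrinCol.regTot] at h0
  rw [← Finset.sum_filter_add_sum_filter_not Finset.univ (fun x : P => ¬ 2 ∣ orderOf x), h0, zero_add,
    Finset.sum_congr rfl (g := fun _ => c) (fun x hx => h x (not_not.1 (Finset.mem_filter.1 hx).2)),
    Finset.sum_const, nsmul_eq_mul, mul_eq_zero] at hall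
  refine hall.elim (fun e => ?_) hc
  rw [Nat.cast_eq_zero, Finset.card_eq_zero] at e
  have hu : D.u ∈ (∅ : Finset P) := e ▸ Finset.mem_filter.2 ⟨Finset.mem_univ _, by rw [D.orderOf_u]; simp⟩
  simp at hu

theorem exists_klein : ∃ Q : Sylow 2 P, IsKleinFour (Q : Subgroup P) := by
  haveI : Fact (Nat.Prime 2) := ⟨Nat.prime_two⟩
  let V : Subgroup P :=
    { carrier := {x | x = 1 ∨ x = D.u ∨ x = D.w ∨ x = D.u * D.w}
      one_mem' := Or.inl rfl
      mul_mem' := by
        have hwu : D.w * D.u = D.u * D.w := D.comm.symm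
        have h2 : D.u * (D.u * D.w) = D.w := by rw [← mul_assoc, D.u2, one_mul]
        have h3 : D.u * D.w * D.u = D.w := by rw [mul_assoc, hwu, h2]
        have h4 : D.u * D.w * D.w = D.u := by rw [mul_assoc, D.w2, mul_one]
        have h5 : D.w * (D.u * D.w) = D.u := by rw [← mul_assoc, hwu, h4]
        have h6 : D.u * D.w * (D.u * D.w) = 1 := by rw [← mul_assoc, h3, D.w2]
        rintro a b (rfl | rfl | rfl | rfl) (rfl | rfl | rfl | rfl) <;>
          simp [D.u2, D.w2, hwu, h2, h3, h4, h5, h6]
      inv_mem' := by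
        rintro a (rfl | rfl | rfl | rfl)
        · exact Or.inl inv_one
        · exact Or.inr (Or.inl (inv_eq_of_mul_eq_one_right D.u2))
        · exact Or.inr (Or.inr (Or.inl (inv_eq_of_mul_eq_one_right D.w2)))
        · exact Or.inr (Or.inr (Or.inr (by
            rw [mul_inv_rev, inv_eq_of_mul_eq_one_right D.u2, inv_eq_of_mul_eq_one_right D.w2, ← D.comm]))) }
  have huw1 : D.u * D.w ≠ 1 := fun e => D.uw (by rw [← inv_eq_of_mul_eq_one_right e, inv_eq_of_mul_eq_one_right D.u2])
  have h4 : Nat.card V = 4 := by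
    rw [show (Nat.card V) = ({1, D.u, D.w, D.u * D.w} : Finset P).card from ?_]
    · have a1 : D.u ≠ D.u * D.w := fun e => D.w1 (by simpa using e)
      have a2 : D.w ≠ D.u * D.w := fun e => D.u1 (by simpa using e)
      rw [Finset.card_insert_of_notMem (by simp [D.u1.symm, D.w1.symm, huw1.symm]),
        Finset.card_insert_of_notMem (by simp [D.uw, a1]), Finset.card_insert_of_notMem (by simp [a2]),
        Finset.card_singleton]
    · rw [show Nat.card V = (V : Set P).ncard from Nat.card_coe_set_eq _, ← Set.ncard_coe_finset]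
      congr 1
      ext x
      simp [V, Subgroup.mem_carrier]
  have hsq : ∀ x ∈ V, x * x = 1 := by
    rintro x (rfl | rfl | rfl | rfl)
    · exact one_mul 1
    · exact D.u2
    · exact D.w2
    · rw [← mul_assoc, mul_assoc D.u D.w D.u, ← D.comm, ← mul_assoc, D.u2, one_mul, D.w2]
  have hidx : ¬ 2 ∣ V.index := by
    have h := V.card_mul_index
    rw [h4, D.card_eq] at h
    rw [show V.index = D.E by omega, ← even_iff_two_dvd, Nat.not_even_iff_odd]
    exact D.E_odd
  have hp : IsPGroup 2 V := IsPGroup.of_card (n := 2) (by rw [h4]; rfl)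
  refine ⟨hp.toSylow hidx, ?_⟩
  refine ⟨?_, ?_⟩
  · exact h4
  · haveI : Nontrivial ↥((hp.toSylow hidx : Sylow 2 P) : Subgroup P) :=
      Finite.one_lt_card_iff_nontrivial.1 (show 1 < Nat.card V by omega)
    refine (Monoid.exponent_eq_prime_iff Nat.prime_two).2 fun x hx => orderOf_eq_prime ?_ hx
    rw [pow_two]
    exact Subtype.ext (hsq _ x.2)

/-- The principal block of `P`. -/
theorem principal_P {M : Ideal AlgInt} (hM : IsPModular 2 M) (ψ : IrrCharacter P) :
    ψ ∈ principalBlock M P ↔ ∃ i, ψ = X.four i := by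
  haveI : Fact (Nat.Prime 2) := ⟨Nat.prime_two⟩
  obtain ⟨Q, hQ⟩ := X.exists_klein
  have hcl : ∀ s t : P, orderOf s = 2 → orderOf t = 2 → IsConj s t := by
    intro s t hs ht
    have h : ∀ x : P, orderOf x = 2 → IsConj D.u x := fun x hx => D.one_class x
      (by rw [← pow_two, orderOf_dvd_iff_pow_eq_one.1 (dvd_of_eq hx)]) (fun e => by simp [e] at hx)
    exact (h s hs).symm.trans (h t ht)
  obtain ⟨a, b, c, -, -, -, -, -, -, -, hB, -⟩ := klein_principal hM Q hQ hcl
  have hδ0 : (D.δ : ℂ) ≠ 0 := by rcases D.hδ with h | h <;> simp [h]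
  have hmem : ∀ i, X.four i ∈ principalBlock M P := by
    intro i
    by_cases hi : X.four i = trivialIrr P
    · rw [hi]; exact trivial_mem_principalBlock hM
    · rw [PrinCol.mem_principal_iff hM]
      fin_cases i
      · exact absurd rfl hi
      · exact X.regTot_of_const hi hδ0 X.St_even
      · exact X.regTot_of_const hi (neg_ne_zero.2 hδ0) X.e1_even
      · exact X.regTot_of_const hi (neg_ne_zero.2 hδ0) X.e2_even
  refine ⟨fun hψ => ?_, fun ⟨i, e⟩ => e ▸ hmem i⟩
  by_contra hno
  push Not at hno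
  let T : Finset (IrrCharacter P) := {trivialIrr P, a, b, c}
  have hsub : insert ψ (Finset.univ.image X.four) ⊆ T := by
    intro x hx
    have hx' : x ∈ principalBlock M P := by
      rcases Finset.mem_insert.1 hx with rfl | hx
      · exact hψ
      · obtain ⟨i, -, rfl⟩ := Finset.mem_image.1 hx
        exact hmem i
    rw [hB] at hx'
    rcases hx' with h | rfl | rfl | rfl
    · exact Finset.mem_insert.2 (Or.inl (Subtype.ext h))
    all_goals simp [T]
  have h5 := Finset.card_le_card hsub
  rw [Finset.card_insert_of_notMem (fun h => by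
    obtain ⟨i, -, e⟩ := Finset.mem_image.1 h
    exact hno i e.symm), Finset.card_image_of_injective _ X.four_injective, Finset.card_univ,
    Fintype.card_fin] at h5
  have h4 : T.card ≤ 4 := Finset.card_le_four
  omega

end LChars

namespace Base

variable {G : Type u} [Group G] [Fintype G] {P : Type v} [Group P] [Fintype P] {S : Base G P}

/-- A lift of a character of `P` to the centraliser, with a sign on `t`. -/
noncomputable def lift (S : Base G P) (s : Bool) (ψ : P → ℂ) : S.C → ℂ := fun c =>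
  (if s then (S.sgn c : ℂ) else 1) * ψ (S.κ c)

theorem sum_C (F : S.C → ℂ) : ∑ c : S.C, F c = (∑ k : P, F (S.pairMap (true, k))) + ∑ k : P, F (S.pairMap (false, k)) := by
  rw [← Fintype.sum_bijective _ S.pairMap_bijective _ _ fun _ => rfl, Fintype.sum_prod_type, Fintype.sum_bool]

theorem lift_false (s : Bool) (ψ : P → ℂ) (k : P) : lift S s ψ (S.pairMap (false, k)) = ψ k := by
  have hκ : S.κ (S.pairMap (false, k)) = k := S.κ_eq (Or.inl (by simp [pairMap]))
  have hs : (S.sgn (S.pairMap (false, k)) : ℂ) = 1 := by simp [sgn, pairMap]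
  simp [lift, hκ, hs]

theorem lift_true (s : Bool) (ψ : P → ℂ) (k : P) :
    lift S s ψ (S.pairMap (true, k)) = (if s then -1 else 1) * ψ k := by
  have hκ : S.κ (S.pairMap (true, k)) = k := S.κ_eq (Or.inr (by simp [pairMap]))
  have hn : ¬ ∃ k', S.ι k' = S.t * S.ι k := fun ⟨k', e⟩ => S.t_mul_ne k k' e.symm
  have hs : (S.sgn (S.pairMap (true, k)) : ℂ) = -1 := by simp [sgn, pairMap, hn]
  cases s <;> simp [lift, hκ, hs]

theorem inner_lift (ξ : S.C → ℂ) (ψ : P → ℂ) :
    classInner ξ (lift S false ψ) + classInner ξ (lift S true ψ) =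
      classInner (fun k => ξ (S.pairMap (false, k))) ψ := by
  have h2 : (Nat.card P : ℂ) ≠ 0 := Nat.cast_ne_zero.2 Nat.card_pos.ne'
  simp only [classInner, sum_C, lift_false, lift_true, S.card_C, if_true, if_false, Bool.false_eq_true,
    one_mul, neg_mul, map_neg, mul_neg, Finset.sum_neg_distrib]
  push_cast
  field_simp
  ring

theorem lift_inner_self (s : Bool) (ψ : P → ℂ) : classInner (lift S s ψ) (lift S s ψ) = classInner ψ ψ := by
  have h2 : (Nat.card P : ℂ) ≠ 0 := Nat.cast_ne_zero.2 Nat.card_pos.ne'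
  simp only [classInner, sum_C, lift_false, lift_true, S.card_C]
  cases s <;> simp <;> field_simp <;> ring

theorem lift_irr (s : Bool) (ψ : IrrCharacter P) : IsIrrCharacter S.C (lift S s (ψ : P → ℂ)) := by
  refine IsChar.irr_of_norm_one ?_ (by rw [lift_inner_self, classInner_self_irr ψ.2])
  have h1 : IsCharacter S.C (fun c => (ψ : P → ℂ) (S.κ c)) := IsChar.comp S.κ (IsIrr.isCharacter ψ.2)
  cases s
  · have e : lift S false (ψ : P → ℂ) = fun c => (ψ : P → ℂ) (S.κ c) := funext fun c => by simp [lift]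
    rw [e]; exact h1
  · have e : lift S true (ψ : P → ℂ) = (fun c => (S.sgn c : ℂ)) * fun c => (ψ : P → ℂ) (S.κ c) :=
      funext fun c => by simp [lift]
    rw [e]; exact IsChar.mul (IsIrr.isCharacter (isIrr_linear S.sgn)) h1

/-- The lifted character as an irreducible character. -/
noncomputable def liftIrr (S : Base G P) (p : Bool × IrrCharacter P) : IrrCharacter S.C :=
  ⟨lift S p.1 (p.2 : P → ℂ), lift_irr p.1 p.2⟩

theorem liftIrr_injective : Function.Injective (liftIrr S) := by
  rintro ⟨s, ψ⟩ ⟨s', ψ'⟩ h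
  have h' : lift S s (ψ : P → ℂ) = lift S s' (ψ' : P → ℂ) := congrArg Subtype.val h
  have hψ : ψ = ψ' := Subtype.ext (funext fun k => by
    have := congrFun h' (S.pairMap (false, k))
    rwa [lift_false, lift_false] at this)
  subst hψ
  refine Prod.ext ?_ rfl
  have h1 := congrFun h' (S.pairMap (true, 1))
  rw [lift_true, lift_true] at h1
  have hne := IsIrr.one_ne_zero ψ.2
  have h2 := mul_right_cancel₀ hne h1
  cases s <;> cases s' <;> norm_num at h2 <;> rfl

theorem exists_lift (ξ : IrrCharacter S.C) : ∃ p : Bool × IrrCharacter P, ξ = liftIrr S p := by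
  have hc : IsCharacter P (fun k => (ξ : S.C → ℂ) (S.pairMap (false, k))) := by
    have e : (fun k => (ξ : S.C → ℂ) (S.pairMap (false, k))) =
        fun k => (ξ : S.C → ℂ) ((S.ι.codRestrict S.C S.ι_mem) k) := funext fun k => congrArg _ (Subtype.ext (by
      simp [pairMap]))
    rw [e]
    exact IsChar.comp _ (IsIrr.isCharacter ξ.2)
  obtain ⟨ψ, hψ⟩ := IsChar.exists_constituent' hc (by
    rw [show S.pairMap (false, 1) = 1 from Subtype.ext (by simp [pairMap])]
    exact IsIrr.one_ne_zero ξ.2)
  rw [← inner_lift] at hψ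
  by_contra hno
  push Not at hno
  refine hψ ?_
  rw [classInner_irr_ne ξ.2 (lift_irr false ψ) (fun e => hno (false, ψ) (Subtype.ext e)),
    classInner_irr_ne ξ.2 (lift_irr true ψ) (fun e => hno (true, ψ) (Subtype.ext e)), add_zero]

theorem odd_pairMap {c : S.C} (h : ¬ 2 ∣ orderOf c) : ∃ k : P, ¬ 2 ∣ orderOf k ∧ c = S.pairMap (false, k) := by
  obtain ⟨k, hk⟩ := S.odd_mem (S.mem_C.1 c.2) (by
    rw [Subgroup.orderOf_coe, ← Nat.not_even_iff_odd, even_iff_two_dvd]; exact h)
  refine ⟨k, ?_, Subtype.ext (by simp [pairMap, hk])⟩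
  rwa [← S.orderOf_ι, ← hk, Subgroup.orderOf_coe]

theorem regTot_lift (s : Bool) (ψ : P → ℂ) :
    PrinCol.regTot 2 (lift S s ψ) = PrinCol.regTot 2 ψ := by
  have ho : ∀ k : P, orderOf (S.pairMap (false, k)) = orderOf k := fun k => by
    rw [← Subgroup.orderOf_coe, ← S.orderOf_ι k]; simp [pairMap]
  symm
  refine Finset.sum_bij (fun k _ => S.pairMap (false, k)) (fun k hk => ?_) (fun a _ b _ h => ?_)
    (fun c hc => ?_) fun k _ => (lift_false s ψ k).symm
  · simpa [ho] using hk
  · exact congrArg Prod.snd (S.pairMap_bijective.1 h)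
  · obtain ⟨k, hk, rfl⟩ := odd_pairMap (Finset.mem_filter.1 hc).2
    exact ⟨k, by simpa using hk, rfl⟩

theorem principal_C (X : LChars S.D) {M : Ideal AlgInt} (hM : IsPModular 2 M) (ξ : IrrCharacter S.C) :
    ξ ∈ principalBlock M S.C ↔ ∃ p : Bool × Fin 4, ξ = liftIrr S (p.1, X.four p.2) := by
  haveI : Fact (Nat.Prime 2) := ⟨Nat.prime_two⟩
  have key : ∀ p : Bool × IrrCharacter P,
      liftIrr S p ∈ principalBlock M S.C ↔ p.2 ∈ principalBlock M P := fun p => by
    rw [PrinCol.mem_principal_iff hM, PrinCol.mem_principal_iff hM]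
    show PrinCol.regTot 2 (lift S p.1 (p.2 : P → ℂ)) ≠ 0 ↔ _
    rw [regTot_lift]
  constructor
  · intro h
    obtain ⟨p, rfl⟩ := exists_lift ξ
    obtain ⟨i, hi⟩ := (X.principal_P hM p.2).1 ((key p).1 h)
    exact ⟨(p.1, i), congrArg _ (Prod.ext rfl hi)⟩
  · rintro ⟨p, rfl⟩
    exact (key _).2 ((X.principal_P hM _).2 ⟨_, rfl⟩)

/-- The projection on the principal block in the section of `t`. -/
theorem value_t (X : LChars S.D) {M : Ideal AlgInt} (hM : IsPModular 2 M) (χ : IrrCharacter G) {k : P}
    (hk : Odd (orderOf k)) :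
    ∑ i : Fin 4, classInner (S.fS (χ : G → ℂ)) (X.four i : P → ℂ) * (X.four i : P → ℂ) k =
      if χ ∈ principalBlock M G then (χ : G → ℂ) (S.t * S.ι k) else 0 := by
  haveI : Fact (Nat.Prime 2) := ⟨Nat.prime_two⟩
  set z := S.t
  have hz : ∃ j : ℕ, orderOf z = 2 ^ j := ⟨1, by rw [S.ht, pow_one]⟩
  set y : S.C := S.pairMap (false, k) with hy
  have hyv : (y : G) = S.ι k := by simp [hy, pairMap]
  have hyo : ¬ 2 ∣ orderOf y := by
    rw [← Subgroup.orderOf_coe, hyv, S.orderOf_ι, ← even_iff_two_dvd, Nat.not_even_iff_odd]; exact hk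
  have hP : IsPGroup 2 (Subgroup.zpowers z) := IsPGroup.of_card (n := 1) (by rw [Nat.card_zpowers, S.ht, pow_one])
  have hdef : ∀ ξ : IrrCharacter S.C, InducedBlockDefined M S.C (blockOf M (ξ : S.C → ℂ)) := fun ξ => by
    refine inducedBlockDefined_brauer hM hP (Subgroup.zpowers_le.2 S.t_mem) ?_ ?_ (isPBlock_blockOf ξ)
    · exact Subgroup.centralizer_le (Set.singleton_subset_iff.2 (Subgroup.mem_zpowers z))
    · intro c hc
      have hcz : Commute c z := S.mem_C.1 hc
      rw [Subgroup.mem_normalizer_iff]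
      intro w
      constructor
      · intro hw
        obtain ⟨i, rfl⟩ := Subgroup.mem_zpowers_iff.1 hw
        rw [(hcz.zpow_right i).eq, mul_inv_cancel_right]
        exact hw
      · intro hw
        obtain ⟨i, hi⟩ := Subgroup.mem_zpowers_iff.1 hw
        have : w = z ^ i := by
          calc w = c⁻¹ * (c * w * c⁻¹) * c := by group
            _ = c⁻¹ * z ^ i * c := by rw [hi]
            _ = z ^ i := by rw [mul_assoc, ← (hcz.zpow_right i).eq, inv_mul_cancel_left]
        exact this ▸ Subgroup.zpow_mem _ (Subgroup.mem_zpowers z) i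
  have hfilter : (Finset.univ.filter fun ξ : IrrCharacter S.C =>
      IsInducedBlock M S.C (blockOf M (ξ : S.C → ℂ)) (principalBlock M G)) =
      Finset.univ.image fun p : Bool × Fin 4 => liftIrr S (p.1, X.four p.2) := by
    ext ξ
    simp only [Finset.mem_filter, Finset.mem_univ, true_and, Finset.mem_image]
    rw [principal_third_main hM (hdef ξ)]
    constructor
    · intro h
      obtain ⟨p, hp⟩ := (principal_C X hM ξ).1 (h ▸ mem_blockOf_self hM ξ)
      exact ⟨p, hp.symm⟩
    · rintro ⟨p, rfl⟩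
      exact (pblock_eq_blockOf hM isPBlock_principalBlock ((principal_C X hM _).2 ⟨p, rfl⟩)).symm
  have hinj : Function.Injective fun p : Bool × Fin 4 => liftIrr S (p.1, X.four p.2) := fun p p' h => by
    have h' := liftIrr_injective h
    exact Prod.ext (Prod.mk.inj h').1 (X.four_injective (Prod.mk.inj h').2)
  have h := value_eq_sum_inducing hM hz isPBlock_principalBlock (y := y) hyo χ
  rw [hfilter, Finset.sum_image fun a _ b _ e => hinj e, hyv, Fintype.sum_prod_type, Fintype.sum_bool] at h
  rw [← h]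
  simp only [liftIrr, hy, lift_false]
  rw [← Finset.sum_add_distrib]
  refine Finset.sum_congr rfl fun i _ => ?_
  rw [← add_mul, add_comm, inner_lift]
  congr 2
  funext j
  simp [fS, pairMap]
  rfl

end Base

end Cfsg.Agent.Invol.JankoWard
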